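import Cfsg.Agent.Mrg.Omega.NOThreeL.RTree
import Cfsg.Agent.Mrg.Omega.OM.KTwo.Cut
import Cfsg.Agent.Mrg.Omega.NOThreeL.RZ.Frame
import Cfsg.Agent.Mrg.Omega.NOThreeL.Star
import Cfsg.Agent.Mrg.Omega.NOThreeL.VF.Base
import Cfsg.Agent.Mrg.Omega.TV.Basic

-- merged: Cfsg.Agent.Mrg.Omega.NOThreeL.RRed.Two
section

section


/-!
# NO-3L, box R: `V* = V_0 × V_1` gives the frame of CARD #18791 (#19873)

`Two S V P v` : `Ω₁Z(S) = ⟨v 0, v 1⟩`, `P i ∈ P*(S)` centralises `v j` (`j ≠ i`) and moves `v i`, `V i ≤ V_{P i}` is a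
four-group, `P i` is transitive on `V i#`; every `R ∈ P*(S)` centralises `v 0` or `v 1` and normalises `V 0`, `V 1`.

* `Two.not_conj` : `v 0`, `v 1` are not conjugate in `G`;
* `Two.fr` : with `RB S`: `TC.Fr S V P v`.
-/

set_option autoImplicit false
set_option linter.unusedSectionVars false

namespace Cfsg.Agent.Omega.NOThreeL.RRed

open Subgroup Cfsg Cfsg.Agent.ZN Cfsg.Agent.Omega.MinPar Cfsg.Agent.Omega.Frame Cfsg.Agent.Omega.FrameNOFF
open Cfsg.Agent.Omega.Node.NO3L Cfsg.Agent.Omega.NOThreeL.Basic Cfsg.Agent.Omega.NOThreeL.RTree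
open Cfsg.Agent.Omega.NoFF.Basic (conj_conj mem_conj conj_le_iff conj_le_centralizer comm_symm comm_mono)
open Cfsg.Agent.Omega.NOThreeL.Pair (conj_eq_of_mem)
open Cfsg.Agent.Omega.FFThm (syl_of_sylow)
open Cfsg.Agent.MinSimple.VModule (le_normalizer_o2 zc_le_zl le_centralizer_zc)
open Cfsg.Agent.MinSimple.MinParabolic (IsMinPar)
open scoped Pointwise

universe u

variable {G : Type u} [Group G]

/-- The configuration `V* = V_0 × V_1` of box R. -/
structure Two (S : Subgroup G) (V P : Fin 2 → Subgroup G) (v : Fin 2 → G) : Prop where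
  four : ∀ i, Nat.card (V i) = 4
  mem : ∀ i, v i ∈ V i
  ne : ∀ i, v i ≠ 1
  zS : ∀ x, x ∈ zc S ↔ x = 1 ∨ x = v 0 ∨ x = v 1 ∨ x = v 0 * v 1
  par : ∀ i, IsParS S (P i)
  VP : ∀ i, V i ≤ zl S (P i)
  PC : ∀ i j, i ≠ j → P i ≤ centralizer ({v j} : Set G)
  mv : ∀ i, ¬ P i ≤ centralizer ({v i} : Set G)
  tr : ∀ i, ∀ x ∈ V i, x ≠ 1 → ∃ p ∈ P i, p * v i * p⁻¹ = x
  cen : ∀ R, IsParS S R → R ≤ centralizer ({v 0} : Set G) ∨ R ≤ centralizer ({v 1} : Set G)
  nrm : ∀ R, IsParS S R → ∀ i, R ≤ normalizer (V i : Set G)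

namespace Two

section one

variable {S : Subgroup G} {V P : Fin 2 → Subgroup G} {v : Fin 2 → G} (T : Two S V P v)
include T

theorem v_zc (i : Fin 2) : v i ∈ zc S := by
  rw [T.zS]
  rcases Fin.exists_fin_two.1 ⟨i, rfl⟩ with h | h
  · exact Or.inr (Or.inl (by rw [h]))
  · exact Or.inr (Or.inr (Or.inl (by rw [h])))

theorem comm_s (i : Fin 2) {s : G} (hs : s ∈ S) : s * v i = v i * s := (mem_zc.1 (T.v_zc i)).2.1 s hs

theorem v_sq (i : Fin 2) : v i * v i = 1 := by
  rw [← pow_two]; exact (mem_zc.1 (T.v_zc i)).2.2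

theorem v_ne : v 0 ≠ v 1 := by
  intro h
  apply T.mv 0
  rw [h]
  exact T.PC 0 1 (by decide)

theorem cen_of {i j : Fin 2} (hij : i ≠ j) {R : Subgroup G} (hR : IsParS S R)
    (h : ¬ R ≤ centralizer ({v i} : Set G)) : R ≤ centralizer ({v j} : Set G) := by
  have h2 : ∀ a b : Fin 2, a ≠ b → (a = 0 ∧ b = 1) ∨ (a = 1 ∧ b = 0) := by decide
  rcases h2 i j hij with ⟨rfl, rfl⟩ | ⟨rfl, rfl⟩
  · exact (T.cen R hR).resolve_left h
  · exact (T.cen R hR).resolve_right h

end one

variable [Finite G] {S : Sylow 2 G} {V P : Fin 2 → Subgroup G} {v : Fin 2 → G}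
  (T : Two (S : Subgroup G) V P v)
include T

/-- `v 0`, `v 1` are not conjugate in `G`. -/
theorem not_conj (g : G) : g * v 0 * g⁻¹ ≠ v 1 := by
  intro h
  have hf : Fact (Nat.Prime 2) := ⟨Nat.prime_two⟩
  have hc0 : v 0 ∈ centralizer ((S : Subgroup G) : Set G) := zc_le_centralizer _ (T.v_zc 0)
  have hc1 : v 1 ∈ centralizer ((S : Subgroup G) : Set G) := zc_le_centralizer _ (T.v_zc 1)
  obtain ⟨n', hn', h1'⟩ := S.conj_eq_normalizer_conj_of_mem_centralizer (v 0) g⁻¹ hc0
    (by rw [inv_inv, h]; exact hc1)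
  rw [inv_inv, h] at h1'
  obtain ⟨n, hn, h1⟩ : ∃ n ∈ normalizer ((S : Subgroup G) : Set G), n * v 0 * n⁻¹ = v 1 :=
    ⟨n'⁻¹, inv_mem hn', by rw [inv_inv, ← h1']⟩
  have hnS : (S : Subgroup G).map (MulAut.conj n).toMonoidHom = (S : Subgroup G) := by
    ext x
    rw [mem_map]
    constructor
    · rintro ⟨y, hy, rfl⟩
      exact (mem_normalizer_iff.1 hn y).1 hy
    · intro hx
      exact ⟨n⁻¹ * x * n, (mem_normalizer_iff''.1 hn x).1 hx, by
        show n * (n⁻¹ * x * n) * n⁻¹ = x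
        group⟩
  have hRp := (T.par 0).map (MulAut.conj n)
  rw [hnS] at hRp
  set R := (P 0).map (MulAut.conj n).toMonoidHom with hR
  have hcent : ∀ x, R ≤ centralizer ({n * x * n⁻¹} : Set G) ↔ P 0 ≤ centralizer ({x} : Set G) := by
    intro x
    constructor
    · intro h2 p hp
      have h3 : n * p * n⁻¹ ∈ R := ⟨p, hp, rfl⟩
      have h4 := mem_centralizer_singleton_iff.1 (h2 h3)
      refine mem_centralizer_singleton_iff.2 ?_
      calc p * x = n⁻¹ * (n * p * n⁻¹ * (n * x * n⁻¹)) * n := by group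
        _ = x * p := by rw [h4]; group
    · rintro h2 _ ⟨p, hp, rfl⟩
      have h4 := mem_centralizer_singleton_iff.1 (h2 hp)
      refine mem_centralizer_singleton_iff.2 ?_
      show n * p * n⁻¹ * (n * x * n⁻¹) = n * x * n⁻¹ * (n * p * n⁻¹)
      calc n * p * n⁻¹ * (n * x * n⁻¹) = n * (p * x) * n⁻¹ := by group
        _ = n * x * n⁻¹ * (n * p * n⁻¹) := by rw [h4]; group
  have hR1 : ¬ R ≤ centralizer ({v 1} : Set G) := by
    rw [← h1, hcent]; exact T.mv 0
  have hR0 : R ≤ centralizer ({v 0} : Set G) := T.cen_of (by decide) hRp hR1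
  have hRw : R ≤ centralizer ({n * v 1 * n⁻¹} : Set G) := (hcent _).2 (T.PC 0 1 (by decide))
  have hw : n * v 1 * n⁻¹ ∈ zc (S : Subgroup G) := by
    have h3 := (T.v_zc 1)
    rw [mem_zc] at h3 ⊢
    refine ⟨(mem_normalizer_iff.1 hn _).1 h3.1, fun t ht => ?_, ?_⟩
    · have h4 := h3.2.1 _ ((mem_normalizer_iff''.1 hn t).1 ht)
      calc t * (n * v 1 * n⁻¹) = n * ((n⁻¹ * t * n) * v 1) * n⁻¹ := by group
        _ = n * v 1 * n⁻¹ * t := by rw [h4]; group
    · have h4 := h3.2.2
      have e : (n * v 1 * n⁻¹) ^ 2 = n * (v 1 ^ 2) * n⁻¹ := by rw [pow_two, pow_two]; group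
      rw [e, h4]; group
  have hw0 : n * v 1 * n⁻¹ = v 0 := by
    rcases (T.zS _).1 hw with h2 | h2 | h2 | h2
    · exfalso
      apply T.ne 1
      have e : v 1 = n⁻¹ * (n * v 1 * n⁻¹) * n := by group
      rw [e, h2]; group
    · exact h2
    · rw [h2] at hRw
      exact absurd hRw hR1
    · exfalso
      apply hR1
      intro r hr
      have h3 := mem_centralizer_singleton_iff.1 (hRw hr)
      have h4 := mem_centralizer_singleton_iff.1 (hR0 hr)
      rw [h2] at h3
      refine mem_centralizer_singleton_iff.2 ?_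
      have h5 : v 0 * (r * v 1) = v 0 * (v 1 * r) := by
        calc v 0 * (r * v 1) = (r * v 0) * v 1 := by rw [h4]; group
          _ = r * (v 0 * v 1) := by group
          _ = v 0 * (v 1 * r) := by rw [h3]; group
      exact mul_left_cancel h5
  -- an odd power of `n` lies in `S`
  obtain ⟨a, m, hm, hord⟩ := Nat.exists_eq_two_pow_mul_odd (orderOf_pos n).ne'
  have hnm : n ^ m ∈ (S : Subgroup G) := by
    have h2 : IsPGroup 2 (zpowers (n ^ m)) := by
      refine IsPGroup.of_card (n := a) ?_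
      rw [Nat.card_zpowers, orderOf_pow, hord, Nat.gcd_eq_right (Dvd.intro_left _ rfl),
        Nat.mul_div_cancel _ (Nat.pos_of_ne_zero (by rintro rfl; simp at hm))]
    have h3 : zpowers (n ^ m) ≤ normalizer ((S : Subgroup G) : Set G) := by
      rw [zpowers_le]; exact pow_mem hn m
    have h4 : IsPGroup 2 ((S : Subgroup G) ⊔ zpowers (n ^ m) : Subgroup G) :=
      IsPGroup.to_sup_of_normal_left' S.isPGroup' h2 h3
    have h5 := S.is_maximal' h4 le_sup_left
    exact h5.le (mem_sup_right (mem_zpowers _))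
  have hpow : ∀ j : ℕ, n ^ (2 * j) * v 0 = v 0 * n ^ (2 * j) := by
    intro j
    have h2 : n ^ 2 * v 0 = v 0 * n ^ 2 := by
      have e1 : n * v 0 = v 1 * n := by rw [← h1]; group
      have e2 : n * v 1 = v 0 * n := by rw [← hw0]; group
      calc n ^ 2 * v 0 = n * (n * v 0) := by rw [pow_two]; group
        _ = (n * v 1) * n := by rw [e1]; group
        _ = v 0 * n ^ 2 := by rw [e2, pow_two]; group
    rw [pow_mul]
    exact (show Commute (n ^ 2) (v 0) from h2).pow_left j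
  obtain ⟨j, hj⟩ := hm
  have h6 := T.comm_s 0 hnm
  apply T.v_ne
  have e1 : n * v 0 = v 1 * n := by rw [← h1]; group
  have h7 : v 1 * n ^ m = v 0 * n ^ m := by
    rw [← h6, hj, pow_succ']
    calc v 1 * (n * n ^ (2 * j)) = (v 1 * n) * n ^ (2 * j) := by group
      _ = n * (v 0 * n ^ (2 * j)) := by rw [← e1]; group
      _ = n * n ^ (2 * j) * v 0 := by rw [← hpow j]; group
  exact (mul_right_cancel h7).symm

theorem not_conj' {i j : Fin 2} (hij : i ≠ j) (g : G) : g * v i * g⁻¹ ≠ v j := by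
  have h2 : ∀ a b : Fin 2, a ≠ b → (a = 0 ∧ b = 1) ∨ (a = 1 ∧ b = 0) := by decide
  rcases h2 i j hij with ⟨rfl, rfl⟩ | ⟨rfl, rfl⟩
  · exact T.not_conj g
  · intro h
    apply T.not_conj g⁻¹
    rw [← h]; group

theorem le_C (i : Fin 2) : (S : Subgroup G) ≤ centralizer ({v i} : Set G) := fun _ hs =>
  mem_centralizer_singleton_iff.2 (T.comm_s i hs)

theorem CZ_le (i : Fin 2) : CZ (S : Subgroup G) ≤ centralizer ({v i} : Set G) :=
  centralizer_le (Set.singleton_subset_iff.2 (T.v_zc i))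

/-- `C_G(v i)` is long. -/
theorem isLong (i : Fin 2) : IsLong (S : Subgroup G) (centralizer ({v i} : Set G)) where
  loc := by
    refine isLoc_of_le_normalizer S (T.le_C i) (U := zpowers (v i)) ?_ ?_ ?_
    · refine S.isPGroup'.to_le ?_
      rw [zpowers_le]; exact zc_le _ (T.v_zc i)
    · rw [Ne, zpowers_eq_bot]; exact T.ne i
    · refine le_trans ?_ (centralizer_le_normalizer _)
      intro g hg
      refine mem_centralizer_iff.2 fun x hx => ?_
      obtain ⟨k, rfl⟩ := mem_zpowers_iff.1 hx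
      have e : Commute (v i) g := (mem_centralizer_singleton_iff.1 hg).symm
      exact (e.zpow_left k).eq
  cz := T.CZ_le i

/-- **The frame of CARD #18791.** -/
theorem fr (B : RB S) : TC.Fr (S : Subgroup G) V P v := by
  have hc := B.ctx.char2
  have hel : ∀ i, IsElementaryAbelian 2 (zl (S : Subgroup G) (P i)) := fun i =>
    FFThm.elem_zl hc S (T.par i).isLoc
  have hSN : ∀ i, (S : Subgroup G) ≤ normalizer (V i : Set G) := fun i =>
    (T.par i).le.trans (T.nrm _ (T.par i) i)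
  refine
    { char2 := hc
      four := T.four
      sqV := fun i x hx => (hel i).2 x (T.VP i hx)
      mem := T.mem
      ne := T.ne
      zT := T.zS
      syl := fun i => syl_of_sylow S (T.le_C i)
      sylN := fun i => syl_of_sylow S (hSN i)
      par := fun i => (T.par i).toIsMinPar
      PC := T.PC
      PN := fun i j => T.nrm _ (T.par i) j
      mv := T.mv
      noff := ?_
      uni := ?_
      nonloc := ?_ }
  · intro i j g h h1 h2
    by_contra hcon
    obtain ⟨a, ha, hab⟩ := Set.not_subset.1 hcon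
    have hab' : ∃ b ∈ MulAut.conj h • V j, ¬ b * a = a * b := by
      by_contra h3
      push Not at h3
      exact hab (mem_centralizer_iff.2 fun b hb => h3 b hb)
    obtain ⟨b, hb, hne⟩ := hab'
    set w := a * b * a⁻¹ * b⁻¹ with hw
    have hw1 : w ≠ 1 := by
      intro h3
      apply hne
      have h4 : a * b = b * a := by
        calc a * b = w * (b * a) := by rw [hw]; group
          _ = b * a := by rw [h3, one_mul]
      exact h4.symm
    have hwA : w ∈ MulAut.conj g • V i := by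
      have h3 := (mem_normalizer_iff.1 (h2 hb) a⁻¹).1 (inv_mem ha)
      have e : w = a * (b * a⁻¹ * b⁻¹) := by rw [hw]; group
      rw [e]; exact mul_mem ha h3
    have hwB : w ∈ MulAut.conj h • V j :=
      mul_mem ((mem_normalizer_iff.1 (h1 ha) b).1 hb) (inv_mem hb)
    obtain ⟨p, hp, hpw⟩ := T.tr i (g⁻¹ * w * g) (mem_conj.1 hwA) (fun h3 => hw1 (by
      have e : w = g * (g⁻¹ * w * g) * g⁻¹ := by group
      rw [e, h3]; group))
    obtain ⟨q, hq, hqw⟩ := T.tr j (h⁻¹ * w * h) (mem_conj.1 hwB) (fun h3 => hw1 (by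
      have e : w = h * (h⁻¹ * w * h) * h⁻¹ := by group
      rw [e, h3]; group))
    have e1 : w = (g * p) * v i * (g * p)⁻¹ := by
      calc w = g * (g⁻¹ * w * g) * g⁻¹ := by group
        _ = (g * p) * v i * (g * p)⁻¹ := by rw [← hpw]; group
    have e2 : w = (h * q) * v j * (h * q)⁻¹ := by
      calc w = h * (h⁻¹ * w * h) * h⁻¹ := by group
        _ = (h * q) * v j * (h * q)⁻¹ := by rw [← hqw]; group
    by_cases hij : i = j
    · subst hij
      set c := (g * p)⁻¹ * (h * q) with hcdef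
      have hcc : c ∈ centralizer ({v i} : Set G) := by
        refine mem_centralizer_singleton_iff.2 ?_
        have h3 : (g * p) * v i * (g * p)⁻¹ = (h * q) * v i * (h * q)⁻¹ := by rw [← e1, ← e2]
        calc c * v i = (g * p)⁻¹ * ((h * q) * v i * (h * q)⁻¹) * (h * q) := by rw [hcdef]; group
          _ = v i * c := by rw [← h3, hcdef]; group
      have hF := NotA.FH_comm hc B.data B.notA (T.isLong i)
      have hVF : V i ≤ FH (S : Subgroup G) (centralizer ({v i} : Set G)) :=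
        (T.VP i).trans ((zl_le_WP (T.par i)).trans (WP_le_FH _ _))
      have hVc : MulAut.conj c • V i ≤ FH (S : Subgroup G) (centralizer ({v i} : Set G)) := by
        refine (conj_le_iff.2 ((T.VP i).trans (zl_le_WP (T.par i)))).trans (conj_WP_le_FH _ hcc)
      have h4 : V i ≤ centralizer ((MulAut.conj c • V i : Subgroup G) : Set G) := comm_mono hF hVF hVc
      have h5 := conj_le_centralizer (g := g * p) h4
      rw [conj_conj] at h5
      have e3 : g * p * c = h * q := by rw [hcdef]; group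
      rw [e3, ← conj_conj g p, ← conj_conj h q, conj_eq_of_mem (T.nrm _ (T.par i) i hp),
        conj_eq_of_mem (T.nrm _ (T.par i) i hq)] at h5
      exact hcon h5
    · refine T.not_conj' hij ((h * q)⁻¹ * (g * p)) ?_
      have h3 : (g * p) * v i * (g * p)⁻¹ = (h * q) * v j * (h * q)⁻¹ := by rw [← e1, ← e2]
      calc (h * q)⁻¹ * (g * p) * v i * ((h * q)⁻¹ * (g * p))⁻¹
          = (h * q)⁻¹ * ((g * p) * v i * (g * p)⁻¹) * (h * q) := by group
        _ = v j := by rw [h3]; group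
  · intro i j hij R hR hRj hRi
    have hIP : IsPar (S : Subgroup G) R := by
      refine ⟨hR, ?_⟩
      exact ((T.isLong j).loc.of_le S hR.le hRj).o2_ne
    refine T.nrm R ⟨hIP, fun h => hRi ?_⟩ i
    exact (NoFF.LinesPlug.le_CC S hIP h).trans (T.CZ_le i)
  · intro U hU h0 h1
    refine Merge.nonLoc_MZ B.ctx B.full U hU (sSup_le fun R hR => ?_) ((T.CZ_le 0).trans h0)
    rcases T.cen R hR with h | h
    · exact h.trans h0
    · exact h.trans h1

end Two

end Cfsg.Agent.Omega.NOThreeL.RRed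

end

section


/-!
# NO-3L, box R, the smallest shape: definitions ([R-red], #21468)

`W = zl S (MZ S)`, `M = MZ S = ⟨P*(S)⟩`.

* `Ln S P z u c` : `V_P = {1, z, u, u z} × {1, c}`, `P` centralises `c`, `S` normalises the line `{1, z, u, u z}`,
  `{z, u, u z} = z^P`;
* `Sm S` : the smallest shape;
* `Tv W c x` : `x` acts on `W` as a transvection with centre `c`, or trivially;
* `Sd S P₀ v₁ v₂ a t` : the line `⟨v₁, a⟩` of `P₀`, the transvection `t ∈ S`, unique in `M` up to `C_M(W)`.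
-/

set_option autoImplicit false
set_option linter.unusedSectionVars false

namespace Cfsg.Agent.Omega.NOThreeL.RRed

open Subgroup Cfsg Cfsg.Agent.ZN Cfsg.Agent.Omega.MinPar Cfsg.Agent.Omega.Frame Cfsg.Agent.Omega.FrameNOFF
open Cfsg.Agent.Omega.Node.NO3L Cfsg.Agent.Omega.NOThreeL.Basic Cfsg.Agent.Omega.NOThreeL.RTree
open Cfsg.Agent.Omega.NOThreeL.Merge (MZ)
open Cfsg.Agent.Omega.NOThreeL.ZCut (FZ YZ XZ VZ)
open Cfsg.Agent.Omega.NO3b.Bang (bang)
open Cfsg.Agent.Omega.FFThm (ElemM OffM NoOverM)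

universe u

variable {G : Type u} [Group G]

/-- The line `{1, z, u, u z}` of `P`, and the centralised involution `c`. -/
structure Ln (S P : Subgroup G) (z u c : G) : Prop where
  zS : z ∈ zc S
  cS : c ∈ zc S
  z1 : z ≠ 1
  c1 : c ≠ 1
  ne : z ≠ c
  uV : u ∈ zl S P
  uu : u * u = 1
  us : ∀ s ∈ S, s * u * s⁻¹ = u ∨ s * u * s⁻¹ = u * z
  mv : ∃ s ∈ S, s * u * s⁻¹ ≠ u
  cP : ∀ p ∈ P, p * c * p⁻¹ = c
  orb : ∀ p ∈ P, p * z * p⁻¹ = z ∨ p * z * p⁻¹ = u ∨ p * z * p⁻¹ = u * z
  tr : ∃ p ∈ P, p * z * p⁻¹ = u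
  all : ∀ x ∈ zl S P, ∃ y, (y = 1 ∨ y = z ∨ y = u ∨ y = u * z) ∧ (x = y ∨ x = y * c)

/-- **The smallest shape** (with `RR S = 1`, which follows from (RC'): `RZ.eq_bot_of_rc`). -/
structure Sm [Finite G] (S : Sylow 2 G) : Prop extends RB S where
  rr : RZ.RR (S : Subgroup G) = ⊥
  z4 : Nat.card (zc (S : Subgroup G)) = 4
  v8 : ∀ P, IsParS (S : Subgroup G) P → Nat.card (zl (S : Subgroup G) P) = 8

/-- `x` acts on `W` as a transvection with centre `c`, or trivially. -/
def Tv (W : Subgroup G) (c x : G) : Prop := ∀ w ∈ W, x * w * x⁻¹ = w ∨ x * w * x⁻¹ = w * c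

/-- **Side 1**: `P₀`, its line `⟨v₁, a⟩`, the transvection `t`. -/
structure Sd [Finite G] (S : Sylow 2 G) (P₀ : Subgroup G) (v₁ v₂ a t : G) : Prop where
  sm : Sm S
  par : IsParS (S : Subgroup G) P₀
  ln : Ln (S : Subgroup G) P₀ v₁ a v₂
  tS : t ∈ (S : Subgroup G)
  tv : Tv (zl (S : Subgroup G) (MZ (S : Subgroup G))) v₁ t
  ta : t * a * t⁻¹ = a * v₁
  no : NoOverM (zl (S : Subgroup G) (MZ (S : Subgroup G))) (MZ (S : Subgroup G))
  uni : ∀ x ∈ MZ (S : Subgroup G), Tv (zl (S : Subgroup G) (MZ (S : Subgroup G))) v₁ x →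
    x ∈ centralizer (zl (S : Subgroup G) (MZ (S : Subgroup G)) : Set G) ∨
      x⁻¹ * t ∈ centralizer (zl (S : Subgroup G) (MZ (S : Subgroup G)) : Set G)

/-- The line. -/
def li (z u : G) : Subgroup G := closure {z, u}

namespace Ln

variable {S P : Subgroup G} {z u c : G} (h : Ln S P z u c)
include h

theorem zz : z * z = 1 := by rw [← pow_two]; exact (Cfsg.Agent.MinSimple.VModule.mem_zc.1 h.zS).2.2

theorem cc : c * c = 1 := by rw [← pow_two]; exact (Cfsg.Agent.MinSimple.VModule.mem_zc.1 h.cS).2.2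

theorem zs {s : G} (hs : s ∈ S) : s * z = z * s := (Cfsg.Agent.MinSimple.VModule.mem_zc.1 h.zS).2.1 s hs

theorem cs {s : G} (hs : s ∈ S) : s * c = c * s := (Cfsg.Agent.MinSimple.VModule.mem_zc.1 h.cS).2.1 s hs

theorem z_S : z ∈ S := (Cfsg.Agent.MinSimple.VModule.mem_zc.1 h.zS).1

theorem c_S : c ∈ S := (Cfsg.Agent.MinSimple.VModule.mem_zc.1 h.cS).1

theorem uz : u * z = z * u := by
  rcases h.us z h.z_S with e | e
  · calc u * z = (z * u * z⁻¹) * z := by rw [e]
      _ = z * u := by group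
  · exfalso
    apply h.z1
    have e1 : z * u = u * (z * z) := by
      calc z * u = (z * u * z⁻¹) * z := by group
        _ = u * (z * z) := by rw [e]; group
    rw [h.zz, mul_one] at e1
    exact mul_eq_right.1 e1

theorem u1 : u ≠ 1 := by
  rintro rfl
  obtain ⟨s, _, hs⟩ := h.mv
  exact hs (by group)

theorem uz_ne : u ≠ z := by
  rintro rfl
  obtain ⟨s, hs, h1⟩ := h.mv
  exact h1 (by rw [h.zs hs]; group)

/-- `S` centralises no element of the line but `1`, `z`. -/
theorem exists_mv : ∃ s ∈ S, s * u * s⁻¹ = u * z := by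
  obtain ⟨s, hs, h1⟩ := h.mv
  exact ⟨s, hs, (h.us s hs).resolve_left h1⟩

/-- `P` is transitive on the line. -/
theorem tr_all (hSP : S ≤ P) {x : G} (hx : x = z ∨ x = u ∨ x = u * z) : ∃ p ∈ P, p * z * p⁻¹ = x := by
  obtain ⟨p, hp, h1⟩ := h.tr
  rcases hx with rfl | rfl | rfl
  · exact ⟨1, one_mem _, by group⟩
  · exact ⟨p, hp, h1⟩
  · obtain ⟨s, hs, h2⟩ := h.exists_mv
    refine ⟨s * p, mul_mem (hSP hs) hp, ?_⟩
    calc s * p * z * (s * p)⁻¹ = s * (p * z * p⁻¹) * s⁻¹ := by group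
      _ = u * z := by rw [h1, h2]

theorem mem_li {x : G} : x ∈ li z u ↔ x = 1 ∨ x = z ∨ x = u ∨ x = u * z := by
  constructor
  · intro hx
    unfold li at hx
    induction hx using Subgroup.closure_induction with
    | mem x hx =>
      rcases hx with rfl | hx
      · exact Or.inr (Or.inl rfl)
      · rw [Set.mem_singleton_iff] at hx
        exact Or.inr (Or.inr (Or.inl hx))
    | one => exact Or.inl rfl
    | mul x y _ _ hx hy =>
      have e0 := h.zz
      have e1 := h.uu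
      have e2 := h.uz
      have e3 : z * (u * z) = u := by rw [e2, ← mul_assoc, e0, one_mul]
      have e4 : u * (u * z) = z := by rw [← mul_assoc, e1, one_mul]
      have e5 : u * z * z = u := by rw [mul_assoc, e0, mul_one]
      have e6 : u * z * u = z := by rw [e2, mul_assoc, e1, mul_one]
      have e7 : u * z * (u * z) = 1 := by rw [← mul_assoc, e6, e0]
      rcases hx with rfl | rfl | rfl | rfl <;> rcases hy with rfl | rfl | rfl | rfl <;>
        simp [e0, e1, e3, e4, e5, e6, e7, ← e2]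
    | inv x _ hx =>
      have e0 : z⁻¹ = z := inv_eq_of_mul_eq_one_left h.zz
      have e1 : u⁻¹ = u := inv_eq_of_mul_eq_one_left h.uu
      rcases hx with rfl | rfl | rfl | rfl
      · simp
      · simp [e0]
      · simp [e1]
      · right; right; right
        rw [mul_inv_rev, e0, e1, h.uz]
  · rintro (rfl | rfl | rfl | rfl)
    · exact one_mem _
    · exact subset_closure (by simp)
    · exact subset_closure (by simp)
    · exact mul_mem (subset_closure (by simp)) (subset_closure (by simp))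

theorem z_mem : z ∈ li z u := h.mem_li.2 (Or.inr (Or.inl rfl))

theorem u_mem : u ∈ li z u := h.mem_li.2 (Or.inr (Or.inr (Or.inl rfl)))

theorem card_li : Nat.card (li z u) = 4 := by
  have e : ((li z u : Subgroup G) : Set G) = {1, z, u, u * z} := by
    ext x
    rw [SetLike.mem_coe, h.mem_li]
    rfl
  have h1 : Nat.card (li z u) = ((li z u : Subgroup G) : Set G).ncard := rfl
  have hne : u * z ≠ 1 := fun h2 => h.uz_ne (by
    have h3 : u * z = z * z := by rw [h2, h.zz]
    exact mul_right_cancel h3)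
  rw [h1, e, Set.ncard_insert_of_notMem (by simp [h.z1.symm, h.u1.symm, hne.symm]) (Set.toFinite _),
    Set.ncard_insert_of_notMem (by simp [h.uz_ne.symm, h.u1]) (Set.toFinite _),
    Set.ncard_pair (by simp [h.z1])]

theorem le_normalizer_li (hSP : S ≤ P) : P ≤ normalizer (li z u : Set G) := by
  have key : ∀ p ∈ P, ∀ x ∈ li z u, p * x * p⁻¹ ∈ li z u := by
    intro p hp x hx
    by_cases hx1 : x = 1
    · rw [hx1]; simp
    · obtain ⟨q, hq, rfl⟩ := h.tr_all hSP ((h.mem_li.1 hx).resolve_left hx1)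
      have e : p * (q * z * q⁻¹) * p⁻¹ = p * q * z * (p * q)⁻¹ := by group
      rw [e, h.mem_li]
      exact Or.inr (h.orb _ (mul_mem hp hq))
  intro p hp
  rw [mem_normalizer_iff]
  intro x
  refine ⟨key p hp x, fun hx => ?_⟩
  have h1 := key p⁻¹ (inv_mem hp) _ hx
  have e : p⁻¹ * (p * x * p⁻¹) * p⁻¹⁻¹ = x := by group
  rwa [e] at h1

theorem li_le (hz : zc S ≤ zl S P) : li z u ≤ zl S P := by
  unfold li
  rw [closure_le]
  rintro x (rfl | hx)
  · exact hz h.zS
  · rw [Set.mem_singleton_iff] at hx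
    rw [hx]; exact h.uV

theorem PC : P ≤ centralizer ({c} : Set G) := by
  intro p hp
  rw [mem_centralizer_singleton_iff]
  have := h.cP p hp
  calc p * c = (p * c * p⁻¹) * p := by group
    _ = c * p := by rw [this]

theorem mvz : ¬ P ≤ centralizer ({z} : Set G) := by
  intro h1
  obtain ⟨p, hp, h2⟩ := h.tr
  have h3 := mem_centralizer_singleton_iff.1 (h1 hp)
  apply h.uz_ne
  rw [← h2, h3]; group

end Ln

end Cfsg.Agent.Omega.NOThreeL.RRed

end

end

-- merged: Cfsg.Agent.Mrg.Omega.NOThreeL.RRed.Base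
section

/-!
# NO-3L, box R, the smallest shape: basic facts on `W = V* = zl S (MZ S)`

* `Wd S`, `RB.wcomm`, `RB.wsq`, `RB.WS`, `RB.nor`, `RB.zc_of_fix`, `RB.zl_le`;
* `Sm.zc_iff` : `Z = {1, x, y, x y}`;
* `odd_pow`, `Sm.not_swap` : `N_G(S)` induces no transposition on `Z#`;
* `Ln.conj_mem` : `s ∈ S` centralising `u` is in `O₂(P)`;
* `Sm.gen` : `X ≥ S` fixing `v₁`, moving `v₂`, contains a member of `P*(S)` moving `v₂`.
-/

set_option autoImplicit false
set_option linter.unusedSectionVars false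

namespace Cfsg.Agent.Omega.NOThreeL.RRed

open Subgroup Cfsg Cfsg.Agent.ZN Cfsg.Agent.Omega.MinPar Cfsg.Agent.Omega.Frame Cfsg.Agent.Omega.FrameNOFF
open Cfsg.Agent.Omega.Node.NO3L Cfsg.Agent.Omega.NOThreeL.Basic Cfsg.Agent.Omega.NOThreeL.RTree
open Cfsg.Agent.Omega.NOThreeL.Merge (MZ)
open Cfsg.Agent.Omega.NOThreeL.ZCut (FZ YZ XZ VZ)
open Cfsg.Agent.Omega.NOThreeL.Star (YS le_YS zl_comm zl_sq zl_mono S_le_YS)

universe u

variable {G : Type u} [Group G]

/-- `V*` -/
def Wd (S : Subgroup G) : Subgroup G := zl S (MZ S)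

section fin

variable [Finite G] {S : Sylow 2 G}

theorem SM (B : RB S) : (S : Subgroup G) ≤ MZ (S : Subgroup G) := S_le_YS B.ctx B.full

theorem zc_le_Wd (S : Subgroup G) : zc S ≤ Wd S := Cfsg.Agent.MinSimple.VModule.zc_le_zl _ _

theorem le_MZ {P : Subgroup G} (hP : IsParS (S : Subgroup G) P) : P ≤ MZ (S : Subgroup G) := le_sSup hP

theorem zl_le_Wd {P : Subgroup G} (hP : IsParS (S : Subgroup G) P) :
    zl (S : Subgroup G) P ≤ Wd (S : Subgroup G) := Star.zl_mono _ (le_MZ hP)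

theorem Wd_abel (B : RB S) : Wd (S : Subgroup G) ≤ centralizer (Wd (S : Subgroup G) : Set G) :=
  zl_comm B.ctx.char2 B.data.noff

theorem wcomm (B : RB S) : ∀ v ∈ Wd (S : Subgroup G), ∀ w ∈ Wd (S : Subgroup G), v * w = w * v := by
  intro v hv w hw
  exact (mem_centralizer_iff.1 (Wd_abel B hv) w hw).symm

theorem wsq (B : RB S) : ∀ x ∈ Wd (S : Subgroup G), x * x = 1 := fun x hx => by
  rw [← pow_two]; exact zl_sq B.ctx.char2 B.data.noff x hx

theorem le_norm_Wd : MZ (S : Subgroup G) ≤ normalizer (Wd (S : Subgroup G) : Set G) := le_normalizer_zl _ _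

theorem nor : ∀ c ∈ MZ (S : Subgroup G), ∀ n ∈ Wd (S : Subgroup G), c * n * c⁻¹ ∈ Wd (S : Subgroup G) :=
  fun _ hc n hn => (mem_normalizer_iff.1 (le_norm_Wd hc) n).1 hn

theorem WS (B : RB S) : Wd (S : Subgroup G) ≤ S :=
  le_of_le_normalizer S (fun x => ⟨1, Subtype.ext (by simpa [pow_two] using wsq B x x.2)⟩)
    ((SM B).trans le_norm_Wd)

theorem zc_of_fix (B : RB S) {w : G} (hw : w ∈ Wd (S : Subgroup G))
    (h : ∀ s ∈ (S : Subgroup G), s * w * s⁻¹ = w) : w ∈ zc (S : Subgroup G) := by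
  rw [mem_zc]
  refine ⟨WS B hw, fun s hs => ?_, by rw [pow_two]; exact wsq B w hw⟩
  calc s * w = (s * w * s⁻¹) * s := by group
    _ = w * s := by rw [h s hs]

/-- `Z = {1, x, y, x y}` -/
theorem Sm.zc_iff (h : Sm S) {x y : G} (hx : x ∈ zc (S : Subgroup G)) (hy : y ∈ zc (S : Subgroup G))
    (hx1 : x ≠ 1) (hy1 : y ≠ 1) (hxy : x ≠ y) (w : G) :
    w ∈ zc (S : Subgroup G) ↔ w = 1 ∨ w = x ∨ w = y ∨ w = x * y := by
  have hsq : ∀ v ∈ zc (S : Subgroup G), v * v = 1 := fun v hv => by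
    rw [← pow_two]; exact (mem_zc.1 hv).2.2
  have hne : x * y ≠ 1 := fun e => hxy (by
    have h1 : x * y = y * y := by rw [e, hsq y hy]
    exact mul_right_cancel h1)
  have e : ((({1, x, y, x * y} : Set G))).ncard = 4 := by
    rw [Set.ncard_insert_of_notMem (by simp [hx1.symm, hy1.symm, hne.symm]) (Set.toFinite _),
      Set.ncard_insert_of_notMem (by simp [hxy, hy1]) (Set.toFinite _),
      Set.ncard_pair (by simp [hx1])]
  have hsub : ({1, x, y, x * y} : Set G) ⊆ (zc (S : Subgroup G) : Set G) := by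
    rintro v (rfl | rfl | rfl | rfl)
    · exact one_mem _
    · exact hx
    · exact hy
    · exact mul_mem hx hy
  have h4 : ((zc (S : Subgroup G) : Subgroup G) : Set G).ncard = 4 := h.z4
  have h5 := Set.eq_of_subset_of_ncard_le hsub (by rw [e, h4]) (Set.toFinite _)
  rw [← SetLike.mem_coe, ← h5]
  rfl

/-- An odd power of `n ∈ N_G(S)` is in `S`. -/
theorem odd_pow {n : G} (hn : n ∈ normalizer ((S : Subgroup G) : Set G)) :
    ∃ j, n ^ (2 * j + 1) ∈ (S : Subgroup G) := by
  have hf : Fact (Nat.Prime 2) := ⟨Nat.prime_two⟩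
  obtain ⟨a, m, hm, hord⟩ := Nat.exists_eq_two_pow_mul_odd (orderOf_pos n).ne'
  have hnm : n ^ m ∈ (S : Subgroup G) := by
    have h2 : IsPGroup 2 (zpowers (n ^ m)) := by
      refine IsPGroup.of_card (n := a) ?_
      rw [Nat.card_zpowers, orderOf_pow, hord, Nat.gcd_eq_right (Dvd.intro_left _ rfl),
        Nat.mul_div_cancel _ (Nat.pos_of_ne_zero (by rintro rfl; simp at hm))]
    have h3 : zpowers (n ^ m) ≤ normalizer ((S : Subgroup G) : Set G) := by
      rw [zpowers_le]; exact pow_mem hn m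
    have h4 : IsPGroup 2 ((S : Subgroup G) ⊔ zpowers (n ^ m) : Subgroup G) :=
      IsPGroup.to_sup_of_normal_left' S.isPGroup' h2 h3
    have h5 := S.is_maximal' h4 le_sup_left
    exact h5.le (mem_sup_right (mem_zpowers _))
  obtain ⟨j, hj⟩ := hm
  exact ⟨j, hj ▸ hnm⟩

/-- `N_G(S)` does not swap two elements of `Z`. -/
theorem not_swap {x y n : G} (hn : n ∈ normalizer ((S : Subgroup G) : Set G)) (hx : x ∈ zc (S : Subgroup G))
    (h1 : n * x * n⁻¹ = y) (h2 : n * y * n⁻¹ = x) : x = y := by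
  obtain ⟨j, hj⟩ := odd_pow hn
  have e1 : n * x = y * n := by rw [← h1]; group
  have e2 : n * y = x * n := by rw [← h2]; group
  have h3 : n ^ 2 * x = x * n ^ 2 := by
    calc n ^ 2 * x = n * (n * x) := by rw [pow_two]; group
      _ = (n * y) * n := by rw [e1]; group
      _ = x * n ^ 2 := by rw [e2, pow_two]; group
  have h4 : n ^ (2 * j) * x = x * n ^ (2 * j) := by
    rw [pow_mul]; exact (show Commute (n ^ 2) x from h3).pow_left j
  have h6 : n ^ (2 * j + 1) * x = x * n ^ (2 * j + 1) := (mem_zc.1 hx).2.1 _ hj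
  have h7 : y * n ^ (2 * j + 1) = x * n ^ (2 * j + 1) := by
    rw [← h6, pow_succ']
    calc y * (n * n ^ (2 * j)) = (y * n) * n ^ (2 * j) := by group
      _ = n * (x * n ^ (2 * j)) := by rw [← e1]; group
      _ = n * n ^ (2 * j) * x := by rw [← h4]; group
  exact (mul_right_cancel h7).symm

/-- `N_G(S)` acts on `Z`. -/
theorem conj_zc {n x : G} (hn : n ∈ normalizer ((S : Subgroup G) : Set G)) (hx : x ∈ zc (S : Subgroup G)) :
    n * x * n⁻¹ ∈ zc (S : Subgroup G) := by
  have h3 := hx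
  rw [mem_zc] at h3 ⊢
  refine ⟨(mem_normalizer_iff.1 hn _).1 h3.1, fun t ht => ?_, ?_⟩
  · have h4 := h3.2.1 _ ((mem_normalizer_iff''.1 hn t).1 ht)
    calc t * (n * x * n⁻¹) = n * ((n⁻¹ * t * n) * x) * n⁻¹ := by group
      _ = n * x * n⁻¹ * t := by rw [h4]; group
  · have h4 := h3.2.2
    have e : (n * x * n⁻¹) ^ 2 = n * (x ^ 2) * n⁻¹ := by rw [pow_two, pow_two]; group
    rw [e, h4]; group

/-- `s ∈ S` centralising `u` is in `O₂(P)`. -/
theorem Ln.conj_mem {P : Subgroup G} {z u c s p : G} (hc : IsCharacteristicTwoType G)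
    (hP : IsParS (S : Subgroup G) P) (h : Ln (S : Subgroup G) P z u c) (hs : s ∈ (S : Subgroup G))
    (hsu : s * u * s⁻¹ = u) (hp : p ∈ P) : p * s * p⁻¹ ∈ (S : Subgroup G) := by
  have h1 : s ∈ o2 P := by
    rw [← hP.inf_centralizer S hc]
    refine ⟨hs, mem_centralizer_iff.2 fun x hx => ?_⟩
    have e1 : s * u = u * s := by
      calc s * u = (s * u * s⁻¹) * s := by group
        _ = u * s := by rw [hsu]
    have e2 := h.zs hs
    have e3 := h.cs hs
    obtain ⟨y, hy, hxy⟩ := h.all x hx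
    have e4 : s * y = y * s := by
      rcases hy with rfl | rfl | rfl | rfl
      · simp
      · exact e2
      · exact e1
      · calc s * (u * z) = (s * u) * z := by group
          _ = u * (s * z) := by rw [e1]; group
          _ = u * z * s := by rw [e2]; group
    rcases hxy with rfl | rfl
    · exact e4.symm
    · symm
      calc s * (y * c) = (s * y) * c := by group
        _ = y * (s * c) := by rw [e4]; group
        _ = y * c * s := by rw [e3]; group
  exact hP.isLoc.o2_le S ((mem_normalizer_iff.1 (le_normalizer_o2 P hp) s).1 h1)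

/-- `X ≥ S` fixing `v₁`, moving `v₂`, contains a member of `P*(S)` moving `v₂`. -/
theorem Sm.gen (h : Sm S) {v₁ v₂ : G} (h1 : v₁ ∈ zc (S : Subgroup G)) (h2 : v₂ ∈ zc (S : Subgroup G))
    (h11 : v₁ ≠ 1) (h21 : v₂ ≠ 1) (hne : v₁ ≠ v₂) {X : Subgroup G} (hSX : (S : Subgroup G) ≤ X)
    (hX1 : ∀ g ∈ X, g * v₁ * g⁻¹ = v₁) (hX2 : ∃ g ∈ X, g * v₂ * g⁻¹ ≠ v₂) :
    ∃ R, IsParS (S : Subgroup G) R ∧ R ≤ X ∧ ∃ g ∈ R, g * v₂ * g⁻¹ ≠ v₂ := by
  have hloc : IsLoc (S : Subgroup G) X := by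
    refine isLoc_of_le_normalizer S hSX (U := zpowers v₁) ?_ ?_ ?_
    · refine S.isPGroup'.to_le ?_
      rw [zpowers_le]; exact zc_le _ h1
    · rw [Ne, zpowers_eq_bot]; exact h11
    · refine le_trans ?_ (centralizer_le_normalizer _)
      intro g hg
      refine mem_centralizer_iff.2 fun x hx => ?_
      obtain ⟨k, rfl⟩ := mem_zpowers_iff.1 hx
      have e1 : g * v₁ = v₁ * g := by
        calc g * v₁ = (g * v₁ * g⁻¹) * g := by group
          _ = v₁ * g := by rw [hX1 g hg]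
      have e : Commute v₁ g := e1.symm
      exact (e.zpow_left k).eq
  by_contra hcon
  push Not at hcon
  have hcent : ∀ g : G, g * v₂ * g⁻¹ = v₂ ↔ g ∈ centralizer ({v₂} : Set G) := by
    intro g
    rw [mem_centralizer_singleton_iff]
    constructor
    · intro e
      calc g * v₂ = (g * v₂ * g⁻¹) * g := by group
        _ = v₂ * g := by rw [e]
    · intro e
      rw [e]; group
  obtain ⟨g, hg, hg2⟩ := hX2
  apply hg2
  rw [hcent]
  refine hloc.le_of_forall S (Y := centralizer ({v₂} : Set G)) ?_ ?_ hg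
  · rintro n ⟨hnX, hn⟩
    rw [← hcent]
    have h3 := conj_zc hn h2
    have h4 := hX1 n hnX
    rcases (h.zc_iff h1 h2 h11 h21 hne _).1 h3 with e | e | e | e
    · exact absurd (conj_eq_one_iff.1 e) h21
    · exfalso
      rw [← h4] at e
      exact hne (mul_left_cancel (mul_right_cancel e)).symm
    · exact e
    · -- `n` swaps `v₂` and `v₁ v₂`
      have h5 : n * (v₁ * v₂) * n⁻¹ = v₂ := by
        have e5 : v₁ * v₁ = 1 := by rw [← pow_two]; exact (mem_zc.1 h1).2.2
        calc n * (v₁ * v₂) * n⁻¹ = (n * v₁ * n⁻¹) * (n * v₂ * n⁻¹) := by group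
          _ = (v₁ * v₁) * v₂ := by rw [h4, e]; group
          _ = v₂ := by rw [e5, one_mul]
      have h6 := not_swap hn h2 e h5
      rw [← h6] at e
      exact e
  · intro R hR hRX
    by_contra hR2
    have hRS : IsParS (S : Subgroup G) R := by
      refine ⟨hR, fun h3 => hR2 ?_⟩
      exact (NoFF.LinesPlug.le_CC S hR h3).trans (centralizer_le (Set.singleton_subset_iff.2 h2))
    exact hR2 fun r hr => (hcent r).1 (hcon R hRS hRX r hr)

end fin

end Cfsg.Agent.Omega.NOThreeL.RRed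

end
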