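import Cfsg.Agent.Mrg.Omega.TV.Basic
import Cfsg.Agent.Mrg.Omega.NOThreeL.RRed.Lin
import Cfsg.Agent.Mrg.Omega.NOThreeL.RRed.Base
import Cfsg.Agent.Mrg.Omega.NOThreeL.RRed.LThree
import Cfsg.Agent.Mrg.Omega.NOThreeL.VF.One
import Cfsg.Agent.Mrg.Omega.FFBr.Final
import Cfsg.Agent.Mrg.Omega.NOThreeL.RZ.Frame
import Cfsg.Agent.Mrg.Omega.NOThreeL.RTreeA
import Cfsg.Agent.Mrg.Omega.NOThreeL.RTreeF

-- merged: Cfsg.Agent.Mrg.Omega.NOThreeL.RRed.LinTv
section

section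


/-!
# NO-3L, [R-red], smallest shape: L5 and L6 of #21468 (helper858), the linear part

`M` acts on the `𝔽₂`-module `V`.  `Uq ρ c φ` : `c` is the centre of exactly one induced transvection, with functional
`φ` ((T1)).

* `Uq.conj`, `Uq.symm` ((T2)), `Uq.add`;
* `Tf` : the situation of L5, L6 (`v₁`, `v₂`, `a`, `Z = {0, v₁, v₂, v₁ + v₂}`, L2, L3);
* `Tf.delta` : L5, first part; `Tf.five` : L5, last part;
* `Tf.six` : L6.
-/

set_option autoImplicit false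
set_option linter.unusedSectionVars false

namespace Cfsg.Agent.Omega.NOThreeL.RRed

open Module Cfsg.Agent.Omega.TV

variable {M : Type*} [Group M] {V : Type*} [AddCommGroup V] [Module (ZMod 2) V]
  {ρ : M →* (V ≃ₗ[ZMod 2] V)}

/-- `g` induces the transvection with centre `c` and functional `φ`. -/
def Ind (ρ : M →* (V ≃ₗ[ZMod 2] V)) (g : M) (c : V) (φ : Dual (ZMod 2) V) : Prop :=
  ∀ w, ρ g w = w + φ w • c

theorem Ind.conj {g : M} {c : V} {φ : Dual (ZMod 2) V} (h : Ind ρ g c φ) (x : M) :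
    Ind ρ (x * g * x⁻¹) (ρ x c) (φ ∘ₗ (ρ x⁻¹ : V ≃ₗ[ZMod 2] V).toLinearMap) := by
  intro w
  rw [rmul, rmul, h, map_add, rinv', map_smul]
  rfl

/-- `c` is the centre of exactly one induced transvection, with functional `φ`. -/
structure Uq (ρ : M →* (V ≃ₗ[ZMod 2] V)) (c : V) (φ : Dual (ZMod 2) V) : Prop where
  ne : φ ≠ 0
  fn : Fn ρ c φ
  uq : ∀ ψ, Fn ρ c ψ → ψ = 0 ∨ ψ = φ

namespace Uq

variable {c d : V} {φ ψ : Dual (ZMod 2) V}

theorem self (h : Uq ρ c φ) : φ c = 0 := h.fn.1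

theorem eq (h : Uq ρ c φ) (h' : Uq ρ c ψ) : φ = ψ := (h'.uq _ h.fn).resolve_left h.ne

theorem ex (h : Uq ρ c φ) : ∃ g, Ind ρ g c φ := h.fn.2

theorem conj (h : Uq ρ c φ) (g : M) : Uq ρ (ρ g c) (φ ∘ₗ (ρ g⁻¹ : V ≃ₗ[ZMod 2] V).toLinearMap) where
  ne := by
    intro h0
    apply h.ne
    ext w
    have h1 := LinearMap.congr_fun h0 (ρ g w)
    simpa [rinv] using h1
  fn := h.fn.conj g
  uq := by
    intro ψ hψ
    have h1 := hψ.conj g⁻¹
    rw [rinv] at h1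
    rcases h.uq _ h1 with h2 | h2
    · left
      ext w
      have h3 := LinearMap.congr_fun h2 (ρ g⁻¹ w)
      simpa [rinv'] using h3
    · right
      ext w
      have h3 := LinearMap.congr_fun h2 (ρ g⁻¹ w)
      simpa [rinv'] using h3

/-- **(T2)** -/
theorem symm_aux (hc : Uq ρ c φ) (hd : Uq ρ d ψ) (h : φ d = 1) : ψ c = 1 := by
  by_contra hcon
  have h0 := z2_ne_one hcon
  have h1 := Fn.cc hd.fn hc.fn
  rw [h, one_smul, h0, zero_smul, add_zero] at h1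
  have h2 := h1.addc hd.fn
  have e : d + c + d = c := by
    calc d + c + d = c + (d + d) := by abel
      _ = c := by rw [v_add_self, add_zero]
  rw [e] at h2
  rcases hc.uq _ h2 with h3 | h3
  · exact hd.ne h3
  · rw [h3] at hd
    rw [hd.self] at h
    exact absurd h (by decide)

theorem symm (hc : Uq ρ c φ) (hd : Uq ρ d ψ) : φ d = ψ c := by
  rcases z2 (φ d) with h | h
  · rcases z2 (ψ c) with h' | h'
    · rw [h, h']
    · have := hd.symm_aux hc h'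
      rw [h] at this
      exact absurd this (by decide)
  · rw [h, hc.symm_aux hd h]

/-- `f_{c+d} = f_c + f_d` if `f_c(d) = 1`. -/
theorem add (hc : Uq ρ c φ) (hd : Uq ρ d ψ) (h : φ d = 1) : Uq ρ (c + d) (φ + ψ) := by
  obtain ⟨g, hg⟩ := hc.ex
  have h1 := hd.conj g
  have e1 : ρ g d = c + d := by rw [hg, h, one_smul, add_comm]
  have e2 : ψ ∘ₗ (ρ g⁻¹ : V ≃ₗ[ZMod 2] V).toLinearMap = φ + ψ := by
    ext w
    have h2 : ρ g⁻¹ w = w + φ w • c := by
      have h3 : ρ g (w + φ w • c) = w := by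
        rw [hg]
        simp only [map_add, map_smul, hc.self, smul_zero, add_zero]
        rw [add_assoc, v_add_self, add_zero]
      conv_lhs => rw [← h3]
      rw [rinv]
    show ψ (ρ g⁻¹ w) = φ w + ψ w
    rw [h2]
    simp only [map_add, map_smul, smul_eq_mul]
    rw [← hc.symm hd, h, mul_one, add_comm]
  rwa [e1, e2] at h1

end Uq

/-- The orbit of `v₁`. -/
def Om (ρ : M →* (V ≃ₗ[ZMod 2] V)) (v₁ : V) : Set V := {c | ∃ g, ρ g v₁ = c}

theorem Om.conj {v₁ c : V} (h : c ∈ Om ρ v₁) (g : M) : ρ g c ∈ Om ρ v₁ := by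
  obtain ⟨k, rfl⟩ := h
  exact ⟨g * k, rmul ρ g k v₁⟩

theorem Om.add {v₁ c d : V} {φ : Dual (ZMod 2) V} (hd : d ∈ Om ρ v₁) (hc : Uq ρ c φ) (h : φ d = 1) :
    c + d ∈ Om ρ v₁ := by
  obtain ⟨g, hg⟩ := hc.ex
  have h1 := Om.conj hd g
  rwa [hg, h, one_smul, add_comm] at h1

theorem Om.ne_zero {v₁ c : V} (hv : v₁ ≠ 0) (h : c ∈ Om ρ v₁) : c ≠ 0 := by
  obtain ⟨k, rfl⟩ := h
  intro h0
  apply hv
  have h1 := congrArg (ρ k⁻¹) h0
  rwa [rinv, map_zero] at h1

/-- The centres of the transvections induced by `S`. -/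
def DS (ρ : M →* (V ≃ₗ[ZMod 2] V)) (S : Subgroup M) (v₁ : V) : Set V :=
  {c | c ∈ Om ρ v₁ ∧ ∃ φ, Uq ρ c φ ∧ ∃ s ∈ S, Ind ρ s c φ}

/-- A finite set of vectors permuted by `x` has an `x`-fixed sum. -/
theorem fix_sum {F : Finset V} {x : M} (hx : ∀ c ∈ F, ρ x c ∈ F) : ρ x (∑ c ∈ F, c) = ∑ c ∈ F, c := by
  classical
  have hi : Set.InjOn (fun c => ρ x c) (F : Set V) := fun _ _ _ _ h => (ρ x).injective h
  have h1 : F.image (fun c => ρ x c) = F := by
    refine Finset.eq_of_subset_of_card_le ?_ ?_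
    · intro y hy
      obtain ⟨c, hc, rfl⟩ := Finset.mem_image.1 hy
      exact hx c hc
    · rw [Finset.card_image_of_injOn hi]
  rw [map_sum]
  conv_rhs => rw [← h1]
  rw [Finset.sum_image hi]

/-- The situation of L5 and L6. -/
structure Tf (ρ : M →* (V ≃ₗ[ZMod 2] V)) (S : Subgroup M) (v₁ v₂ a : V) (f₁ fa : Dual (ZMod 2) V) : Prop where
  ne1 : v₁ ≠ 0
  u1 : Uq ρ v₁ f₁
  ua : Uq ρ a fa
  om : a ∈ Om ρ v₁
  one : f₁ a = 1
  f12 : f₁ v₂ = 0
  fa2 : fa v₂ = 0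
  t : ∃ s ∈ S, Ind ρ s v₁ f₁
  s1 : ∀ s ∈ S, ρ s v₁ = v₁
  s2 : ∀ s ∈ S, ρ s v₂ = v₂
  sa : ∀ s ∈ S, ρ s a = a ∨ ρ s a = a + v₁
  fix : ∀ w, (∀ s ∈ S, ρ s w = w) → w = 0 ∨ w = v₁ ∨ w = v₂ ∨ w = v₁ + v₂
  L2 : ∀ c ∈ Om ρ v₁, (∀ s ∈ S, ρ s c = c) → c = v₁
  L3 : ∀ g, ρ g v₂ = v₂ → ∀ w, (w = v₁ ∨ w = a ∨ w = v₁ + a) → (ρ g w = v₁ ∨ ρ g w = a ∨ ρ g w = v₁ + a)

namespace Tf

variable {S : Subgroup M} {v₁ v₂ a : V} {f₁ fa : Dual (ZMod 2) V} (h : Tf ρ S v₁ v₂ a f₁ fa)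
include h

theorem v1_mem : v₁ ∈ Om ρ v₁ := ⟨1, rone ρ v₁⟩

theorem fa1 : fa v₁ = 1 := by rw [← h.u1.symm h.ua, h.one]

theorem v1_DS : v₁ ∈ DS ρ S v₁ := ⟨h.v1_mem, f₁, h.u1, h.t⟩

theorem S_DS {s : M} (hs : s ∈ S) {c : V} (hc : c ∈ DS ρ S v₁) : ρ s c ∈ DS ρ S v₁ := by
  obtain ⟨h1, φ, h2, s0, hs0, h3⟩ := hc
  exact ⟨Om.conj h1 s, _, h2.conj s, s * s0 * s⁻¹, S.mul_mem (S.mul_mem hs hs0) (S.inv_mem hs), h3.conj s⟩

theorem S_ne {s : M} (hs : s ∈ S) {c : V} (hc : c ≠ v₁) : ρ s c ≠ v₁ := by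
  intro h1
  apply hc
  apply (ρ s).injective
  rw [h1, h.s1 s hs]

/-- **L5, first part.** `δ = ∏ (D_S - v₁) = v₂`, `R` fixes `v₁ + v₂`, everything permuting `D_S` and fixing `v₁`
fixes `v₂`. -/
theorem delta [Finite V] {P₀ R : Set M}
    (hP : ∀ p ∈ P₀, ∀ c ∈ DS ρ S v₁, c ≠ v₁ → ρ p c ∈ DS ρ S v₁ ∧ ρ p c ≠ v₁)
    (hP2 : ∀ p ∈ P₀, ρ p v₂ = v₂) (hP1 : ∃ p ∈ P₀, ρ p v₁ ≠ v₁)
    (hR : ∀ r ∈ R, ∀ c ∈ DS ρ S v₁, ρ r c ∈ DS ρ S v₁) (hR1 : ∃ r ∈ R, ρ r v₁ ≠ v₁) :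
    (∀ r ∈ R, ρ r (v₁ + v₂) = v₁ + v₂) ∧
      ∀ x, (∀ c ∈ DS ρ S v₁, ρ x c ∈ DS ρ S v₁) → ρ x v₁ = v₁ → ρ x v₂ = v₂ := by
  classical
  let D : Finset V := (Set.toFinite (DS ρ S v₁)).toFinset
  let E : Finset V := D.erase v₁
  have hD : ∀ c, c ∈ D ↔ c ∈ DS ρ S v₁ := fun c => Set.Finite.mem_toFinset _
  have hE : ∀ c, c ∈ E ↔ c ∈ DS ρ S v₁ ∧ c ≠ v₁ := fun c => by
    rw [Finset.mem_erase, hD, and_comm]
  have hsum : ∑ c ∈ D, c = v₁ + ∑ c ∈ E, c :=
    (Finset.add_sum_erase D (fun c => c) ((hD _).2 h.v1_DS)).symm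
  set δ := ∑ c ∈ E, c with hδ
  have hS : ∀ s ∈ S, ρ s δ = δ := fun s hs => fix_sum fun c hc => by
    rw [hE] at hc ⊢
    exact ⟨h.S_DS hs hc.1, h.S_ne hs hc.2⟩
  have hPd : ∀ p ∈ P₀, ρ p δ = δ := fun p hp => fix_sum fun c hc => by
    rw [hE] at hc ⊢
    exact hP p hp c hc.1 hc.2
  have hRd : ∀ r ∈ R, ρ r (v₁ + δ) = v₁ + δ := fun r hr => by
    rw [← hsum]
    exact fix_sum fun c hc => by
      rw [hD] at hc ⊢
      exact hR r hr c hc
  obtain ⟨p, hp, hp1⟩ := hP1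
  obtain ⟨r, hr, hr1⟩ := hR1
  have hd2 : δ = v₂ := by
    rcases h.fix δ hS with h1 | h1 | h1 | h1
    · exfalso
      have h2 := hRd r hr
      rw [h1, add_zero] at h2
      exact hr1 h2
    · exfalso
      have h2 := hPd p hp
      rw [h1] at h2
      exact hp1 h2
    · exact h1
    · exfalso
      have h2 := hPd p hp
      rw [h1, map_add, hP2 p hp] at h2
      exact hp1 (add_right_cancel h2)
  refine ⟨fun r hr => hd2 ▸ hRd r hr, fun x hx hx1 => ?_⟩
  have h1 : ρ x δ = δ := fix_sum fun c hc => by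
    rw [hE] at hc ⊢
    refine ⟨hx c hc.1, fun h2 => hc.2 ?_⟩
    apply (ρ x).injective
    rw [h2, hx1]
  rwa [hd2] at h1

/-- `b` with `f_b(v₂) = 0`, `f_b(v₁) = 1` lies in `{a, a + v₁}`. -/
theorem of_L3 {b : V} {fb : Dual (ZMod 2) V} (hb0 : b ≠ 0) (hb : Uq ρ b fb) (h1 : fb v₁ = 1) (h2 : fb v₂ = 0) :
    b = a ∨ b = a + v₁ := by
  obtain ⟨g, hg⟩ := hb.ex
  have h3 := h.L3 g (by rw [hg, h2, zero_smul, add_zero]) v₁ (Or.inl rfl)
  rw [hg, h1, one_smul] at h3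
  rcases h3 with h3 | h3 | h3
  · exact absurd (add_eq_left.1 h3) hb0
  · right
    rw [← h3, add_comm v₁ b, add_add_self]
  · left
    exact add_left_cancel h3

/-- **L5, last part.** -/
theorem five {r : M} (hR12 : ρ r (v₁ + v₂) = v₁ + v₂) (hr1 : ρ r v₁ ≠ v₁) (hrD : ρ r v₁ ∈ DS ρ S v₁)
    (hno : ∀ c ∈ Om ρ v₁, ∀ φ, Uq ρ c φ → φ v₁ = 0 → φ v₂ = 0) : False := by
  have hx := h.u1.conj r
  have hy := h.ua.conj r
  set x := ρ r v₁ with hxd
  set y := ρ r a with hyd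
  set fy := fa ∘ₗ (ρ r⁻¹ : V ≃ₗ[ZMod 2] V).toLinearMap with hfy
  have hy12 : fy (v₁ + v₂) = 1 := by
    have h1 : ρ r⁻¹ (v₁ + v₂) = v₁ + v₂ := by
      conv_lhs => rw [← hR12]
      rw [rinv]
    show fa (ρ r⁻¹ (v₁ + v₂)) = 1
    rw [h1, map_add, h.fa1, h.fa2, add_zero]
  have hyO : y ∈ Om ρ v₁ := Om.conj h.om r
  rcases z2 (fy v₁) with h1 | h1
  · have h2 := hno y hyO fy hy h1
    rw [map_add, h1, h2, add_zero] at hy12
    exact absurd hy12 (by decide)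
  · have h2 : fy v₂ = 0 := by
      rw [map_add, h1] at hy12
      exact add_eq_left.1 hy12
    have h3 := h.of_L3 (Om.ne_zero h.ne1 hyO) hy h1 h2
    obtain ⟨_, φ, hφ, s, hs, hsi⟩ := hrD
    have e1 : φ y = 1 := by
      rw [hφ.eq hx]
      show f₁ (ρ r⁻¹ (ρ r a)) = 1
      rw [rinv, h.one]
    have e2 : ρ s y = y + x := by rw [hsi, e1, one_smul]
    have e3 : ρ s y = y ∨ ρ s y = y + v₁ := by
      rcases h3 with h3 | h3
      · rw [h3]; exact h.sa s hs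
      · rw [h3, map_add, h.s1 s hs]
        rcases h.sa s hs with h4 | h4
        · left; rw [h4]
        · right; rw [h4]
    rw [e2] at e3
    rcases e3 with e3 | e3
    · exact Om.ne_zero h.ne1 (Om.conj h.v1_mem r) (add_eq_left.1 e3)
    · exact hr1 (add_left_cancel e3)

/-- `e = v₁ + a + b` of L6. -/
theorem e_of {b : V} {fb : Dual (ZMod 2) V} (hbO : b ∈ Om ρ v₁) (hb : Uq ρ b fb) (h1 : fb v₁ = 1) (h2 : fb v₂ = 1)
    (h3 : fa b = 0) : ∃ e ∈ Om ρ v₁, ∃ fe, Uq ρ e fe ∧ fe v₁ = 0 ∧ fe v₂ = 1 ∧ fe a = 1 := by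
  have e1 : f₁ b = 1 := by rw [h.u1.symm hb, h1]
  have u1 := h.u1.add h.ua h.one
  have e2 : (f₁ + fa) b = 1 := by rw [LinearMap.add_apply, e1, h3, add_zero]
  refine ⟨v₁ + a + b, Om.add hbO u1 e2, _, u1.add hb e2, ?_, ?_, ?_⟩
  · simp only [LinearMap.add_apply, h.u1.self, h.fa1, h1]
    decide
  · simp only [LinearMap.add_apply, h.f12, h.fa2, h2]
    decide
  · have e3 : fb a = 0 := by rw [← h.ua.symm hb, h3]
    simp only [LinearMap.add_apply, h.one, h.ua.self, e3]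
    decide

/-- Claim A of L6: two points `c ≠ c'` with `f(v₁) = 0`, `f(v₂) = f(a) = 1` are not perpendicular. -/
theorem near {c c' : V} {fc fc' : Dual (ZMod 2) V} (hc : Uq ρ c fc)
    (hc' : Uq ρ c' fc') (c1 : fc v₁ = 0) (c2 : fc v₂ = 1) (ca : fc a = 1) (c1' : fc' v₁ = 0)
    (c2' : fc' v₂ = 1) (ca' : fc' a = 1) (hne : c ≠ c') : fc c' = 1 := by
  by_contra hcon
  have h0 := z2_ne_one hcon
  have u1 := h.u1.add h.ua h.one
  have e1 : f₁ c = 0 := by rw [h.u1.symm hc, c1]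
  have e1' : f₁ c' = 0 := by rw [h.u1.symm hc', c1']
  have ea : fa c = 1 := by rw [h.ua.symm hc, ca]
  have ea' : fa c' = 1 := by rw [h.ua.symm hc', ca']
  have m2 : (f₁ + fa) c = 1 := by rw [LinearMap.add_apply, e1, ea, zero_add]
  have u2 := u1.add hc m2
  have m3 : (f₁ + fa + fc) c' = 1 := by
    simp only [LinearMap.add_apply, e1', ea', h0]
    decide
  have u3 := u2.add hc' m3
  have m4 : (f₁ + fa + fc + fc') a = 1 := by
    simp only [LinearMap.add_apply, h.one, h.ua.self, ca, ca']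
    decide
  have u4 := u3.add h.ua m4
  have o4 : v₁ + a + c + c' + a ∈ Om ρ v₁ := Om.add h.om u3 m4
  have n0 := Om.ne_zero h.ne1 o4
  obtain ⟨g, hg⟩ := u4.ex
  have g2 : (f₁ + fa + fc + fc' + fa) v₂ = 0 := by
    simp only [LinearMap.add_apply, h.f12, h.fa2, c2, c2']
    decide
  have ga : (f₁ + fa + fc + fc' + fa) a = 1 := by
    simp only [LinearMap.add_apply, h.one, h.ua.self, ca, ca']
    decide
  have g1 : (f₁ + fa + fc + fc' + fa) v₁ = 0 := by
    simp only [LinearMap.add_apply, h.u1.self, h.fa1, c1, c1']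
    decide
  have h3 := h.L3 g (by rw [hg, g2, zero_smul, add_zero]) a (Or.inr (Or.inl rfl))
  rw [hg, ga, one_smul] at h3
  have hu : v₁ + a + c + c' + a = v₁ + (c + c') := by
    calc v₁ + a + c + c' + a = v₁ + (c + c') + (a + a) := by abel
      _ = v₁ + (c + c') := by rw [v_add_self, add_zero]
  rcases h3 with h3 | h3 | h3
  · -- `u₄ = v₁ + a`
    have h4 : v₁ + a + c + c' + a = v₁ + a := by
      calc v₁ + a + c + c' + a = (a + (v₁ + a + c + c' + a)) + a := by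
            rw [add_comm a (v₁ + a + c + c' + a), add_add_self]
        _ = v₁ + a := by rw [h3]
    rw [h4] at u4
    have h5 := u4.eq u1
    have h6 := LinearMap.congr_fun h5 v₁
    rw [g1] at h6
    simp only [LinearMap.add_apply, h.u1.self, h.fa1] at h6
    exact absurd h6 (by decide)
  · exact n0 (add_eq_left.1 h3)
  · rw [add_comm v₁ a] at h3
    have h4 := add_left_cancel h3
    apply hne
    apply v_eq_of_add
    have h5 : a + c + c' + a = 0 := by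
      have h6 : v₁ + a + c + c' + a = v₁ + (a + c + c' + a) := by abel
      rw [add_comm a v₁, h6] at h4
      exact add_eq_left.1 h4
    calc c + c' = a + c + c' + a + (a + a) := by rw [v_add_self, add_zero]; rw [show a + c + c' + a = c + c' + (a + a) by abel, v_add_self, add_zero]
      _ = 0 := by rw [h5, v_add_self, add_zero]

/-- L6 with the point `e`. -/
theorem six_e (hX : ∀ e ∈ Om ρ v₁, ∀ φ g, Uq ρ e φ → Ind ρ g e φ → φ v₁ = 0 → φ v₂ = 1 →
      ∃ X : Subgroup M, S ≤ X ∧ X ≤ S ⊔ Subgroup.zpowers g ∧ (∃ x ∈ X, ρ x v₂ ≠ v₂) ∧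
        ∃ y z, ∀ x ∈ X, ρ x v₂ = v₂ ∨ ρ x v₂ = y ∨ ρ x v₂ = z)
    {e : V} (heO : e ∈ Om ρ v₁) {fe : Dual (ZMod 2) V} (he : Uq ρ e fe) (h1 : fe v₁ = 0) (h2 : fe v₂ = 1)
    (h3 : fe a = 1) : False := by
  obtain ⟨g, hg⟩ := he.ex
  obtain ⟨X, hSX, hXg, ⟨x, hxX, hx⟩, y, z, hyz⟩ := hX e heO fe g he hg h1 h2
  have he0 := Om.ne_zero h.ne1 heO
  -- the points of the `S`-orbit
  have hOs : ∀ s ∈ S, Uq ρ (ρ s e) (fe ∘ₗ (ρ s⁻¹ : V ≃ₗ[ZMod 2] V).toLinearMap) := fun s _ => he.conj s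
  have p1 : ∀ s ∈ S, (fe ∘ₗ (ρ s⁻¹ : V ≃ₗ[ZMod 2] V).toLinearMap) v₁ = 0 := fun s hs => by
    show fe (ρ s⁻¹ v₁) = 0
    rw [h.s1 _ (S.inv_mem hs), h1]
  have p2 : ∀ s ∈ S, (fe ∘ₗ (ρ s⁻¹ : V ≃ₗ[ZMod 2] V).toLinearMap) v₂ = 1 := fun s hs => by
    show fe (ρ s⁻¹ v₂) = 1
    rw [h.s2 _ (S.inv_mem hs), h2]
  have p3 : ∀ s ∈ S, (fe ∘ₗ (ρ s⁻¹ : V ≃ₗ[ZMod 2] V).toLinearMap) a = 1 := fun s hs => by
    show fe (ρ s⁻¹ a) = 1
    rcases h.sa _ (S.inv_mem hs) with h4 | h4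
    · rw [h4, h3]
    · rw [h4, map_add, h3, h1, add_zero]
  have hA : ∀ s ∈ S, e ≠ ρ s e → fe (ρ s e) = 1 := fun s hs hne =>
    h.near he (hOs s hs) h1 h2 h3 (p1 s hs) (p2 s hs) (p3 s hs) hne
  -- the set `Y`
  let N : Subgroup M :=
    { carrier := {x | ∀ w, (w = v₂ ∨ ∃ s ∈ S, w = v₂ + ρ s e) ↔ (ρ x w = v₂ ∨ ∃ s ∈ S, ρ x w = v₂ + ρ s e)}
      one_mem' := fun w => by rw [rone]
      mul_mem' := fun {x x'} hx hx' w => by rw [rmul]; exact (hx' w).trans (hx _)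
      inv_mem' := fun {x} hx w => by
        have := (hx (ρ x⁻¹ w)).symm
        rwa [rinv'] at this }
  have hSN : S ≤ N := by
    have key : ∀ s ∈ S, ∀ w, (w = v₂ ∨ ∃ s ∈ S, w = v₂ + ρ s e) → (ρ s w = v₂ ∨ ∃ s' ∈ S, ρ s w = v₂ + ρ s' e) := by
      rintro s hs w (rfl | ⟨s', hs', rfl⟩)
      · exact Or.inl (h.s2 s hs)
      · exact Or.inr ⟨s * s', S.mul_mem hs hs', by rw [map_add, h.s2 s hs, rmul]⟩
    intro s hs w
    refine ⟨key s hs w, fun h4 => ?_⟩
    have h5 := key s⁻¹ (S.inv_mem hs) _ h4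
    rwa [rinv] at h5
  have hgN : g ∈ N := by
    have key : ∀ w, (w = v₂ ∨ ∃ s ∈ S, w = v₂ + ρ s e) → (ρ g w = v₂ ∨ ∃ s' ∈ S, ρ g w = v₂ + ρ s' e) := by
      rintro w (rfl | ⟨s', hs', rfl⟩)
      · exact Or.inr ⟨1, S.one_mem, by rw [hg, h2, one_smul, rone]⟩
      · by_cases hne : e = ρ s' e
        · left
          rw [← hne, hg, map_add, h2, he.self, add_zero, one_smul, add_add_self]
        · right
          refine ⟨s', hs', ?_⟩
          rw [hg, map_add, h2, hA s' hs' hne, show (1 : ZMod 2) + 1 = 0 by decide, zero_smul, add_zero]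
    intro w
    refine ⟨key w, fun h4 => ?_⟩
    have h5 := key _ h4
    have h6 : ρ g (ρ g w) = w := by
      rw [hg, hg w]
      simp only [map_add, map_smul, he.self, smul_zero, add_zero]
      rw [add_add_self]
    rwa [h6] at h5
  have hXN : X ≤ N := hXg.trans (sup_le hSN (by rwa [Subgroup.zpowers_le]))
  -- an element `v₂ + ρ s e` of the `X`-orbit of `v₂`
  obtain ⟨s, hs, hxs⟩ := (((hXN hxX) v₂).1 (Or.inl rfl)).resolve_left hx
  have horb : ∀ s' ∈ S, v₂ + ρ s' e = y ∨ v₂ + ρ s' e = z := by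
    intro s' hs'
    have h4 := hyz (s' * s⁻¹ * x) (X.mul_mem (hSX (S.mul_mem hs' (S.inv_mem hs))) hxX)
    have h5 : ρ (s' * s⁻¹ * x) v₂ = v₂ + ρ s' e := by
      rw [rmul, hxs, map_add, rmul, h.s2 _ (S.inv_mem hs), h.s2 _ hs', rmul, rinv]
    rw [h5] at h4
    refine h4.resolve_left fun h6 => ?_
    exact Om.ne_zero h.ne1 (Om.conj heO s') (add_eq_left.1 h6)
  -- `e` is not fixed by `S`
  obtain ⟨s0, hs0, hne⟩ : ∃ s0 ∈ S, ρ s0 e ≠ e := by
    by_contra hcon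
    push Not at hcon
    have h4 := h.L2 e heO hcon
    rw [h4] at he
    have h5 := he.eq h.u1
    rw [h5, h.f12] at h2
    exact absurd h2 (by decide)
  have htwo : ∀ s' ∈ S, ρ s' e = e ∨ ρ s' e = ρ s0 e := by
    intro s' hs'
    have h4 := horb 1 S.one_mem
    have h5 := horb s0 hs0
    have h6 := horb s' hs'
    rw [rone] at h4
    have k1 : ∀ {u w t : V}, v₂ + u = t → v₂ + w = t → u = w := fun e1 e2 => add_left_cancel (e1.trans e2.symm)
    rcases h4 with h4 | h4 <;> rcases h5 with h5 | h5 <;> rcases h6 with h6 | h6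
    · exact Or.inl (k1 h6 h4)
    · exact absurd (k1 h5 h4) hne
    · exact Or.inl (k1 h6 h4)
    · exact Or.inr (k1 h6 h5)
    · exact Or.inr (k1 h6 h5)
    · exact Or.inl (k1 h6 h4)
    · exact absurd (k1 h5 h4) hne
    · exact Or.inl (k1 h6 h4)
  have hfe := hA s0 hs0 (Ne.symm hne)
  have h4 : e + ρ s0 e ∈ Om ρ v₁ := Om.add (Om.conj heO s0) he hfe
  have h5 := h.L2 _ h4 fun s' hs' => by
    rw [map_add]
    have h6 := htwo s' hs'
    have h7 := htwo (s' * s0) (S.mul_mem hs' hs0)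
    rw [rmul] at h7
    have h8 : ρ s' e ≠ ρ s' (ρ s0 e) := fun h9 => hne ((ρ s').injective h9).symm
    rcases h6 with h6 | h6 <;> rcases h7 with h7 | h7
    · exact absurd (h6.trans h7.symm) h8
    · rw [h6, h7]
    · rw [h6, h7, add_comm]
    · exact absurd (h6.trans h7.symm) h8
  have h6 : fe (e + ρ s0 e) = 1 := by rw [map_add, he.self, hfe, zero_add]
  rw [h5, h1] at h6
  exact absurd h6 (by decide)

/-- **L6.** -/
theorem six (hX : ∀ e ∈ Om ρ v₁, ∀ φ g, Uq ρ e φ → Ind ρ g e φ → φ v₁ = 0 → φ v₂ = 1 →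
      ∃ X : Subgroup M, S ≤ X ∧ X ≤ S ⊔ Subgroup.zpowers g ∧ (∃ x ∈ X, ρ x v₂ ≠ v₂) ∧
        ∃ y z, ∀ x ∈ X, ρ x v₂ = v₂ ∨ ρ x v₂ = y ∨ ρ x v₂ = z)
    {r : M} (hr : ρ r v₁ = v₁) : ρ r a = a ∨ ρ r a = a + v₁ := by
  by_contra hcon
  have hb := h.ua.conj r
  have hbO : ρ r a ∈ Om ρ v₁ := Om.conj h.om r
  set b := ρ r a with hbd
  set fb := fa ∘ₗ (ρ r⁻¹ : V ≃ₗ[ZMod 2] V).toLinearMap with hfb
  have h1 : fb v₁ = 1 := by
    have e1 : ρ r⁻¹ v₁ = v₁ := by
      conv_lhs => rw [← hr]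
      rw [rinv]
    show fa (ρ r⁻¹ v₁) = 1
    rw [e1, h.fa1]
  have h2 : fb v₂ = 1 := by
    by_contra h3
    exact hcon (h.of_L3 (Om.ne_zero h.ne1 hbO) hb h1 (z2_ne_one h3))
  rcases z2 (fa b) with h3 | h3
  · obtain ⟨e, heO, fe, he, e1, e2, e3⟩ := h.e_of hbO hb h1 h2 h3
    exact h.six_e hX heO he e1 e2 e3
  · have e1 : f₁ b = 1 := by rw [h.u1.symm hb, h1]
    have hb' := h.u1.add hb e1
    obtain ⟨e, heO, fe, he, e1, e2, e3⟩ := h.e_of (Om.add hbO h.u1 e1) hb'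
      (by rw [LinearMap.add_apply, h.u1.self, h1, zero_add]) (by rw [LinearMap.add_apply, h.f12, h2, zero_add])
      (by rw [map_add, h.fa1, h3]; decide)
    exact h.six_e hX heO he e1 e2 e3

end Tf

end Cfsg.Agent.Omega.NOThreeL.RRed

end

section


/-!
# NO-3L, box R, the smallest shape: L4, L5, L6 of #21468 together

* `LFr.tf` : the frame of `LinTv` (helper501);
* `LFr.six` : whoever fixes `v₁` normalises the line `⟨v₁, a⟩`;
* `LFr.main` : every `R ∈ PP` fixes `v₁` or `v₂` and normalises the line.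
-/

set_option autoImplicit false

namespace Cfsg.Agent.Omega.NOThreeL.RRed.LFr

open Module Cfsg.Agent.Omega.TV

variable {H : Type*} [Group H] {V : Type*} [AddCommGroup V] [Module (ZMod 2) V]
  {ρ : H →* (V ≃ₗ[ZMod 2] V)} {S : Subgroup H} {Ω : Set V} {f : V → Dual (ZMod 2) V}
  {PP : Set (Subgroup H)} {v₁ v₂ a : V} {P₀ : Subgroup H}

theorem uq (h : LFr ρ S Ω f PP v₁ v₂ a P₀) {c : V} (hc : c ∈ Ω) : Uq ρ c (f c) := ⟨h.ne c hc, h.fn c hc, h.uni c hc⟩

variable (h : LFr ρ S Ω f PP v₁ v₂ a P₀)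
include h

theorem om_le {c : V} (hc : c ∈ Om ρ v₁) : c ∈ Ω := by
  obtain ⟨g, rfl⟩ := hc
  exact h.inv g _ h.m1

theorem tf : Tf ρ S v₁ v₂ a (f v₁) (f a) where
  ne1 := h.v1_ne
  u1 := h.uq h.m1
  ua := h.uq h.a_mem
  om := by
    obtain ⟨r, _, hr⟩ := h.ln0.tr
    exact ⟨r, hr⟩
  one := h.ta
  f12 := h.f12
  fa2 := h.fa2
  t := h.t
  s1 := fun s hs => h.s1 hs
  s2 := h.s2
  sa := h.ln0.us
  fix := h.fix
  L2 := fun c hc => h.l2 c (h.om_le hc)
  L3 := by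
    -- `C(v₂)` permutes the line
    have hp : ∃ p ∈ P₀, ρ p v₁ = a := h.ln0.tr
    obtain ⟨p, hp, h1⟩ := hp
    have hp2 : ρ p v₂ = v₂ := h.ln0.cR p hp
    obtain ⟨s, hs, h2⟩ := h.ln0.exists_mv
    intro g hg w hw
    have key : ∀ k : H, ρ k v₂ = v₂ → ρ k v₁ = w → (ρ g w = v₁ ∨ ρ g w = a ∨ ρ g w = v₁ + a) := by
      intro k hk hkw
      rw [← hkw, ← rmul]
      rcases h.l3 (g * k) (by rw [rmul, hk, hg]) with e | e | e
      · exact Or.inl e
      · exact Or.inr (Or.inl e)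
      · exact Or.inr (Or.inr (by rw [e, add_comm]))
    rcases hw with e | e | e
    · exact key 1 (rone ρ _) (by rw [rone, e])
    · exact key p hp2 (by rw [h1, e])
    · exact key (s * p) (by rw [rmul, hp2, h.s2 s hs]) (by rw [rmul, h1, h2, e, add_comm])

/-- **L6** -/
theorem six [Finite V] {r : H} (hr : ρ r v₁ = v₁) : ρ r a = a ∨ ρ r a = a + v₁ := by
  refine h.tf.six ?_ hr
  intro e he φ g hφ hg h1 h2
  have hg1 : ρ g v₁ = v₁ := by rw [hg, h1, zero_smul, add_zero]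
  have hg2 : ρ g v₂ ≠ v₂ := by
    rw [hg, h2, one_smul]
    intro e'
    exact Om.ne_zero h.v1_ne he (by simpa using e')
  let St : Subgroup H :=
    { carrier := {k | ρ k v₁ = v₁}
      one_mem' := rone ρ v₁
      mul_mem' := by
        intro k l hk hl
        change ρ (k * l) v₁ = v₁
        rw [rmul, show ρ l v₁ = v₁ from hl]; exact hk
      inv_mem' := by
        intro k hk
        change ρ k⁻¹ v₁ = v₁
        nth_rewrite 1 [← show ρ k v₁ = v₁ from hk]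
        exact rinv ρ k v₁ }
  have hX1 : S ⊔ Subgroup.zpowers g ≤ St := sup_le (fun s hs => h.s1 hs) (by
    rw [Subgroup.zpowers_le]; exact hg1)
  obtain ⟨R, hR, hRX, k, hk, hk2⟩ := h.gen _ (le_sup_left : S ≤ S ⊔ Subgroup.zpowers g) (fun k hk => hX1 hk)
    ⟨g, Subgroup.mem_sup_right (Subgroup.mem_zpowers g), hg2⟩
  obtain ⟨z, u, c, hl⟩ := h.par R hR
  refine ⟨R, hl.le, hRX, ⟨k, hk, hk2⟩, ?_⟩
  have hR1 : ρ k v₁ = v₁ := hX1 (hRX hk)
  have hc : c = v₁ := by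
    have hck := hl.cR k hk
    rcases h.fix c (fun s hs => hl.cR s (hl.le hs)) with e | e | e | e
    · exact absurd e hl.c0
    · exact e
    · exact absurd (e ▸ hck) hk2
    · rw [e, map_add, hR1] at hck
      exact absurd (add_left_cancel hck) hk2
  have hz : v₂ = z ∨ v₂ = z + v₁ := by
    rcases h.fix z hl.zS with e | e | e | e
    · exact absurd e hl.z0
    · exact absurd (e.trans hc.symm) hl.ne
    · exact Or.inl e.symm
    · right
      rw [e, add_comm v₁ v₂, add_add_self]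
  rcases hz with e | e
  · refine ⟨u, u + z, fun x hx => ?_⟩
    rw [e]
    exact hl.orb x hx
  · refine ⟨u + v₁, u + z + v₁, fun x hx => ?_⟩
    have hx1 : ρ x v₁ = v₁ := hX1 (hRX hx)
    rw [e, map_add, hx1]
    rcases hl.orb x hx with e1 | e1 | e1
    · left; rw [e1]
    · right; left; rw [e1]
    · right; right; rw [e1]

/-- **L4 - L6.** -/
theorem main [Finite V] {R : Subgroup H} (hR : R ∈ PP) :
    ((∀ r ∈ R, ρ r v₁ = v₁) ∨ ∀ r ∈ R, ρ r v₂ = v₂) ∧
      ∀ r ∈ R, (ρ r v₁ = v₁ ∨ ρ r v₁ = a ∨ ρ r v₁ = a + v₁) ∧ (ρ r a = v₁ ∨ ρ r a = a ∨ ρ r a = a + v₁) := by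
  obtain ⟨z, u, c, hl⟩ := h.par R hR
  rcases z2 (f v₁ u) with h0 | h0
  · have h1 := h.l5 hl h0
    exact ⟨Or.inl h1, fun r hr => ⟨Or.inl (h1 r hr), Or.inr (h.six (h1 r hr))⟩⟩
  · obtain ⟨e1, e2, e3⟩ := h.l4 hl h0
    subst e1
    subst e2
    refine ⟨Or.inr hl.cR, fun r hr => ?_⟩
    have h2 := hl.orb r hr
    have h3 := hl.pre r hr
    rcases e3 with e | e
    · subst e
      exact ⟨h2, h3⟩
    · have e4 : u + z = a := by rw [e, add_add_self]
      obtain ⟨q, hq, h5⟩ := hl.tr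
      obtain ⟨s, hs, h6⟩ := hl.exists_mv
      have h7 := hl.orb (r * (s * q)) (mul_mem hr (mul_mem (hl.le hs) hq))
      rw [rmul, rmul, h5, h6] at h7
      rw [e4, e] at h2 h7
      exact ⟨h2.imp_right Or.symm, h7.imp_right Or.symm⟩

end Cfsg.Agent.Omega.NOThreeL.RRed.LFr

end

end

-- merged: Cfsg.Agent.Mrg.Omega.NOThreeL.RRed.Bridge
section

/-!
# NO-3L, box R, the smallest shape: the frame `LFr` from `Sd` (#21468, L2, L4 - L6)

* `exists_usys` : the orbit of a centre of a unique transvection;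
* `Sd.main` : every `R ∈ P*(S)` centralises `v₁` or `v₂` and normalises the line `⟨v₁, a⟩`.
-/

set_option autoImplicit false
set_option linter.unusedSectionVars false

namespace Cfsg.Agent.Omega.NOThreeL.RRed

open Module Cfsg.Agent.Omega.TV

section lin

variable {H : Type*} [Group H] {V : Type*} [AddCommGroup V] [Module (ZMod 2) V]
  {ρ : H →* (V ≃ₗ[ZMod 2] V)}

theorem exists_usys {v : V} (hv : v ≠ 0) {φ : Dual (ZMod 2) V} (h1 : Fn ρ v φ) (hne : φ ≠ 0)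
    (hu : ∀ ψ, Fn ρ v ψ → ψ = 0 ∨ ψ = φ) : ∃ f : V → Dual (ZMod 2) V, USys ρ (Om ρ v) f ∧ f v = φ := by
  classical
  let f : V → Dual (ZMod 2) V := fun c =>
    if h : ∃ g, ρ g v = c then φ ∘ₗ (ρ h.choose⁻¹ : V ≃ₗ[ZMod 2] V).toLinearMap else 0
  have hf : ∀ c, (h : ∃ g, ρ g v = c) → f c = φ ∘ₗ (ρ h.choose⁻¹ : V ≃ₗ[ZMod 2] V).toLinearMap := fun c h => dif_pos h
  have hfn : ∀ c ∈ Om ρ v, Fn ρ c (f c) := by
    intro c hc
    have h2 := h1.conj hc.choose
    rw [hf c hc]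
    rwa [hc.choose_spec] at h2
  have hne' : ∀ c ∈ Om ρ v, f c ≠ 0 := by
    intro c hc h2
    apply hne
    rw [hf c hc] at h2
    ext x
    have h3 := LinearMap.congr_fun h2 (ρ hc.choose x)
    simpa [rinv] using h3
  have huni : ∀ c ∈ Om ρ v, ∀ ψ, Fn ρ c ψ → ψ = 0 ∨ ψ = f c := by
    intro c hc ψ hψ
    have h2 := hψ.conj hc.choose⁻¹
    have h3 : ρ hc.choose⁻¹ c = v :=
      (congrArg (ρ hc.choose⁻¹) hc.choose_spec.symm).trans (rinv ρ _ _)
    rw [h3] at h2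
    rcases hu _ h2 with h4 | h4
    · left
      ext x
      have h5 := LinearMap.congr_fun h4 (ρ hc.choose⁻¹ x)
      simpa [rinv'] using h5
    · right
      rw [hf c hc]
      ext x
      have h5 := LinearMap.congr_fun h4 (ρ hc.choose⁻¹ x)
      simpa [rinv'] using h5
  have hvv : v ∈ Om ρ v := ⟨1, rone ρ v⟩
  refine ⟨f, ⟨?_, fun g c hc => Om.conj hc g, hfn, hne', huni⟩, ?_⟩
  · intro h0
    exact Om.ne_zero hv h0 rfl
  · exact ((huni v hvv φ h1).resolve_left hne).symm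

/-- **L2**, linear part. -/
theorem USys.l2_aux {Ω : Set V} {f : V → Dual (ZMod 2) V} (h : USys ρ Ω f) {v₁ v₂ a : V} (m1 : v₁ ∈ Ω)
    (ma : a ∈ Ω) (m12 : v₁ + v₂ ∈ Ω) (ta : f v₁ a = 1) (fa2 : f a v₂ = 0) (h2 : v₂ ≠ 0) {s : H}
    (hs : ∀ x, ρ s x = x ∨ ρ s x = x + (v₁ + v₂)) (hne : ∃ x, ρ s x ≠ x)
    (hsa : ρ s a = a ∨ ρ s a = a + v₁) : False := by
  have h0 : v₁ + v₂ ≠ 0 := h.c_ne m12
  obtain ⟨φ, hφ⟩ := exists_functional (ρ s) h0 hs
  have hφ0 : φ (v₁ + v₂) = 0 := by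
    by_contra hcon
    have h3 := hφ (v₁ + v₂)
    rw [z2_ne_zero hcon, one_smul, v_add_self] at h3
    exact h0 ((ρ s).map_eq_zero_iff.1 h3)
  have hφ1 : φ = f (v₁ + v₂) := by
    refine (h.uni _ m12 φ ⟨hφ0, s, hφ⟩).resolve_left ?_
    rintro rfl
    obtain ⟨x, hx⟩ := hne
    apply hx
    rw [hφ x]; simp
  have h4 : φ a = 1 := by
    rw [hφ1, h.symm m12 ma, map_add, fa2, add_zero, h.symm ma m1]
    exact ta
  have h5 := hφ a
  rw [h4, one_smul] at h5
  rcases hsa with e | e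
  · rw [e] at h5
    exact h0 (by simpa using h5)
  · rw [e] at h5
    have h6 := add_left_cancel h5
    exact h2 (by simpa using h6)

end lin

open Subgroup Cfsg Cfsg.Agent.ZN Cfsg.Agent.Omega.MinPar Cfsg.Agent.Omega.Frame Cfsg.Agent.Omega.FrameNOFF
open Cfsg.Agent.Omega.Node.NO3L Cfsg.Agent.Omega.NOThreeL.Basic Cfsg.Agent.Omega.NOThreeL.RTree
open Cfsg.Agent.Omega.NOThreeL.Merge (MZ)

universe u

variable {G : Type u} [Group G] [Finite G] {S : Sylow 2 G}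

/-- The representation of `MZ S` on `V*`. -/
noncomputable def rep (B : RB S) : ↥(MZ (S : Subgroup G)) →*
    (EA (Wd (S : Subgroup G)) (wsq B) ≃ₗ[ZMod 2] EA (Wd (S : Subgroup G)) (wsq B)) :=
  EA.crep (wsq B) (MZ (S : Subgroup G)) nor

theorem val_rep (B : RB S) (g : MZ (S : Subgroup G)) (x : EA (Wd (S : Subgroup G)) (wsq B)) :
    (rep B g x).val = (g : G) * x.val * (g : G)⁻¹ := rfl

theorem norm_of_conj_le {n : G} (h : ∀ s ∈ (S : Subgroup G), n⁻¹ * s * n ∈ (S : Subgroup G)) :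
    n ∈ normalizer ((S : Subgroup G) : Set G) := by
  have h1 : n⁻¹ ∈ normalizer ((S : Subgroup G) : Set G) :=
    mem_normalizer_fintype fun s hs => by rw [inv_inv]; exact h s hs
  simpa using inv_mem h1

/-- Burnside. -/
theorem exists_three (h : Sm S) {v₁ v₂ m : G} (h1 : v₁ ∈ zc (S : Subgroup G)) (h2 : v₂ ∈ zc (S : Subgroup G))
    (h11 : v₁ ≠ 1) (h21 : v₂ ≠ 1) (hne : v₁ ≠ v₂) (hm : m ∈ MZ (S : Subgroup G))
    (hz : m * v₁ * m⁻¹ ∈ zc (S : Subgroup G)) (hne' : m * v₁ * m⁻¹ ≠ v₁) :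
    ∃ n ∈ MZ (S : Subgroup G), n ∈ normalizer ((S : Subgroup G) : Set G) ∧ n * v₁ * n⁻¹ = v₁ * v₂ := by
  obtain ⟨n, hn, e1, h3⟩ := VF.exists_conj_fix S (SM h.toRB) (z := v₁) (m := m) (mem_zc.1 h1).2.1 hm
  have hnS : n ∈ normalizer ((S : Subgroup G) : Set G) :=
    norm_of_conj_le fun s hs => h3 s hs ((mem_zc.1 hz).2.1 s hs)
  rcases (h.zc_iff h1 h2 h11 h21 hne _).1 hz with e | e | e | e
  · exact absurd (conj_eq_one_iff.1 e) h11
  · exact absurd e hne'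
  · rw [e] at e1
    have h4 := conj_zc hnS h2
    rcases (h.zc_iff h1 h2 h11 h21 hne _).1 h4 with e' | e' | e' | e'
    · exact absurd (conj_eq_one_iff.1 e') h21
    · exact absurd (not_swap hnS h1 e1 e') hne
    · exfalso
      rw [← e'] at e1
      exact hne (mul_left_cancel (mul_right_cancel e1))
    · refine ⟨n * n, mul_mem hn hn, mul_mem hnS hnS, ?_⟩
      calc n * n * v₁ * (n * n)⁻¹ = n * (n * v₁ * n⁻¹) * n⁻¹ := by group
        _ = v₁ * v₂ := by rw [e1, e']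
  · exact ⟨n, hn, hnS, e1.trans e⟩

/-- The line of `P ∈ P*(S)` in `V*`. -/
theorem Ln.lin (B : RB S) {P : Subgroup G} (hP : IsParS (S : Subgroup G) P) {z u c : G}
    (hl : Ln (S : Subgroup G) P z u c) (hz : z ∈ Wd (S : Subgroup G)) (hu : u ∈ Wd (S : Subgroup G))
    (hc : c ∈ Wd (S : Subgroup G)) :
    LnV (rep B) ((S : Subgroup G).subgroupOf (MZ (S : Subgroup G))) (P.subgroupOf (MZ (S : Subgroup G)))
      (EA.mk (wsq B) z hz) (EA.mk (wsq B) u hu) (EA.mk (wsq B) c hc) where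
  le := fun x hx => hP.le hx
  z0 := fun e => hl.z1 (EA.val_eq_one.2 e)
  c0 := fun e => hl.c1 (EA.val_eq_one.2 e)
  ne := fun e => hl.ne (congrArg EA.val e)
  zS := fun s hs => EA.ext (by
    change (s : G) * z * (s : G)⁻¹ = z
    rw [hl.zs (show (s : G) ∈ (S : Subgroup G) from hs)]; group)
  cR := fun r hr => EA.ext (hl.cP r hr)
  us := fun s hs => (hl.us s hs).imp (fun e => EA.ext e) (fun e => EA.ext e)
  mv := by
    obtain ⟨s, hs, h1⟩ := hl.mv
    exact ⟨⟨s, SM B hs⟩, hs, fun e => h1 (congrArg EA.val e)⟩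
  orb := fun r hr => (hl.orb r hr).imp (fun e => EA.ext e) (Or.imp (fun e => EA.ext e) (fun e => EA.ext e))
  tr := by
    obtain ⟨p, hp, h1⟩ := hl.tr
    exact ⟨⟨p, le_MZ hP hp⟩, hp, EA.ext h1⟩
  o2 := fun s hs e r hr => hl.conj_mem B.ctx.char2 hP hs (congrArg EA.val e) hr

namespace Sd

variable {P₀ : Subgroup G} {v₁ v₂ a t : G}

/-- **The frame `LFr`.** -/
theorem exists_fr (h : Sd S P₀ v₁ v₂ a t)
    (hline : ∀ P, IsParS (S : Subgroup G) P → ∃ z u c, Ln (S : Subgroup G) P z u c)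
    (hl3 : ∀ g ∈ MZ (S : Subgroup G), g * v₂ * g⁻¹ = v₂ →
      g * v₁ * g⁻¹ = v₁ ∨ g * v₁ * g⁻¹ = a ∨ g * v₁ * g⁻¹ = a * v₁)
    (h1W : v₁ ∈ Wd (S : Subgroup G)) (h2W : v₂ ∈ Wd (S : Subgroup G)) (haW : a ∈ Wd (S : Subgroup G)) :
    ∃ f, LFr (rep h.sm.toRB) ((S : Subgroup G).subgroupOf (MZ (S : Subgroup G)))
      (Om (rep h.sm.toRB) (EA.mk (wsq h.sm.toRB) v₁ h1W)) f
      {R' | ∃ R, IsParS (S : Subgroup G) R ∧ R' = R.subgroupOf (MZ (S : Subgroup G))}
      (EA.mk (wsq h.sm.toRB) v₁ h1W) (EA.mk (wsq h.sm.toRB) v₂ h2W) (EA.mk (wsq h.sm.toRB) a haW)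
      (P₀.subgroupOf (MZ (S : Subgroup G))) := by
  set B := h.sm.toRB with hB
  set e₁ := EA.mk (wsq B) v₁ h1W with he1
  set e₂ := EA.mk (wsq B) v₂ h2W with he2
  set ea := EA.mk (wsq B) a haW with hea
  set ρ := rep B with hρ
  have hSM := SM B
  have hln0 := h.ln.lin B h.par h1W haW h2W
  have h10 : e₁ ≠ 0 := hln0.z0
  have htM : t ∈ MZ (S : Subgroup G) := hSM h.tS
  obtain ⟨φ, hφ⟩ := exists_functional (ρ ⟨t, htM⟩) h10 (fun x =>
    (h.tv x.val x.val_mem).imp (fun e => EA.ext e) (fun e => EA.ext e))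
  have hφ1 : φ e₁ = 0 := by
    by_contra hcon
    have h3 := hφ e₁
    rw [z2_ne_zero hcon, one_smul, v_add_self] at h3
    exact h10 ((ρ ⟨t, htM⟩).map_eq_zero_iff.1 h3)
  have hfn : Fn ρ e₁ φ := ⟨hφ1, ⟨t, htM⟩, hφ⟩
  have hta : φ ea = 1 := by
    by_contra hcon
    have h3 := hφ ea
    rw [z2_ne_one hcon, zero_smul, add_zero] at h3
    have h4 : t * a * t⁻¹ = a := congrArg EA.val h3
    rw [h.ta] at h4
    exact h.ln.z1 (mul_eq_left.1 h4)
  have hφ0 : φ ≠ 0 := by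
    rintro rfl
    exact zero_ne_one hta
  have huni : ∀ ψ, Fn ρ e₁ ψ → ψ = 0 ∨ ψ = φ := by
    rintro ψ ⟨hψ1, g, hg⟩
    have h3 : Tv (zl (S : Subgroup G) (MZ (S : Subgroup G))) v₁ (g : G) := by
      intro w hw
      have h4 := hg (EA.mk (wsq B) w hw)
      rcases z2 (ψ (EA.mk (wsq B) w hw)) with e | e
      · left
        rw [e, zero_smul, add_zero] at h4
        exact congrArg EA.val h4
      · right
        rw [e, one_smul] at h4
        exact congrArg EA.val h4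
    rcases h.uni g g.2 h3 with h4 | h4
    · left
      ext x
      by_contra hcon
      have h5 := hg x
      rw [z2_ne_zero hcon, one_smul] at h5
      have h6 : ρ g x = x := EA.ext (by
        change (g : G) * x.val * (g : G)⁻¹ = x.val
        have := mem_centralizer_iff.1 h4 x.val x.val_mem
        rw [← this]; group)
      rw [h6] at h5
      exact h10 (by simpa using h5)
    · right
      ext x
      have h5 := hg x
      have h6 := hφ x
      have h7 : ρ g x = ρ ⟨t, htM⟩ x := EA.ext (by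
        change (g : G) * x.val * (g : G)⁻¹ = t * x.val * t⁻¹
        have := mem_centralizer_iff.1 h4 x.val x.val_mem
        calc (g : G) * x.val * (g : G)⁻¹ = g * (x.val * ((g : G)⁻¹ * t)) * t⁻¹ := by group
          _ = t * x.val * t⁻¹ := by rw [this]; group)
      rw [h5, h6] at h7
      have h8 := add_left_cancel h7
      rcases z2 (ψ x) with e | e <;> rcases z2 (φ x) with e' | e'
      · rw [e, e']
      · rw [e, e', zero_smul, one_smul] at h8
        exact absurd h8.symm h10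
      · rw [e, e', zero_smul, one_smul] at h8
        exact absurd h8 h10
      · rw [e, e']
  obtain ⟨f, U, hf1⟩ := exists_usys h10 hfn hφ0 huni
  have m1 : e₁ ∈ Om ρ e₁ := ⟨1, rone ρ e₁⟩
  have hfa : f e₁ ea = 1 := by rw [hf1]; exact hta
  have hfx : ∀ x : EA (Wd (S : Subgroup G)) (wsq B), ρ ⟨t, htM⟩ x = x + f e₁ x • e₁ := by
    intro x; rw [hf1]; exact hφ x
  obtain ⟨q, hq, hqa⟩ := hln0.tr
  have hqa' : ρ q e₁ = ea := hqa
  have ma : ea ∈ Om ρ e₁ := ⟨q, hqa⟩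
  have hs2 : ∀ s ∈ (S : Subgroup G).subgroupOf (MZ (S : Subgroup G)), ρ s e₂ = e₂ := fun s hs =>
    hln0.cR s (hln0.le hs)
  have hf12 : f e₁ e₂ = 0 := by
    by_contra hcon
    have h3 := hfx e₂
    rw [hs2 ⟨t, htM⟩ h.tS, z2_ne_zero hcon, one_smul] at h3
    exact h10 (by simpa using h3)
  have hfa2 : f ea e₂ = 0 := by
    rw [← hqa', U.eqv' q m1 (hln0.cR q hq)]
    exact hf12
  have hz1 := h.ln.zS
  have hz2 := h.ln.cS
  have hzc : ∀ x : EA (Wd (S : Subgroup G)) (wsq B),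
      (∀ s ∈ (S : Subgroup G).subgroupOf (MZ (S : Subgroup G)), ρ s x = x) → x.val ∈ zc (S : Subgroup G) := by
    intro x hx
    exact zc_of_fix B x.val_mem fun s hs => congrArg EA.val (hx ⟨s, hSM hs⟩ hs)
  have hzi := h.sm.zc_iff hz1 hz2 h.ln.z1 h.ln.c1 h.ln.ne
  refine ⟨f, { U with
    m1 := m1
    fix := ?_
    s2 := hs2
    mem0 := ⟨P₀, h.par, rfl⟩
    ln0 := hln0
    par := ?_
    t := ⟨⟨t, htM⟩, h.tS, hfx⟩
    ta := hfa
    l2 := ?_
    l3 := ?_
    gen := ?_ }⟩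
  · intro x hx
    rcases (hzi _).1 (hzc x hx) with e | e | e | e
    · exact Or.inl (EA.val_eq_one.1 e)
    · exact Or.inr (Or.inl (EA.ext e))
    · exact Or.inr (Or.inr (Or.inl (EA.ext e)))
    · exact Or.inr (Or.inr (Or.inr (EA.ext e)))
  · rintro _ ⟨R, hR, rfl⟩
    obtain ⟨z, u, c, hl⟩ := hline R hR
    exact ⟨_, _, _, hl.lin B hR (zc_le_Wd _ hl.zS) (zl_le_Wd hR hl.uV) (zc_le_Wd _ hl.cS)⟩
  · rintro c ⟨m, rfl⟩ hc
    by_contra hne
    have h3 : (m : G) * v₁ * (m : G)⁻¹ ∈ zc (S : Subgroup G) := hzc _ hc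
    obtain ⟨n, hn, hnS, h4⟩ := exists_three h.sm hz1 hz2 h.ln.z1 h.ln.c1 h.ln.ne m.2 h3
      fun e => hne (EA.ext e)
    have m12 : e₁ + e₂ ∈ Om ρ e₁ := ⟨⟨n, hn⟩, EA.ext h4⟩
    have hsS : n * t * n⁻¹ ∈ (S : Subgroup G) := (mem_normalizer_iff.1 hnS t).1 h.tS
    have hsx : ∀ x : EA (Wd (S : Subgroup G)) (wsq B), ρ ⟨n * t * n⁻¹, hSM hsS⟩ x =
        ρ ⟨n, hn⟩ (ρ ⟨t, htM⟩ (ρ ⟨n, hn⟩⁻¹ x)) := by
      intro x
      rw [← rmul, ← rmul]
      rfl
    have hne12 : ρ ⟨n, hn⟩ e₁ = e₁ + e₂ := EA.ext h4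
    refine U.l2_aux m1 ma m12 hfa hfa2 hln0.c0 (s := ⟨n * t * n⁻¹, hSM hsS⟩) (fun x => ?_)
      ⟨ρ ⟨n, hn⟩ ea, ?_⟩ (hln0.us _ hsS)
    · rw [hsx, hfx, map_add, rinv']
      rcases z2 (f e₁ (ρ ⟨n, hn⟩⁻¹ x)) with e | e
      · left; rw [e, zero_smul, map_zero, add_zero]
      · right; rw [e, one_smul, hne12]
    · rw [hsx, rinv, hfx, hfa, one_smul, map_add, hne12]
      intro e
      exact U.c_ne m12 (by simpa using e)
  · intro g hg
    exact (hl3 g g.2 (congrArg EA.val hg)).imp (fun e => EA.ext e)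
      (Or.imp (fun e => EA.ext e) (fun e => EA.ext e))
  · intro X hSX hX1 hX2
    obtain ⟨g, hg, hg2⟩ := hX2
    obtain ⟨R, hR, hRX, r, hr, hr2⟩ := h.sm.gen hz1 hz2 h.ln.z1 h.ln.c1 h.ln.ne
      (X := X.map (MZ (S : Subgroup G)).subtype)
      (fun s hs => ⟨⟨s, hSM hs⟩, hSX hs, rfl⟩)
      (by rintro _ ⟨x, hx, rfl⟩; exact congrArg EA.val (hX1 x hx))
      ⟨g, ⟨g, hg, rfl⟩, fun e => hg2 (EA.ext e)⟩
    refine ⟨_, ⟨R, hR, rfl⟩, fun x hx => ?_, ⟨r, le_MZ hR hr⟩, hr, fun e => hr2 (congrArg EA.val e)⟩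
    obtain ⟨y, hy, hyx⟩ := hRX hx
    have : y = x := Subtype.ext hyx
    rwa [← this]

/-- **L4 - L6** in the group. -/
theorem main (h : Sd S P₀ v₁ v₂ a t)
    (hline : ∀ P, IsParS (S : Subgroup G) P → ∃ z u c, Ln (S : Subgroup G) P z u c)
    (hl3 : ∀ g ∈ MZ (S : Subgroup G), g * v₂ * g⁻¹ = v₂ →
      g * v₁ * g⁻¹ = v₁ ∨ g * v₁ * g⁻¹ = a ∨ g * v₁ * g⁻¹ = a * v₁)
    {R : Subgroup G} (hR : IsParS (S : Subgroup G) R) :
    (R ≤ centralizer ({v₁} : Set G) ∨ R ≤ centralizer ({v₂} : Set G)) ∧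
      R ≤ normalizer (li v₁ a : Set G) := by
  have h1W := zc_le_Wd _ h.ln.zS
  have h2W := zc_le_Wd _ h.ln.cS
  have haW := zl_le_Wd h.par h.ln.uV
  obtain ⟨f, F⟩ := h.exists_fr hline hl3 h1W h2W haW
  obtain ⟨h3, h4⟩ := F.main ⟨R, hR, rfl⟩
  refine ⟨?_, ?_⟩
  · rcases h3 with h3 | h3
    · left
      intro r hr
      have h5 : r * v₁ * r⁻¹ = v₁ := congrArg EA.val (h3 ⟨r, le_MZ hR hr⟩ hr)
      rw [mem_centralizer_singleton_iff]
      calc r * v₁ = (r * v₁ * r⁻¹) * r := by group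
        _ = v₁ * r := by rw [h5]
    · right
      intro r hr
      have h5 : r * v₂ * r⁻¹ = v₂ := congrArg EA.val (h3 ⟨r, le_MZ hR hr⟩ hr)
      rw [mem_centralizer_singleton_iff]
      calc r * v₂ = (r * v₂ * r⁻¹) * r := by group
        _ = v₂ * r := by rw [h5]
  · have key : ∀ r ∈ R, ∀ x ∈ li v₁ a, r * x * r⁻¹ ∈ li v₁ a := by
      intro r hr
      obtain ⟨h5, h6⟩ := h4 ⟨r, le_MZ hR hr⟩ hr
      have h7 : r * v₁ * r⁻¹ ∈ li v₁ a := by
        rw [h.ln.mem_li]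
        rcases h5 with e | e | e
        · exact Or.inr (Or.inl (congrArg EA.val e))
        · exact Or.inr (Or.inr (Or.inl (congrArg EA.val e)))
        · exact Or.inr (Or.inr (Or.inr (congrArg EA.val e)))
      have h8 : r * a * r⁻¹ ∈ li v₁ a := by
        rw [h.ln.mem_li]
        rcases h6 with e | e | e
        · exact Or.inr (Or.inl (congrArg EA.val e))
        · exact Or.inr (Or.inr (Or.inl (congrArg EA.val e)))
        · exact Or.inr (Or.inr (Or.inr (congrArg EA.val e)))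
      intro x hx
      rcases h.ln.mem_li.1 hx with rfl | rfl | rfl | rfl
      · simp
      · exact h7
      · exact h8
      · have e : r * (a * v₁) * r⁻¹ = (r * a * r⁻¹) * (r * v₁ * r⁻¹) := by group
        rw [e]; exact mul_mem h8 h7
    intro r hr
    rw [mem_normalizer_iff]
    intro x
    refine ⟨key r hr x, fun hx => ?_⟩
    have h1 := key r⁻¹ (inv_mem hr) _ hx
    have e : r⁻¹ * (r * x * r⁻¹) * r⁻¹⁻¹ = x := by group
    rwa [e] at h1

end Sd

end Cfsg.Agent.Omega.NOThreeL.RRed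

end

-- merged: Cfsg.Agent.Mrg.Omega.NOThreeL.RRed.L3
section

/-!
# NO-3L, box R, the smallest shape: L3 of #21468 (`C_M(v₂)` permutes the points of the line `⟨v₁, a⟩`)
-/

set_option autoImplicit false
set_option linter.unusedSectionVars false

namespace Cfsg.Agent.Omega.NOThreeL.RRed

open Subgroup Cfsg Cfsg.Agent.Omega.MinPar
open Cfsg.Agent.ZN (zc zl o2)
open Cfsg.Agent.Omega.NOThreeL.Merge (MZ)
open Cfsg.Agent.MinSimple.VModule (mem_zc zc_le zc_le_zl le_normalizer_zl zc_comm zc_sq)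

universe u

variable {G : Type u} [Group G] [Finite G] {S : Sylow 2 G}

/-- `Ω₁(Z(S)) = {1, z, c, z c}` -/
theorem Ln.zS_of {P : Subgroup G} {z u c : G} (h : Ln (S : Subgroup G) P z u c)
    (h4 : Nat.card (zc (S : Subgroup G)) = 4) {x : G} :
    x ∈ zc (S : Subgroup G) ↔ x = 1 ∨ x = z ∨ x = c ∨ x = z * c := by
  have hzc : z * c ∈ zc (S : Subgroup G) := mul_mem h.zS h.cS
  have hne1 : z * c ≠ 1 := fun e => h.ne (by
    have h1 : z * c = c * c := by rw [e, h.cc]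
    exact mul_right_cancel h1)
  have hne2 : z * c ≠ z := fun e => h.c1 (by simpa using e)
  have hne3 : z * c ≠ c := fun e => h.z1 (by simpa using e)
  have hsub : ({1, z, c, z * c} : Set G) ⊆ (zc (S : Subgroup G) : Set G) := by
    rintro y (rfl | rfl | rfl | rfl)
    · exact one_mem _
    · exact h.zS
    · exact h.cS
    · exact hzc
  have hcard : ({1, z, c, z * c} : Set G).ncard = 4 := by
    rw [Set.ncard_insert_of_notMem (by simp [h.z1.symm, h.c1.symm, hne1.symm]) (Set.toFinite _),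
      Set.ncard_insert_of_notMem (by simp [h.ne, hne2.symm]) (Set.toFinite _),
      Set.ncard_pair hne3.symm]
  have h1 : ({1, z, c, z * c} : Set G) = (zc (S : Subgroup G) : Set G) := by
    refine Set.eq_of_subset_of_ncard_le hsub ?_ (Set.toFinite _)
    rw [hcard]
    exact le_of_eq h4
  rw [← SetLike.mem_coe, ← h1]
  rfl

namespace Sd

variable {P₀ : Subgroup G} {v₁ v₂ a t : G} (h : Sd S P₀ v₁ v₂ a t)
include h

theorem isLoc : IsLoc (S : Subgroup G) (MZ (S : Subgroup G)) := Merge.isLoc_MZ h.sm.ctx h.sm.full h.sm.data.noff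

theorem zl_zc : zl (S : Subgroup G) (MZ (S : Subgroup G)) ≤ zc (o2 (MZ (S : Subgroup G))) :=
  h.isLoc.zl_le S h.sm.ctx.char2

theorem zl_S : zl (S : Subgroup G) (MZ (S : Subgroup G)) ≤ (S : Subgroup G) :=
  (h.zl_zc.trans (zc_le _)).trans (h.isLoc.o2_le S)

/-- the input of `LThree` -/
theorem inThree : LThree.In (S : Subgroup G) (MZ (S : Subgroup G)) (zl (S : Subgroup G) (MZ (S : Subgroup G))) t v₁ a v₂ where
  SM := h.isLoc.le
  S2 := S.isPGroup'
  Si := MinSimple.Basic.not_dvd_relIndex S h.isLoc.le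
  Wab x hx y hy := zc_comm _ _ (h.zl_zc hx) _ (h.zl_zc hy)
  Wsq x hx := by rw [← pow_two]; exact zc_sq _ _ (h.zl_zc hx)
  MW g hg w hw := (mem_normalizer_iff.1 (le_normalizer_zl _ _ hg) w).1 hw
  v1W := zc_le_zl _ _ h.ln.zS
  fix x hx hs := by
    rw [← h.ln.zS_of h.sm.z4]
    exact mem_zc.2 ⟨h.zl_S hx, hs, zc_sq _ _ (h.zl_zc hx)⟩
  v1 := h.ln.z1
  s1 s hs := h.ln.zs hs
  s2 s hs := h.ln.cs hs
  tS := h.tS
  tW := h.tv
  ta e := by
    rw [h.ta] at e
    exact h.ln.z1 (by simpa using e)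
  a_mem := by
    obtain ⟨p, hp, e⟩ := h.ln.tr
    refine ⟨p, Merge.le_MZ h.par hp, ?_, e.symm⟩
    have := h.ln.cP p hp
    exact mul_inv_eq_iff_eq_mul.1 this
  sa s hs := by
    rw [← h.ln.uz]
    exact h.ln.us s hs
  T1 x hx hT := by
    rcases h.uni x hx hT with h1 | h1
    · left
      intro w hw
      rw [← mem_centralizer_iff.1 h1 w hw]; group
    · right
      intro w hw
      have h2 := mem_centralizer_iff.1 h1 w hw
      calc x * w * x⁻¹ = x * (w * (x⁻¹ * t)) * t⁻¹ := by group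
        _ = x * ((x⁻¹ * t) * w) * t⁻¹ := by rw [h2]
        _ = t * w * t⁻¹ := by group

/-- **L3** -/
theorem l3 : ∀ g ∈ MZ (S : Subgroup G), g * v₂ * g⁻¹ = v₂ →
    g * v₁ * g⁻¹ = v₁ ∨ g * v₁ * g⁻¹ = a ∨ g * v₁ * g⁻¹ = a * v₁ := by
  intro g hg hg2
  rw [h.ln.uz]
  exact h.inThree.pts hg (mul_inv_eq_iff_eq_mul.1 hg2)

/-- `C_M(v₂)` normalises the line -/
theorem l3_norm {g : G} (hg : g ∈ MZ (S : Subgroup G)) (hg2 : g * v₂ * g⁻¹ = v₂) :
    g ∈ normalizer (li v₁ a : Set G) := by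
  refine h.inThree.le_norm (V := li v₁ a) (fun x => ?_) ⟨hg, ?_⟩
  · rw [h.ln.mem_li, h.ln.uz]
  · exact mem_centralizer_singleton_iff.2 (mul_inv_eq_iff_eq_mul.1 hg2)

end Sd

end Cfsg.Agent.Omega.NOThreeL.RRed

end

-- merged: Cfsg.Agent.Mrg.Omega.NOThreeL.RRed.L7
section

section


/-!
# NO-3L, box R, smallest shape: L7 of #21468 (the second line)

* `noOverM_of_opt` : an exact optimal offender on `V` excludes over-offenders;
* `EE S t` : the elements of `V*` centralised by all `t^m`, `m ∈ MZ S`; `EE ∩ Z = ⟨v₂⟩`;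
* `Sd.l7_of` : `⟨v₂^(Y_2)⟩` is a four-group normalised by all of `P*(S)`.
-/

set_option autoImplicit false
set_option linter.unusedSectionVars false

namespace Cfsg.Agent.Omega.NOThreeL.RRed

open Subgroup Cfsg Cfsg.Agent.ZN Cfsg.Agent.Omega.MinPar Cfsg.Agent.Omega.Frame Cfsg.Agent.Omega.FrameNOFF
open Cfsg.Agent.Omega.Node.NO3L Cfsg.Agent.Omega.NOThreeL.Basic Cfsg.Agent.Omega.NOThreeL.RTree
open Cfsg.Agent.Omega.NOThreeL.Merge (MZ)
open Cfsg.Agent.Omega.NOThreeL.ZCut (FZ YZ XZ VZ)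
open Cfsg.Agent.Omega.NOThreeL.Star (Opt Ok ff)
open Cfsg.Agent.Omega.NO3b.Bang (bang)
open Cfsg.Agent.Omega.FFThm (ElemM OffM NoOverM)

universe u

variable {G : Type u} [Group G]

/-- An exact optimal offender on `V` excludes over-offenders. -/
theorem noOverM_of_opt [Finite G] {V A C : Subgroup G} (hC : C ≤ normalizer (V : Set G)) (h : Opt V A)
    (he : (centralizer (A : Set G)).relIndex V = (centralizer (V : Set G)).relIndex A) : NoOverM V C := by
  intro B hB hE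
  obtain ⟨B', hB', h2, hc⟩ := VF.exists_two (hB.trans hC) hE
  have h1 : VF.fM V B' = VF.fM V B := VF.fM_congr hB' hc
  rw [← VF.fM_le_iff, ← h1]
  have h3 : ff V B' ≤ ff V A := h.max B' ⟨VF.elemM_mono hE hB', h2, hB'.trans (hB.trans hC)⟩
  have h4 : ff V A = Nat.card V := by
    unfold ff
    rw [← he]
    exact Star.rel_mul_card V (centralizer (A : Set G))
  exact h3.trans h4.le

/-- The elements of `V*` centralised by all `t^m`. -/
def EE (S : Subgroup G) (t : G) : Subgroup G :=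
  zl S (MZ S) ⊓ centralizer {x | ∃ m ∈ MZ S, x = m * t * m⁻¹}

theorem mem_EE {S : Subgroup G} {t w : G} :
    w ∈ EE S t ↔ w ∈ zl S (MZ S) ∧ ∀ m ∈ MZ S, m * t * m⁻¹ * w = w * (m * t * m⁻¹) := by
  unfold EE
  rw [mem_inf, mem_centralizer_iff]
  constructor
  · rintro ⟨h1, h2⟩
    exact ⟨h1, fun m hm => h2 _ ⟨m, hm, rfl⟩⟩
  · rintro ⟨h1, h2⟩
    refine ⟨h1, ?_⟩
    rintro _ ⟨m, hm, rfl⟩
    exact h2 m hm

theorem conj_mem_EE {S : Subgroup G} {t w g : G} (hg : g ∈ MZ S) (hw : w ∈ EE S t) :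
    g * w * g⁻¹ ∈ EE S t := by
  rw [mem_EE] at hw ⊢
  refine ⟨(mem_normalizer_iff.1 (MinSimple.VModule.le_normalizer_zl S (MZ S) hg) w).1 hw.1, fun m hm => ?_⟩
  have h1 := hw.2 (g⁻¹ * m) (mul_mem (inv_mem hg) hm)
  calc m * t * m⁻¹ * (g * w * g⁻¹) = g * (g⁻¹ * m * t * (g⁻¹ * m)⁻¹ * w) * g⁻¹ := by group
    _ = g * w * g⁻¹ * (m * t * m⁻¹) := by rw [h1]; group

namespace Sd

variable [Finite G] {S : Sylow 2 G} {P₀ : Subgroup G} {v₁ v₂ a t : G} (h : Sd S P₀ v₁ v₂ a t)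

theorem par_le_MZ {S P : Subgroup G} (hP : IsParS S P) : P ≤ MZ S := by
  unfold MZ
  exact le_sSup hP

theorem YZ_le_MZ (S : Subgroup G) (z : G) : YZ S z ≤ MZ S := by
  unfold YZ
  exact sSup_le fun P hP => par_le_MZ hP.1

include h

theorem l7_zc {x : G} (hx : x ∈ zc (S : Subgroup G)) : x = 1 ∨ x = v₁ ∨ x = v₂ ∨ x = v₁ * v₂ := by
  have n1 : v₁ * v₂ ≠ 1 := fun e => h.ln.ne (by
    rw [mul_eq_one_iff_eq_inv.1 e]; exact inv_eq_of_mul_eq_one_left h.ln.cc)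
  have hsub : ({1, v₁, v₂, v₁ * v₂} : Set G) ⊆ (zc (S : Subgroup G) : Set G) := by
    rintro y (rfl | rfl | rfl | rfl)
    · exact one_mem _
    · exact h.ln.zS
    · exact h.ln.cS
    · exact mul_mem h.ln.zS h.ln.cS
  have hcard : ({1, v₁, v₂, v₁ * v₂} : Set G).ncard = 4 := by
    have n2 : v₁ ≠ v₁ * v₂ := fun e => h.ln.c1 (by simpa using e.symm)
    have n3 : v₂ ≠ v₁ * v₂ := fun e => h.ln.z1 (by simpa using e.symm)
    rw [Set.ncard_insert_of_notMem, Set.ncard_insert_of_notMem, Set.ncard_pair n3]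
    · rintro (e | e)
      · exact h.ln.ne e
      · exact n2 e
    · rintro (e | e | e)
      · exact h.ln.z1 e.symm
      · exact h.ln.c1 e.symm
      · exact n1 e.symm
  have h4 : (zc (S : Subgroup G) : Set G).ncard = 4 := h.sm.z4
  have e := Set.eq_of_subset_of_ncard_le hsub (by rw [hcard, h4])
  have hx' : x ∈ (zc (S : Subgroup G) : Set G) := hx
  rw [← e] at hx'
  exact hx'

theorem l7_le_norm (hnrm : ∀ R, IsParS (S : Subgroup G) R → R ≤ normalizer (li v₁ a : Set G)) :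
    MZ (S : Subgroup G) ≤ normalizer (li v₁ a : Set G) := by
  unfold MZ
  exact sSup_le fun R hR => hnrm R hR

/-- `v₂ ∈ EE` -/
theorem v₂_mem_EE (hnrm : ∀ R, IsParS (S : Subgroup G) R → R ≤ normalizer (li v₁ a : Set G)) :
    v₂ ∈ EE (S : Subgroup G) t := by
  rw [mem_EE]
  have hvW : v₂ ∈ zl (S : Subgroup G) (MZ (S : Subgroup G)) := MinSimple.VModule.zc_le_zl _ _ h.ln.cS
  refine ⟨hvW, fun m hm => ?_⟩
  have h1 : m * v₁ * m⁻¹ ∈ li v₁ a := (mem_normalizer_iff.1 (h.l7_le_norm hnrm hm) v₁).1 h.ln.z_mem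
  have h2 : m * v₁ * m⁻¹ ≠ 1 := fun e => h.ln.z1 (conj_eq_one_iff.1 e)
  obtain ⟨p, hp, hpe⟩ := h.ln.tr_all h.par.le ((h.ln.mem_li.1 h1).resolve_left h2)
  have hpM : p ∈ MZ (S : Subgroup G) := par_le_MZ h.par hp
  have htM : t ∈ MZ (S : Subgroup G) := par_le_MZ h.par (h.par.le h.tS)
  set x := (p⁻¹ * m) * t * (p⁻¹ * m)⁻¹ with hx
  have hqM : p⁻¹ * m ∈ MZ (S : Subgroup G) := mul_mem (inv_mem hpM) hm
  have hxM : x ∈ MZ (S : Subgroup G) := mul_mem (mul_mem hqM htM) (inv_mem hqM)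
  have hxt : Tv (zl (S : Subgroup G) (MZ (S : Subgroup G))) v₁ x := by
    intro w hw
    have hw' : (p⁻¹ * m)⁻¹ * w * (p⁻¹ * m) ∈ zl (S : Subgroup G) (MZ (S : Subgroup G)) := by
      exact (mem_normalizer_iff''.1 (MinSimple.VModule.le_normalizer_zl (S : Subgroup G) (MZ (S : Subgroup G)) hqM) w).1 hw
    have e0 : x * w * x⁻¹ = (p⁻¹ * m) * (t * ((p⁻¹ * m)⁻¹ * w * (p⁻¹ * m)) * t⁻¹) * (p⁻¹ * m)⁻¹ := by
      rw [hx]; group
    rcases h.tv _ hw' with e | e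
    · left; rw [e0, e]; group
    · right
      rw [e0, e]
      calc p⁻¹ * m * ((p⁻¹ * m)⁻¹ * w * (p⁻¹ * m) * v₁) * (p⁻¹ * m)⁻¹
          = w * (p⁻¹ * (m * v₁ * m⁻¹) * p) := by group
        _ = w * (p⁻¹ * (p * v₁ * p⁻¹) * p) := by rw [hpe]
        _ = w * v₁ := by group
  have hts : t * v₂ = v₂ * t := h.ln.cs h.tS
  have hxv : x * v₂ = v₂ * x := by
    rcases h.uni x hxM hxt with e | e
    · exact (mem_centralizer_iff.1 e v₂ hvW).symm
    · have e1 := mem_centralizer_iff.1 e v₂ hvW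
      -- `v₂ x⁻¹ t = x⁻¹ t v₂ = x⁻¹ v₂ t`
      have e2 : v₂ * x⁻¹ * t = x⁻¹ * v₂ * t := by
        calc v₂ * x⁻¹ * t = v₂ * (x⁻¹ * t) := by group
          _ = x⁻¹ * (t * v₂) := by rw [e1]; group
          _ = x⁻¹ * v₂ * t := by rw [hts]; group
      have e3 := mul_right_cancel e2
      calc x * v₂ = x * (v₂ * x⁻¹) * x := by group
        _ = v₂ * x := by rw [e3]; group
  have hpv : p * v₂ * p⁻¹ = v₂ := h.ln.cP p hp
  have hpv' : p * v₂ = v₂ * p := by
    calc p * v₂ = (p * v₂ * p⁻¹) * p := by group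
      _ = v₂ * p := by rw [hpv]
  have e5 : m * t * m⁻¹ = p * x * p⁻¹ := by rw [hx]; group
  rw [e5]
  calc p * x * p⁻¹ * v₂ = p * x * p⁻¹ * (p * v₂ * p⁻¹) := by rw [hpv]
    _ = p * (x * v₂) * p⁻¹ := by group
    _ = (p * v₂) * x * p⁻¹ := by rw [hxv]; group
    _ = v₂ * (p * x * p⁻¹) := by rw [hpv']; group

/-- `t` moves `a` and `a v₁`. -/
theorem t_mv {x : G} (hx : x ∈ li v₁ a) (hx1 : x ≠ 1) (hxv : x ≠ v₁) : t * x * t⁻¹ ≠ x := by
  have htv : t * v₁ * t⁻¹ = v₁ := by rw [h.ln.zs h.tS]; group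
  rcases h.ln.mem_li.1 hx with e | e | e | e
  · exact absurd e hx1
  · exact absurd e hxv
  · rw [e, h.ta]
    intro e1
    exact h.ln.z1 (mul_eq_left.1 e1)
  · rw [e]
    intro e1
    have e2 : t * (a * v₁) * t⁻¹ = (t * a * t⁻¹) * (t * v₁ * t⁻¹) := by group
    rw [e2, h.ta, htv, mul_assoc, mul_right_inj] at e1
    exact h.ln.z1 (mul_eq_left.1 e1)

theorem v₁_notMem_EE : v₁ ∉ EE (S : Subgroup G) t := by
  intro hv
  obtain ⟨p, hp, hpe⟩ := h.ln.tr
  have h1 := (mem_EE.1 hv).2 p (par_le_MZ h.par hp)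
  have h2 : p⁻¹ * v₁ * p ∈ li v₁ a := by
    have := (mem_normalizer_iff''.1 (h.ln.le_normalizer_li h.par.le hp) v₁).1 h.ln.z_mem
    exact this
  have h3 : p⁻¹ * v₁ * p ≠ 1 := fun e => h.ln.z1 (by
    calc v₁ = p * (p⁻¹ * v₁ * p) * p⁻¹ := by group
      _ = 1 := by rw [e]; group)
  have h4 : p⁻¹ * v₁ * p ≠ v₁ := fun e => h.ln.uz_ne (by
    rw [← hpe]
    calc p * v₁ * p⁻¹ = p * (p⁻¹ * v₁ * p) * p⁻¹ := by rw [e]
      _ = v₁ := by group)
  apply h.t_mv h2 h3 h4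
  calc t * (p⁻¹ * v₁ * p) * t⁻¹ = p⁻¹ * (p * t * p⁻¹ * v₁) * (p * t⁻¹) := by group
    _ = p⁻¹ * v₁ * p := by rw [h1]; group

theorem EE_zc (hnrm : ∀ R, IsParS (S : Subgroup G) R → R ≤ normalizer (li v₁ a : Set G)) {x : G}
    (hx : x ∈ EE (S : Subgroup G) t) (hxz : x ∈ zc (S : Subgroup G)) : x = 1 ∨ x = v₂ := by
  have hv₂ := h.v₂_mem_EE hnrm
  rcases h.l7_zc hxz with e | e | e | e
  · exact Or.inl e
  · exact absurd (e ▸ hx) h.v₁_notMem_EE
  · exact Or.inr e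
  · exfalso
    apply h.v₁_notMem_EE
    have h1 := mul_mem hx hv₂
    rwa [e, mul_assoc, h.ln.cc, mul_one] at h1

theorem VZ_le_EE (hnrm : ∀ R, IsParS (S : Subgroup G) R → R ≤ normalizer (li v₁ a : Set G)) :
    VZ (S : Subgroup G) v₂ ≤ EE (S : Subgroup G) t := by
  unfold VZ
  exact ZCut.XZ_le fun p hp => conj_mem_EE (YZ_le_MZ _ _ hp) (h.v₂_mem_EE hnrm)

/-- a member of `P*(S)` which moves `v₂`: its line contains `v₂`, it centralises `v₁`. -/
theorem l7_line (hcen : ∀ R, IsParS (S : Subgroup G) R →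
      R ≤ centralizer ({v₁} : Set G) ∨ R ≤ centralizer ({v₂} : Set G))
    (hnrm : ∀ R, IsParS (S : Subgroup G) R → R ≤ normalizer (li v₁ a : Set G))
    (line : ∀ R, IsParS (S : Subgroup G) R → ∃ z u c, Ln (S : Subgroup G) R z u c)
    {P : Subgroup G} (hP : P ∈ FZ (S : Subgroup G) v₂) : ∃ b, Ln (S : Subgroup G) P v₂ b v₁ := by
  have hP1 : P ≤ centralizer ({v₁} : Set G) := (hcen P hP.1).resolve_right hP.2
  obtain ⟨z, u, c, L⟩ := line P hP.1
  have hPc : P ≤ centralizer ({c} : Set G) := L.PC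
  have hc : c = v₁ := by
    rcases h.l7_zc L.cS with e | e | e | e
    · exact absurd e L.c1
    · exact e
    · exact absurd (e ▸ hPc) hP.2
    · exfalso
      apply hP.2
      intro p hp
      have e1 := mem_centralizer_singleton_iff.1 (hPc hp)
      have e2 := mem_centralizer_singleton_iff.1 (hP1 hp)
      rw [mem_centralizer_singleton_iff]
      rw [e] at e1
      have e3 : v₁ * (p * v₂) = v₁ * (v₂ * p) := by
        calc v₁ * (p * v₂) = (v₁ * p) * v₂ := by group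
          _ = p * (v₁ * v₂) := by rw [← e2]; group
          _ = v₁ * (v₂ * p) := by rw [e1]; group
      exact mul_left_cancel e3
  have hz : z = v₂ := by
    rcases h.l7_zc L.zS with e | e | e | e
    · exact absurd e L.z1
    · exact absurd (e.trans hc.symm) L.ne
    · exact e
    · exfalso
      -- `z = v₁ v₂` would be in `EE`
      have key : ∀ x, (x = u ∨ x = u * z) → x * v₁ ∈ EE (S : Subgroup G) t := by
        intro x hx
        obtain ⟨p, hp, hpx⟩ := L.tr_all hP.1.le (x := x) (Or.inr hx)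
        have e1 : p * v₂ * p⁻¹ = x * v₁ := by
          have e2 : p * v₁ * p⁻¹ = v₁ := by
            rw [mem_centralizer_singleton_iff.1 (hP1 hp)]; group
          have e3 : v₂ = z * v₁ := by
            rw [e, h.ln.zs h.ln.c_S |>.symm, mul_assoc, h.ln.zz, mul_one]
          calc p * v₂ * p⁻¹ = (p * z * p⁻¹) * (p * v₁ * p⁻¹) := by rw [e3]; group
            _ = x * v₁ := by rw [hpx, e2]
        rw [← e1]
        exact conj_mem_EE (par_le_MZ hP.1 hp) (h.v₂_mem_EE hnrm)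
      have h1 := key u (Or.inl rfl)
      have h2 := key (u * z) (Or.inr rfl)
      have hzE : z ∈ EE (S : Subgroup G) t := by
        have h3 := mul_mem h1 h2
        have ev : v₁ * u = u * v₁ := by
          have hu : u ∈ (S : Subgroup G) :=
            hP.1.isLoc.o2_le S (MinSimple.VModule.zc_le _ (hP.1.isLoc.zl_le S h.sm.ctx.char2 L.uV))
          exact ((MinSimple.VModule.mem_zc.1 h.ln.zS).2.1 u hu).symm
        have e4 : u * v₁ * (u * z * v₁) = z := by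
          calc u * v₁ * (u * z * v₁) = u * (v₁ * u) * z * v₁ := by group
            _ = (u * u) * v₁ * z * v₁ := by rw [ev]; group
            _ = v₁ * (z * v₁) := by rw [L.uu]; group
            _ = v₁ * (v₁ * z) := by rw [(MinSimple.VModule.mem_zc.1 L.zS).2.1 v₁ h.ln.z_S]
            _ = z := by rw [← mul_assoc, h.ln.zz, one_mul]
        rwa [e4] at h3
      rcases h.EE_zc hnrm hzE L.zS with e1 | e1
      · exact L.z1 e1
      · rw [e] at e1
        exact h.ln.z1 (mul_eq_right.1 e1)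
  subst hc; subst hz
  exact ⟨u, L⟩

/-- **L7 of #21468** (with L0 as a hypothesis): the second line. -/
theorem l7_of (hcen : ∀ R, IsParS (S : Subgroup G) R →
      R ≤ centralizer ({v₁} : Set G) ∨ R ≤ centralizer ({v₂} : Set G))
    (hnrm : ∀ R, IsParS (S : Subgroup G) R → R ≤ normalizer (li v₁ a : Set G))
    (line : ∀ R, IsParS (S : Subgroup G) R → ∃ z u c, Ln (S : Subgroup G) R z u c)
    (hSY : (S : Subgroup G) ≤ YZ (S : Subgroup G) v₂)
    (hnn : ¬ NO3b.Bang.NN (S : Subgroup G) (VZ (S : Subgroup G) v₂)) :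
    ∃ P₂ b, IsParS (S : Subgroup G) P₂ ∧ Ln (S : Subgroup G) P₂ v₂ b v₁ ∧
      ∀ R, IsParS (S : Subgroup G) R → R ≤ normalizer (li v₂ b : Set G) := by
  have hc := h.sm.ctx.char2
  have hm := h.sm.data.noff
  have hz := h.ln.cS
  obtain ⟨P₂, hP₂, A, hAS, hopt, -, hoff, -, -, hAc, hV, hrel⟩ :=
    ZCut.exists_exact hc hm hz FFBr.aStmt hSY hnn
  obtain ⟨b, L⟩ := h.l7_line hcen hnrm line hP₂
  have hXZ : XZ v₂ P₂ = li v₂ b := by
    apply le_antisymm
    · exact ZCut.XZ_le fun p hp => L.mem_li.2 (Or.inr (L.orb p hp))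
    · unfold li
      rw [closure_le]
      rintro x (rfl | hx)
      · exact ZCut.mem_XZ
      · rw [Set.mem_singleton_iff] at hx
        obtain ⟨p, hp, e⟩ := L.tr
        rw [hx, ← e]
        exact ZCut.conj_mem_XZ hp
  have hcomm := ZCut.VZ_comm (S := S) hc hm hz
  have hsq := ZCut.VZ_sq (S := S) hc hm hz
  have hYV : YZ (S : Subgroup G) v₂ ≤ normalizer (VZ (S : Subgroup G) v₂ : Set G) := ZCut.le_normalizer_XZ _ _
  have hXV : XZ v₂ P₂ ≤ VZ (S : Subgroup G) v₂ := ZCut.XZ_mono (ZCut.le_YZ hP₂)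
  have hbV : b ∈ VZ (S : Subgroup G) v₂ := hXV (hXZ ▸ L.u_mem)
  have hvV : v₂ ∈ VZ (S : Subgroup G) v₂ := ZCut.mem_XZ
  have habel : ∀ x ∈ VZ (S : Subgroup G) v₂, ∀ y ∈ VZ (S : Subgroup G) v₂, x * y = y * x :=
    fun x hx y hy => mem_centralizer_iff.1 (hcomm hy) x hx
  -- the transvection `t₂`
  obtain ⟨t₂, ht₂, hmv⟩ : ∃ t₂ ∈ A, t₂ * b * t₂⁻¹ ≠ b := by
    by_contra hcon
    push Not at hcon
    apply hoff.ne
    rw [hXZ]
    intro x hx
    rw [mem_centralizer_iff]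
    intro y hy
    have e1 : x * v₂ = v₂ * x := L.zs (hAS hx)
    have e2 : x * b = b * x := by
      calc x * b = (x * b * x⁻¹) * x := by group
        _ = b * x := by rw [hcon x hx]
    rcases L.mem_li.1 hy with e | e | e | e
    · rw [e, one_mul, mul_one]
    · rw [e, e1]
    · rw [e, e2]
    · rw [e, mul_assoc, ← e1, ← mul_assoc, ← e2, mul_assoc]
  have ht₂S : t₂ ∈ (S : Subgroup G) := hAS ht₂
  have ht₂b : t₂ * b * t₂⁻¹ = b * v₂ := (L.us t₂ ht₂S).resolve_left hmv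
  have htv₂ : t₂ * v₂ * t₂⁻¹ = v₂ := by rw [L.zs ht₂S]; group
  have htv : ∀ w ∈ VZ (S : Subgroup G) v₂, t₂ * w * t₂⁻¹ = w ∨ t₂ * w * t₂⁻¹ = w * v₂ := by
    let K : Subgroup G :=
      { carrier := {w | w ∈ VZ (S : Subgroup G) v₂ ∧ (t₂ * w * t₂⁻¹ = w ∨ t₂ * w * t₂⁻¹ = w * v₂)}
        one_mem' := ⟨one_mem _, Or.inl (by group)⟩
        mul_mem' := by
          rintro x y ⟨hx, hx'⟩ ⟨hy, hy'⟩
          refine ⟨mul_mem hx hy, ?_⟩
          have e0 : t₂ * (x * y) * t₂⁻¹ = (t₂ * x * t₂⁻¹) * (t₂ * y * t₂⁻¹) := by group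
          have e1 : v₂ * y = y * v₂ := habel _ hvV _ hy
          rcases hx' with e | e <;> rcases hy' with e' | e'
          · left; rw [e0, e, e']
          · right; rw [e0, e, e', mul_assoc]
          · right; rw [e0, e, e', mul_assoc, e1, mul_assoc]
          · left
            rw [e0, e, e']
            calc x * v₂ * (y * v₂) = x * (v₂ * y) * v₂ := by group
              _ = x * y * (v₂ * v₂) := by rw [e1]; group
              _ = x * y := by rw [L.zz, mul_one]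
        inv_mem' := by
          rintro x ⟨hx, hx'⟩
          have e1 : x⁻¹ = x := inv_eq_of_mul_eq_one_left (by rw [← pow_two]; exact hsq x hx)
          change x⁻¹ ∈ _ ∧ _
          rw [e1]
          exact ⟨hx, hx'⟩ }
    have hK : VZ (S : Subgroup G) v₂ ≤ K := by
      rw [hV]
      refine sup_le ?_ ?_
      · intro x hx
        refine ⟨hXV hx, ?_⟩
        rw [hXZ] at hx
        rcases L.mem_li.1 hx with e | e | e | e
        · left; rw [e]; group
        · left; rw [e, htv₂]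
        · right; rw [e, ht₂b]
        · right
          rw [e]
          calc t₂ * (b * v₂) * t₂⁻¹ = (t₂ * b * t₂⁻¹) * (t₂ * v₂ * t₂⁻¹) := by group
            _ = b * v₂ * v₂ := by rw [ht₂b, htv₂]
      · intro x hx
        refine ⟨hx.1, Or.inl ?_⟩
        have := mem_centralizer_iff.1 hx.2 t₂ ht₂
        rw [this]; group
    exact fun w hw => (hK hw).2
  obtain ⟨p, hp, hpb⟩ := L.tr
  have hpY : p ∈ YZ (S : Subgroup G) v₂ := ZCut.le_YZ hP₂ hp
  have D : TOne.Dat (YZ (S : Subgroup G) v₂) (VZ (S : Subgroup G) v₂) v₂ b t₂ p :=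
    { comm := habel
      sq := fun w hw => by rw [← pow_two]; exact hsq w hw
      nor := fun c hc' w hw => (mem_normalizer_iff.1 (hYV hc') w).1 hw
      no := noOverM_of_opt hYV hopt hrel
      mr := hvV
      mu := hbV
      ht := hSY ht₂S
      tv := htv
      tu := ht₂b
      hp := hpY
      pr := hpb
      pr' := by
        have h1 := L.orb p⁻¹ (inv_mem hp)
        rw [inv_inv] at h1
        rcases h1 with e | e | e
        · exfalso
          apply L.uz_ne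
          rw [← hpb]
          calc p * v₂ * p⁻¹ = p * (p⁻¹ * v₂ * p) * p⁻¹ := by rw [e]
            _ = v₂ := by group
        · exact Or.inl e
        · exact Or.inr (by rw [e, L.uz])
      ru := fun e => L.uz_ne e.symm
      u1 := L.u1 }
  have I : LThree.In (S : Subgroup G) (YZ (S : Subgroup G) v₂) (VZ (S : Subgroup G) v₂) t₂ v₂ b 1 :=
    { SM := hSY
      S2 := S.isPGroup'
      Si := MinSimple.Basic.not_dvd_relIndex S hSY
      Wab := habel
      Wsq := D.sq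
      MW := D.nor
      v1W := hvV
      fix := by
        intro x hx hs
        have hxz : x ∈ zc (S : Subgroup G) :=
          MinSimple.VModule.mem_zc.2 ⟨ZCut.VZ_le hc hm hz hSY hx, hs, hsq x hx⟩
        rcases h.EE_zc hnrm (h.VZ_le_EE hnrm hx) hxz with e | e
        · exact Or.inl e
        · exact Or.inr (Or.inl e)
      v1 := h.ln.c1
      s1 := fun s hs => L.zs hs
      s2 := fun s _ => by group
      tS := ht₂S
      tW := htv
      ta := hmv
      a_mem := ⟨p, hpY, by group, hpb.symm⟩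
      sa := fun s hs => by
        rcases L.us s hs with e | e
        · exact Or.inl e
        · exact Or.inr (by rw [e, L.uz])
      T1 := fun x hx hxt => D.tone hx hxt }
  have hVle : VZ (S : Subgroup G) v₂ ≤ li v₂ b := by
    have h1 : VZ (S : Subgroup G) v₂ ≤ LThree.In.NN (YZ (S : Subgroup G) v₂) v₂ 1 := by
      refine ZCut.XZ_le fun q hq => ?_
      exact subset_closure ⟨q, LThree.In.mem_CC.2 ⟨hq, by group⟩, rfl⟩
    intro w hw
    rw [L.mem_li]
    rcases I.four w (h1 hw) with e | e | e | e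
    · exact Or.inl e
    · exact Or.inr (Or.inl e)
    · exact Or.inr (Or.inr (Or.inl e))
    · exact Or.inr (Or.inr (Or.inr (by rw [e, L.uz])))
  have hVeq : VZ (S : Subgroup G) v₂ = li v₂ b := le_antisymm hVle (hXZ ▸ hXV)
  rw [hVeq] at hYV
  refine ⟨P₂, b, hP₂.1, L, fun R hR => ?_⟩
  by_cases hRz : R ≤ centralizer ({v₂} : Set G)
  swap
  · exact (ZCut.le_YZ ⟨hR, hRz⟩).trans hYV
  -- `R` moves `v₁`
  have hRv : ∃ r ∈ R, r * v₁ * r⁻¹ ≠ v₁ := by
    by_contra hcon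
    push Not at hcon
    apply hR.not_zc
    refine le_trans ?_ (centralizer_le_normalizer _)
    intro r hr
    have e1 : r * v₁ = v₁ * r := by
      calc r * v₁ = (r * v₁ * r⁻¹) * r := by group
        _ = v₁ * r := by rw [hcon r hr]
    have e2 : r * v₂ = v₂ * r := mem_centralizer_singleton_iff.1 (hRz hr)
    rw [mem_centralizer_iff]
    intro x hx
    rcases h.l7_zc hx with e | e | e | e
    · rw [e, one_mul, mul_one]
    · rw [e, e1]
    · rw [e, e2]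
    · rw [e, mul_assoc, ← e2, ← mul_assoc, ← e1, mul_assoc]
  obtain ⟨r, hr, hrv⟩ := hRv
  have hxl : r * v₁ * r⁻¹ ∈ li v₁ a := (mem_normalizer_iff.1 (hnrm R hR hr) v₁).1 h.ln.z_mem
  have htR : t ∉ o2 R := by
    intro ht
    have h1 : r⁻¹ * t * r ∈ (S : Subgroup G) :=
      hR.isLoc.o2_le S ((mem_normalizer_iff''.1 (MinSimple.VModule.le_normalizer_o2 R hr) t).1 ht)
    have h2 := h.ln.zs h1
    refine h.t_mv hxl (fun e => h.ln.z1 (conj_eq_one_iff.1 e)) hrv ?_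
    calc t * (r * v₁ * r⁻¹) * t⁻¹ = r * (r⁻¹ * t * r * v₁) * (r⁻¹ * t⁻¹) := by group
      _ = r * v₁ * r⁻¹ := by rw [h2]; group
  have hSR : (S : Subgroup G) ≤ R := hR.le
  set N : Subgroup G := closure {y | ∃ r ∈ R, y = r * t * r⁻¹} with hN
  have hNR : N ≤ R := by
    rw [hN, closure_le]
    rintro _ ⟨q, hq, rfl⟩
    exact mul_mem (mul_mem hq (hSR h.tS)) (inv_mem hq)
  have key : ∀ g ∈ R, ∀ x ∈ N, g * x * g⁻¹ ∈ N := by
    intro g hg
    have h1 : N ≤ N.comap (MulAut.conj g).toMonoidHom := by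
      conv_lhs => rw [hN]
      rw [closure_le]
      rintro _ ⟨q, hq, rfl⟩
      change g * (q * t * q⁻¹) * g⁻¹ ∈ N
      exact subset_closure ⟨g * q, mul_mem hg hq, by group⟩
    exact fun x hx => h1 hx
  have hNn : R ≤ normalizer (N : Set G) := by
    intro g hg
    rw [mem_normalizer_iff]
    intro x
    refine ⟨key g hg x, fun hx => ?_⟩
    have h1 := key g⁻¹ (inv_mem hg) _ hx
    have e : g⁻¹ * (g * x * g⁻¹) * g⁻¹⁻¹ = x := by group
    rwa [e] at h1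
  have htN : t ∈ N := subset_closure ⟨1, one_mem _, by group⟩
  rcases hR.toIsPar.sup_eq_or_inf_le S hNR hNn with h1 | h1
  · rw [← h1]
    refine sup_le ?_ (hSY.trans hYV)
    refine le_trans ?_ (centralizer_le_normalizer _)
    rw [hN, closure_le]
    rintro _ ⟨q, hq, rfl⟩
    rw [SetLike.mem_coe, mem_centralizer_iff]
    intro w hw
    have hwE : w ∈ EE (S : Subgroup G) t := h.VZ_le_EE hnrm (by rw [hVeq]; exact hw)
    exact ((mem_EE.1 hwE).2 q (par_le_MZ hR hq)).symm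
  · exact absurd (h1 ⟨h.tS, htN⟩) htR

end Sd

end Cfsg.Agent.Omega.NOThreeL.RRed

end

section


/-!
# NO-3L, box R, smallest shape: `RR S = 1` in place of (RC')

* `Sd.par_eq` : a member `R` of `P*(S)` which centralises `v₂` is `C_R(EE S t) S`;
* `Sd.not_nn` : `RR S = 1` implies that `V^(v₂) = VZ S v₂` is not in `NN(S)`;
* `Sd.S_le_YZ` : `S ≤ YZ S v₂`;
* `Sd.l7_rr` : `Sd.l7_of` with these two.
-/

set_option autoImplicit false
set_option linter.unusedSectionVars false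

namespace Cfsg.Agent.Omega.NOThreeL.RRed

open Subgroup Cfsg Cfsg.Agent.ZN Cfsg.Agent.Omega.MinPar Cfsg.Agent.Omega.Frame Cfsg.Agent.Omega.FrameNOFF
open Cfsg.Agent.Omega.Node.NO3L Cfsg.Agent.Omega.NOThreeL.Basic Cfsg.Agent.Omega.NOThreeL.RTree
open Cfsg.Agent.Omega.NOThreeL.Merge (MZ)
open Cfsg.Agent.Omega.NOThreeL.ZCut (FZ YZ XZ VZ)
open Cfsg.Agent.Omega.NO3b.Bang (bang NN)
open Cfsg.Agent.ZN.ChoiceBase (cj cj_inf cj_centralizer cj_eq_of_mem_normalizer mem_normalizer_iff_cj mem_cj cj_mono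
  cj_cj_inv)
open scoped Pointwise

universe u

variable {G : Type u} [Group G] [Finite G] {S : Sylow 2 G} {P₀ : Subgroup G} {v₁ v₂ a t : G}

namespace Sd

variable (h : Sd S P₀ v₁ v₂ a t)
include h

theorem par_eq (hnrm : ∀ R, IsParS (S : Subgroup G) R → R ≤ normalizer (li v₁ a : Set G)) {R : Subgroup G}
    (hR : IsParS (S : Subgroup G) R) (h2 : R ≤ centralizer ({v₂} : Set G)) :
    R ⊓ centralizer (EE (S : Subgroup G) t : Set G) ⊔ (S : Subgroup G) = R := by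
  have hE : R ≤ normalizer (EE (S : Subgroup G) t : Set G) := by
    intro g hg
    rw [mem_normalizer_iff]
    intro w
    refine ⟨fun hw => conj_mem_EE (par_le_MZ hR hg) hw, fun hw => ?_⟩
    have h3 := conj_mem_EE (inv_mem (par_le_MZ hR hg)) hw
    have e : g⁻¹ * (g * w * g⁻¹) * g⁻¹⁻¹ = w := by group
    rwa [e] at h3
  have hn : R ≤ normalizer ((R ⊓ centralizer (EE (S : Subgroup G) t : Set G) : Subgroup G) : Set G) := by
    intro p hp
    rw [mem_normalizer_iff_cj, cj_inf, cj_centralizer, cj_eq_of_mem_normalizer (le_normalizer hp),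
      cj_eq_of_mem_normalizer (hE hp)]
  rcases hR.toIsPar.sup_eq_or_inf_le S inf_le_left hn with h1 | h1
  · exact h1
  exfalso
  -- `R` moves `v₁`
  have h3 : ¬ R ≤ centralizer ({v₁} : Set G) := by
    intro h3
    apply hR.not_zc
    refine le_trans ?_ (centralizer_le_normalizer _)
    intro r hr
    rw [mem_centralizer_iff]
    intro x hx
    have e1 := mem_centralizer_singleton_iff.1 (h3 hr)
    have e2 := mem_centralizer_singleton_iff.1 (h2 hr)
    rcases h.l7_zc hx with e | e | e | e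
    · rw [e, one_mul, mul_one]
    · rw [e, e1]
    · rw [e, e2]
    · rw [e, mul_assoc, ← e2, ← mul_assoc, ← e1, mul_assoc]
  obtain ⟨r, hr, hrv⟩ : ∃ r ∈ R, r * v₁ * r⁻¹ ≠ v₁ := by
    by_contra hcon
    push Not at hcon
    apply h3
    intro r hr
    rw [mem_centralizer_singleton_iff]
    calc r * v₁ = (r * v₁ * r⁻¹) * r := by group
      _ = v₁ * r := by rw [hcon r hr]
  have h4 : r * v₁ * r⁻¹ ∈ li v₁ a := (mem_normalizer_iff.1 (hnrm R hR hr) v₁).1 h.ln.z_mem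
  have h5 : r * v₁ * r⁻¹ ≠ 1 := fun e => h.ln.z1 (conj_eq_one_iff.1 e)
  apply h.t_mv h4 h5 hrv
  have htR : t ∈ R := hR.le h.tS
  have htE : t ∈ centralizer (EE (S : Subgroup G) t : Set G) := by
    rw [mem_centralizer_iff]
    intro w hw
    have h6 := (mem_EE.1 hw).2 1 (one_mem _)
    simpa using h6.symm
  have hto : t ∈ o2 R := h1 ⟨h.tS, htR, htE⟩
  have h7 : r⁻¹ * t * r ∈ (S : Subgroup G) :=
    hR.isLoc.o2_le S ((mem_normalizer_iff''.1 (MinSimple.VModule.le_normalizer_o2 R hr) t).1 hto)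
  have h8 := h.ln.zs h7
  calc t * (r * v₁ * r⁻¹) * t⁻¹ = r * ((r⁻¹ * t * r) * v₁) * (r⁻¹ * t⁻¹) := by group
    _ = r * (v₁ * (r⁻¹ * t * r)) * (r⁻¹ * t⁻¹) := by rw [h8]
    _ = r * v₁ * r⁻¹ := by group

omit h in
theorem cent_le_norm {v : G} : centralizer ({v} : Set G) ≤ normalizer ((zpowers v : Subgroup G) : Set G) := by
  refine le_trans ?_ (centralizer_le_normalizer _)
  intro g hg
  rw [mem_centralizer_iff] at hg ⊢
  intro x hx
  obtain ⟨k, rfl⟩ := mem_zpowers_iff.1 hx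
  have e : Commute v g := hg v rfl
  exact (e.zpow_left k).eq

/-- Some `R ∈ P*(S)` moves `v₂`. -/
theorem S_le_YZ : (S : Subgroup G) ≤ YZ (S : Subgroup G) v₂ := by
  by_contra hcon
  have hz := h.ln.cS
  have h1 : zpowers v₂ = ⊥ := by
    refine FrameNOFF.eq_bot_of_norm h.sm.ctx S h.sm.full (S.isPGroup'.to_le ?_) (fun P hP => ?_) ?_
    · rw [zpowers_le]; exact MinSimple.VModule.zc_le _ hz
    · refine le_trans ?_ cent_le_norm
      by_contra h2
      exact hcon (hP.le.trans (ZCut.le_YZ ⟨hP, h2⟩))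
    · exact (centralizer_le (Set.singleton_subset_iff.2 hz)).trans cent_le_norm
  exact h.ln.c1 (zpowers_eq_bot.1 h1)

/-- **`RR S = 1` in place of (RC').** -/
theorem not_nn (hr : RZ.RR (S : Subgroup G) = ⊥)
    (hnrm : ∀ R, IsParS (S : Subgroup G) R → R ≤ normalizer (li v₁ a : Set G)) :
    ¬ NN (S : Subgroup G) (VZ (S : Subgroup G) v₂) := by
  intro hN
  have hVE := h.VZ_le_EE hnrm
  have hys : Star.YS (S : Subgroup G) ≤ normalizer (VZ (S : Subgroup G) v₂ : Set G) := by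
    refine sSup_le fun R hR => ?_
    by_cases h2 : R ≤ centralizer ({v₂} : Set G)
    · rw [← h.par_eq hnrm hR h2]
      refine sup_le (inf_le_right.trans ?_) hN.norm
      exact (centralizer_le hVE).trans (centralizer_le_normalizer _)
    · exact (ZCut.le_YZ (show R ∈ FZ (S : Subgroup G) v₂ from ⟨hR, h2⟩)).trans (ZCut.le_normalizer_XZ _ _)
  have hI : RZ.Inv (S : Subgroup G) (VZ (S : Subgroup G) v₂) := by
    refine ⟨hN, hys, ZCut.XZ_le fun p hp => ?_⟩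
    have hp' : p ∈ Star.YS (S : Subgroup G) :=
      (sSup_le fun P hP => Star.le_YS hP.1 : YZ (S : Subgroup G) v₂ ≤ Star.YS (S : Subgroup G)) hp
    refine NoFF.Basic.Z_le_V hp' ?_
    rw [NoFF.Basic.mem_conj]
    have e : p⁻¹ * (p * v₂ * p⁻¹) * p = v₂ := by group
    rw [e]
    exact ⟨ZCut.mem_XZ, h.ln.cS⟩
  have h1 := hI.le_RR
  rw [hr] at h1
  exact h.ln.c1 (mem_bot.1 (h1 ZCut.mem_XZ))

/-- **L7** with `RR S = 1`. -/
theorem l7_rr (hcen : ∀ R, IsParS (S : Subgroup G) R →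
      R ≤ centralizer ({v₁} : Set G) ∨ R ≤ centralizer ({v₂} : Set G))
    (hnrm : ∀ R, IsParS (S : Subgroup G) R → R ≤ normalizer (li v₁ a : Set G))
    (line : ∀ R, IsParS (S : Subgroup G) R → ∃ z u c, Ln (S : Subgroup G) R z u c) :
    ∃ P₂ b, IsParS (S : Subgroup G) P₂ ∧ Ln (S : Subgroup G) P₂ v₂ b v₁ ∧
      ∀ R, IsParS (S : Subgroup G) R → R ≤ normalizer (li v₂ b : Set G) :=
  h.l7_of hcen hnrm line h.S_le_YZ (h.not_nn h.sm.rr hnrm)

end Sd

end Cfsg.Agent.Omega.NOThreeL.RRed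

end

end

-- merged: Cfsg.Agent.Mrg.Omega.NOThreeL.RRed.Glue
section

section


/-!
# NO-3L, box R: the smallest shape gives `Two S V P v` (#21468)

* `LineS` (L0), `SideS` (L1) : the K-free sockets (L2 - L7 are theorems);
* `exists_two_of` : they give `Two S V P v` for the smallest shape;
* `TCR K` : the frame of CARD #18791 with the hypotheses of box R (the card, `[A]`, `[B]`);
* the other shapes of (RC'): `RRank K` (`|Z| ≥ 8`, all `|Z : C_Z(P)| = 2`), `RFour K` (`|Z| = 4`, all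
  `|Z : C_Z(P)| = 2`, some `|V_P| ≠ 8`), `RWide K` (some `|Z : C_Z(P)| ≥ 4`);
* `rbc_of` : `LineS`, `SideS`, `TCR K`, `RRank K`, `RFour K`, `RWide K` imply `RTree.RBc K`.
-/

set_option autoImplicit false
set_option linter.unusedSectionVars false

namespace Cfsg.Agent.Omega.NOThreeL.RRed

open Subgroup Cfsg Cfsg.Agent.ZN Cfsg.Agent.Omega.MinPar Cfsg.Agent.Omega.Frame Cfsg.Agent.Omega.FrameNOFF
open Cfsg.Agent.Omega.Node.NO3L Cfsg.Agent.Omega.NOThreeL.Basic Cfsg.Agent.Omega.NOThreeL.RTree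
open Cfsg.Agent.Omega.NOThreeL.Merge (MZ)
open Cfsg.Agent.Omega.NOThreeL.ZCut (FZ)
open Cfsg.Agent.Omega.NO3b.Bang (bang)

universe u

variable {G : Type u} [Group G]

section sockets

/-- L0 -/
def LineS : Prop :=
  ∀ (G : Type u) [Group G] [Finite G] (S : Sylow 2 G), Sm S → ∀ P : Subgroup G, IsParS (S : Subgroup G) P →
    ∃ z u c, Ln (S : Subgroup G) P z u c

/-- L1 -/
def SideS : Prop :=
  ∀ (G : Type u) [Group G] [Finite G] (S : Sylow 2 G), Sm S → ∃ P₀ v₁ v₂ a t, Sd S P₀ v₁ v₂ a t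

variable (K : Cls.{u})

/-- The frame of CARD #18791 in box R. -/
def TCR : Prop :=
  ∀ (G : Type u) [Group G] [Finite G], K G → ∀ (S : Sylow 2 G), RB S → ∀ (V P : Fin 2 → Subgroup G)
    (v : Fin 2 → G), Two (S : Subgroup G) V P v → TC.Fr (S : Subgroup G) V P v → IsKnownSimple' G

/-- (RC') -/
def RC {G : Type u} [Group G] [Finite G] (S : Sylow 2 G) : Prop :=
  ∀ z ∈ zc (S : Subgroup G), z ≠ 1 →
    ∃ P ∈ FZ (S : Subgroup G) z, ¬ P ≤ normalizer (bang (S : Subgroup G) : Set G)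

/-- `|Z| = 2 |C_Z(P)|` for all `P ∈ P*(S)`. -/
def Thin (S : Subgroup G) : Prop :=
  ∀ P, IsParS S P → Nat.card (zc S) = 2 * Nat.card ↥(zc S ⊓ centralizer (P : Set G))

/-- (RC'), `|Z| ≥ 8`, all `|Z : C_Z(P)| = 2`. -/
def RRank : Prop :=
  ∀ (G : Type u) [Group G] [Finite G], K G → ∀ (S : Sylow 2 G), RB S → RC S → Thin (S : Subgroup G) →
    8 ≤ Nat.card (zc (S : Subgroup G)) → IsKnownSimple' G

/-- (RC'), `|Z| = 4`, all `|Z : C_Z(P)| = 2`, some `|V_P| ≠ 8`. -/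
def RFour : Prop :=
  ∀ (G : Type u) [Group G] [Finite G], K G → ∀ (S : Sylow 2 G), RB S → RC S → Thin (S : Subgroup G) →
    Nat.card (zc (S : Subgroup G)) = 4 →
      (∃ P, IsParS (S : Subgroup G) P ∧ Nat.card (zl (S : Subgroup G) P) ≠ 8) → IsKnownSimple' G

/-- (RC'), some `|Z : C_Z(P)| ≥ 4`. -/
def RWide : Prop :=
  ∀ (G : Type u) [Group G] [Finite G], K G → ∀ (S : Sylow 2 G), RB S → RC S →
    (∃ P, IsParS (S : Subgroup G) P ∧
      4 * Nat.card ↥(zc (S : Subgroup G) ⊓ centralizer (P : Set G)) ≤ Nat.card (zc (S : Subgroup G))) →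
      IsKnownSimple' G

end sockets

theorem exists_two_of (hL : LineS.{u}) (hS : SideS.{u}) {G : Type u} [Group G] [Finite G]
    {S : Sylow 2 G} (h : Sm S) : ∃ (V P : Fin 2 → Subgroup G) (v : Fin 2 → G), Two (S : Subgroup G) V P v := by
  obtain ⟨P₀, v₁, v₂, a, t, hd⟩ := hS G S h
  have hm := fun R (hR : IsParS (S : Subgroup G) R) => hd.main (hL G S h) hd.l3 hR
  obtain ⟨P₂, b, hP2, hl2, h8⟩ := hd.l7_rr (fun R hR => (hm R hR).1) (fun R hR => (hm R hR).2) (hL G S h)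
  have h2 : ∀ i : Fin 2, i = 0 ∨ i = 1 := by decide
  refine ⟨![li v₁ a, li v₂ b], ![P₀, P₂], ![v₁, v₂], ?_⟩
  exact
    { four := fun i => by
        rcases h2 i with rfl | rfl
        · exact hd.ln.card_li
        · exact hl2.card_li
      mem := fun i => by
        rcases h2 i with rfl | rfl
        · exact hd.ln.z_mem
        · exact hl2.z_mem
      ne := fun i => by
        rcases h2 i with rfl | rfl
        · exact hd.ln.z1
        · exact hl2.z1
      zS := h.zc_iff hd.ln.zS hd.ln.cS hd.ln.z1 hd.ln.c1 hd.ln.ne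
      par := fun i => by
        rcases h2 i with rfl | rfl
        · exact hd.par
        · exact hP2
      VP := fun i => by
        rcases h2 i with rfl | rfl
        · exact hd.ln.li_le (Cfsg.Agent.MinSimple.VModule.zc_le_zl _ _)
        · exact hl2.li_le (Cfsg.Agent.MinSimple.VModule.zc_le_zl _ _)
      PC := fun i j hij => by
        rcases h2 i with rfl | rfl <;> rcases h2 j with rfl | rfl
        · exact absurd rfl hij
        · exact hd.ln.PC
        · exact hl2.PC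
        · exact absurd rfl hij
      mv := fun i => by
        rcases h2 i with rfl | rfl
        · exact hd.ln.mvz
        · exact hl2.mvz
      tr := fun i x hx hx1 => by
        rcases h2 i with rfl | rfl
        · exact hd.ln.tr_all hd.par.le ((hd.ln.mem_li.1 hx).resolve_left hx1)
        · exact hl2.tr_all hP2.le ((hl2.mem_li.1 hx).resolve_left hx1)
      cen := fun R hR => (hm R hR).1
      nrm := fun R hR i => by
        rcases h2 i with rfl | rfl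
        · exact (hm R hR).2
        · exact h8 R hR }

/-- The three cases for the other shapes. -/
theorem thin_or [Finite G] {S : Sylow 2 G} : Thin (S : Subgroup G) ∨
    ∃ P, IsParS (S : Subgroup G) P ∧
      4 * Nat.card ↥(zc (S : Subgroup G) ⊓ centralizer (P : Set G)) ≤ Nat.card (zc (S : Subgroup G)) := by
  by_contra hcon
  push Not at hcon
  obtain ⟨h1, h2⟩ := hcon
  apply h1
  intro P hP
  set C := zc (S : Subgroup G) ⊓ centralizer (P : Set G) with hC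
  have hf : Fact (Nat.Prime 2) := ⟨Nat.prime_two⟩
  obtain ⟨n, hn⟩ := (IsPGroup.iff_card (p := 2)).1 (S.isPGroup'.to_le (zc_le (S : Subgroup G)))
  obtain ⟨m, hm⟩ := (IsPGroup.iff_card (p := 2)).1 (S.isPGroup'.to_le ((inf_le_left : C ≤ _).trans (zc_le (S : Subgroup G))))
  have hne : C ≠ zc (S : Subgroup G) := by
    intro e
    apply hP.not_zc
    have h3 : zc (S : Subgroup G) ≤ centralizer (P : Set G) := by rw [← e]; exact inf_le_right
    refine le_trans ?_ (centralizer_le_normalizer _)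
    intro p hp
    rw [mem_centralizer_iff]
    intro z hz
    exact (mem_centralizer_iff.1 (h3 hz) p hp).symm
  have hlt : Nat.card C < Nat.card (zc (S : Subgroup G)) := by
    refine lt_of_le_of_ne (Subgroup.card_le_of_le inf_le_left) fun e => hne ?_
    exact Subgroup.eq_of_le_of_card_ge inf_le_left e.ge
  have h3 := h2 P hP
  rw [hn, hm] at h3 hlt
  rw [hn, hm]
  have h4 : m < n := (Nat.pow_lt_pow_iff_right (by norm_num)).1 hlt
  have h5 : n < m + 2 := by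
    have : 2 ^ n < 2 ^ (m + 2) := by rw [pow_add]; omega
    exact (Nat.pow_lt_pow_iff_right (by norm_num)).1 this
  have h6 : n = m + 1 := by omega
  rw [h6, pow_succ]; ring

theorem four_le [Finite G] {S : Sylow 2 G} (B : RB S) : 4 ≤ Nat.card (zc (S : Subgroup G)) := by
  obtain ⟨P, hP, h1⟩ := B.ex
  have hf : Fact (Nat.Prime 2) := ⟨Nat.prime_two⟩
  set C := zc (S : Subgroup G) ⊓ centralizer (P : Set G) with hC
  obtain ⟨n, hn⟩ := (IsPGroup.iff_card (p := 2)).1 (S.isPGroup'.to_le (zc_le (S : Subgroup G)))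
  obtain ⟨m, hm⟩ := (IsPGroup.iff_card (p := 2)).1 (S.isPGroup'.to_le ((inf_le_left : C ≤ _).trans (zc_le (S : Subgroup G))))
  have hne : C ≠ zc (S : Subgroup G) := by
    intro e
    apply hP.not_zc
    have h3 : zc (S : Subgroup G) ≤ centralizer (P : Set G) := by rw [← e]; exact inf_le_right
    refine le_trans ?_ (centralizer_le_normalizer _)
    intro p hp
    rw [mem_centralizer_iff]
    intro z hz
    exact (mem_centralizer_iff.1 (h3 hz) p hp).symm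
  have hlt : Nat.card C < Nat.card (zc (S : Subgroup G)) := by
    refine lt_of_le_of_ne (Subgroup.card_le_of_le inf_le_left) fun e => hne ?_
    exact Subgroup.eq_of_le_of_card_ge inf_le_left e.ge
  have h1' : Nat.card C ≠ 1 := fun e => h1 (Subgroup.card_eq_one.1 e)
  rw [hn, hm] at hlt
  rw [hm] at h1'
  rw [hn]
  have h4 : m < n := (Nat.pow_lt_pow_iff_right (by norm_num)).1 hlt
  have h5 : m ≠ 0 := by rintro rfl; exact h1' rfl
  calc 4 = 2 ^ 2 := by norm_num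
    _ ≤ 2 ^ n := Nat.pow_le_pow_right (by norm_num) (by omega)

/-- **(RC') from its leaves.** -/
theorem rbc_of {K : Cls.{u}} (hL : LineS.{u}) (hS : SideS.{u}) (hT : TCR K) (h8 : RRank K) (h4 : RFour K)
    (hW : RWide K) : RBc K := by
  intro G _ _ hK S B hrc
  rcases thin_or (S := S) with ht | hw
  · by_cases hz : Nat.card (zc (S : Subgroup G)) = 4
    · by_cases h : ∀ P, IsParS (S : Subgroup G) P → Nat.card (zl (S : Subgroup G) P) = 8
      · have hs : Sm S := { toRB := B, rr := RZ.eq_bot_of_rc hrc, z4 := hz, v8 := h }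
        obtain ⟨V, P, v, T⟩ := exists_two_of hL hS hs
        exact hT G hK S B V P v T (T.fr B)
      · push Not at h
        exact h4 G hK S B hrc ht hz h
    · refine h8 G hK S B hrc ht ?_
      have h1 := four_le B
      have hf : Fact (Nat.Prime 2) := ⟨Nat.prime_two⟩
      obtain ⟨n, hn⟩ := (IsPGroup.iff_card (p := 2)).1 (S.isPGroup'.to_le (zc_le (S : Subgroup G)))
      rw [hn] at h1 hz ⊢
      have h2 : 2 ≤ n := by
        by_contra hcon
        have : 2 ^ n ≤ 2 ^ 1 := Nat.pow_le_pow_right (by norm_num) (by omega)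
        omega
      have h3 : n ≠ 2 := by rintro rfl; exact hz (by norm_num)
      calc 8 = 2 ^ 3 := by norm_num
        _ ≤ 2 ^ n := Nat.pow_le_pow_right (by norm_num) (by omega)
  · exact hW G hK S B hrc hw

end Cfsg.Agent.Omega.NOThreeL.RRed

end

section


/-!
# NO-3L, box R: the tree with THEOREM SIGMA on top (#22781, #23593)

`Z = Ω₁(Z(S))`, `C_Z(P) = Z ∩ C(P)` for `P ∈ P*(S)`.

* `L1 S` : `C_Z(P) = 1` for some `P ∈ P*(S)`;
* `L2 S` : `⟨C_G(C_Z(P)), C_G(C_Z(P'))⟩` is nonlocal for some `P, P' ∈ P*(S)`;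
* `not_l1`, `not_l2` : `Thin S` implies `¬ L1 S` if `|Z| ≥ 4` and `¬ L2 S` if `|Z| ≥ 8`;
* sockets over a frame `B S` (`B = RB` or `RBF`):
  - `SigOf` : THEOREM SIGMA: `¬ L1 S`, `¬ L2 S`;
  - `SmOf` : the smallest shape `|Z| = 4`, all `|V_P| = 8` (so `L2 S`);
  - `FourOf` : `|Z| = 4`, all `|Z : C_Z(P)| = 2`, some `|V_P| ≠ 8`, `L2 S`;
  - `WideOf` : some `|Z : C_Z(P)| ≥ 4`, and `L1 S` or `L2 S`;
  - `BrOf` : `RR S ≠ 1`, and `L1 S` or `L2 S`;
* `bn_of`, `br_of` : they imply the sockets `RR S = 1`, `RR S ≠ 1`;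
* `rbn_sig`, `rbr_sig`, `rbc_sig`, `rbz_sig`, `rg_sig` : the tree of `RTree` (`B = RB`);
* `rbzF_sig`, `rbcF_sig`, `rgF_sig` : the tree of `RTreeF` (`B = RBF`);
* `smOf_of` : `SmOf` from `LineS`, `SideS`, `TCR`;
* `rbc_of_sm`, `rsm_of` : `RTree.RBc` from the smallest shape.
-/

set_option autoImplicit false
set_option linter.unusedSectionVars false

namespace Cfsg.Agent.Omega.NOThreeL.RRed.GlueSig

open Subgroup Cfsg Cfsg.Agent.ZN Cfsg.Agent.Omega.MinPar Cfsg.Agent.Omega.Frame Cfsg.Agent.Omega.FrameNOFF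
open Cfsg.Agent.Omega.Node.NO3L Cfsg.Agent.Omega.NOThreeL.Basic Cfsg.Agent.Omega.NOThreeL.RTree
open Cfsg.Agent.Omega.NOThreeL.RTreeF
open Cfsg.Agent.Omega.NOThreeL.Merge (MZ)
open Cfsg.Agent.Omega.NOThreeL.ZCut (FZ)
open Cfsg.Agent.Omega.NO3b.Bang (bang)
open Cfsg.Agent.Omega.NOThreeL.RZ (RR)

universe u

section defs

variable {G : Type u} [Group G]

/-- (L1): `C_Z(P) = 1` for some `P ∈ P*(S)`. -/
def L1 (S : Subgroup G) : Prop :=
  ∃ P, IsParS S P ∧ zc S ⊓ centralizer (P : Set G) = ⊥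

/-- (L2): some `⟨C_G(C_Z(P)), C_G(C_Z(P'))⟩` is nonlocal. -/
def L2 (S : Subgroup G) : Prop :=
  ∃ P P', IsParS S P ∧ IsParS S P' ∧
    NonLoc (centralizer ((zc S ⊓ centralizer (P : Set G) : Subgroup G) : Set G))
      (centralizer ((zc S ⊓ centralizer (P' : Set G) : Subgroup G) : Set G))

/-- If `Thin S` and `|Z| ≥ 4`, then all `C_Z(P) ≠ 1`. -/
theorem not_l1 [Finite G] {S : Subgroup G} (ht : Thin S) (h4 : 4 ≤ Nat.card (zc S)) : ¬ L1 S := by
  rintro ⟨P, hP, h0⟩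
  have h1 := ht P hP
  rw [h0, Subgroup.card_bot] at h1
  omega

/-- If `Thin S` and `|Z| ≥ 8`, then all `⟨C_G(C_Z(P)), C_G(C_Z(P'))⟩` are local. -/
theorem not_l2 [Finite G] {S : Subgroup G} (hS : IsPGroup 2 S) (ht : Thin S) (h8 : 8 ≤ Nat.card (zc S)) :
    ¬ L2 S := by
  rintro ⟨P, P', hP, hP', hn⟩
  set Y := zc S ⊓ centralizer (P : Set G) with hY
  set Y' := zc S ⊓ centralizer (P' : Set G) with hY'
  have hc := ht P hP
  have hc' := ht P' hP'
  have hYZ : Y ≤ zc S := inf_le_left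
  have hY'Z : Y' ≤ zc S := inf_le_left
  have hne : Y ⊓ Y' ≠ ⊥ := by
    intro h0
    have hcm : Y ≤ centralizer (Y' : Set G) := by
      intro y hy
      rw [mem_centralizer_iff]
      intro y' hy'
      exact (MinSimple.VModule.mem_zc.1 (hYZ hy)).2.1 y' (MinSimple.VModule.zc_le _ (hY'Z hy'))
    have h1 := Cfsg.Agent.PLocal.ElemAbSup.card_sup_mul_card_inf hcm
    rw [inf_comm, h0, Subgroup.card_bot, mul_one, mul_comm (Nat.card Y')] at h1
    have h2 := Subgroup.card_le_of_le (sup_le hY'Z hYZ)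
    rw [h1] at h2
    have h3 : Nat.card (zc S) * Nat.card (zc S) ≤ 4 * Nat.card (zc S) := by
      calc Nat.card (zc S) * Nat.card (zc S) = (2 * Nat.card Y) * (2 * Nat.card Y') := by rw [← hc, ← hc']
        _ = 4 * (Nat.card Y * Nat.card Y') := by ring
        _ ≤ 4 * Nat.card (zc S) := Nat.mul_le_mul_left _ h2
    have h4 := Nat.le_of_mul_le_mul_right h3 (by omega)
    omega
  apply hne
  refine hn (Y ⊓ Y') (hS.to_le (inf_le_left.trans (hYZ.trans (MinSimple.VModule.zc_le _)))) ?_ ?_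
  · refine le_trans ?_ (centralizer_le_normalizer _)
    exact centralizer_le inf_le_left
  · refine le_trans ?_ (centralizer_le_normalizer _)
    exact centralizer_le inf_le_right

end defs

/-- a frame -/
abbrev Fr : Type (u + 1) := ∀ (G : Type u) [Group G] [Finite G], Sylow 2 G → Prop

section sockets

variable (K : Cls.{u}) (B : Fr.{u})

/-- **THEOREM SIGMA.** -/
def SigOf : Prop :=
  ∀ (G : Type u) [Group G] [Finite G], K G → ∀ (S : Sylow 2 G), B G S → ¬ L1 (S : Subgroup G) →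
    ¬ L2 (S : Subgroup G) → IsKnownSimple' G

/-- The smallest shape: `|Z| = 4`, all `|V_P| = 8`. -/
def SmOf : Prop :=
  ∀ (G : Type u) [Group G] [Finite G], K G → ∀ (S : Sylow 2 G), B G S → RR (S : Subgroup G) = ⊥ →
    Nat.card (zc (S : Subgroup G)) = 4 →
      (∀ P, IsParS (S : Subgroup G) P → Nat.card (zl (S : Subgroup G) P) = 8) → L2 (S : Subgroup G) →
        IsKnownSimple' G

/-- `|Z| = 4`, all `|Z : C_Z(P)| = 2`, some `|V_P| ≠ 8`, (L2). -/
def FourOf : Prop :=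
  ∀ (G : Type u) [Group G] [Finite G], K G → ∀ (S : Sylow 2 G), B G S → RR (S : Subgroup G) = ⊥ →
    Thin (S : Subgroup G) → Nat.card (zc (S : Subgroup G)) = 4 →
      (∃ P, IsParS (S : Subgroup G) P ∧ Nat.card (zl (S : Subgroup G) P) ≠ 8) → L2 (S : Subgroup G) →
        IsKnownSimple' G

/-- some `|Z : C_Z(P)| ≥ 4`, (L1) or (L2). -/
def WideOf : Prop :=
  ∀ (G : Type u) [Group G] [Finite G], K G → ∀ (S : Sylow 2 G), B G S → RR (S : Subgroup G) = ⊥ →
    (∃ P, IsParS (S : Subgroup G) P ∧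
      4 * Nat.card ↥(zc (S : Subgroup G) ⊓ centralizer (P : Set G)) ≤ Nat.card (zc (S : Subgroup G))) →
      (L1 (S : Subgroup G) ∨ L2 (S : Subgroup G)) → IsKnownSimple' G

/-- [R-z], (L1) or (L2). -/
def BrOf : Prop :=
  ∀ (G : Type u) [Group G] [Finite G], K G → ∀ (S : Sylow 2 G), B G S → RR (S : Subgroup G) ≠ ⊥ →
    (L1 (S : Subgroup G) ∨ L2 (S : Subgroup G)) → IsKnownSimple' G

/-- `RR S = 1`. -/
def BnOf : Prop :=
  ∀ (G : Type u) [Group G] [Finite G], K G → ∀ (S : Sylow 2 G), B G S → RR (S : Subgroup G) = ⊥ →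
    IsKnownSimple' G

/-- `RR S ≠ 1`. -/
def BrrOf : Prop :=
  ∀ (G : Type u) [Group G] [Finite G], K G → ∀ (S : Sylow 2 G), B G S → RR (S : Subgroup G) ≠ ⊥ →
    IsKnownSimple' G

end sockets

/-- the frame `RB` -/
abbrev FB : Fr.{u} := fun _ _ _ S => RB S

/-- the frame `RBF` -/
abbrev FBF : Fr.{u} := fun _ _ _ S => RBF S

section mono

variable {K : Cls.{u}} {B B' : Fr.{u}} (hB : ∀ (G : Type u) [Group G] [Finite G] (S : Sylow 2 G), B' G S → B G S)

include hB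

theorem SigOf.mono (h : SigOf K B) : SigOf K B' := fun G _ _ hK S hb => h G hK S (hB G S hb)

theorem SmOf.mono (h : SmOf K B) : SmOf K B' := fun G _ _ hK S hb => h G hK S (hB G S hb)

theorem FourOf.mono (h : FourOf K B) : FourOf K B' := fun G _ _ hK S hb => h G hK S (hB G S hb)

theorem WideOf.mono (h : WideOf K B) : WideOf K B' := fun G _ _ hK S hb => h G hK S (hB G S hb)

theorem BrOf.mono (h : BrOf K B) : BrOf K B' := fun G _ _ hK S hb => h G hK S (hB G S hb)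

end mono

theorem toRB (G : Type u) [Group G] [Finite G] (S : Sylow 2 G) (h : FBF G S) : FB G S := h.toRB

section glue

variable {K : Cls.{u}} {B : Fr.{u}}

theorem known_or (hσ : SigOf K B) {G : Type u} [Group G] [Finite G] (hK : K G) {S : Sylow 2 G} (hb : B G S) :
    IsKnownSimple' G ∨ L1 (S : Subgroup G) ∨ L2 (S : Subgroup G) := by
  by_cases h1 : L1 (S : Subgroup G)
  · exact Or.inr (Or.inl h1)
  · by_cases h2 : L2 (S : Subgroup G)
    · exact Or.inr (Or.inr h2)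
    · exact Or.inl (hσ G hK S hb h1 h2)

/-- The shapes of box R. -/
theorem shapes (hσ : SigOf K B) {G : Type u} [Group G] [Finite G] (hK : K G) {S : Sylow 2 G} (hS : RB S)
    (hB : B G S) : IsKnownSimple' G ∨
      (Nat.card (zc (S : Subgroup G)) = 4 ∧
        (∀ P, IsParS (S : Subgroup G) P → Nat.card (zl (S : Subgroup G) P) = 8) ∧ L2 (S : Subgroup G)) ∨
      (Thin (S : Subgroup G) ∧ Nat.card (zc (S : Subgroup G)) = 4 ∧
        (∃ P, IsParS (S : Subgroup G) P ∧ Nat.card (zl (S : Subgroup G) P) ≠ 8) ∧ L2 (S : Subgroup G)) ∨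
      ((∃ P, IsParS (S : Subgroup G) P ∧
        4 * Nat.card ↥(zc (S : Subgroup G) ⊓ centralizer (P : Set G)) ≤ Nat.card (zc (S : Subgroup G))) ∧
        (L1 (S : Subgroup G) ∨ L2 (S : Subgroup G))) := by
  have h4' := four_le hS
  rcases known_or hσ hK hB with h | h12
  · exact Or.inl h
  rcases thin_or (S := S) with ht | hwd
  · rcases h12 with h1 | h2
    · exact absurd h1 (not_l1 ht h4')
    · have hz : Nat.card (zc (S : Subgroup G)) = 4 := by
        by_contra hz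
        refine not_l2 S.isPGroup' ht ?_ h2
        have hf : Fact (Nat.Prime 2) := ⟨Nat.prime_two⟩
        obtain ⟨n, hn⟩ := (IsPGroup.iff_card (p := 2)).1 (S.isPGroup'.to_le (MinSimple.VModule.zc_le (S : Subgroup G)))
        rw [hn] at h4' hz ⊢
        have k2 : 2 ≤ n := by
          by_contra hcon
          have : 2 ^ n ≤ 2 ^ 1 := Nat.pow_le_pow_right (by norm_num) (by omega)
          omega
        have k3 : n ≠ 2 := by rintro rfl; exact hz (by norm_num)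
        calc 8 = 2 ^ 3 := by norm_num
          _ ≤ 2 ^ n := Nat.pow_le_pow_right (by norm_num) (by omega)
      by_cases h : ∀ P, IsParS (S : Subgroup G) P → Nat.card (zl (S : Subgroup G) P) = 8
      · exact Or.inr (Or.inl ⟨hz, h, h2⟩)
      · push Not at h
        exact Or.inr (Or.inr (Or.inl ⟨ht, hz, h, h2⟩))
  · exact Or.inr (Or.inr (Or.inr ⟨hwd, h12⟩))

/-- **`RR S = 1` from its leaves.** -/
theorem bn_of (hb : ∀ (G : Type u) [Group G] [Finite G] (S : Sylow 2 G), B G S → RB S) (hσ : SigOf K B)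
    (hs : SmOf K B) (h4 : FourOf K B) (hw : WideOf K B) : BnOf K B := by
  intro G _ _ hK S hB hr
  rcases shapes hσ hK (hb G S hB) hB with h | ⟨hz, h8, h2⟩ | ⟨ht, hz, h8, h2⟩ | ⟨hwd, h12⟩
  · exact h
  · exact hs G hK S hB hr hz h8 h2
  · exact h4 G hK S hB hr ht hz h8 h2
  · exact hw G hK S hB hr hwd h12

/-- **`RR S ≠ 1` from its leaf.** -/
theorem br_of (hσ : SigOf K B) (hr : BrOf K B) : BrrOf K B := by
  intro G _ _ hK S hB hne
  rcases known_or hσ hK hB with h | h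
  · exact h
  · exact hr G hK S hB hne h

end glue

/-! ### The tree of `RTree` -/

section tree

variable {K : Cls.{u}}

theorem rbn_sig (hσ : SigOf K FB.{u}) (hs : SmOf K FB.{u}) (h4 : FourOf K FB.{u}) (hw : WideOf K FB.{u}) :
    RZ.RBn K := bn_of (fun _ _ _ _ h => h) hσ hs h4 hw

theorem rbr_sig (hσ : SigOf K FB.{u}) (hr : BrOf K FB.{u}) : RZ.RBr K := br_of hσ hr

theorem rbc_sig (hσ : SigOf K FB.{u}) (hs : SmOf K FB.{u}) (h4 : FourOf K FB.{u}) (hw : WideOf K FB.{u}) : RBc K :=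
  RZ.rbc_of (rbn_sig hσ hs h4 hw)

theorem rbz_sig (hσ : SigOf K FB.{u}) (hs : SmOf K FB.{u}) (h4 : FourOf K FB.{u}) (hw : WideOf K FB.{u})
    (hr : BrOf K FB.{u}) : RBz K :=
  RZ.rbz_of (rbr_sig hσ hr) (rbn_sig hσ hs h4 hw)

/-- The smallest shape. -/
def RSm (K : Cls.{u}) : Prop :=
  ∀ (G : Type u) [Group G] [Finite G], K G → ∀ (S : Sylow 2 G), Sm S → IsKnownSimple' G

theorem rsm_of (hL : LineS.{u}) (hS : SideS.{u}) (hT : TCR K) : RSm K := by
  intro G _ _ hK S hs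
  obtain ⟨V, P, v, T⟩ := exists_two_of hL hS hs
  exact hT G hK S hs.toRB V P v T (T.fr hs.toRB)

/-- **The smallest shape, from the card.** -/
theorem smOf_of (hL : LineS.{u}) (hS : SideS.{u}) (hT : TCR K) : SmOf K FB.{u} := by
  intro G _ _ hK S hB hr hz h8 _
  exact rsm_of hL hS hT G hK S { toRB := hB, rr := hr, z4 := hz, v8 := h8 }

theorem rbc_of_sm (hσ : SigOf K FB.{u}) (hs : RSm K) (h4 : FourOf K FB.{u}) (hw : WideOf K FB.{u}) : RBc K := by
  intro G _ _ hK S hB hc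
  have hr := RZ.eq_bot_of_rc hc
  rcases shapes hσ hK hB hB with h | ⟨hz, h8, h2⟩ | ⟨ht, hz, h8, h2⟩ | ⟨hwd, h12⟩
  · exact h
  · exact hs G hK S { toRB := hB, rr := hr, z4 := hz, v8 := h8 }
  · exact h4 G hK S hB hr ht hz h8 h2
  · exact hw G hK S hB hr hwd h12

/-- **Box R.** -/
theorem rg_sig (hN : RTreeA.NatBig.{u}) (hσ : SigOf K FB.{u}) (hs : SmOf K FB.{u}) (h4 : FourOf K FB.{u})
    (hw : WideOf K FB.{u}) (hr : BrOf K FB.{u}) : Merge.RG K :=
  RTreeA.rg_of' hN (rbz_sig hσ hs h4 hw hr) (rbc_sig hσ hs h4 hw)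

end tree

/-! ### The tree of `RTreeF` -/

section treeF

variable {K : Cls.{u}}

theorem rbf_sig (hσ : SigOf K FBF.{u}) (hs : SmOf K FBF.{u}) (h4 : FourOf K FBF.{u}) (hw : WideOf K FBF.{u})
    (hr : BrOf K FBF.{u}) {G : Type u} [Group G] [Finite G] (hK : K G) {S : Sylow 2 G} (hB : RBF S) :
    IsKnownSimple' G := by
  by_cases h : RR (S : Subgroup G) = ⊥
  · exact bn_of toRB hσ hs h4 hw G hK S hB h
  · exact br_of hσ hr G hK S hB h

theorem rbzF_sig (hσ : SigOf K FBF.{u}) (hs : SmOf K FBF.{u}) (h4 : FourOf K FBF.{u}) (hw : WideOf K FBF.{u})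
    (hr : BrOf K FBF.{u}) : RBzF K :=
  fun _ _ _ hK _ hB _ _ _ _ => rbf_sig hσ hs h4 hw hr hK hB

theorem rbcF_sig (hσ : SigOf K FBF.{u}) (hs : SmOf K FBF.{u}) (h4 : FourOf K FBF.{u}) (hw : WideOf K FBF.{u}) :
    RBcF K :=
  fun G _ _ hK S hB hc => bn_of toRB hσ hs h4 hw G hK S hB (RZ.eq_bot_of_rc hc)

theorem raBig_of (hN : RTreeA.NatBig.{u}) : RAbig K := by
  intro G _ _ hG _ S _ D P H hE F _ _ _ k _ _ _
  exact (RTreeA.pair_false hN hG D hE).elim

/-- **Box R.** -/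
theorem rgF_sig (T : RLow.Parts.{u}) (hN : RTreeA.NatBig.{u}) (hσ : SigOf K FBF.{u}) (hs : SmOf K FBF.{u})
    (h4 : FourOf K FBF.{u}) (hw : WideOf K FBF.{u}) (hr : BrOf K FBF.{u}) : Merge.RG K :=
  RTreeF.rg_of T (raBig_of hN) (rbzF_sig hσ hs h4 hw hr) (rbcF_sig hσ hs h4 hw)

end treeF

end Cfsg.Agent.Omega.NOThreeL.RRed.GlueSig

end

end
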