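import Cfsg.Agent.Mrg.Omega.NOThreeL.RRed.TvBlk
import Cfsg.Agent.Mrg.Omega.NOThreeL.RRed.TvG
import Cfsg.Agent.Mrg.Omega.NOThreeL.RRed.Blk.Def
import Cfsg.Agent.Mrg.Omega.KL.TwoS.Inp
import Cfsg.Agent.Mrg.Omega.NOThreeL.RRed.Lin
import Cfsg.Agent.Mrg.Omega.NOThreeL.RRed.Base
import Cfsg.Agent.Mrg.Omega.TC.No
import Cfsg.Agent.Mrg.Omega.NOThreeL.RRed.TvSys
import Cfsg.Agent.Mrg.Omega.NO3S.EMany.LowExt

-- merged: Cfsg.Agent.Mrg.Omega.NOThreeL.RRed.TvSum
section

/-!
# The block theorem for transvections over `𝔽₂` (#18552 (c)): the direct sum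

* `Blk.U i` : the span of block `i`; `ker R` : the common kernel of the axes;
* `Blk.mem_U_iff`, `Blk.top`, `Blk.ind` : `V = (⨁ U i) ⊕ ker R`;
* `Blk.tr_U`, `Blk.tr_ker` : `tr x y` is trivial on `U j`, `j ≠ blk x`, and on `ker R`;
* `Blk.map_U` : an automorphism which preserves `R` permutes the `U i`.
-/

set_option autoImplicit false

namespace Cfsg.Agent.Omega.NOThreeL.RRed.TvBlk

open Cfsg.Agent.Omega.Transv

universe u

variable {V : Type u} [AddCommGroup V] [Module (ZMod 2) V]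

/-- the common kernel of the axes -/
def ker (R : Set (W V)) : Submodule (ZMod 2) V where
  carrier := {v | ∀ p ∈ R, p.2 v = 0}
  add_mem' {v v'} hv hv' p hp := by rw [map_add, hv p hp, hv' p hp, add_zero]
  zero_mem' p _ := map_zero _
  smul_mem' c v hv p hp := by rw [map_smul, hv p hp, smul_zero]

theorem mem_ker {R : Set (W V)} {v : V} : v ∈ ker R ↔ ∀ p ∈ R, p.2 v = 0 := Iff.rfl

/-- the span of a block -/
def U {Pt I : Type u} (blk : Pt → I) (w : Pt → V) (i : I) : Submodule (ZMod 2) V :=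
  Submodule.span (ZMod 2) (w '' {x | blk x = i})

namespace Blk

variable {R : Set (W V)} {Pt I : Type u} [Fintype Pt] [DecidableEq Pt] [DecidableEq I] {blk : Pt → I} {w : Pt → V}
  {tr : Pt → Pt → W V} (b : Blk R blk w tr)

omit [Fintype Pt] [DecidableEq Pt] [DecidableEq I] in
theorem w_mem_U (x : Pt) : w x ∈ U blk w (blk x) := Submodule.subset_span ⟨x, rfl, rfl⟩

omit [DecidableEq Pt] [DecidableEq I] in
/-- the elements of `U i` are the combinations supported on block `i` -/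
theorem mem_U {i : I} {v : V} (hv : v ∈ U blk w i) :
    ∃ a : Pt → ZMod 2, (∀ x, blk x ≠ i → a x = 0) ∧ v = ∑ x, a x • w x := by
  classical
  refine Submodule.span_induction ?_ ?_ ?_ ?_ hv
  · rintro _ ⟨x, hx, rfl⟩
    refine ⟨fun z => if z = x then 1 else 0, ?_, ?_⟩
    · intro z hz
      show (if z = x then (1 : ZMod 2) else 0) = 0
      rw [if_neg]
      rintro rfl
      exact hz hx
    · have : ∀ z ∈ (Finset.univ : Finset Pt), (if z = x then (1 : ZMod 2) else 0) • w z = if z = x then w z else 0 := by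
        intro z _
        rw [ite_smul, one_smul, zero_smul]
      rw [Finset.sum_congr rfl this, Finset.sum_ite_eq', if_pos (Finset.mem_univ _)]
  · exact ⟨0, fun _ _ => rfl, by simp⟩
  · rintro _ _ _ _ ⟨a, ha, rfl⟩ ⟨a', ha', rfl⟩
    refine ⟨a + a', fun x hx => by rw [Pi.add_apply, ha x hx, ha' x hx, add_zero], ?_⟩
    rw [← Finset.sum_add_distrib]
    exact Finset.sum_congr rfl fun x _ => by rw [Pi.add_apply, add_smul]
  · rintro c _ _ ⟨a, ha, rfl⟩
    refine ⟨c • a, fun x hx => by rw [Pi.smul_apply, ha x hx, smul_zero], ?_⟩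
    rw [Finset.smul_sum]
    exact Finset.sum_congr rfl fun x _ => by rw [Pi.smul_apply, smul_assoc]

include b

/-- an axis of another block vanishes on `U i` -/
theorem tr_U (x y : Pt) (hxy : blk x = blk y) {i : I} (hi : blk x ≠ i) {v : V} (hv : v ∈ U blk w i) :
    (tr x y).2 v = 0 := by
  obtain ⟨a, ha, rfl⟩ := mem_U hv
  rw [b.snd_sum x y hxy, ha x hi, ha y (by rw [← hxy]; exact hi), add_zero]

theorem tr_ker (x y : Pt) (hxy : blk x = blk y) {v : V} (hv : v ∈ ker R) : (tr x y).2 v = 0 := by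
  by_cases hne : x = y
  · subst hne
    have h2 := b.tr_add x x x rfl rfl
    have h3 : tr x x = 0 := by simpa using h2
    rw [h3]
    rfl
  · exact hv _ (b.tr_mem x y hne hxy)

theorem fst_mem_U (x y : Pt) (hxy : blk x = blk y) : (tr x y).1 ∈ U blk w (blk x) := by
  rw [b.tr_fst x y hxy]
  refine Submodule.add_mem _ (w_mem_U x) ?_
  rw [hxy]
  exact w_mem_U y

theorem U_ne (i : I) : U blk w i ≠ ⊥ := by
  intro h0
  obtain ⟨x, rfl⟩ := b.surj i
  obtain ⟨y, hne, hb⟩ := b.exists_other x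
  have h1 : w x ∈ U blk w (blk x) := w_mem_U x
  have h2 : w y ∈ U blk w (blk x) := by rw [← hb]; exact w_mem_U y
  rw [h0, Submodule.mem_bot] at h1 h2
  exact hne (b.w_inj (h2.trans h1.symm))

theorem top : (⨆ i, U blk w i) ⊔ ker R = ⊤ := by
  rw [eq_top_iff]
  intro v _
  obtain ⟨a, ha⟩ := b.decomp v
  have h1 : ∑ x, a x • w x ∈ ⨆ i, U blk w i :=
    Submodule.sum_mem _ fun x _ => Submodule.smul_mem _ _ (Submodule.mem_iSup_of_mem (blk x) (w_mem_U x))
  have h2 : v = ∑ x, a x • w x + (v + ∑ x, a x • w x) := by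
    rw [add_comm v, ← add_assoc, add_self, zero_add]
  rw [h2]
  exact Submodule.add_mem _ (Submodule.mem_sup_left h1) (Submodule.mem_sup_right ha)

theorem ind [Fintype I] (i : I) : U blk w i ⊓ ((⨆ j : {j // j ≠ i}, U blk w j) ⊔ ker R) = ⊥ := by
  rw [eq_bot_iff]
  rintro v ⟨hv, hv'⟩
  rw [Submodule.mem_bot]
  refine b.eq_zero ?_ ?_
  · have h1 : U blk w i ≤ Submodule.span (ZMod 2) (Set.range w) :=
      Submodule.span_mono (Set.image_subset_range _ _)
    exact h1 hv
  · intro p hp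
    obtain ⟨x, y, -, hxy, rfl⟩ := b.all p hp
    by_cases hi : blk x = i
    · have h2 : (⨆ j : {j // j ≠ i}, U blk w j) ⊔ ker R ≤ LinearMap.ker (tr x y).2 := by
        refine sup_le (iSup_le fun j => ?_) ?_
        · intro u hu
          exact b.tr_U x y hxy (fun hc => j.2 (hc.symm.trans hi)) hu
        · intro u hu
          exact b.tr_ker x y hxy hu
      exact h2 hv'
    · exact b.tr_U x y hxy hi hv

theorem map_U [Finite V] [Fintype I] (φ : V ≃ₗ[ZMod 2] V) (hφ : ∀ p ∈ R, conjW φ p ∈ R) :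
    ∃ τ : Equiv.Perm I, ∀ i, (U blk w i).map (φ : V →ₗ[ZMod 2] V) = U blk w (τ i) := by
  obtain ⟨σ, hσ, hσ', -⟩ := b.perm φ hφ
  -- the permutation of the blocks
  have h1 : ∀ i, ∃ j, ∀ x, blk x = i → blk (σ x) = j := by
    intro i
    obtain ⟨x, rfl⟩ := b.surj i
    exact ⟨blk (σ x), fun y hy => (hσ' y x).1 hy⟩
  choose f hf using h1
  have hfx : ∀ x, blk (σ x) = f (blk x) := fun x => hf _ x rfl
  have hinj : Function.Injective f := by
    intro i j hij
    obtain ⟨x, rfl⟩ := b.surj i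
    obtain ⟨y, rfl⟩ := b.surj j
    rw [hσ' x y, hfx, hfx, hij]
  refine ⟨Equiv.ofBijective f (Finite.injective_iff_bijective.1 hinj), fun i => ?_⟩
  show _ = U blk w (f i)
  rw [U, Submodule.map_span]
  congr 1
  ext v
  constructor
  · rintro ⟨_, ⟨x, hx, rfl⟩, rfl⟩
    refine ⟨σ x, ?_, (hσ x).symm⟩
    show blk (σ x) = f i
    rw [hfx, hx]
  · rintro ⟨y, hy, rfl⟩
    refine ⟨w (σ.symm y), ⟨σ.symm y, ?_, rfl⟩, ?_⟩
    · apply hinj
      show f (blk (σ.symm y)) = f i
      rw [← hfx, Equiv.apply_symm_apply]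
      exact hy
    · show φ (w (σ.symm y)) = w y
      rw [hσ, Equiv.apply_symm_apply]

omit b in
theorem map_ker [Finite V] (φ : V ≃ₗ[ZMod 2] V) (hφ : ∀ p ∈ R, conjW φ p ∈ R) :
    (ker R).map (φ : V →ₗ[ZMod 2] V) = ker R := by
  ext v
  constructor
  · rintro ⟨u, hu, rfl⟩ p hp
    obtain ⟨q, hq, rfl⟩ := conjW_surj φ hφ hp
    show (conjW φ q).2 (φ u) = 0
    rw [conjW_B]
    exact hu q hq
  · intro hv
    refine ⟨φ.symm v, fun p hp => ?_, by simp⟩
    have h1 := hv _ (hφ p hp)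
    have h2 := conjW_B φ p (φ.symm v)
    rw [LinearEquiv.apply_symm_apply] at h2
    rw [← h2]
    exact h1

end Blk

end Cfsg.Agent.Omega.NOThreeL.RRed.TvBlk

end

-- merged: Cfsg.Agent.Mrg.Omega.NOThreeL.RRed.TvDec
section

section


/-!
# The block theorem for transvections over `𝔽₂`: the decomposition in the group (#23943, #24544)

`H : GHyp S V M`, `Blk R blk w tr` for the set `R` of all transvections of `M / C_M(V)` on `V` (`RR`):

* `dec` : `Blk.Dec S M V N E R₀` with `N i` = span of block `i`, `R₀` = common kernel of the axes, `E i` = `M ⊓ C(all other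
  blocks and R₀)`;
* `lett` : `KL.TwoS.Lett (N i) (E i) φ` : the letters of block `i`;
* `exists_dec` : both, from `Sys (RR ..)`.
-/

set_option autoImplicit false
set_option linter.unusedSectionVars false

namespace Cfsg.Agent.Omega.NOThreeL.RRed.TvDec

open Subgroup Cfsg.Agent.Omega.TV Cfsg.Agent.Omega.FFBr
open Cfsg.Agent.Omega.Transv (Du Faith fixS mem_fixS smul_zmod zmod_cases dua dua_apply eq_one_of_ne eq_zero_of_ne
  one_ne add_self eq_of_add)
open Cfsg.Agent.Omega.FFThm (ElemM OffM NoOverM)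
open Cfsg.Agent.Omega.NOThreeL.RRed.TvG
open Cfsg.Agent.Omega.NOThreeL.RRed.TvBlk
open Cfsg.Agent.Omega.NOThreeL.RRed.Blk (Dec Co)
open Cfsg.Agent.Omega.KL.TwoS (Rel Lett)
open scoped Pointwise

universe u

variable {G : Type u} [Group G] {V M : Subgroup G}

section toSub

variable {sq : ∀ x ∈ V, x * x = 1}

theorem gc : GaloisConnection (EA.toSub : Submodule (ZMod 2) (EA V sq) → Subgroup G) EA.ofSub := fun A K =>
  ⟨fun h a ha => h ⟨a, ha, rfl⟩, fun h => by rintro _ ⟨a, ha, rfl⟩; exact h ha⟩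

theorem toSub_top : EA.toSub (⊤ : Submodule (ZMod 2) (EA V sq)) = V := by
  ext x
  constructor
  · rintro ⟨a, -, rfl⟩
    exact a.val_mem
  · intro hx
    exact ⟨EA.mk sq x hx, Submodule.mem_top, rfl⟩

theorem toSub_inf (A B : Submodule (ZMod 2) (EA V sq)) : EA.toSub (A ⊓ B) = EA.toSub A ⊓ EA.toSub B := by
  ext x
  constructor
  · rintro ⟨a, ha, rfl⟩
    exact ⟨⟨a, ha.1, rfl⟩, ⟨a, ha.2, rfl⟩⟩
  · rintro ⟨⟨a, ha, rfl⟩, hx⟩
    exact ⟨a, ⟨ha, EA.val_mem_toSub.1 hx⟩, rfl⟩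

theorem toSub_bot : EA.toSub (⊥ : Submodule (ZMod 2) (EA V sq)) = ⊥ := gc.l_bot

theorem toSub_le (A : Submodule (ZMod 2) (EA V sq)) : EA.toSub A ≤ V := by
  rintro _ ⟨a, -, rfl⟩
  exact a.val_mem

theorem toSub_ne {A : Submodule (ZMod 2) (EA V sq)} (hA : A ≠ ⊥) : EA.toSub A ≠ ⊥ := by
  intro h
  apply hA
  rw [eq_bot_iff]
  intro a ha
  have h1 : a.val ∈ EA.toSub A := ⟨a, ha, rfl⟩
  rw [h, Subgroup.mem_bot, EA.val_eq_one] at h1
  rw [h1]
  exact Submodule.zero_mem _

theorem toSub_co {ι : Type*} (A : ι → Submodule (ZMod 2) (EA V sq)) (K : Submodule (ZMod 2) (EA V sq)) (i : ι) :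
    EA.toSub ((⨆ j : {j // j ≠ i}, A j) ⊔ K) = Co (fun i => EA.toSub (A i)) (EA.toSub K) i := by
  rw [gc.l_sup, gc.l_iSup]
  rfl

end toSub

section aut

variable (sq : ∀ x ∈ V, x * x = 1) (h : M ≤ normalizer (V : Set G))

/-- the automorphism of an element of `M` -/
noncomputable def aut (m : M) : EA V sq ≃ₗ[ZMod 2] EA V sq := EA.crep sq M (fun _ hc _ hn => conj_mem h hc hn) m

theorem val_aut (m : M) (a : EA V sq) : (aut sq h m a).val = (m : G) * a.val * (m : G)⁻¹ := rfl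

theorem aut_eq (m : M) (a : EA V sq) : aut sq h m a = pr h m • a := rfl

theorem symm_eq (m : M) (a : EA V sq) : (aut sq h m).symm a = (pr h m)⁻¹ • a := by
  rw [LinearEquiv.symm_apply_eq, aut_eq, smul_inv_smul]

/-- all transvections -/
def RR : Set (TvBlk.W (EA V sq)) := {p | ∃ d : XX h, Transv.Tv d p.1 p.2}

theorem conj_RR (m : M) : ∀ p ∈ RR sq h, conjW (aut sq h m) p ∈ RR sq h := by
  rintro p ⟨d, hd⟩
  refine ⟨pr h m * d * (pr h m)⁻¹, ?_⟩
  have h1 := hd.conj (pr h m)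
  have h2 : (conjW (aut sq h m) p).2 = dua (pr h m) p.2 := by
    ext v
    show p.2 ((aut sq h m).symm v) = p.2 ((pr h m)⁻¹ • v)
    rw [symm_eq]
  rw [h2]
  exact h1

theorem conj_toSub (m : M) (A : Submodule (ZMod 2) (EA V sq)) :
    MulAut.conj (m : G) • EA.toSub A = EA.toSub (A.map (aut sq h m : EA V sq →ₗ[ZMod 2] EA V sq)) := by
  ext x
  constructor
  · rintro ⟨_, ⟨a, ha, rfl⟩, rfl⟩
    exact ⟨aut sq h m a, ⟨a, ha, rfl⟩, rfl⟩
  · rintro ⟨_, ⟨a, ha, rfl⟩, rfl⟩
    exact ⟨a.val, ⟨a, ha, rfl⟩, rfl⟩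

end aut

theorem mem_normalizer_of {K : Subgroup G} {g : G} (h : MulAut.conj g • K = K) : g ∈ normalizer (K : Set G) := by
  rw [mem_normalizer_iff]
  intro x
  exact RRed.Blk.conj_smul h

section main

variable (sq : ∀ x ∈ V, x * x = 1) (h : M ≤ normalizer (V : Set G))
variable {Pt I : Type u} [Fintype Pt] [Fintype I] [DecidableEq Pt] [DecidableEq I] {blk : Pt → I} {w : Pt → EA V sq}
  {tr : Pt → Pt → TvBlk.W (EA V sq)}

/-- the blocks -/
def N (blk : Pt → I) (w : Pt → EA V sq) (i : I) : Subgroup G := EA.toSub (TvBlk.U blk w i)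

/-- the common kernel of the axes -/
def R₀ : Subgroup G := EA.toSub (TvBlk.ker (RR sq h))

/-- the group of block `i` -/
def E (blk : Pt → I) (w : Pt → EA V sq) (i : I) : Subgroup G :=
  M ⊓ centralizer (Co (N sq blk w) (R₀ sq h) i : Set G)

variable (b : Blk (RR sq h) blk w tr)
include b

theorem sup_eq : (⨆ i, N sq blk w i) ⊔ R₀ sq h = V := by
  have h1 := b.top
  have h2 := congrArg EA.toSub h1
  rw [gc.l_sup, gc.l_iSup, toSub_top] at h2
  exact h2

theorem ind_eq (i : I) : N sq blk w i ⊓ Co (N sq blk w) (R₀ sq h) i = ⊥ := by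
  have h1 := congrArg EA.toSub (b.ind i)
  rw [toSub_inf, toSub_co, toSub_bot] at h1
  exact h1

theorem N_ne (i : I) : N sq blk w i ≠ ⊥ := toSub_ne (b.U_ne i)

theorem Co_le (i : I) : Co (N sq blk w) (R₀ sq h) i ≤ V := by
  refine le_trans ?_ (sup_eq sq h b).le
  exact sup_le ((iSup_le fun c : {c // c ≠ i} => le_iSup (N sq blk w) c.1).trans le_sup_left) le_sup_right

theorem N_inj {i j : I} (e : N sq blk w i = N sq blk w j) : i = j := by
  by_contra hne
  apply N_ne sq h b i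
  rw [eq_bot_iff, ← ind_eq sq h b i]
  refine le_inf le_rfl ?_
  rw [e]
  exact (le_iSup (fun c : {c // c ≠ i} => N sq blk w c) ⟨j, fun hc => hne hc.symm⟩).trans le_sup_left

variable [Finite G]

theorem conj_N (m : M) : ∃ τ : Equiv.Perm I, ∀ i, MulAut.conj (m : G) • N sq blk w i = N sq blk w (τ i) := by
  obtain ⟨τ, hτ⟩ := b.map_U (aut sq h m) (conj_RR sq h m)
  refine ⟨τ, fun i => ?_⟩
  rw [N, conj_toSub sq h, hτ]
  rfl

omit [Fintype I] [Fintype Pt] [DecidableEq Pt] [DecidableEq I] b in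
theorem conj_R₀ (m : M) : MulAut.conj (m : G) • R₀ sq h = R₀ sq h := by
  rw [R₀, conj_toSub sq h, Blk.map_ker (aut sq h m) (conj_RR sq h m)]

omit [Fintype I] [Fintype Pt] [DecidableEq Pt] [DecidableEq I] b [Finite G] in
theorem mem_E {i : I} {x : G} : x ∈ E sq h blk w i ↔ x ∈ M ∧ (∀ j, j ≠ i → ∀ n ∈ N sq blk w j, x * n * x⁻¹ = n) ∧
    ∀ r ∈ R₀ sq h, x * r * x⁻¹ = r := by
  have key : ∀ K : Subgroup G, K ≤ centralizer ({x} : Set G) ↔ ∀ n ∈ K, x * n * x⁻¹ = n := by
    intro K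
    constructor
    · intro hK n hn
      have := mem_centralizer_singleton_iff.1 (hK hn)
      rw [← this]; group
    · intro hK n hn
      rw [mem_centralizer_singleton_iff]
      have := hK n hn
      calc n * x = (x * n * x⁻¹) * x := by rw [this]
        _ = x * n := by group
  have h1 : x ∈ centralizer (Co (N sq blk w) (R₀ sq h) i : Set G) ↔
      Co (N sq blk w) (R₀ sq h) i ≤ centralizer ({x} : Set G) := by
    rw [mem_centralizer_iff]
    constructor
    · intro hx n hn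
      rw [mem_centralizer_singleton_iff]
      exact hx n hn
    · intro hx n hn
      exact mem_centralizer_singleton_iff.1 (hx hn)
  rw [E, mem_inf, h1, Co, sup_le_iff, iSup_le_iff, key]
  refine and_congr_right fun _ => and_congr_left fun _ => ?_
  constructor
  · intro hj j hji
    exact (key _).1 (hj ⟨j, hji⟩)
  · rintro hj ⟨j, hji⟩
    exact (key _).2 (hj j hji)

theorem conj_E {m : M} {τ : Equiv.Perm I} (hτ : ∀ i, MulAut.conj (m : G) • N sq blk w i = N sq blk w (τ i)) (i : I) :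
    MulAut.conj (m : G) • E sq h blk w i = E sq h blk w (τ i) := by
  have h0 := conj_R₀ sq h m
  ext x
  rw [mem_pointwise_smul_iff_inv_smul_mem, ← map_inv, MulAut.smul_def, MulAut.conj_apply, inv_inv, mem_E, mem_E]
  have hM : (m : G)⁻¹ * x * m ∈ M ↔ x ∈ M := by
    constructor
    · intro hx
      have := mul_mem (mul_mem m.2 hx) (inv_mem m.2)
      have e : (m : G) * ((m : G)⁻¹ * x * m) * (m : G)⁻¹ = x := by group
      rwa [e] at this
    · intro hx
      exact mul_mem (mul_mem (inv_mem m.2) hx) m.2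
  have hc : ∀ n : G, (m : G)⁻¹ * x * m * n * ((m : G)⁻¹ * x * m)⁻¹ = n ↔
      x * ((m : G) * n * (m : G)⁻¹) * x⁻¹ = (m : G) * n * (m : G)⁻¹ := by
    intro n
    constructor
    · intro e
      calc x * ((m : G) * n * (m : G)⁻¹) * x⁻¹ =
          (m : G) * ((m : G)⁻¹ * x * m * n * ((m : G)⁻¹ * x * m)⁻¹) * (m : G)⁻¹ := by group
        _ = _ := by rw [e]
    · intro e
      calc (m : G)⁻¹ * x * m * n * ((m : G)⁻¹ * x * m)⁻¹ =
          (m : G)⁻¹ * (x * ((m : G) * n * (m : G)⁻¹) * x⁻¹) * m := by group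
        _ = _ := by rw [e]; group
  refine and_congr hM (and_congr ?_ ?_)
  · constructor
    · intro hj j hji n hn
      have e1 : τ (τ.symm j) = j := τ.apply_symm_apply j
      have h2 : (m : G)⁻¹ * n * m ∈ N sq blk w (τ.symm j) := by
        rw [RRed.Blk.conj_smul (hτ (τ.symm j)), e1]
        have e : (m : G) * ((m : G)⁻¹ * n * m) * (m : G)⁻¹ = n := by group
        rwa [e]
      have h3 := (hc _).1 (hj (τ.symm j) (fun hc => hji (by rw [← hc, e1])) _ h2)
      have e : (m : G) * ((m : G)⁻¹ * n * m) * (m : G)⁻¹ = n := by group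
      rwa [e] at h3
    · intro hj j hji n hn
      refine (hc n).2 (hj (τ j) (fun hc => hji (τ.injective hc)) _ ?_)
      exact (RRed.Blk.conj_smul (hτ j)).1 hn
  · constructor
    · intro hr r hr'
      have h2 : (m : G)⁻¹ * r * m ∈ R₀ sq h := by
        rw [RRed.Blk.conj_smul h0]
        have e : (m : G) * ((m : G)⁻¹ * r * m) * (m : G)⁻¹ = r := by group
        rwa [e]
      have h3 := (hc _).1 (hr _ h2)
      have e : (m : G) * ((m : G)⁻¹ * r * m) * (m : G)⁻¹ = r := by group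
      rwa [e] at h3
    · intro hr r hr'
      exact (hc r).2 (hr _ ((RRed.Blk.conj_smul h0).1 hr'))

/-- **the decomposition** -/
theorem dec {S : Subgroup G} (hS : S ≤ M) :
    Dec S M V (N sq blk w) (E sq h blk w) (R₀ sq h) where
  SL := hS
  LU := h
  ab := by
    intro x hx
    rw [mem_centralizer_iff]
    intro y hy
    exact EA.comm_of sq hy hx
  sup := sup_eq sq h b
  ind := ind_eq sq h b
  ne := N_ne sq h b
  Rnor g hg := mem_normalizer_of (conj_R₀ sq h ⟨g, hg⟩)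
  EL i := inf_le_left
  CE i := inf_le_inf_left _ (centralizer_le (Co_le sq h b i))
  perm g hg i := by
    obtain ⟨τ, hτ⟩ := conj_N sq h b ⟨g, hg⟩
    exact ⟨τ i, hτ i, conj_E sq h b hτ i⟩
  EN i g hg := by
    have hg' := (mem_E sq h).1 hg
    obtain ⟨τ, hτ⟩ := conj_N sq h b ⟨g, hg'.1⟩
    have h1 : τ i = i := by
      by_contra hne
      have h2 : MulAut.conj g • N sq blk w (τ i) = N sq blk w (τ i) := by
        ext x
        rw [mem_pointwise_smul_iff_inv_smul_mem, ← map_inv, MulAut.smul_def, MulAut.conj_apply, inv_inv]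
        constructor
        · intro hx
          have h3 := hg'.2.1 _ hne _ hx
          have e : g * (g⁻¹ * x * g) * g⁻¹ = x := by group
          rw [e] at h3
          rw [h3]; exact hx
        · intro hx
          have h3 := hg'.2.1 _ hne _ hx
          have e : g⁻¹ * x * g = x := by
            calc g⁻¹ * x * g = g⁻¹ * (g * x * g⁻¹) * g := by rw [h3]
              _ = x := by group
          rw [e]; exact hx
      have h3 := hτ i
      rw [← h2] at h3
      exact hne (N_inj sq h b (smul_left_cancel _ h3)).symm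
    exact mem_normalizer_of (by have := hτ i; rw [h1] at this; exact this)
  EC i j hij x hx := by
    have hx' := (mem_E sq h).1 hx
    rw [mem_centralizer_iff]
    intro n hn
    have := hx'.2.1 j (Ne.symm hij) n hn
    calc n * x = (x * n * x⁻¹) * x := by rw [this]
      _ = x * n := by group
  ER i x hx := by
    have hx' := (mem_E sq h).1 hx
    rw [mem_centralizer_iff]
    intro n hn
    have := hx'.2.2 n hn
    calc n * x = (x * n * x⁻¹) * x := by rw [this]
      _ = x * n := by group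

/-! ### The letters -/

/-- the letters of block `i` -/
abbrev Om (blk : Pt → I) (i : I) : Type u := {x : Pt // blk x = i}

/-- the element of a set of letters -/
def phi (blk : Pt → I) (w : Pt → EA V sq) (i : I) (s : Finset (Om blk i)) : G := (∑ x ∈ s, w x.1).val

omit [Fintype Pt] [Fintype I] [DecidableEq Pt] [Finite G] b in
theorem sum_symmDiff {α : Type*} [DecidableEq α] (f : α → EA V sq) (s t : Finset α) :
    ∑ x ∈ symmDiff s t, f x = ∑ x ∈ s, f x + ∑ x ∈ t, f x := by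
  have e : symmDiff s t = (s \ t) ∪ (t \ s) := rfl
  have hd : Disjoint (s \ t) (t \ s) := by
    rw [Finset.disjoint_left]
    intro x hx hx'
    exact (Finset.mem_sdiff.1 hx).2 (Finset.mem_sdiff.1 hx').1
  rw [e, Finset.sum_union hd, ← Finset.sum_inter_add_sum_sdiff s t f, ← Finset.sum_inter_add_sum_sdiff t s f,
    Finset.inter_comm t s]
  have h1 := add_self (∑ x ∈ s ∩ t, f x)
  calc ∑ x ∈ s \ t, f x + ∑ x ∈ t \ s, f x
      = (∑ x ∈ s ∩ t, f x + ∑ x ∈ s ∩ t, f x) + (∑ x ∈ s \ t, f x + ∑ x ∈ t \ s, f x) := by rw [h1, zero_add]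
    _ = _ := by abel

omit [Fintype I] [Finite G] b in
/-- a sum over letters as a combination of all points -/
theorem sum_eq_comb (i : I) (s : Finset (Om blk i)) :
    ∑ x ∈ s, w x.1 = ∑ z : Pt, (if z ∈ s.map (Function.Embedding.subtype _) then (1 : ZMod 2) else 0) • w z := by
  have h1 : ∀ z ∈ (Finset.univ : Finset Pt),
      (if z ∈ s.map (Function.Embedding.subtype _) then (1 : ZMod 2) else 0) • w z =
        if z ∈ s.map (Function.Embedding.subtype _) then w z else 0 := by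
    intro z _
    rw [ite_smul, one_smul, zero_smul]
  rw [Finset.sum_congr rfl h1, ← Finset.sum_filter, Finset.filter_mem_eq_inter, Finset.univ_inter, Finset.sum_map]
  rfl

omit [Finite G] [Fintype I] in
theorem card_odd (i : I) : Odd (Fintype.card (Om blk i)) := by
  obtain ⟨x, rfl⟩ := b.surj i
  rw [Fintype.card_subtype]
  exact b.odd x

omit [Finite G] [Fintype I] in
theorem card_three (i : I) : 3 ≤ Fintype.card (Om blk i) := by
  obtain ⟨x, rfl⟩ := b.surj i
  rw [Fintype.card_subtype]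
  exact b.three x

omit [Finite G] [Fintype I] in
theorem sum_univ (i : I) : ∑ x : Om blk i, w x.1 = 0 := by
  obtain ⟨x, rfl⟩ := b.surj i
  rw [← b.sum_zero x]
  exact (Finset.sum_subtype (Finset.univ.filter fun y => blk y = blk x) (fun y => by simp) w).symm

omit [Finite G] in
theorem phi_inj (i : I) (s : Finset (Om blk i)) (hs : Even s.card) (h1 : phi sq blk w i s = 1) : s = ∅ := by
  have h2 : ∑ x ∈ s, w x.1 = 0 := EA.val_eq_one.1 h1
  rw [sum_eq_comb sq i s] at h2
  have h3 := b.indep _ h2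
  by_contra hne
  obtain ⟨x, hx⟩ := Finset.nonempty_iff_ne_empty.2 hne
  have h4 : s = Finset.univ := by
    rw [Finset.eq_univ_iff_forall]
    intro y
    have h5 := h3 x.1 y.1 (x.2.trans y.2.symm)
    have h6 : x.1 ∈ s.map (Function.Embedding.subtype _) := Finset.mem_map_of_mem (Function.Embedding.subtype _) hx
    rw [if_pos h6] at h5
    by_contra hy
    rw [if_neg] at h5
    · exact one_ne h5
    · intro hc
      obtain ⟨z, hz, e⟩ := Finset.mem_map.1 hc
      have : z = y := Subtype.ext e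
      rw [this] at hz
      exact hy hz
  rw [h4, Finset.card_univ] at hs
  exact (Nat.not_even_iff_odd.2 (card_odd sq h b i)) hs

omit [Finite G] [Fintype I] in
theorem phi_compl (i : I) (s : Finset (Om blk i)) : phi sq blk w i sᶜ = phi sq blk w i s := by
  have h1 := Finset.sum_add_sum_compl s (fun x : Om blk i => w x.1)
  rw [sum_univ sq h b i] at h1
  exact congrArg EA.val (eq_of_add h1).symm

omit [Finite G] [Fintype I] in
theorem mem_N (i : I) (x : G) : x ∈ N sq blk w i ↔ ∃ s : Finset (Om blk i), Even s.card ∧ phi sq blk w i s = x := by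
  constructor
  · rintro ⟨a, ha, rfl⟩
    obtain ⟨c, hc, rfl⟩ := TvBlk.Blk.mem_U ha
    let s : Finset (Om blk i) := Finset.univ.filter fun z => c z.1 = 1
    have key : phi sq blk w i s = (∑ z : Pt, c z • w z).val := by
      rw [phi, sum_eq_comb]
      congr 1
      refine Finset.sum_congr rfl fun z _ => ?_
      congr 1
      rcases zmod_cases (c z) with e | e
      · rw [e, if_neg]
        intro hz
        obtain ⟨y, hy, rfl⟩ := Finset.mem_map.1 hz
        have h2 := (Finset.mem_filter.1 hy).2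
        rw [show c y.1 = 0 from e] at h2
        exact one_ne h2.symm
      · rw [e, if_pos]
        have hz : blk z = i := by
          by_contra hne
          rw [hc z hne] at e
          exact one_ne e.symm
        exact Finset.mem_map.2 ⟨⟨z, hz⟩, Finset.mem_filter.2 ⟨Finset.mem_univ _, e⟩, rfl⟩
    by_cases hs : Even s.card
    · exact ⟨s, hs, key⟩
    · refine ⟨sᶜ, ?_, (phi_compl sq h b i s).trans key⟩
      have h2 := Finset.card_add_card_compl s
      have h3 := card_odd sq h b i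
      rw [← h2, Nat.odd_add] at h3
      exact h3.1 (Nat.not_even_iff_odd.1 hs)
  · rintro ⟨s, -, rfl⟩
    refine ⟨_, ?_, rfl⟩
    exact Submodule.sum_mem _ fun x _ => Submodule.subset_span ⟨x.1, x.2, rfl⟩

omit [Finite G] [Fintype I] [Fintype Pt] [DecidableEq Pt] b in
/-- an element which permutes the letters -/
theorem rel_of {i : I} (m : M) (σ : Equiv.Perm (Om blk i)) (hσ : ∀ x : Om blk i, aut sq h m (w x.1) = w (σ x).1) :
    Rel (phi sq blk w i) (m : G) σ := by
  intro s _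
  have h1 : (m : G) * phi sq blk w i s * (m : G)⁻¹ = (aut sq h m (∑ x ∈ s, w x.1)).val := rfl
  rw [h1, map_sum, phi, Finset.sum_map]
  exact congrArg EA.val (Finset.sum_congr rfl fun x _ => hσ x)

theorem act_E (i : I) (g : G) (hg : g ∈ E sq h blk w i) : ∃ σ : Equiv.Perm (Om blk i), Rel (phi sq blk w i) g σ := by
  have hg' := (mem_E sq h).1 hg
  set m : M := ⟨g, hg'.1⟩ with hm
  have : Finite (EA V sq) := inferInstance
  obtain ⟨σ, h1, h2, -⟩ := b.perm (aut sq h m) (conj_RR sq h m)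
  have hN : ∀ x, blk x ≠ i → σ x = x := by
    intro x hx
    have h3 := hg'.2.1 (blk x) hx (w x).val ⟨w x, TvBlk.Blk.w_mem_U x, rfl⟩
    have h4 : aut sq h m (w x) = w x := EA.ext h3
    rw [h1] at h4
    exact b.w_inj h4
  have hi : ∀ x, blk x = i ↔ blk (σ x) = i := by
    intro x
    constructor
    · intro hx
      by_contra hne
      have h3 := hN _ hne
      have h4 : σ x = x := σ.injective h3
      rw [h4] at hne
      exact hne hx
    · intro hx
      by_contra hne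
      rw [hN x hne] at hx
      exact hne hx
  exact ⟨σ.subtypePerm fun x => (hi x).symm, rel_of sq h m _ fun x => by rw [h1]; rfl⟩

theorem all_swap (i : I) (x y : Om blk i) (hxy : x ≠ y) :
    ∃ g ∈ E sq h blk w i, Rel (phi sq blk w i) g (Equiv.swap x y) := by
  have hb : blk x.1 = blk y.1 := x.2.trans y.2.symm
  obtain ⟨d, hd⟩ := b.tr_mem x.1 y.1 (fun e => hxy (Subtype.ext e)) hb
  obtain ⟨m, rfl⟩ := pr_surjective h d
  have hfix : ∀ a : EA V sq, (tr x.1 y.1).2 a = 0 → (m : G) * a.val * (m : G)⁻¹ = a.val := by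
    intro a ha
    have h1 := congrArg EA.val (hd.act a)
    rw [ha, zero_smul, add_zero] at h1
    exact h1
  refine ⟨m, (mem_E sq h).2 ⟨m.2, ?_, ?_⟩, rel_of sq h m _ fun z => ?_⟩
  · rintro j hj _ ⟨a, ha, rfl⟩
    exact hfix a (b.tr_U x.1 y.1 hb (by rw [x.2]; exact hj.symm) ha)
  · rintro _ ⟨a, ha, rfl⟩
    exact hfix a (b.tr_ker x.1 y.1 hb ha)
  · have h1 : aut sq h m (w z.1) = w z.1 + (tr x.1 y.1).2 (w z.1) • (tr x.1 y.1).1 := hd.act (w z.1)
    rw [h1, b.act_tr x.1 y.1 hb]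
    congr 1
    by_cases hx : z = x
    · rw [hx, Equiv.swap_apply_left, Equiv.swap_apply_left]
    · by_cases hy : z = y
      · rw [hy, Equiv.swap_apply_right, Equiv.swap_apply_right]
      · rw [Equiv.swap_apply_of_ne_of_ne hx hy,
          Equiv.swap_apply_of_ne_of_ne (fun e => hx (Subtype.ext e)) (fun e => hy (Subtype.ext e))]

theorem all_E (i : I) (σ : Equiv.Perm (Om blk i)) : ∃ g ∈ E sq h blk w i, Rel (phi sq blk w i) g σ := by
  induction σ using Equiv.Perm.swap_induction_on with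
  | one => exact ⟨1, one_mem _, Rel.one⟩
  | swap_mul σ x y hxy hσ =>
    obtain ⟨g, hg, h1⟩ := hσ
    obtain ⟨t, ht, h2⟩ := all_swap sq h b i x y hxy
    exact ⟨t * g, mul_mem ht hg, h2.mul h1⟩

/-- **the letters of block `i`** -/
theorem lett (i : I) : Lett (N sq blk w i) (E sq h blk w i) (phi sq blk w i) where
  odd := card_odd sq h b i
  mul s t := congrArg EA.val (sum_symmDiff sq (fun x : Om blk i => w x.1) s t)
  inj := phi_inj sq h b i
  mem := mem_N sq h b i
  act g hg := act_E sq h b i g hg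
  all := all_E sq h b i

end main

/-- **The block theorem in the group.** -/
theorem exists_dec [Finite G] {S : Sylow 2 G} (H : GHyp (S : Subgroup G) V M) (hsys : Sys (RR H.sq H.norm)) :
    ∃ (I : Type u) (_ : Fintype I) (_ : DecidableEq I) (N E : I → Subgroup G) (R₀ : Subgroup G),
      Dec (S : Subgroup G) M V N E R₀ ∧
      (∀ i, ∃ (Om : Type u) (_ : Fintype Om) (_ : DecidableEq Om) (phi : Finset Om → G),
        3 ≤ Fintype.card Om ∧ Lett (N i) (E i) phi) := by
  obtain ⟨Pt, I, i1, i2, i3, i4, blk, w, tr, b⟩ := exists_blk hsys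
  exact ⟨I, i2, i4, N H.sq blk w, E H.sq H.norm blk w, R₀ H.sq H.norm, dec H.sq H.norm b H.le, fun i =>
    ⟨Om blk i, inferInstance, inferInstance, phi H.sq blk w i, card_three H.sq H.norm b i, lett H.sq H.norm b i⟩⟩

end Cfsg.Agent.Omega.NOThreeL.RRed.TvDec

end

section


/-!
# NO-3L, box R, the smallest shape: L6 ([R-red], #21468)

`LFr.l6` : no `b ∈ Om` has `f b v₁ = f b v₂ = 1`.
-/

set_option autoImplicit false

namespace Cfsg.Agent.Omega.NOThreeL.RRed

open Module Cfsg.Agent.Omega.TV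

variable {H : Type*} [Group H] {V : Type*} [AddCommGroup V] [Module (ZMod 2) V]

namespace LFr

variable {ρ : H →* (V ≃ₗ[ZMod 2] V)} {S : Subgroup H} {Om : Set V} {f : V → Dual (ZMod 2) V}
  {PP : Set (Subgroup H)} {v₁ v₂ a : V} {P₀ : Subgroup H} (h : LFr ρ S Om f PP v₁ v₂ a P₀)
include h

/-- `f v₁ v₂ = 0`. -/
theorem x12 : f v₁ v₂ = 0 := by
  obtain ⟨t, ht, h1⟩ := h.t
  have h2 := h.s2 t ht
  rw [h1] at h2
  have h3 : f v₁ v₂ • v₁ = 0 := by simpa using h2
  rcases z2 (f v₁ v₂) with e | e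
  · exact e
  · rw [e, one_smul] at h3
    exact absurd h3 h.ln0.z0

theorem xOm : a ∈ Om := by
  obtain ⟨r, -, hr⟩ := h.ln0.tr
  rw [← hr]
  exact h.inv r _ h.m1

/-- `f a v₂ = 0`. -/
theorem xa2 : f a v₂ = 0 := by
  obtain ⟨r, hr, e⟩ := h.ln0.tr
  have h1 := h.toUSys.eqv' r (x := v₂) h.m1 (h.ln0.cR r hr)
  rw [e] at h1
  rw [h1, h.x12]

theorem xa1 : f a v₁ = 1 := by rw [h.toUSys.symm h.xOm h.m1, h.ta]

/-- The point `e = v₁ + a + b`. -/
theorem x_exists_e {b : V} (hb : b ∈ Om) (h1 : f b v₁ = 1) (h2 : f b v₂ = 1) :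
    ∃ e ∈ Om, f e v₁ = 0 ∧ f e v₂ = 1 ∧ f e a = 1 := by
  have U := h.toUSys
  -- without loss `f a b = 0`
  obtain ⟨b, hb, h1, h2, h3⟩ : ∃ b ∈ Om, f b v₁ = 1 ∧ f b v₂ = 1 ∧ f a b = 0 := by
    rcases z2 (f a b) with e | e
    · exact ⟨b, hb, h1, h2, e⟩
    · refine ⟨b + v₁, U.mem_add hb h.m1 h1, ?_, ?_, ?_⟩
      · rw [U.add hb h.m1 h1, h1, U.self h.m1, add_zero]
      · rw [U.add hb h.m1 h1, h2, h.x12, add_zero]
      · rw [map_add, e, h.xa1]; exact z2_add_self 1
  have h4 : v₁ + a ∈ Om := U.mem_add h.m1 h.xOm h.ta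
  have h5 : f (v₁ + a) b = 1 := by
    rw [U.add h.m1 h.xOm h.ta, U.symm h.m1 hb, h1, h3, add_zero]
  refine ⟨v₁ + a + b, U.mem_add h4 hb h5, ?_, ?_, ?_⟩
  · rw [U.add h4 hb h5, U.add h.m1 h.xOm h.ta, U.self h.m1, h.xa1, h1, zero_add]
    exact z2_add_self 1
  · rw [U.add h4 hb h5, U.add h.m1 h.xOm h.ta, h.x12, h.xa2, h2, zero_add, zero_add]
  · rw [U.add h4 hb h5, U.add h.m1 h.xOm h.ta, h.ta, U.self h.xOm, U.symm hb h.xOm, h3, add_zero, add_zero]

/-- The `S`-conjugates of `e`. -/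
theorem x_conj_e {e : V} (he : e ∈ Om) (h1 : f e v₁ = 0) (h2 : f e v₂ = 1) (h3 : f e a = 1) {s : H} (hs : s ∈ S) :
    ρ s e ∈ Om ∧ f (ρ s e) v₁ = 0 ∧ f (ρ s e) v₂ = 1 ∧ f (ρ s e) a = 1 := by
  have U := h.toUSys
  refine ⟨U.inv s e he, ?_, ?_, ?_⟩
  · rw [U.eqv' s he (h.ln0.zS s hs), h1]
  · rw [U.eqv' s he (h.s2 s hs), h2]
  · have h4 : a = ρ s (ρ s⁻¹ a) := (rinv' ρ s a).symm
    rw [h4, U.eqv s he]
    rcases h.ln0.us s⁻¹ (S.inv_mem hs) with e1 | e1
    · rw [e1, h3]
    · rw [e1, map_add, h3, h1, add_zero]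

/-- Two points perpendicular to `v₁`, with `f · v₂ = f · a = 1`, are not perpendicular. -/
theorem x_perp {c d : V} (hc : c ∈ Om) (hd : d ∈ Om) (c1 : f c v₁ = 0) (c2 : f c v₂ = 1) (c3 : f c a = 1)
    (d1 : f d v₁ = 0) (d2 : f d v₂ = 1) (d3 : f d a = 1) (hne : c ≠ d) : f c d = 1 := by
  have U := h.toUSys
  by_contra hcon
  have h0 : f c d = 0 := z2_ne_one hcon
  -- `v₁ + a`
  have k1 : v₁ + a ∈ Om := U.mem_add h.m1 h.xOm h.ta
  have g1 : ∀ x, f (v₁ + a) x = f v₁ x + f a x := U.add h.m1 h.xOm h.ta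
  -- `v₁ + a + c`
  have e1 : f (v₁ + a) c = 1 := by
    rw [g1, U.symm h.m1 hc, c1, U.symm h.xOm hc, c3, zero_add]
  have k2 : v₁ + a + c ∈ Om := U.mem_add k1 hc e1
  have g2 : ∀ x, f (v₁ + a + c) x = f v₁ x + f a x + f c x := fun x => by rw [U.add k1 hc e1, g1]
  -- `v₁ + a + c + d`
  have e2 : f (v₁ + a + c) d = 1 := by
    rw [g2, U.symm h.m1 hd, d1, U.symm h.xOm hd, d3, h0, zero_add, add_zero]
  have k3 : v₁ + a + c + d ∈ Om := U.mem_add k2 hd e2
  have g3 : ∀ x, f (v₁ + a + c + d) x = f v₁ x + f a x + f c x + f d x := fun x => by rw [U.add k2 hd e2, g2]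
  -- `v₁ + c + d`
  have e3 : f (v₁ + a + c + d) a = 1 := by
    rw [g3, h.ta, U.self h.xOm, c3, d3]; decide
  have k4' : v₁ + a + c + d + a ∈ Om := U.mem_add k3 h.xOm e3
  have ee : v₁ + a + c + d + a = v₁ + c + d := by
    calc v₁ + a + c + d + a = v₁ + c + d + (a + a) := by abel
      _ = v₁ + c + d := by rw [v_add_self, add_zero]
  have k4 : v₁ + c + d ∈ Om := ee ▸ k4'
  have g4 : ∀ x, f (v₁ + c + d) x = f v₁ x + f c x + f d x := fun x => by
    rw [← ee, U.add k3 h.xOm e3, g3]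
    calc f v₁ x + f a x + f c x + f d x + f a x = f v₁ x + f c x + f d x + (f a x + f a x) := by ring
      _ = _ := by rw [z2_add_self, add_zero]
  have e4 : f (v₁ + c + d) v₂ = 0 := by rw [g4, h.x12, c2, d2]; decide
  have e5 : f (v₁ + c + d) a = 1 := by rw [g4, h.ta, c3, d3]; decide
  have e6 : f (v₁ + c + d) v₁ = 0 := by rw [g4, U.self h.m1, c1, d1]; decide
  -- the transvection
  obtain ⟨g, hg⟩ := U.ex k4
  obtain ⟨r, hr, hra⟩ := h.ln0.tr
  have h5 : ρ (g * r) v₂ = v₂ := by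
    rw [rmul, h.ln0.cR r hr, hg, e4, zero_smul, add_zero]
  have h6 := h.l3 (g * r) h5
  rw [rmul, hra, hg, e5, one_smul] at h6
  rcases h6 with h6 | h6 | h6
  · -- `v₁ + c + d = a + v₁`
    have h7 : v₁ + c + d = v₁ + a := by
      calc v₁ + c + d = a + (a + (v₁ + c + d)) := (self_add_add _ _).symm
        _ = v₁ + a := by rw [h6, add_comm]
    rw [h7, g1, U.self h.m1, h.xa1, zero_add] at e6
    exact one_ne_zero e6
  · have h7 : v₁ + c + d = 0 := by
      calc v₁ + c + d = a + (a + (v₁ + c + d)) := (self_add_add _ _).symm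
        _ = 0 := by rw [h6, v_add_self]
    exact h.zero (h7 ▸ k4)
  · have h7 : v₁ + c + d = v₁ := by
      calc v₁ + c + d = a + (a + (v₁ + c + d)) := (self_add_add _ _).symm
        _ = v₁ := by rw [h6, self_add_add]
    have h8 : c + d = 0 := by
      have h9 : v₁ + (v₁ + c + d) = v₁ + v₁ := by rw [h7]
      rw [v_add_self] at h9
      calc c + d = v₁ + (v₁ + (c + d)) := (self_add_add _ _).symm
        _ = v₁ + (v₁ + c + d) := by rw [add_assoc v₁ c d]
        _ = 0 := h9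
    exact hne (v_eq_of_add h8)

/-- **L6.** -/
theorem l6 {b : V} (hb : b ∈ Om) (h1 : f b v₁ = 1) (h2 : f b v₂ = 1) : False := by
  have U := h.toUSys
  obtain ⟨e, he, e1, e2, e3⟩ := h.x_exists_e hb h1 h2
  have hce : ∀ s ∈ S, ρ s e ∈ Om ∧ f (ρ s e) v₁ = 0 ∧ f (ρ s e) v₂ = 1 ∧ f (ρ s e) a = 1 := fun s hs =>
    h.x_conj_e he e1 e2 e3 hs
  have hee : ∀ s ∈ S, ρ s e ≠ e → f e (ρ s e) = 1 := fun s hs hne =>
    h.x_perp he (hce s hs).1 e1 e2 e3 (hce s hs).2.1 (hce s hs).2.2.1 (hce s hs).2.2.2 (Ne.symm hne)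
  -- the orbit of `v₂`
  let Ω : Set V := {x | x = v₂ ∨ ∃ s ∈ S, x = v₂ + ρ s e}
  obtain ⟨t, ht⟩ := U.ex he
  have hS : ∀ s ∈ S, ∀ x ∈ Ω, ρ s x ∈ Ω := by
    rintro s hs x (rfl | ⟨s', hs', rfl⟩)
    · exact Or.inl (h.s2 s hs)
    · exact Or.inr ⟨s * s', S.mul_mem hs hs', by rw [map_add, h.s2 s hs, rmul]⟩
  have hT : ∀ x ∈ Ω, ρ t x ∈ Ω := by
    rintro x (rfl | ⟨s, hs, rfl⟩)
    · right
      exact ⟨1, S.one_mem, by rw [ht, e2, one_smul, rone]⟩
    · by_cases hne : ρ s e = e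
      · left
        rw [hne, ht, map_add, e2, U.self he, add_zero, one_smul, add_add_self]
      · right
        refine ⟨s, hs, ?_⟩
        rw [ht, map_add, e2, hee s hs hne, z2_add_self, zero_smul, add_zero]
  have hti : ∀ x, ρ t⁻¹ x = ρ t x := by
    intro x
    have h3 := U.invol he ht x
    calc ρ t⁻¹ x = ρ t⁻¹ (ρ t (ρ t x)) := by rw [h3]
      _ = ρ t x := rinv ρ t _
  let K : Subgroup H :=
    { carrier := {g | (∀ x ∈ Ω, ρ g x ∈ Ω) ∧ (∀ x ∈ Ω, ρ g⁻¹ x ∈ Ω) ∧ ρ g v₁ = v₁}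
      one_mem' := ⟨fun x hx => by rwa [rone], fun x hx => by rwa [inv_one, rone], rone ρ _⟩
      mul_mem' := by
        rintro g g' ⟨a1, a2, a3⟩ ⟨b1, b2, b3⟩
        refine ⟨fun x hx => ?_, fun x hx => ?_, ?_⟩
        · rw [rmul]; exact a1 _ (b1 x hx)
        · rw [mul_inv_rev, rmul]; exact b2 _ (a2 x hx)
        · rw [rmul, b3, a3]
      inv_mem' := by
        rintro g ⟨a1, a2, a3⟩
        refine ⟨a2, fun x hx => ?_, ?_⟩
        · rw [inv_inv]; exact a1 x hx
        · conv_lhs => rw [← a3]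
          exact rinv ρ g v₁ }
  have hSK : S ≤ K := fun s hs =>
    ⟨hS s hs, hS s⁻¹ (S.inv_mem hs), h.ln0.zS s hs⟩
  have htK : t ∈ K :=
    ⟨hT, fun x hx => by rw [hti]; exact hT x hx, by rw [ht, e1, zero_smul, add_zero]⟩
  have he0 : e ≠ 0 := U.c_ne he
  obtain ⟨R, hR, hRK, g, hgR, hg⟩ := h.gen K hSK (fun g hg => hg.2.2)
    ⟨t, htK, by
      rw [ht, e2, one_smul]
      intro h3
      exact he0 (by simpa using h3)⟩
  obtain ⟨z, u, c, L⟩ := h.par R hR
  have hgv : ∃ s ∈ S, ρ g v₂ = v₂ + ρ s e := (hRK hgR).1 v₂ (Or.inl rfl) |>.resolve_left hg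
  obtain ⟨s₀, hs₀, hg0⟩ := hgv
  -- all `v₂ + ρ s e` are in the `R`-orbit of `v₂`
  have horb : ∀ s ∈ S, ∃ r ∈ R, ρ r v₂ = v₂ + ρ s e := by
    intro s hs
    refine ⟨s * s₀⁻¹ * g, R.mul_mem (R.mul_mem (L.le hs) (L.le (S.inv_mem hs₀))) hgR, ?_⟩
    rw [rmul, hg0, map_add, h.s2 _ (S.mul_mem hs (S.inv_mem hs₀)), ← rmul]
    congr 2
    group
  -- the `R`-orbit of `v₂`
  have hR1 : ∀ r ∈ R, ρ r v₁ = v₁ := fun r hr => (hRK hr).2.2
  have hzu : z ≠ u := by
    rintro rfl
    obtain ⟨s, hs, h3⟩ := L.mv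
    exact h3 (L.zS s hs)
  obtain ⟨p, q, hpq⟩ : ∃ p q : V, ∀ r ∈ R, ρ r v₂ = v₂ ∨ ρ r v₂ = p ∨ ρ r v₂ = q := by
    rcases h.fix z L.zS with h3 | h3 | h3 | h3
    · exact absurd h3 L.z0
    · exfalso
      obtain ⟨r, hr, h4⟩ := L.tr
      rw [h3, hR1 r hr] at h4
      exact hzu (h3.trans h4)
    · exact ⟨u, u + z, fun r hr => by
        have := L.orb r hr
        rwa [h3] at this ⊢⟩
    · refine ⟨u + v₁, u + z + v₁, fun r hr => ?_⟩
      have h4 : ρ r v₂ = ρ r z + v₁ := by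
        calc ρ r v₂ = ρ r (v₁ + (v₁ + v₂)) := by rw [self_add_add]
          _ = v₁ + ρ r z := by rw [map_add, hR1 r hr, h3]
          _ = ρ r z + v₁ := add_comm _ _
      rw [h4]
      rcases L.orb r hr with h5 | h5 | h5
      · left
        rw [h5, h3, add_comm, self_add_add]
      · right; left; rw [h5]
      · right; right; rw [h5]
  have hpq' : ∀ s ∈ S, v₂ + ρ s e = p ∨ v₂ + ρ s e = q := by
    intro s hs
    obtain ⟨r, hr, h3⟩ := horb s hs
    rcases hpq r hr with h4 | h4 | h4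
    · exfalso
      rw [h3] at h4
      have h5 : ρ s e = 0 := by simpa using h4
      exact U.c_ne (hce s hs).1 h5
    · left; rw [← h3, h4]
    · right; rw [← h3, h4]
  -- `e` is not fixed by `S`
  have hnf : ∃ s ∈ S, ρ s e ≠ e := by
    by_contra hcon
    push Not at hcon
    have h3 := h.l2 e he hcon
    rw [h3, h.x12] at e2
    exact zero_ne_one e2
  obtain ⟨s₁, hs₁, hne⟩ := hnf
  have he1 := hpq' 1 S.one_mem
  rw [rone] at he1
  have he2 := hpq' s₁ hs₁
  have hcan : ∀ {x y : V}, v₂ + x = v₂ + y → x = y := fun {x y} hxy => add_left_cancel hxy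
  -- the orbit is `{e, ρ s₁ e}`
  have hor : ∀ s ∈ S, ρ s e = e ∨ ρ s e = ρ s₁ e := by
    intro s hs
    have h3 := hpq' s hs
    rcases he1 with h4 | h4 <;> rcases he2 with h5 | h5 <;> rcases h3 with h6 | h6
    all_goals first
      | exact Or.inl (hcan (h6.trans h4.symm))
      | exact Or.inr (hcan (h6.trans h5.symm))
      | exact absurd (hcan (h5.trans h4.symm)) hne
  have hsum : ∀ s ∈ S, ρ s (e + ρ s₁ e) = e + ρ s₁ e := by
    intro s hs
    rw [map_add, ← rmul]
    have hd : ρ s e ≠ ρ (s * s₁) e := by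
      rw [rmul]
      intro h3
      exact hne ((ρ s).injective h3).symm
    rcases hor s hs with h3 | h3 <;> rcases hor (s * s₁) (S.mul_mem hs hs₁) with h4 | h4
    · exact absurd (h3.trans h4.symm) hd
    · rw [h3, h4]
    · rw [h3, h4, add_comm]
    · exact absurd (h3.trans h4.symm) hd
  have hf := hee s₁ hs₁ hne
  have hm : e + ρ s₁ e ∈ Om := U.mem_add he (hce s₁ hs₁).1 hf
  have h7 := h.l2 _ hm hsum
  rw [← h7, map_add, U.self he, hf, zero_add] at e1
  exact one_ne_zero e1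

end LFr

end Cfsg.Agent.Omega.NOThreeL.RRed

end

end

-- merged: Cfsg.Agent.Mrg.Omega.NOThreeL.RRed.InstS
section

/-!
# NO-3L, box R, `|Z| = 4`: two orbits of blocks give the frame `KL.TwoS.Fr` (#22505, #23579)

`TwoV S V v` : `Ω₁Z(S) = ⟨v 0, v 1⟩`, `v i ∈ V i ≤ V_P` for some `P ∈ P*(S)`; every `R ∈ P*(S)` centralises `v 0` or
`v 1`, normalises `V 0`, `V 1`, and (if it moves `v i`) is irreducible on `V i`, its elements of odd order centralise
`V j`, and the orbit `v i ^ R` does not depend on `R`.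

* `TwoV.isLong` : `C_G(v i)` is long; `TwoV.kgroup` : it is a `K`-group;
* `TwoV.cent_of_norm` : `N_G(S) ⊓ C_G(v i)` centralises `Ω₁Z(S)`;
* **`TwoV.fr`** : with `RB S`: `KL.TwoS.Fr S V v`.
-/

set_option autoImplicit false
set_option linter.unusedSectionVars false

namespace Cfsg.Agent.Omega.NOThreeL.RRed

open Subgroup Cfsg Cfsg.Agent.ZN Cfsg.Agent.Omega.MinPar Cfsg.Agent.Omega.Frame Cfsg.Agent.Omega.FrameNOFF
open Cfsg.Agent.Omega.Node.NO3L Cfsg.Agent.Omega.NOThreeL.Basic Cfsg.Agent.Omega.NOThreeL.RTree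
open Cfsg.Agent.Omega.NoFF.Basic (conj_conj mem_conj conj_le_iff conj_le_centralizer comm_symm comm_mono)
open Cfsg.Agent.Omega.NOThreeL.Pair (conj_eq_of_mem)
open Cfsg.Agent.Omega.FFThm (syl_of_sylow)
open Cfsg.Agent.MinSimple.VModule (le_normalizer_o2 zc_le_zl le_centralizer_zc)
open Cfsg.Agent.MinSimple.MinParabolic (IsMinPar)
open scoped Pointwise

universe u

variable {G : Type u} [Group G]

/-- Two orbits of blocks, `|Z| = 4`. -/
structure TwoV (S : Subgroup G) (V : Fin 2 → Subgroup G) (v : Fin 2 → G) : Prop where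
  mem : ∀ i, v i ∈ V i
  ne : ∀ i, v i ≠ 1
  zS : ∀ x, x ∈ zc S ↔ x = 1 ∨ x = v 0 ∨ x = v 1 ∨ x = v 0 * v 1
  VP : ∀ i, ∃ P, IsParS S P ∧ V i ≤ zl S P
  cen : ∀ R, IsParS S R → R ≤ centralizer ({v 0} : Set G) ∨ R ≤ centralizer ({v 1} : Set G)
  nrm : ∀ R, IsParS S R → ∀ i, R ≤ normalizer (V i : Set G)
  odd : ∀ i j, i ≠ j → ∀ R, IsParS S R → R ≤ centralizer ({v j} : Set G) → ¬ R ≤ centralizer ({v i} : Set G) →
    ∀ g ∈ R, Odd (orderOf g) → g ∈ centralizer (V j : Set G)
  irr : ∀ i j, i ≠ j → ∀ R, IsParS S R → R ≤ centralizer ({v j} : Set G) → ¬ R ≤ centralizer ({v i} : Set G) →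
    ∀ W : Subgroup G, W ≤ V i → R ≤ normalizer (W : Set G) → W ≠ ⊥ → V i ≤ W
  same : ∀ i j, i ≠ j → ∀ R, IsParS S R → R ≤ centralizer ({v j} : Set G) → ¬ R ≤ centralizer ({v i} : Set G) →
    ∀ R', IsParS S R' → R' ≤ centralizer ({v j} : Set G) → ¬ R' ≤ centralizer ({v i} : Set G) →
      ∀ r' ∈ R', ∃ r ∈ R, r' * v i * r'⁻¹ = r * v i * r⁻¹

namespace TwoV

section one

variable {S : Subgroup G} {V : Fin 2 → Subgroup G} {v : Fin 2 → G} (T : TwoV S V v)
include T

theorem v_zc (i : Fin 2) : v i ∈ zc S := by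
  rw [T.zS]
  rcases Fin.exists_fin_two.1 ⟨i, rfl⟩ with h | h
  · exact Or.inr (Or.inl (by rw [h]))
  · exact Or.inr (Or.inr (Or.inl (by rw [h])))

theorem comm_s (i : Fin 2) {s : G} (hs : s ∈ S) : s * v i = v i * s := (mem_zc.1 (T.v_zc i)).2.1 s hs

theorem v_sq (i : Fin 2) : v i * v i = 1 := by
  rw [← pow_two]; exact (mem_zc.1 (T.v_zc i)).2.2

theorem v_comm (i j : Fin 2) : v i * v j = v j * v i := T.comm_s j (zc_le _ (T.v_zc i))

/-- the elements of `Ω₁Z(S)` in terms of `i ≠ j` -/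
theorem zS' {i j : Fin 2} (hij : i ≠ j) {x : G} (hx : x ∈ zc S) : x = 1 ∨ x = v i ∨ x = v j ∨ x = v i * v j := by
  have h2 : ∀ a b : Fin 2, a ≠ b → (a = 0 ∧ b = 1) ∨ (a = 1 ∧ b = 0) := by decide
  rcases h2 i j hij with ⟨rfl, rfl⟩ | ⟨rfl, rfl⟩
  · exact (T.zS x).1 hx
  · rcases (T.zS x).1 hx with h | h | h | h
    · exact Or.inl h
    · exact Or.inr (Or.inr (Or.inl h))
    · exact Or.inr (Or.inl h)
    · exact Or.inr (Or.inr (Or.inr (by rw [h, T.v_comm])))

end one

variable [Finite G] {S : Sylow 2 G} {V : Fin 2 → Subgroup G} {v : Fin 2 → G} (T : TwoV (S : Subgroup G) V v)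
include T

theorem le_C (i : Fin 2) : (S : Subgroup G) ≤ centralizer ({v i} : Set G) := fun _ hs =>
  mem_centralizer_singleton_iff.2 (T.comm_s i hs)

theorem CZ_le (i : Fin 2) : CZ (S : Subgroup G) ≤ centralizer ({v i} : Set G) :=
  centralizer_le (Set.singleton_subset_iff.2 (T.v_zc i))

/-- `C_G(v i)` is long. -/
theorem isLong (i : Fin 2) : IsLong (S : Subgroup G) (centralizer ({v i} : Set G)) where
  loc := by
    refine isLoc_of_le_normalizer S (T.le_C i) (U := zpowers (v i)) ?_ ?_ ?_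
    · refine S.isPGroup'.to_le ?_
      rw [zpowers_le]; exact zc_le _ (T.v_zc i)
    · rw [Ne, zpowers_eq_bot]; exact T.ne i
    · refine le_trans ?_ (centralizer_le_normalizer _)
      intro g hg
      refine mem_centralizer_iff.2 fun x hx => ?_
      obtain ⟨k, rfl⟩ := mem_zpowers_iff.1 hx
      have e : Commute (v i) g := (mem_centralizer_singleton_iff.1 hg).symm
      exact (e.zpow_left k).eq
  cz := T.CZ_le i

theorem kgroup (B : RB S) (i : Fin 2) : IsKGroup (centralizer ({v i} : Set G)) := by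
  have := B.ctx.simple
  exact B.ctx.kproper _ ((T.isLong i).loc.ne_top S B.ctx.not_isPGroup)

/-- `R ∈ P(S)`, `R ≤ C_G(v j)`, moving `v i`, is in `P*(S)`. -/
theorem isParS {i j : Fin 2} {R : Subgroup G} (hR : IsMinPar (S : Subgroup G) R)
    (hRj : R ≤ centralizer ({v j} : Set G)) (hRi : ¬ R ≤ centralizer ({v i} : Set G)) : IsParS (S : Subgroup G) R := by
  have hIP : IsPar (S : Subgroup G) R := by
    refine ⟨hR, ?_⟩
    exact ((T.isLong j).loc.of_le S hR.le hRj).o2_ne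
  exact ⟨hIP, fun h => hRi ((NoFF.LinesPlug.le_CC S hIP h).trans (T.CZ_le i))⟩

/-- `N_G(S) ⊓ C_G(v i)` centralises `Ω₁Z(S)`. -/
theorem cent_of_norm (i : Fin 2) : centralizer ({v i} : Set G) ⊓ normalizer ((S : Subgroup G) : Set G) ≤
    centralizer (zc (S : Subgroup G) : Set G) := by
  have hf : Fact (Nat.Prime 2) := ⟨Nat.prime_two⟩
  rintro c ⟨hc, hn⟩
  obtain ⟨j, hij⟩ : ∃ j : Fin 2, i ≠ j := ⟨i + 1, OM.KTwo.ne_add_one i⟩
  have hci : c * v i * c⁻¹ = v i := by rw [mem_centralizer_singleton_iff.1 hc]; group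
  have hcj : c * v j * c⁻¹ = v j := by
    have hz : c * v j * c⁻¹ ∈ zc (S : Subgroup G) := by
      have h3 := T.v_zc j
      rw [mem_zc] at h3 ⊢
      refine ⟨(mem_normalizer_iff.1 hn _).1 h3.1, fun t ht => ?_, ?_⟩
      · have h4 := h3.2.1 _ ((mem_normalizer_iff''.1 hn t).1 ht)
        calc t * (c * v j * c⁻¹) = c * ((c⁻¹ * t * c) * v j) * c⁻¹ := by group
          _ = c * v j * c⁻¹ * t := by rw [h4]; group
      · have e : (c * v j * c⁻¹) ^ 2 = c * (v j ^ 2) * c⁻¹ := by rw [pow_two, pow_two]; group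
        rw [e, h3.2.2]; group
    rcases T.zS' hij hz with h | h | h | h
    · exact absurd (conj_eq_one_iff.1 h) (T.ne j)
    · exfalso
      have h5 : v j = v i := by
        calc v j = c⁻¹ * (c * v j * c⁻¹) * c := by group
          _ = c⁻¹ * (c * v i * c⁻¹) * c := by rw [h, hci]
          _ = v i := by group
      obtain ⟨P, hP, -⟩ := T.VP i
      apply hP.2
      have h6 : P ≤ centralizer ({v i} : Set G) := by
        have h2 : ∀ a b : Fin 2, a ≠ b → (a = 0 ∧ b = 1) ∨ (a = 1 ∧ b = 0) := by decide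
        rcases h2 i j hij with ⟨rfl, rfl⟩ | ⟨rfl, rfl⟩
        · rcases T.cen P hP with h7 | h7
          · exact h7
          · rwa [h5] at h7
        · rcases T.cen P hP with h7 | h7
          · rwa [h5] at h7
          · exact h7
      refine le_trans ?_ (centralizer_le_normalizer _)
      intro p hp
      refine mem_centralizer_iff.2 fun x hx => ?_
      have h7 := mem_centralizer_singleton_iff.1 (h6 hp)
      rcases T.zS' hij hx with h8 | h8 | h8 | h8
      · rw [h8, one_mul, mul_one]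
      · rw [h8, h7]
      · rw [h8, h5, h7]
      · rw [h8, h5, T.v_sq, one_mul, mul_one]
    · exact h
    · exfalso
      -- `c²` fixes `v j`; an odd power of `c` lies in `S`
      obtain ⟨a, m, hm, hord⟩ := Nat.exists_eq_two_pow_mul_odd (orderOf_pos c).ne'
      have hcm : c ^ m ∈ (S : Subgroup G) := by
        have h2 : IsPGroup 2 (zpowers (c ^ m)) := by
          refine IsPGroup.of_card (n := a) ?_
          rw [Nat.card_zpowers, orderOf_pow, hord, Nat.gcd_eq_right (Dvd.intro_left _ rfl),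
            Nat.mul_div_cancel _ (Nat.pos_of_ne_zero (by rintro rfl; simp at hm))]
        have h3 : zpowers (c ^ m) ≤ normalizer ((S : Subgroup G) : Set G) := by
          rw [zpowers_le]; exact pow_mem hn m
        have h4 : IsPGroup 2 ((S : Subgroup G) ⊔ zpowers (c ^ m) : Subgroup G) :=
          IsPGroup.to_sup_of_normal_left' S.isPGroup' h2 h3
        have h5 := S.is_maximal' h4 le_sup_left
        exact h5.le (mem_sup_right (mem_zpowers _))
      have h2 : c ^ 2 * v j = v j * c ^ 2 := by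
        have e1 : c * v j = v i * v j * c := by rw [← h]; group
        have e2 : c * v i = v i * c := mem_centralizer_singleton_iff.1 hc
        calc c ^ 2 * v j = c * (c * v j) := by rw [pow_two]; group
          _ = (c * v i) * v j * c := by rw [e1]; group
          _ = v i * (c * v j) * c := by rw [e2]; group
          _ = (v i * v i) * v j * (c * c) := by rw [e1]; group
          _ = v j * c ^ 2 := by rw [T.v_sq, one_mul, pow_two]
      obtain ⟨k, hk⟩ := hm
      have h6 : c ^ m * v j * (c ^ m)⁻¹ = c * v j * c⁻¹ := by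
        have h7 : Commute ((c ^ 2) ^ k) (v j) := (show Commute (c ^ 2) (v j) from h2).pow_left k
        have e : c ^ m = c * (c ^ 2) ^ k := by rw [hk, pow_succ', pow_mul]
        calc c ^ m * v j * (c ^ m)⁻¹ = c * ((c ^ 2) ^ k * v j) * ((c ^ 2) ^ k)⁻¹ * c⁻¹ := by rw [e]; group
          _ = c * v j * c⁻¹ := by rw [h7.eq]; group
      have h7 : c ^ m * v j * (c ^ m)⁻¹ = v j := by rw [T.comm_s j hcm]; group
      rw [h6, h] at h7
      exact T.ne i (mul_eq_right.1 h7)
  refine mem_centralizer_iff.2 fun x hx => ?_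
  have e1 : c * v i = v i * c := mem_centralizer_singleton_iff.1 hc
  have e2 : c * v j = v j * c := by
    calc c * v j = c * v j * c⁻¹ * c := by group
      _ = v j * c := by rw [hcj]
  rcases T.zS' hij hx with h8 | h8 | h8 | h8
  · rw [h8, one_mul, mul_one]
  · rw [h8, e1]
  · rw [h8, e2]
  · rw [h8]
    calc v i * v j * c = v i * (c * v j) := by rw [e2]; group
      _ = c * (v i * v j) := by rw [← mul_assoc, ← e1]; group

/-- **The frame of two centres.** -/
theorem fr (B : RB S) : KL.TwoS.Fr (S : Subgroup G) V v := by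
  have hc := B.ctx.char2
  have hVF : ∀ i j, V i ≤ FH (S : Subgroup G) (centralizer ({v j} : Set G)) := by
    intro i j
    obtain ⟨P, hP, hV⟩ := T.VP i
    exact hV.trans ((zl_le_WP hP).trans (WP_le_FH _ _))
  have hsq : ∀ i, ∀ x ∈ V i, x ^ 2 = 1 := by
    intro i x hx
    obtain ⟨P, hP, hV⟩ := T.VP i
    exact (FFThm.elem_zl hc S hP.isLoc).2 x (hV hx)
  refine
    { char2 := fun i => MinSimple.Basic.char2_centralizer hc (by rw [pow_two]; exact T.v_sq i) (T.ne i)
      sqV := hsq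
      mem := T.mem
      ne := T.ne
      zT := T.zS
      syl := fun i => syl_of_sylow S (T.le_C i)
      nT := fun i => T.cent_of_norm i
      nV := fun i => ?_
      VQ := fun i => (hVF i i).trans (NotA.FH_le_o2 B.data B.notA (T.isLong i))
      VC := fun i c hc' => ?_
      uni := fun i j _ R hR hRj hRi k => T.nrm R (T.isParS hR hRj hRi) k
      odd := fun i j hij R hR hRj hRi => T.odd i j hij R (T.isParS hR hRj hRi) hRj hRi
      irr := fun i j hij R hR hRj hRi => T.irr i j hij R (T.isParS hR hRj hRi) hRj hRi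
      same := fun i j hij R hR hRj hRi R' hR' hRj' hRi' =>
        T.same i j hij R (T.isParS hR hRj hRi) hRj hRi R' (T.isParS hR' hRj' hRi') hRj' hRi'
      nonloc := ?_ }
  · obtain ⟨P, hP, -⟩ := T.VP i
    exact hP.le.trans (T.nrm P hP i)
  · obtain ⟨P, hP, hV⟩ := T.VP i
    have h1 : MulAut.conj c • V i ≤ FH (S : Subgroup G) (centralizer ({v i} : Set G)) :=
      (conj_le_iff.2 (hV.trans (zl_le_WP hP))).trans (conj_WP_le_FH _ hc')
    exact comm_mono (NotA.FH_comm hc B.data B.notA (T.isLong i)) h1 (hVF i i)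
  · intro U hU h0 h1
    refine Merge.nonLoc_MZ B.ctx B.full U hU (sSup_le fun R hR => ?_) ((T.CZ_le 0).trans h0)
    rcases T.cen R hR with h | h
    · exact h.trans h0
    · exact h.trans h1

end TwoV

end Cfsg.Agent.Omega.NOThreeL.RRed

end

-- merged: Cfsg.Agent.Mrg.Omega.NOThreeL.RRed.TvFin
section

section


/-!
# The block theorem for transvections over `𝔽₂`: final form in the group

* `of_zl` : `GHyp` for `V = zl S L`, `M = L`;
* `Full S M V N E R₀ Om phi` : `Dec` + letters + : every element of `M` which acts on `V` as a transvection is in some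
  `E i` and acts as a transposition of letters; `R₀` = the elements of `V` fixed by all these; `M` acts on the letters;
* `Full.rel_of_fix`, `Full.inner` : an element of `M` which normalises `N i` permutes the letters of `i`, and acts as an
  element of `E i`;
* `exists_full` : from `Sys (RR ..)`; **`blocks`** : from `GHyp` alone; `blocks_zl` : for `V = zl S L`.
-/

set_option autoImplicit false
set_option linter.unusedSectionVars false

namespace Cfsg.Agent.Omega.NOThreeL.RRed.TvFin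

open Subgroup Cfsg.Agent.Omega.TV Cfsg.Agent.Omega.FFBr
open Cfsg.Agent.ZN (zl zc)
open Cfsg.Agent.Omega.Transv (zmod_cases eq_one_of_ne eq_zero_of_ne one_ne add_self eq_of_add)
open Cfsg.Agent.Omega.FFThm (ElemM OffM NoOverM)
open Cfsg.Agent.Omega.NOThreeL.RRed.TvG
open Cfsg.Agent.Omega.NOThreeL.RRed.TvBlk
open Cfsg.Agent.Omega.NOThreeL.RRed.TvDec
open Cfsg.Agent.Omega.NOThreeL.RRed.Blk (Dec Co)
open Cfsg.Agent.Omega.KL.TwoS (Rel Lett)
open scoped Pointwise

universe u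

variable {G : Type u} [Group G]

/-- `GHyp` for `V = zl S L`. -/
theorem of_zl [Finite G] {S L : Subgroup G} (hSL : S ≤ L) (hsq : ∀ v ∈ zl S L, v ^ 2 = 1)
    (hno : NoOverM (zl S L) L) : GHyp S (zl S L) L where
  le := hSL
  norm := Cfsg.Agent.MinSimple.VModule.le_normalizer_zl _ _
  sq x hx := by rw [← pow_two]; exact hsq x hx
  no := hno
  gen K hK := FFBr.zl_le_of fun g hg z hz =>
    hK g hg z (Cfsg.Agent.MinSimple.VModule.zc_le_zl _ _ hz) (Cfsg.Agent.MinSimple.VModule.mem_zc.1 hz).2.1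

/-- `x` acts on `V` as a transvection with centre `c`, or trivially. -/
def TvV (V : Subgroup G) (c x : G) : Prop := ∀ w ∈ V, x * w * x⁻¹ = w ∨ x * w * x⁻¹ = w * c

/-- **Blocks of letters.** -/
structure Full (S M V : Subgroup G) {I : Type u} (N E : I → Subgroup G) (R₀ : Subgroup G) (Om : I → Type u)
    [∀ i, Fintype (Om i)] [∀ i, DecidableEq (Om i)] (phi : ∀ i, Finset (Om i) → G) : Prop
    extends Dec S M V N E R₀ where
  three : ∀ i, 3 ≤ Fintype.card (Om i)
  lett : ∀ i, Lett (N i) (E i) (phi i)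
  tvs : ∀ x ∈ M, ∀ c ∈ V, TvV V c x → x ∉ centralizer (V : Set G) →
    ∃ i, x ∈ E i ∧ ∃ a b : Om i, a ≠ b ∧ c = phi i {a, b} ∧ Rel (phi i) x (Equiv.swap a b)
  swap : ∀ i, ∀ a b : Om i, a ≠ b → ∃ x ∈ E i, Rel (phi i) x (Equiv.swap a b) ∧ TvV V (phi i {a, b}) x
  fixR : ∀ v ∈ V, (v ∈ R₀ ↔ ∀ x ∈ M, ∀ c ∈ V, TvV V c x → x * v * x⁻¹ = v)
  letters : ∀ g ∈ M, ∃ (τ : Equiv.Perm I) (σ : ∀ i, Om i ≃ Om (τ i)), (∀ i, MulAut.conj g • N i = N (τ i)) ∧
    (∀ i, MulAut.conj g • E i = E (τ i)) ∧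
      ∀ i (s : Finset (Om i)), g * phi i s * g⁻¹ = phi (τ i) (s.map (σ i).toEmbedding)

namespace Full

variable {S M V : Subgroup G} {I : Type u} {N E : I → Subgroup G} {R₀ : Subgroup G} {Om : I → Type u}
    [∀ i, Fintype (Om i)] [∀ i, DecidableEq (Om i)] {phi : ∀ i, Finset (Om i) → G}

omit [∀ i, Fintype (Om i)] [∀ i, DecidableEq (Om i)] in
theorem phi_cast (phi : ∀ i, Finset (Om i) → G) {i j : I} (h : j = i) (s : Finset (Om j)) :
    phi j s = phi i (s.map (Equiv.cast (congrArg Om h)).toEmbedding) := by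
  subst h
  congr 1
  ext x
  simp

variable (F : Full S M V N E R₀ Om phi)
include F

/-- an element which normalises `N i` permutes the letters of `i` -/
theorem rel_of_fix {g : G} (hg : g ∈ M) {i : I} (hi : MulAut.conj g • N i = N i) :
    ∃ σ : Equiv.Perm (Om i), Rel (phi i) g σ := by
  obtain ⟨τ, σ, h1, -, h3⟩ := F.letters g hg
  have hτ : τ i = i := F.toDec.Ninj (by rw [← h1 i, hi])
  refine ⟨(σ i).trans (Equiv.cast (congrArg Om hτ)), fun s _ => ?_⟩
  rw [h3 i s, phi_cast phi hτ, Finset.map_map]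
  rfl

/-- it acts on `N i` as an element of `E i` -/
theorem inner {g : G} (hg : g ∈ M) {i : I} (hi : MulAut.conj g • N i = N i) :
    ∃ e ∈ E i, ∀ x ∈ N i, g * x * g⁻¹ = e * x * e⁻¹ := by
  obtain ⟨σ, hσ⟩ := F.rel_of_fix hg hi
  obtain ⟨e, he, h2⟩ := (F.lett i).all σ
  refine ⟨e, he, fun x hx => ?_⟩
  obtain ⟨s, hs, rfl⟩ := ((F.lett i).mem x).1 hx
  rw [hσ s hs, h2 s hs]

end Full

section main

variable {V M : Subgroup G} (sq : ∀ x ∈ V, x * x = 1) (h : M ≤ normalizer (V : Set G))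
variable {Pt I : Type u} [Fintype Pt] [Fintype I] [DecidableEq Pt] [DecidableEq I] {blk : Pt → I} {w : Pt → EA V sq}
  {tr : Pt → Pt → TvBlk.W (EA V sq)} (b : Blk (RR sq h) blk w tr)
include b

theorem w_ne (x : Pt) : w x ≠ 0 := by
  obtain ⟨y, hne, hb⟩ := b.exists_other x
  intro h0
  have h1 := b.tr_self x y hb.symm hne.symm
  rw [h0, map_zero] at h1
  exact one_ne h1.symm

theorem blk_of_mem {y : Pt} {j : I} (hy : w y ∈ TvBlk.U blk w j) : blk y = j := by
  by_contra hne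
  have h1 : w y ∈ TvBlk.U blk w (blk y) ⊓ ((⨆ k : {k // k ≠ blk y}, TvBlk.U blk w k) ⊔ TvBlk.ker (RR sq h)) := by
    refine ⟨TvBlk.Blk.w_mem_U y, ?_⟩
    exact Submodule.mem_sup_left (Submodule.mem_iSup_of_mem (⟨j, fun e => hne e.symm⟩ : {k // k ≠ blk y}) hy)
  rw [b.ind, Submodule.mem_bot] at h1
  exact w_ne sq h b y h1

theorem phi_pair (i : I) (x y : Om blk i) (hxy : x ≠ y) : phi sq blk w i {x, y} = (tr x.1 y.1).1.val := by
  rw [b.tr_fst x.1 y.1 (x.2.trans y.2.symm), phi, Finset.sum_pair hxy]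

variable [Finite G]

theorem tvs {x c : G} (hx : x ∈ M) (hc : c ∈ V) (hT : TvV V c x) (hne : x ∉ centralizer (V : Set G)) :
    ∃ i, x ∈ TvDec.E sq h blk w i ∧ ∃ y z : Om blk i, y ≠ z ∧ c = phi sq blk w i {y, z} ∧
      Rel (phi sq blk w i) x (Equiv.swap y z) := by
  obtain ⟨φ, hφ⟩ := exists_tv (sq := sq) (h := h) hx hc hT hne
  obtain ⟨y, z, hyz, hb, hp⟩ := b.all (EA.mk sq c hc, φ) ⟨_, hφ⟩
  have hφ' : φ = (tr y z).2 := congrArg Prod.snd hp
  have hc' : EA.mk sq c hc = (tr y z).1 := congrArg Prod.fst hp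
  rw [hφ', hc'] at hφ
  have hfix : ∀ a : EA V sq, (tr y z).2 a = 0 → x * a.val * x⁻¹ = a.val := by
    intro a ha
    have h1 := congrArg EA.val (hφ.act a)
    rw [ha, zero_smul, add_zero] at h1
    exact h1
  refine ⟨blk y, (mem_E sq h).2 ⟨hx, ?_, ?_⟩, ⟨y, rfl⟩, ⟨z, hb.symm⟩, fun e => hyz (congrArg Subtype.val e), ?_, ?_⟩
  · rintro j hj _ ⟨a, ha, rfl⟩
    exact hfix a (b.tr_U y z hb (Ne.symm hj) ha)
  · rintro _ ⟨a, ha, rfl⟩
    exact hfix a (b.tr_ker y z hb ha)
  · rw [phi_pair sq h b _ _ _ (fun e => hyz (congrArg Subtype.val e))]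
    exact congrArg EA.val hc'
  · refine rel_of sq h ⟨x, hx⟩ _ fun u => ?_
    have h1 : aut sq h ⟨x, hx⟩ (w u.1) = w u.1 + (tr y z).2 (w u.1) • (tr y z).1 := hφ.act (w u.1)
    rw [h1, b.act_tr y z hb]
    congr 1
    by_cases hy : u = ⟨y, rfl⟩
    · rw [hy, Equiv.swap_apply_left, Equiv.swap_apply_left]
    · by_cases hz : u = ⟨z, hb.symm⟩
      · rw [hz, Equiv.swap_apply_right, Equiv.swap_apply_right]
      · rw [Equiv.swap_apply_of_ne_of_ne hy hz,
          Equiv.swap_apply_of_ne_of_ne (fun e => hy (Subtype.ext e)) (fun e => hz (Subtype.ext e))]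

theorem swap (i : I) (x y : Om blk i) (hxy : x ≠ y) : ∃ g ∈ TvDec.E sq h blk w i,
    Rel (phi sq blk w i) g (Equiv.swap x y) ∧ TvV V (phi sq blk w i {x, y}) g := by
  have hb : blk x.1 = blk y.1 := x.2.trans y.2.symm
  obtain ⟨d, hd⟩ := b.tr_mem x.1 y.1 (fun e => hxy (Subtype.ext e)) hb
  obtain ⟨m, rfl⟩ := pr_surjective h d
  have hTv : TvV V (phi sq blk w i {x, y}) (m : G) := by
    intro v hv
    rw [phi_pair sq h b i x y hxy]
    exact act_or_of_tv hd hv
  have hfix : ∀ a : EA V sq, (tr x.1 y.1).2 a = 0 → (m : G) * a.val * (m : G)⁻¹ = a.val := by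
    intro a ha
    have h1 := congrArg EA.val (hd.act a)
    rw [ha, zero_smul, add_zero] at h1
    exact h1
  refine ⟨m, (mem_E sq h).2 ⟨m.2, ?_, ?_⟩, rel_of sq h m _ fun z => ?_, hTv⟩
  · rintro j hj _ ⟨a, ha, rfl⟩
    exact hfix a (b.tr_U x.1 y.1 hb (by rw [x.2]; exact hj.symm) ha)
  · rintro _ ⟨a, ha, rfl⟩
    exact hfix a (b.tr_ker x.1 y.1 hb ha)
  · have h1 : aut sq h m (w z.1) = w z.1 + (tr x.1 y.1).2 (w z.1) • (tr x.1 y.1).1 := hd.act (w z.1)
    rw [h1, b.act_tr x.1 y.1 hb]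
    congr 1
    by_cases hx : z = x
    · rw [hx, Equiv.swap_apply_left, Equiv.swap_apply_left]
    · by_cases hy : z = y
      · rw [hy, Equiv.swap_apply_right, Equiv.swap_apply_right]
      · rw [Equiv.swap_apply_of_ne_of_ne hx hy,
          Equiv.swap_apply_of_ne_of_ne (fun e => hx (Subtype.ext e)) (fun e => hy (Subtype.ext e))]

theorem fixR {v : G} (hv : v ∈ V) : v ∈ TvDec.R₀ sq h ↔ ∀ x ∈ M, ∀ c ∈ V, TvV V c x → x * v * x⁻¹ = v := by
  constructor
  · intro hvR x hx c hc hT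
    by_cases hne : x ∈ centralizer (V : Set G)
    · have := mem_centralizer_iff.1 hne v hv
      rw [← this]; group
    · obtain ⟨i, hE, -⟩ := tvs sq h b hx hc hT hne
      exact ((mem_E sq h).1 hE).2.2 v hvR
  · intro hfix
    refine ⟨EA.mk sq v hv, ?_, rfl⟩
    rintro p ⟨d, hd⟩
    obtain ⟨m, rfl⟩ := pr_surjective h d
    have h1 := hfix m m.2 p.1.val p.1.val_mem (fun u hu => act_or_of_tv hd hu)
    have h2 : pr h m • EA.mk sq v hv = EA.mk sq v hv := EA.ext h1
    exact (hd.fix_iff _).1 h2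

theorem letters (m : M) : ∃ (τ : Equiv.Perm I) (σ : ∀ i, Om blk i ≃ Om blk (τ i)),
    (∀ i, MulAut.conj (m : G) • TvDec.N sq blk w i = TvDec.N sq blk w (τ i)) ∧
    (∀ i, MulAut.conj (m : G) • TvDec.E sq h blk w i = TvDec.E sq h blk w (τ i)) ∧
      ∀ i (s : Finset (Om blk i)), (m : G) * phi sq blk w i s * (m : G)⁻¹ =
        phi sq blk w (τ i) (s.map (σ i).toEmbedding) := by
  obtain ⟨τ, hτ⟩ := conj_N sq h b m
  have : Finite (EA V sq) := inferInstance
  obtain ⟨σ, h1, h2, -⟩ := b.perm (aut sq h m) (conj_RR sq h m)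
  have key : ∀ x, blk (σ x) = τ (blk x) := by
    intro x
    refine blk_of_mem sq h b ?_
    have h3 : (w x).val ∈ TvDec.N sq blk w (blk x) := ⟨w x, TvBlk.Blk.w_mem_U x, rfl⟩
    have h4 := (RRed.Blk.conj_smul (hτ (blk x))).1 h3
    have h5 : (w (σ x)).val ∈ TvDec.N sq blk w (τ (blk x)) := by
      rw [← h1]
      exact h4
    exact EA.val_mem_toSub.1 h5
  refine ⟨τ, fun i => σ.subtypeEquiv fun x => ?_, hτ, conj_E sq h b hτ, fun i s => ?_⟩
  · rw [key]
    exact ⟨fun e => by rw [e], fun e => τ.injective e⟩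
  · have h3 : (m : G) * phi sq blk w i s * (m : G)⁻¹ = (aut sq h m (∑ x ∈ s, w x.1)).val := rfl
    rw [h3, map_sum, phi, Finset.sum_map]
    exact congrArg EA.val (Finset.sum_congr rfl fun x _ => h1 x.1)

/-- **the block theorem, final form** -/
theorem full {S : Subgroup G} (hS : S ≤ M) :
    Full S M V (TvDec.N sq blk w) (TvDec.E sq h blk w) (TvDec.R₀ sq h) (Om blk) (phi sq blk w) where
  toDec := dec sq h b hS
  three := card_three sq h b
  lett := TvDec.lett sq h b
  tvs _ hx _ hc hT hne := tvs sq h b hx hc hT hne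
  swap := swap sq h b
  fixR _ hv := fixR sq h b hv
  letters g hg := letters sq h b ⟨g, hg⟩

end main

/-- **The block theorem in the group, final form.** -/
theorem exists_full [Finite G] {V M : Subgroup G} {S : Sylow 2 G} (H : GHyp (S : Subgroup G) V M)
    (hsys : Sys (RR H.sq H.norm)) :
    ∃ (I : Type u) (_ : Fintype I) (_ : DecidableEq I) (N E : I → Subgroup G) (R₀ : Subgroup G) (Om : I → Type u)
      (_ : ∀ i, Fintype (Om i)) (_ : ∀ i, DecidableEq (Om i)) (phi : ∀ i, Finset (Om i) → G),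
      Full (S : Subgroup G) M V N E R₀ Om phi := by
  obtain ⟨Pt, I, i1, i2, i3, i4, blk, w, tr, b⟩ := exists_blk hsys
  exact ⟨I, i2, i4, N H.sq blk w, E H.sq H.norm blk w, R₀ H.sq H.norm, Om blk, inferInstance, inferInstance,
    phi H.sq blk w, full H.sq H.norm b H.le⟩

/-- `Sys` holds. -/
theorem sys [Finite G] {V M : Subgroup G} {S : Sylow 2 G} (H : GHyp (S : Subgroup G) V M) : Sys (RR H.sq H.norm) := by
  have : Finite (EA V H.sq) := inferInstance
  exact sys_of H.faith H.hno H.core H.T H.hgen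

/-- **The block theorem in the group.** -/
theorem blocks [Finite G] {V M : Subgroup G} {S : Sylow 2 G} (H : GHyp (S : Subgroup G) V M) :
    ∃ (I : Type u) (_ : Fintype I) (_ : DecidableEq I) (N E : I → Subgroup G) (R₀ : Subgroup G) (Om : I → Type u)
      (_ : ∀ i, Fintype (Om i)) (_ : ∀ i, DecidableEq (Om i)) (phi : ∀ i, Finset (Om i) → G),
      Full (S : Subgroup G) M V N E R₀ Om phi := exists_full H (sys H)

/-- **The block theorem for `V = zl S L`.** -/
theorem blocks_zl [Finite G] {S : Sylow 2 G} {L : Subgroup G} (hSL : (S : Subgroup G) ≤ L)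
    (hsq : ∀ v ∈ zl (S : Subgroup G) L, v ^ 2 = 1) (hno : NoOverM (zl (S : Subgroup G) L) L) :
    ∃ (I : Type u) (_ : Fintype I) (_ : DecidableEq I) (N E : I → Subgroup G) (R₀ : Subgroup G) (Om : I → Type u)
      (_ : ∀ i, Fintype (Om i)) (_ : ∀ i, DecidableEq (Om i)) (phi : ∀ i, Finset (Om i) → G),
      Full (S : Subgroup G) L (zl (S : Subgroup G) L) N E R₀ Om phi := blocks (of_zl hSL hsq hno)

end Cfsg.Agent.Omega.NOThreeL.RRed.TvFin

end

section


/-!
# NO-3L, box R, `|Z| = 4`, two orbits of blocks, no K2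

* `TwoV.false_of_sysE` : `TwoS.Fr` gives a `SysE`: contradiction by EXT;
* **`TwoV.false_of_lett`** : one of the two modules `V i` is the even-set module of `S_n`, `n ≥ 5` (`KL.TwoS.Lett`):
  contradiction;
* `TwoV.out_or` : otherwise (820's alternative) EXT kills the first alternative of `TwoS.Fr.ex`: `¬ Fail`, `V i ≰ N_i` and
  `J(O)` moves `V i`, for both `i`.
-/

set_option autoImplicit false
set_option linter.unusedSectionVars false

namespace Cfsg.Agent.Omega.NOThreeL.RRed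

open Subgroup Cfsg Cfsg.Agent.ZN Cfsg.Agent.Omega.MinPar Cfsg.Agent.Omega.Frame Cfsg.Agent.Omega.FrameNOFF
open Cfsg.Agent.Omega.Node.NO3L Cfsg.Agent.Omega.NOThreeL.Basic Cfsg.Agent.Omega.NOThreeL.RTree
open Cfsg.Agent.Omega.KL.TwoS (Lett Mx NN Fail)

universe u

variable {G : Type u} [Group G] [Finite G] {S : Sylow 2 G} {V : Fin 2 → Subgroup G} {v : Fin 2 → G}
  (T : TwoV (S : Subgroup G) V v)

include T

/-- **one of the two modules is `S_n`, `n ≥ 5`** -/
theorem TwoV.false_of_lett (B : RB S) (hML : ML.Final.MLK.{u, u}) (hE : ML.Ex.Two.Ext.{u, u}) {i : Fin 2}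
    {R : Subgroup G} {Ω : Type*} [Fintype Ω] [DecidableEq Ω] {φ : Finset Ω → G} (L : Lett (V i) R φ)
    (h4 : 4 ≤ Fintype.card Ω) (hSR : (S : Subgroup G) ≤ R) (hRC : R ≤ centralizer ({v (i + 1)} : Set G)) {p : Ω}
    (hp : v i = φ (Finset.univ.erase p)) : False := by
  obtain ⟨H, _, _, N, _, _, _, T', A', x', y', h⟩ := (T.fr B).sysE_of_lett hML (T.kgroup B) L h4 hSR hRC hp
  exact hE H N T' A' x' y' h.sysT

/-- **the rest**: no side fails, `V i ≰ N_i`, `J(O)` moves `V i` -/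
theorem TwoV.rest (B : RB S) (hML : ML.Final.MLK.{u, u}) (hE : ML.Ex.Two.Ext.{u, u}) :
    ∀ i, ¬ Fail (S : Subgroup G) V v i ∧ ¬ V i ≤ NN v i ∧
      ∃ A, Mx (o2 (centralizer (zc (S : Subgroup G) : Set G))) A ∧ ¬ A ≤ centralizer (V i : Set G) := by
  rcases (T.fr B).ex hML (T.kgroup B) with ⟨i, X, A, O⟩ | h
  · exfalso
    obtain ⟨H, _, _, N, _, _, _, T', A', x', y', h⟩ := (T.fr B).exists_sysE hML (T.kgroup B i) O
    exact hE H N T' A' x' y' h.sysT
  · exact h

end Cfsg.Agent.Omega.NOThreeL.RRed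

end

end
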