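import Cfsg.Agent.Mrg.Omega.NOThreeL.JQ
import Cfsg.Agent.Mrg.Omega.NOThreeL.RRed.Glue
import Cfsg.Agent.Mrg.Omega.KL.Def
import Cfsg.Agent.Mrg.Omega.ML.Ex.Two
import Cfsg.Agent.Mrg.Omega.NOThreeL.RRed.BlkG1
import Cfsg.Agent.Mrg.Omega.NOThreeL.RRed.TvFin
import Cfsg.Agent.Mrg.Omega.NO3S.OneLine.Abs
import Cfsg.Agent.Mrg.Omega.NOThreeL.RRed.TvSys

-- merged: Cfsg.Agent.Mrg.Omega.NOThreeL.Sigma.Glue
section

/-!
# NO-3L, box R: THEOREM SIGMA (#22781), the glue (helper831)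

`C_P = C_G(C_Z(P))` for `P ∈ P*(S)` (`CP S P`).

* `L1 S` : `C_Z(P) = 1` for some `P ∈ P*(S)`;
* `L2 S` : `⟨C_P, C_P'⟩` is nonlocal for some `P, P' ∈ P*(S)`;
* `Out S A R₀` : the output of `sigma` for the family `{C_P}`;
* `out_of` : not (L1) and not (L2) give `Out`;
* `EndA K`, `EndT K` : **sockets**: `Out` is impossible (for `EndT` only if `Thin S`: all `|Z : C_Z(P)| = 2`);
* `RSig K`, `RSigT K` : box R with not (L1), not (L2), resp. with `Thin S` and not (L2); `rsig_of`, `rsigT_of`;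
* `RFourL K`, `RWideL K`, `RBzL K`, `RBzT K` : the sockets with (L2), resp. (L1) or (L2);
* `rrank_of`, `rfour_of`, `rwide_of`, `rbz_of`, `rbz_ofT`, `rbc_sig`, `rbc_sigT`, `rg_sig`, `rg_sigT`.
-/

set_option autoImplicit false
set_option linter.unusedSectionVars false
set_option linter.unusedVariables false

namespace Cfsg.Agent.Omega.NOThreeL.Sigma

open Subgroup Cfsg Cfsg.Agent.ZN Cfsg.Agent.Omega.MinPar Cfsg.Agent.Omega.Frame Cfsg.Agent.Omega.FrameNOFF
open Cfsg.Agent.Omega.Node.NO3L Cfsg.Agent.Omega.NOThreeL.Basic Cfsg.Agent.Omega.NOThreeL.RTree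
open Cfsg.Agent.Omega.NOThreeL.RRed (Thin RC RRank RFour RWide LineS SideS TCR)
open Cfsg.Agent.Omega.NOThreeL.Merge (MZ)
open Cfsg.Agent.Omega.NOThreeL.ZCut (FZ)
open Cfsg.Agent.Omega.NO3b.Bang (bang)
open Cfsg.Agent.Omega.NoFF.ThmJQ (MxIn)
open Cfsg.Agent.Omega.ML.Final (MLK)

universe u

section defs

variable {G : Type u} [Group G]

/-- `C_Z(P)` -/
def ZP (S P : Subgroup G) : Subgroup G := zc S ⊓ centralizer (P : Set G)

/-- `C_P = C_G(C_Z(P))` -/
def CP (S P : Subgroup G) : Subgroup G := centralizer (ZP S P : Set G)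

/-- (L1) -/
def L1 (S : Subgroup G) : Prop := ∃ P, IsParS S P ∧ zc S ⊓ centralizer (P : Set G) = ⊥

/-- (L2) -/
def L2 (S : Subgroup G) : Prop :=
  ∃ P P', IsParS S P ∧ IsParS S P' ∧
    NonLoc (centralizer ((zc S ⊓ centralizer (P : Set G) : Subgroup G) : Set G))
      (centralizer ((zc S ⊓ centralizer (P' : Set G) : Subgroup G) : Set G))

/-- the family -/
def fam (S : Subgroup G) : Set (Subgroup G) := {R | ∃ P, IsParS S P ∧ R = CP S P}

/-- the output of `sigma` for the family `{C_P}` -/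
structure Out (S A R₀ : Subgroup G) : Prop where
  mx : MxIn (o2 (CZ S)) A
  le : ∀ P, IsParS S P → A ≤ o2 (CP S P)
  long : IsLong S R₀
  not : ¬ A ≤ o2 R₀
  min : ∀ R, IsLong S R → R < R₀ → A ≤ o2 R

theorem ZP_le (S P : Subgroup G) : ZP S P ≤ zc S := inf_le_left

theorem le_CP (S P : Subgroup G) : P ≤ CP S P := by
  intro p hp
  rw [CP, mem_centralizer_iff]
  intro z hz
  exact (mem_centralizer_iff.1 hz.2 p hp).symm

theorem CZ_le_CP (S P : Subgroup G) : CZ S ≤ CP S P := centralizer_le (SetLike.coe_subset_coe.2 (ZP_le S P))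

end defs

section fin

variable {G : Type u} [Group G] [Finite G] {S : Sylow 2 G}

/-- the centraliser of a nontrivial subgroup of `Z` is long -/
theorem isLong_cent {Y : Subgroup G} (hY : Y ≤ zc (S : Subgroup G)) (h1 : Y ≠ ⊥) :
    IsLong (S : Subgroup G) (centralizer (Y : Set G)) := by
  have h2 : CZ (S : Subgroup G) ≤ centralizer (Y : Set G) := centralizer_le (SetLike.coe_subset_coe.2 hY)
  exact ⟨isLoc_of_le_normalizer S ((le_CZ S).trans h2) (S.isPGroup'.to_le (hY.trans (zc_le _))) h1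
    (centralizer_le_normalizer _), h2⟩

theorem isLong_CP (h1 : ¬ L1 (S : Subgroup G)) {P : Subgroup G} (hP : IsParS (S : Subgroup G) P) :
    IsLong (S : Subgroup G) (CP (S : Subgroup G) P) :=
  isLong_cent (ZP_le _ P) fun h => h1 ⟨P, hP, h⟩

theorem isLoc_sup (h1 : ¬ L1 (S : Subgroup G)) (h2 : ¬ L2 (S : Subgroup G)) {P P' : Subgroup G}
    (hP : IsParS (S : Subgroup G) P) (hP' : IsParS (S : Subgroup G) P') :
    IsLoc (S : Subgroup G) (CP (S : Subgroup G) P ⊔ CP (S : Subgroup G) P') :=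
  (not_nonLoc_iff S (isLong_CP h1 hP).loc.le).1 fun h => h2 ⟨P, P', hP, hP', h⟩

/-- no long group contains all `P ∈ P*(S)` -/
theorem not_long (hG : Ctx G) (hF : Full (S : Subgroup G)) :
    ¬ ∃ R, IsLong (S : Subgroup G) R ∧ ∀ R' ∈ fam (S : Subgroup G), R' ≤ R := by
  rintro ⟨R, hR, h1⟩
  refine hR.loc.o2_ne (eq_bot_of_norm hG S hF (MinSimple.VModule.o2_isPGroup R) (fun P hP => ?_) ?_)
  · exact ((le_CP _ P).trans (h1 _ ⟨P, hP, rfl⟩)).trans (MinSimple.VModule.le_normalizer_o2 R)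
  · exact hR.cz.trans (MinSimple.VModule.le_normalizer_o2 R)

/-- **not (L1), not (L2)** -/
theorem out_of (ml : MLK.{u, u}) (hG : Ctx G) (hF : Full (S : Subgroup G)) (h1 : ¬ L1 (S : Subgroup G))
    (h2 : ¬ L2 (S : Subgroup G)) : ∃ A R₀, Out (S : Subgroup G) A R₀ := by
  obtain ⟨A, R₀, hA, h3, h4, h5, h6⟩ := sigma (S := S) hG.char2 ml (fun R hR => kg_of hG R hR)
    (hG.sylow_ne_bot S) (RR := fam (S : Subgroup G))
    (by rintro _ ⟨P, hP, rfl⟩; exact isLong_CP h1 hP)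
    (by rintro _ ⟨P, hP, rfl⟩ _ ⟨P', hP', rfl⟩; exact isLoc_sup h1 h2 hP hP') (not_long hG hF)
  exact ⟨A, R₀, hA, fun P hP => h3 _ ⟨P, hP, rfl⟩, h4, h5, h6⟩

/-! ### `Thin S` -/

/-- (L1) fails if `Thin S`, `|Z| ≥ 4` -/
theorem not_L1 (ht : Thin (S : Subgroup G)) (h4 : 4 ≤ Nat.card (zc (S : Subgroup G))) :
    ¬ L1 (S : Subgroup G) := by
  rintro ⟨P, hP, h⟩
  have h1 := ht P hP
  rw [h, card_bot] at h1
  omega

/-- (L2) fails if `Thin S`, `|Z| ≥ 8` -/
theorem not_L2 (ht : Thin (S : Subgroup G)) (h8 : 8 ≤ Nat.card (zc (S : Subgroup G))) :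
    ¬ L2 (S : Subgroup G) := by
  rintro ⟨P, P', hP, hP', hn⟩
  set Y := zc (S : Subgroup G) ⊓ centralizer (P : Set G) with hY
  set Y' := zc (S : Subgroup G) ⊓ centralizer (P' : Set G) with hY'
  have h1 := ht P hP
  have h2 := ht P' hP'
  rw [← hY] at h1
  rw [← hY'] at h2
  have hYle : Y ≤ zc (S : Subgroup G) := inf_le_left
  have hYle' : Y' ≤ zc (S : Subgroup G) := inf_le_left
  have hne : Y ⊓ Y' ≠ ⊥ := by
    intro h0
    have h5 : Y'.relIndex Y = Nat.card Y := by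
      rw [← inf_relIndex_left, h0, relIndex_bot_left]
    have h3 : Nat.card Y ≤ Y'.relIndex (zc (S : Subgroup G)) := by
      rw [← h5]
      exact relIndex_le_of_le_right hYle FiniteIndex.index_ne_zero
    have h4 : Y'.relIndex (zc (S : Subgroup G)) = 2 := by
      have h6 : Nat.card Y' * Y'.relIndex (zc (S : Subgroup G)) = Nat.card (zc (S : Subgroup G)) := by
        rw [← Nat.card_congr (subgroupOfEquivOfLe hYle').toEquiv]
        exact (Y'.subgroupOf (zc (S : Subgroup G))).card_mul_index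
      have h7 : 0 < Nat.card Y' := Nat.card_pos
      nlinarith
    omega
  have hU := isLong_cent (S := S) (Y := Y ⊓ Y') (inf_le_left.trans hYle) hne
  refine hU.loc.o2_ne (hn _ (MinSimple.VModule.o2_isPGroup _) ?_ ?_)
  · exact (centralizer_le (SetLike.coe_subset_coe.2 inf_le_left)).trans (MinSimple.VModule.le_normalizer_o2 _)
  · exact (centralizer_le (SetLike.coe_subset_coe.2 inf_le_right)).trans (MinSimple.VModule.le_normalizer_o2 _)

end fin

/-! ### The sockets -/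

section sockets

variable (K : Cls.{u})

/-- **the end of THEOREM SIGMA** -/
def EndA : Prop :=
  ∀ (G : Type u) [Group G] [Finite G], K G → ∀ (S : Sylow 2 G), RB S →
    ∀ A R₀ : Subgroup G, Out (S : Subgroup G) A R₀ → False

/-- **the end of THEOREM SIGMA** for `Thin S` -/
def EndT : Prop :=
  ∀ (G : Type u) [Group G] [Finite G], K G → ∀ (S : Sylow 2 G), RB S → Thin (S : Subgroup G) →
    ∀ A R₀ : Subgroup G, Out (S : Subgroup G) A R₀ → False

/-- box R with not (L1), not (L2) -/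
def RSig : Prop :=
  ∀ (G : Type u) [Group G] [Finite G], K G → ∀ (S : Sylow 2 G), RB S →
    ¬ L1 (S : Subgroup G) → ¬ L2 (S : Subgroup G) → IsKnownSimple' G

/-- box R with `Thin S`, not (L2) -/
def RSigT : Prop :=
  ∀ (G : Type u) [Group G] [Finite G], K G → ∀ (S : Sylow 2 G), RB S → Thin (S : Subgroup G) →
    ¬ L2 (S : Subgroup G) → IsKnownSimple' G

/-- `RRed.RFour` with (L2) -/
def RFourL : Prop :=
  ∀ (G : Type u) [Group G] [Finite G], K G → ∀ (S : Sylow 2 G), RB S → RC S → Thin (S : Subgroup G) →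
    L2 (S : Subgroup G) → Nat.card (zc (S : Subgroup G)) = 4 →
      (∃ P, IsParS (S : Subgroup G) P ∧ Nat.card (zl (S : Subgroup G) P) ≠ 8) → IsKnownSimple' G

/-- `RRed.RWide` with (L1) or (L2) -/
def RWideL : Prop :=
  ∀ (G : Type u) [Group G] [Finite G], K G → ∀ (S : Sylow 2 G), RB S → RC S →
    (L1 (S : Subgroup G) ∨ L2 (S : Subgroup G)) → (∃ P, IsParS (S : Subgroup G) P ∧
      4 * Nat.card ↥(zc (S : Subgroup G) ⊓ centralizer (P : Set G)) ≤ Nat.card (zc (S : Subgroup G))) →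
      IsKnownSimple' G

/-- `RTree.RBz` with (L1) or (L2) -/
def RBzL : Prop :=
  ∀ (G : Type u) [Group G] [Finite G], K G → ∀ (S : Sylow 2 G), RB S →
    (L1 (S : Subgroup G) ∨ L2 (S : Subgroup G)) → ∀ z ∈ zc (S : Subgroup G), z ≠ 1 →
      (∀ P ∈ FZ (S : Subgroup G) z, P ≤ normalizer (bang (S : Subgroup G) : Set G)) → IsKnownSimple' G

/-- `RTree.RBz` with (L2) if `Thin S` -/
def RBzT : Prop :=
  ∀ (G : Type u) [Group G] [Finite G], K G → ∀ (S : Sylow 2 G), RB S →
    (Thin (S : Subgroup G) → L2 (S : Subgroup G)) → ∀ z ∈ zc (S : Subgroup G), z ≠ 1 →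
      (∀ P ∈ FZ (S : Subgroup G) z, P ≤ normalizer (bang (S : Subgroup G) : Set G)) → IsKnownSimple' G

end sockets

section main

variable {K : Cls.{u}}

theorem rsig_of (ml : MLK.{u, u}) (hE : EndA K) : RSig K := by
  intro G _ _ hK S B h1 h2
  obtain ⟨A, R₀, h⟩ := out_of ml B.ctx B.full h1 h2
  exact (hE G hK S B A R₀ h).elim

theorem rsigT_of (ml : MLK.{u, u}) (hE : EndT K) : RSigT K := by
  intro G _ _ hK S B ht h2
  obtain ⟨A, R₀, h⟩ := out_of ml B.ctx B.full (not_L1 ht (RRed.four_le B)) h2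
  exact (hE G hK S B ht A R₀ h).elim

theorem RSig.toT (h : RSig K) : RSigT K :=
  fun G _ _ hK S B ht h2 => h G hK S B (not_L1 ht (RRed.four_le B)) h2

theorem EndA.toT (h : EndA K) : EndT K := fun G _ _ hK S B _ => h G hK S B

/-- `|Z| ≥ 8`, all `|Z : C_Z(P)| = 2` -/
theorem rrank_of (h : RSigT K) : RRank K :=
  fun G _ _ hK S B _ ht h8 => h G hK S B ht (not_L2 ht h8)

theorem rfour_of (h : RSigT K) (h4 : RFourL K) : RFour K := by
  intro G _ _ hK S B hrc ht hz hP
  by_cases h2 : L2 (S : Subgroup G)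
  · exact h4 G hK S B hrc ht h2 hz hP
  · exact h G hK S B ht h2

theorem rwide_of (h : RSig K) (hW : RWideL K) : RWide K := by
  intro G _ _ hK S B hrc hP
  by_cases h1 : L1 (S : Subgroup G)
  · exact hW G hK S B hrc (Or.inl h1) hP
  by_cases h2 : L2 (S : Subgroup G)
  · exact hW G hK S B hrc (Or.inr h2) hP
  · exact h G hK S B h1 h2

theorem rbz_of (h : RSig K) (hz : RBzL K) : RBz K := by
  intro G _ _ hK S B z hz1 hz2 hP
  by_cases h1 : L1 (S : Subgroup G)
  · exact hz G hK S B (Or.inl h1) z hz1 hz2 hP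
  by_cases h2 : L2 (S : Subgroup G)
  · exact hz G hK S B (Or.inr h2) z hz1 hz2 hP
  · exact h G hK S B h1 h2

theorem rbz_ofT (h : RSigT K) (hz : RBzT K) : RBz K := by
  intro G _ _ hK S B z hz1 hz2 hP
  by_cases h0 : Thin (S : Subgroup G) → L2 (S : Subgroup G)
  · exact hz G hK S B h0 z hz1 hz2 hP
  · push Not at h0
    exact h G hK S B h0.1 h0.2

/-- **(RC') from its leaves** -/
theorem rbc_sig (hL : LineS.{u}) (hS : SideS.{u}) (hT : TCR K) (h : RSig K) (h4 : RFourL K) (hW : RWideL K) :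
    RBc K :=
  RRed.rbc_of hL hS hT (rrank_of h.toT) (rfour_of h.toT h4) (rwide_of h hW)

/-- **(RC') from its leaves**, `Thin` version -/
theorem rbc_sigT (hL : LineS.{u}) (hS : SideS.{u}) (hT : TCR K) (h : RSigT K) (h4 : RFourL K) (hW : RWide K) :
    RBc K :=
  RRed.rbc_of hL hS hT (rrank_of h) (rfour_of h h4) hW

/-- **box R from its leaves** -/
theorem rg_sig (hA : RAbig K) (hz : RBzL K) (hL : LineS.{u}) (hS : SideS.{u}) (hT : TCR K) (h : RSig K)
    (h4 : RFourL K) (hW : RWideL K) : Merge.RG K :=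
  RTree.rg_of hA (rbz_of h hz) (rbc_sig hL hS hT h h4 hW)

/-- **box R from its leaves**, `Thin` version -/
theorem rg_sigT (hA : RAbig K) (hz : RBzT K) (hL : LineS.{u}) (hS : SideS.{u}) (hT : TCR K) (h : RSigT K)
    (h4 : RFourL K) (hW : RWide K) : Merge.RG K :=
  RTree.rg_of hA (rbz_ofT h hz) (rbc_sigT hL hS hT h h4 hW)

end main

end Cfsg.Agent.Omega.NOThreeL.Sigma

end

-- merged: Cfsg.Agent.Mrg.Omega.NOThreeL.Sigma.Inst
section

/-!
# THEOREM SIGMA (#22781): from the front to the module `U_{R₀} = ⟨Z^{R₀}⟩` (helper739)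

`Out S A R₀` (Sigma/Glue.lean): `R₀` long, minimal with `A ≰ O₂(R₀)`, `A ≤ O₂(C_P)` for all `P ∈ P*(S)`.

* `act` : conjugation;
* `moved` : some `z ∈ Z` is moved by `R₀`;  `low` : `A ≤ O₂(R₀ ∩ C(z))` for every such `z`;
* **`zpre`** : `R₀` on `⟨Z^{R₀}⟩` is an input `ZPre c` of the end (`KL/ZR`), if `|Z : C_Z(P)| ≤ c` for all `P ∈ P*(S)`;
* `NoZ c` : no input `ZPre c`;  `false_of`;
* **`endT_of : NoZ 2 → EndT K`**, **`endA_of : (∀ c, NoZ c) → EndA K`**.
-/

set_option autoImplicit false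
set_option linter.unusedSectionVars false

namespace Cfsg.Agent.Omega.NOThreeL.Sigma.Inst

open Subgroup Cfsg Cfsg.Agent.ZN Cfsg.Agent.Omega.MinPar Cfsg.Agent.Omega.Frame Cfsg.Agent.Omega.FrameNOFF
open Cfsg.Agent.Omega.Node.NO3L Cfsg.Agent.Omega.NOThreeL.Basic Cfsg.Agent.Omega.NOThreeL.RTree
open Cfsg.Agent.ClassTwoFusion.Quad Cfsg.Agent.Omega.ML.MinFrame
open Cfsg.Agent.Omega.NOThreeL.RRed (Thin)
open Cfsg.Agent.Omega.NOThreeL.ZCut (le_cent)
open Cfsg.Agent.Omega.NoFF.ThmJQ (MxIn)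
open Cfsg.Agent.Omega.ML.Final (MLK)
open Cfsg.Agent.Omega.KL.ZR (ZTwo ZPre)
open Cfsg.Agent.MinSimple.MinParabolic (IsMinPar)
open Cfsg.Agent.MinSimple.VModule (o2_isPGroup)

universe u v

/-! ### Tools -/

section tools

variable {G : Type u} [Group G]

/-- conjugation -/
abbrev act {C W : Subgroup G} (h : C ≤ normalizer (W : Set G)) : MulDistribMulAction C W where
  smul c w := ⟨(c : G) * w * (c : G)⁻¹, (mem_normalizer_iff.1 (h c.2) w).1 w.2⟩
  one_smul w := Subtype.ext (by change ((1 : C) : G) * w * ((1 : C) : G)⁻¹ = w; simp)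
  mul_smul a b w := Subtype.ext (by
    change ((a * b : C) : G) * w * ((a * b : C) : G)⁻¹ = (a : G) * ((b : G) * w * (b : G)⁻¹) * (a : G)⁻¹
    push_cast; group)
  smul_mul c v w := Subtype.ext (by
    change (c : G) * ((v * w : W) : G) * (c : G)⁻¹ = ((c : G) * v * (c : G)⁻¹) * ((c : G) * w * (c : G)⁻¹)
    push_cast; group)
  smul_one c := Subtype.ext (by change (c : G) * ((1 : W) : G) * (c : G)⁻¹ = ((1 : W) : G); simp)

/-- minimal parabolics of a subgroup -/
theorem minPar_map {C T : Subgroup G} (hTC : T ≤ C) {P : Subgroup C} (hP : IsMinPar (T.subgroupOf C) P) :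
    IsMinPar T (P.map C.subtype) := by
  have hTP : T ≤ P.map C.subtype := fun t ht => ⟨⟨t, hTC ht⟩, hP.le (mem_subgroupOf.2 ht), rfl⟩
  refine ⟨hTP, fun h => hP.not_le fun p hp => ?_, ?_⟩
  · have h1 := h (mem_map_of_mem C.subtype hp)
    rw [mem_normalizer_iff] at h1 ⊢
    exact fun t => h1 t
  · obtain ⟨M, hMP, hM⟩ := hP.exists_max
    refine ⟨M.map C.subtype, (map_lt_map_iff_of_injective C.subtype_injective).2 hMP, fun K hTK hKP => ?_⟩
    have hKC : K ≤ C := hKP.le.trans (map_subtype_le P)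
    have e : (K.subgroupOf C).map C.subtype = K := by rw [subgroupOf_map_subtype, inf_eq_left.2 hKC]
    rw [← e] at hKP ⊢
    refine map_mono (hM _ ?_ ((map_lt_map_iff_of_injective C.subtype_injective).1 hKP))
    exact fun t ht => mem_subgroupOf.2 (hTK (mem_subgroupOf.1 ht))

/-- `O₂` of a subgroup of `C` -/
theorem sub_o2 [Finite G] {C S B : Subgroup G} {S' : Subgroup C} (hS : ∀ c : C, c ∈ S' ↔ (c : G) ∈ S) (hB : B ≤ o2 S) :
    B.subgroupOf C ≤ o2 S' := by
  have h1 : B.subgroupOf C ≤ (o2 S).subgroupOf C := fun b hb => mem_subgroupOf.2 (hB (mem_subgroupOf.1 hb))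
  refine h1.trans (le_o2 (fun c hc => (hS c).2 (o2_le _ (mem_subgroupOf.1 hc)))
    ((o2_isPGroup S).comap_of_injective C.subtype C.subtype_injective) fun s hs => ?_)
  have h2 := le_normalizer_o2 S ((hS s).1 hs)
  rw [mem_normalizer_iff] at h2 ⊢
  exact fun t => h2 t

end tools

section inst

variable {G : Type u} [Group G] [Finite G] {S : Sylow 2 G} {A R₀ : Subgroup G}

/-- some `z ∈ Z` is moved by `R₀` -/
theorem moved (o : Out (S : Subgroup G) A R₀) :
    ∃ z ∈ zc (S : Subgroup G), ¬ R₀ ≤ centralizer ({z} : Set G) := by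
  by_contra hcon
  push Not at hcon
  have h1 : R₀ ≤ CZ (S : Subgroup G) := by
    intro g hg
    rw [mem_centralizer_iff]
    exact fun z hz => mem_centralizer_iff.1 (hcon z hz hg) z rfl
  have h2 : R₀ = CZ (S : Subgroup G) := le_antisymm h1 o.long.cz
  exact o.not (h2 ▸ o.mx.2.1)

/-- `A ≤ O₂(R₀ ∩ C(z))` for every `z ∈ Z` moved by `R₀` -/
theorem low (o : Out (S : Subgroup G) A R₀) {z : G} (hz : z ∈ zc (S : Subgroup G))
    (hm : ¬ R₀ ≤ centralizer ({z} : Set G)) : A ≤ o2 (R₀ ⊓ centralizer ({z} : Set G)) :=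
  o.min _ (isLong_stab o.long hz) (lt_of_le_of_ne inf_le_left fun h => hm (h ▸ inf_le_right))

/-- `P ∈ P*(S)`: some `z ∈ C_Z(P)` is moved by `R₀` -/
theorem moved_par (o : Out (S : Subgroup G) A R₀) {P : Subgroup G} (hP : IsParS (S : Subgroup G) P) :
    ∃ z ∈ ZP (S : Subgroup G) P, ¬ R₀ ≤ centralizer ({z} : Set G) := by
  by_contra hcon
  push Not at hcon
  have h1 : R₀ ≤ CP (S : Subgroup G) P := by
    intro g hg
    rw [CP, mem_centralizer_iff]
    exact fun z hz => mem_centralizer_iff.1 (hcon z hz hg) z rfl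
  exact o.not ((o.le P hP).trans (o2_le_o2 S o.long.loc.le h1))

theorem le_R (o : Out (S : Subgroup G) A R₀) : A ≤ R₀ := o.mx.2.1.trans ((o2_le _).trans o.long.cz)

/-- **the input of the end of THEOREM SIGMA** -/
theorem zpre (hc : IsCharacteristicTwoType G) (ml : MLK.{u, u})
    (kg : ∀ R : Subgroup G, IsLoc (S : Subgroup G) R → IsKGroup R) (o : Out (S : Subgroup G) A R₀) {c : ℕ}
    (c1 : 1 ≤ c)
    (par : ∀ P, IsParS (S : Subgroup G) P → (centralizer (P : Set G)).relIndex (zc (S : Subgroup G)) ≤ c) :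
    letI := act (le_normalizer_zl (S : Subgroup G) R₀)
    ZPre c ((S : Subgroup G).subgroupOf R₀) (A.subgroupOf R₀)
      ((zc (S : Subgroup G)).subgroupOf (zl (S : Subgroup G) R₀)) := by
  let _ := act (le_normalizer_zl (S : Subgroup G) R₀)
  have hZU := MinSimple.VModule.zc_le_zl (S : Subgroup G) R₀
  have hSR := o.long.loc.le
  -- fixed vectors
  have hfx : ∀ (g : R₀) (m : zl (S : Subgroup G) R₀), g • m = m ↔ (g : G) * m = m * g := by
    intro g m
    rw [Subtype.ext_iff]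
    exact mul_inv_eq_iff_eq_mul
  have hst : ∀ (m : zl (S : Subgroup G) R₀) (g : R₀), g ∈ MulAction.stabilizer R₀ m ↔
      (g : G) ∈ R₀ ⊓ centralizer ({(m : G)} : Set G) := by
    intro m g
    rw [MulAction.mem_stabilizer_iff, hfx, mem_inf, mem_centralizer_iff]
    constructor
    · rintro h
      exact ⟨g.2, by rintro _ rfl; exact h.symm⟩
    · rintro ⟨-, h⟩
      exact (h _ rfl).symm
  -- good vectors
  have hgood : ∀ (z : G) (hz : z ∈ zc (S : Subgroup G)), ¬ R₀ ≤ centralizer ({z} : Set G) →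
      A.subgroupOf R₀ ≤ o2 (MulAction.stabilizer R₀ (⟨z, hZU hz⟩ : zl (S : Subgroup G) R₀)) := by
    intro z hz hm
    exact sub_o2 (hst ⟨z, hZU hz⟩) (low o hz hm)
  have hcvP : ∀ P : Subgroup R₀, cv (zl (S : Subgroup G) R₀) (P : Set R₀) =
      (centralizer (P.map R₀.subtype : Set G)).subgroupOf (zl (S : Subgroup G) R₀) := by
    intro P
    ext m
    rw [mem_cv, mem_subgroupOf, mem_centralizer_iff]
    constructor
    · rintro h _ ⟨p, hp, rfl⟩
      exact (hfx p m).1 (h p hp)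
    · intro h p hp
      exact (hfx p m).2 (h _ (mem_map_of_mem R₀.subtype hp))
  have hfxr : fxr R₀ (⊤ : Subgroup (zl (S : Subgroup G) R₀)) =
      (centralizer (zl (S : Subgroup G) R₀ : Set G)).subgroupOf R₀ := by
    ext g
    rw [mem_fxr, mem_subgroupOf, mem_centralizer_iff]
    constructor
    · intro h m hm
      exact ((hfx g ⟨m, hm⟩).1 (h _ (mem_top _))).symm
    · intro h m _
      exact (hfx g m).2 (h m m.2).symm
  have hmapA : (A.subgroupOf R₀).map R₀.subtype = A := by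
    rw [subgroupOf_map_subtype, inf_eq_left.2 (le_R o)]
  -- minimal parabolics
  have hpar : ∀ P : Subgroup R₀, IsMinPar ((S : Subgroup G).subgroupOf R₀) P →
      IsPar (S : Subgroup G) (P.map R₀.subtype) := fun P hP =>
    o.long.loc.isPar S (minPar_map hSR hP) (map_subtype_le P)
  refine
    { sq := fun m => ?_
      two := S.isPGroup'.comap_of_injective R₀.subtype R₀.subtype_injective
      syl := MinSimple.Basic.not_dvd_relIndex S hSR
      TZ := fun t ht z hz => ?_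
      nZ := fun g hg z hz => ?_
      par := fun P hP => ?_
      gen := ?_
      fix := fun P hP => ?_
      good := ?_
      el := fun a ha => ?_
      mv := ?_
      le := ?_
      KC := kg R₀ o.long.loc }
  · -- sq
    have h1 := ex_zl hc o.long.loc (m : G) m.2
    rw [pow_two] at h1
    exact Subtype.ext h1
  · -- TZ
    rw [hfx]
    exact (mem_zc.1 (mem_subgroupOf.1 hz)).2.1 _ (mem_subgroupOf.1 ht)
  · -- nZ
    have h1 : (g : G) ∈ normalizer ((S : Subgroup G) : Set G) := by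
      rw [mem_normalizer_iff]
      intro t
      constructor
      · intro ht
        exact (mem_normalizer_iff.1 hg ⟨t, hSR ht⟩).1 ht
      · intro ht
        have h2 : (g : G)⁻¹ * ((g : G) * t * (g : G)⁻¹) * (g : G)⁻¹⁻¹ ∈ (S : Subgroup G) :=
          (mem_normalizer_iff.1 (inv_mem hg) ⟨(g : G) * t * (g : G)⁻¹, hSR ht⟩).1 ht
        have e : (g : G)⁻¹ * ((g : G) * t * (g : G)⁻¹) * (g : G)⁻¹⁻¹ = t := by group
        rwa [e] at h2
    exact (mem_normalizer_iff.1 (normalizer_le_normalizer_zc _ h1) _).1 (mem_subgroupOf.1 hz)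
  · -- par
    rw [inf_relIndex_left, hcvP, relIndex_subgroupOf hZU]
    by_cases h : P.map R₀.subtype ≤ normalizer (zc (S : Subgroup G) : Set G)
    · have h1 := NoFF.LinesPlug.le_CC S (hpar P hP) h
      have h2 : zc (S : Subgroup G) ≤ centralizer (P.map R₀.subtype : Set G) := by
        intro z hz
        rw [mem_centralizer_iff]
        exact fun p hp => (mem_centralizer_iff.1 (h1 hp) z hz).symm
      rw [relIndex_eq_one.2 h2]
      exact c1
    · exact par _ ⟨hpar P hP, h⟩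
  · -- gen
    set W : Subgroup (zl (S : Subgroup G) R₀) :=
      ⨆ z : (zc (S : Subgroup G)).subgroupOf (zl (S : Subgroup G) R₀), ML.MinFrame.orb (⊤ : Subgroup R₀)
        (z : zl (S : Subgroup G) R₀) with hW
    have hinv : ∀ (g : R₀), ∀ m ∈ W, g • m ∈ W := by
      intro g m hm
      have h1 : W ≤ W.comap (MulDistribMulAction.toMonoidHom (zl (S : Subgroup G) R₀) g) := by
        conv_lhs => rw [hW]
        refine iSup_le fun z w hw => ?_
        exact (le_iSup (fun z : (zc (S : Subgroup G)).subgroupOf (zl (S : Subgroup G) R₀) =>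
          ML.MinFrame.orb (⊤ : Subgroup R₀) (z : zl (S : Subgroup G) R₀)) z) (smul_mem_orb (mem_top g) hw)
      exact h1 hm
    have h1 : zl (S : Subgroup G) R₀ ≤ W.map (zl (S : Subgroup G) R₀).subtype := by
      refine zl_le ?_ ?_
      · intro z hz
        refine ⟨⟨z, hZU hz⟩, ?_, rfl⟩
        exact (le_iSup (fun z : (zc (S : Subgroup G)).subgroupOf (zl (S : Subgroup G) R₀) =>
          ML.MinFrame.orb (⊤ : Subgroup R₀) (z : zl (S : Subgroup G) R₀)) ⟨⟨z, hZU hz⟩, mem_subgroupOf.2 hz⟩)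
            (mem_orb_self _ _)
      · have key : ∀ g ∈ R₀, ∀ a ∈ W.map (zl (S : Subgroup G) R₀).subtype,
            g * a * g⁻¹ ∈ W.map (zl (S : Subgroup G) R₀).subtype := by
          rintro g hg _ ⟨b, hb, rfl⟩
          exact ⟨(⟨g, hg⟩ : R₀) • b, hinv ⟨g, hg⟩ b hb, rfl⟩
        intro g hg
        rw [mem_normalizer_iff]
        intro a
        refine ⟨key g hg a, fun ha => ?_⟩
        have h2 := key g⁻¹ (inv_mem hg) _ ha
        have e : g⁻¹ * (g * a * g⁻¹) * g⁻¹⁻¹ = a := by group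
        rwa [e] at h2
    rw [eq_top_iff]
    intro m _
    obtain ⟨b, hb, hbm⟩ := h1 m.2
    have : b = m := Subtype.ext hbm
    exact this ▸ hb
  · -- fix
    by_cases h : P.map R₀.subtype ≤ normalizer (zc (S : Subgroup G) : Set G)
    · have h1 := NoFF.LinesPlug.le_CC S (hpar P hP) h
      obtain ⟨z, hz, hm⟩ := moved o
      refine ⟨⟨z, hZU hz⟩, mem_subgroupOf.2 hz, fun p hp => ?_, hgood z hz hm⟩
      rw [hfx]
      exact (mem_centralizer_iff.1 (h1 (mem_map_of_mem R₀.subtype hp)) z hz).symm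
    · obtain ⟨z, hz, hm⟩ := moved_par o (P := P.map R₀.subtype) ⟨hpar P hP, h⟩
      refine ⟨⟨z, hZU hz.1⟩, mem_subgroupOf.2 hz.1, fun p hp => ?_, hgood z hz.1 hm⟩
      rw [hfx]
      exact mem_centralizer_iff.1 hz.2 p (mem_map_of_mem R₀.subtype hp)
  · -- good
    obtain ⟨z, hz, hm⟩ := moved o
    exact ⟨⟨z, hZU hz⟩, mem_subgroupOf.2 hz, hgood z hz hm⟩
  · -- el
    have h1 := o.mx.1 a (mem_subgroupOf.1 ha)
    rw [← pow_two]
    exact Subtype.ext h1
  · -- mv
    by_contra hcon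
    push Not at hcon
    have h1 : A ≤ centralizer (zl (S : Subgroup G) R₀ : Set G) := by
      intro a ha
      rw [mem_centralizer_iff]
      intro m hm
      exact ((hfx ⟨a, le_R o ha⟩ ⟨m, hm⟩).1 (hcon ⟨a, le_R o ha⟩ (mem_subgroupOf.2 ha) ⟨m, hm⟩)).symm
    exact o.not ((le_inf le_rfl h1).trans (inf_le hc o.long o.mx.2.1))
  · -- le
    rw [hcvP, hmapA, hfxr, relIndex_subgroupOf (le_R o)]
    exact (exact hc ml kg o.long o.mx).le

end inst

/-! ### The sockets -/

/-- no input `ZPre c` -/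
def NoZ (c : ℕ) : Prop :=
  ∀ (C : Type u) [Group C] [Finite C] (M : Type v) [Group M] [Finite M] [MulDistribMulAction C M] (T A : Subgroup C)
    (Z : Subgroup M), ¬ ZPre c T A Z

section sockets

variable {G : Type u} [Group G] [Finite G] {S : Sylow 2 G} {A R₀ : Subgroup G}

theorem false_of {c : ℕ} (hno : NoZ.{u, u} c) (hc : IsCharacteristicTwoType G) (ml : MLK.{u, u})
    (kg : ∀ R : Subgroup G, IsLoc (S : Subgroup G) R → IsKGroup R) (c1 : 1 ≤ c)
    (par : ∀ P, IsParS (S : Subgroup G) P → (centralizer (P : Set G)).relIndex (zc (S : Subgroup G)) ≤ c)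
    (o : Out (S : Subgroup G) A R₀) : False := by
  let _ := act (le_normalizer_zl (S : Subgroup G) R₀)
  exact hno R₀ (zl (S : Subgroup G) R₀) _ _ _ (zpre hc ml kg o c1 par)

/-- `|Z : C_Z(P)| = 2` -/
theorem par_two (ht : Thin (S : Subgroup G)) {P : Subgroup G} (hP : IsParS (S : Subgroup G) P) :
    (centralizer (P : Set G)).relIndex (zc (S : Subgroup G)) ≤ 2 := by
  have h1 := ht P hP
  rw [← inf_relIndex_left]
  have h2 : Nat.card ↥(zc (S : Subgroup G) ⊓ centralizer (P : Set G)) *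
      (zc (S : Subgroup G) ⊓ centralizer (P : Set G)).relIndex (zc (S : Subgroup G)) =
        Nat.card (zc (S : Subgroup G)) := by
    rw [← Nat.card_congr (subgroupOfEquivOfLe (inf_le_left : zc (S : Subgroup G) ⊓ centralizer (P : Set G) ≤ _)).toEquiv]
    exact (Subgroup.subgroupOf _ (zc (S : Subgroup G))).card_mul_index
  have h3 : 0 < Nat.card ↥(zc (S : Subgroup G) ⊓ centralizer (P : Set G)) := Nat.card_pos
  nlinarith

variable {K : Cls.{u}}

/-- **`Thin S`** -/
theorem endT_of (ml : MLK.{u, u}) (hno : NoZ.{u, u} 2) : EndT K := by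
  intro G _ _ _ S B ht A R₀ o
  exact false_of hno B.ctx.char2 ml (fun R hR => kg_of B.ctx R hR) (by norm_num) (fun P hP => par_two ht hP) o

/-- **the general case** -/
theorem endA_of (ml : MLK.{u, u}) (hno : ∀ c, NoZ.{u, u} c) : EndA K := by
  intro G _ _ _ S B A R₀ o
  refine false_of (c := Nat.card (zc (S : Subgroup G))) (hno _) B.ctx.char2 ml (fun R hR => kg_of B.ctx R hR)
    (Nat.card_pos) (fun P _ => ?_) o
  rw [relIndex, ← Nat.card_congr (Equiv.refl _)]
  exact Nat.le_of_dvd Nat.card_pos (index_dvd_card _)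

end sockets

end Cfsg.Agent.Omega.NOThreeL.Sigma.Inst

end

-- merged: Cfsg.Agent.Mrg.Omega.NOThreeL.Sigma.Rank
section

section


/-!
# THEOREM SIGMA (#22781), `Thin S`: the plug (helper739)

`MLK` and `Ext` imply `NoZ 2`, `EndT K`, `RSigT K` and `RRank K`.
-/

set_option autoImplicit false

namespace Cfsg.Agent.Omega.NOThreeL.Sigma.Rank

open Cfsg.Agent.Omega.Frame (Cls)
open Cfsg.Agent.Omega.ML.Final (MLK)
open Cfsg.Agent.Omega.ML.Ex.Two (Ext)

universe u v

/-- no input `ZPre 2` -/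
theorem noZ (ml : MLK.{u, v}) (hE : Ext.{u, v}) : Inst.NoZ.{u, v} 2 :=
  fun _ _ _ _ _ _ _ _ _ _ h => h.false_of ml hE

variable {K : Cls.{u}}

theorem endT (ml : MLK.{u, u}) (hE : Ext.{u, u}) : EndT K := Inst.endT_of ml (noZ ml hE)

/-- **THEOREM SIGMA for `Thin S`** -/
theorem rsigT (ml : MLK.{u, u}) (hE : Ext.{u, u}) : RSigT K := rsigT_of ml (endT ml hE)

/-- **THEOREM Z-RANK**: `RRank K` -/
theorem rrank (ml : MLK.{u, u}) (hE : Ext.{u, u}) : RRed.RRank K := rrank_of (rsigT ml hE)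

/-- `RFour K` with (L2) -/
theorem rfour (ml : MLK.{u, u}) (hE : Ext.{u, u}) (h4 : RFourL K) : RRed.RFour K := rfour_of (rsigT ml hE) h4

end Cfsg.Agent.Omega.NOThreeL.Sigma.Rank

end

section


/-!
# NO-3L, box R: THEOREM SIGMA on top, `Thin` version, and the plugs of `Sigma/Glue`

`RRed/GlueSig` uses THEOREM SIGMA for every `S` (`SigOf`).  If it is known only for `Thin S` (all `|Z : C_Z(P)| = 2`):

* `SigTOf K B` : `B S`, `Thin S`, `¬ L2 S`;
* `WideAll K B` : `RR S = 1`, some `|Z : C_Z(P)| ≥ 4` (no (L1), (L2));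
* `BrTOf K B` : `RR S ≠ 1`, (L2) if `Thin S`;
* `bnT_of`, `brT_of`, `rbnT_sig`, `rbrT_sig`, `rbcT_sig`, `rbzT_sig`, `rgT_sig`, `rbfT_sig`, `rbzFT_sig`, `rbcFT_sig`,
  `rgFT_sig` : the trees;
* `sigOf_of`, `sigTOf_of`, `sigOf_of_rsig`, `sigTOf_of_rsig` : the plugs from `Sigma/Glue`;
* `SigWOf K B` : THEOREM SIGMA with some `|Z : C_Z(P)| ≥ 4`; `sigOf_of_TW : SigTOf → SigWOf → SigOf`;
* `sigT (ml) (hE : Ext) : SigTOf K B`, `sig (ml) (hE) : SigWOf → SigOf` : `SigTOf` is closed (`Sigma/Rank`);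
* `rbzFT_ext`, `rbcFT_ext`, `rgFT_ext`, `rgT_ext` : the trees over `MLK`, `Ext` and `SmOf`, `FourOf`, `WideAll`, `BrTOf`.
-/

set_option autoImplicit false
set_option linter.unusedSectionVars false

namespace Cfsg.Agent.Omega.NOThreeL.RRed.GlueSig

open Subgroup Cfsg Cfsg.Agent.ZN Cfsg.Agent.Omega.MinPar Cfsg.Agent.Omega.Frame Cfsg.Agent.Omega.FrameNOFF
open Cfsg.Agent.Omega.Node.NO3L Cfsg.Agent.Omega.NOThreeL.Basic Cfsg.Agent.Omega.NOThreeL.RTree
open Cfsg.Agent.Omega.NOThreeL.RTreeF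
open Cfsg.Agent.Omega.NOThreeL.Merge (MZ)
open Cfsg.Agent.Omega.NOThreeL.ZCut (FZ)
open Cfsg.Agent.Omega.NO3b.Bang (bang)
open Cfsg.Agent.Omega.NOThreeL.RZ (RR)
open Cfsg.Agent.Omega.ML.Final (MLK)
open Cfsg.Agent.Omega.ML.Ex.Two (Ext)

universe u

section sockets

variable (K : Cls.{u}) (B : Fr.{u})

/-- **THEOREM SIGMA**, `Thin S`. -/
def SigTOf : Prop :=
  ∀ (G : Type u) [Group G] [Finite G], K G → ∀ (S : Sylow 2 G), B G S → Thin (S : Subgroup G) →
    ¬ L2 (S : Subgroup G) → IsKnownSimple' G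

/-- some `|Z : C_Z(P)| ≥ 4`. -/
def WideAll : Prop :=
  ∀ (G : Type u) [Group G] [Finite G], K G → ∀ (S : Sylow 2 G), B G S → RR (S : Subgroup G) = ⊥ →
    (∃ P, IsParS (S : Subgroup G) P ∧
      4 * Nat.card ↥(zc (S : Subgroup G) ⊓ centralizer (P : Set G)) ≤ Nat.card (zc (S : Subgroup G))) →
      IsKnownSimple' G

/-- [R-z], (L2) if `Thin S`. -/
def BrTOf : Prop :=
  ∀ (G : Type u) [Group G] [Finite G], K G → ∀ (S : Sylow 2 G), B G S → RR (S : Subgroup G) ≠ ⊥ →
    (Thin (S : Subgroup G) → L2 (S : Subgroup G)) → IsKnownSimple' G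

end sockets

section glue

variable {K : Cls.{u}} {B : Fr.{u}}

theorem SigTOf.mono {B' : Fr.{u}} (hB : ∀ (G : Type u) [Group G] [Finite G] (S : Sylow 2 G), B' G S → B G S)
    (h : SigTOf K B) : SigTOf K B' := fun G _ _ hK S hb => h G hK S (hB G S hb)

theorem WideAll.mono {B' : Fr.{u}} (hB : ∀ (G : Type u) [Group G] [Finite G] (S : Sylow 2 G), B' G S → B G S)
    (h : WideAll K B) : WideAll K B' := fun G _ _ hK S hb => h G hK S (hB G S hb)

theorem BrTOf.mono {B' : Fr.{u}} (hB : ∀ (G : Type u) [Group G] [Finite G] (S : Sylow 2 G), B' G S → B G S)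
    (h : BrTOf K B) : BrTOf K B' := fun G _ _ hK S hb => h G hK S (hB G S hb)

/-- `SigOf` implies `SigTOf` -/
theorem SigOf.toT (hb : ∀ (G : Type u) [Group G] [Finite G] (S : Sylow 2 G), B G S → RB S) (h : SigOf K B) :
    SigTOf K B :=
  fun G _ _ hK S hB ht h2 => h G hK S hB (not_l1 ht (four_le (hb G S hB))) h2

/-- `WideAll` implies `WideOf` -/
theorem WideAll.toL (h : WideAll K B) : WideOf K B := fun G _ _ hK S hB hr hw _ => h G hK S hB hr hw

/-- `BrTOf` implies `BrOf` -/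
theorem BrTOf.toL (hb : ∀ (G : Type u) [Group G] [Finite G] (S : Sylow 2 G), B G S → RB S) (h : BrTOf K B) :
    BrOf K B := fun G _ _ hK S hB hr h12 =>
  h G hK S hB hr fun ht => h12.resolve_left (not_l1 ht (four_le (hb G S hB)))

/-- `WideOf` for a class where THEOREM SIGMA holds -/
theorem WideOf.toAll (hσ : SigOf K B) (h : WideOf K B) : WideAll K B := by
  intro G _ _ hK S hB hr hw
  rcases known_or hσ hK hB with h1 | h1
  · exact h1
  · exact h G hK S hB hr hw h1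

/-- **`RR S = 1` from its leaves**, `Thin` version. -/
theorem bnT_of (hb : ∀ (G : Type u) [Group G] [Finite G] (S : Sylow 2 G), B G S → RB S) (hσ : SigTOf K B)
    (hs : SmOf K B) (h4 : FourOf K B) (hw : WideAll K B) : BnOf K B := by
  intro G _ _ hK S hB hr
  rcases thin_or (S := S) with ht | hwd
  · by_cases h2 : L2 (S : Subgroup G)
    · have h4' := four_le (hb G S hB)
      have hz : Nat.card (zc (S : Subgroup G)) = 4 := by
        by_contra hz
        refine not_l2 S.isPGroup' ht ?_ h2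
        have hf : Fact (Nat.Prime 2) := ⟨Nat.prime_two⟩
        obtain ⟨n, hn⟩ :=
          (IsPGroup.iff_card (p := 2)).1 (S.isPGroup'.to_le (MinSimple.VModule.zc_le (S : Subgroup G)))
        rw [hn] at h4' hz ⊢
        have k2 : 2 ≤ n := by
          by_contra hcon
          have : 2 ^ n ≤ 2 ^ 1 := Nat.pow_le_pow_right (by norm_num) (by omega)
          omega
        have k3 : n ≠ 2 := by rintro rfl; exact hz (by norm_num)
        calc 8 = 2 ^ 3 := by norm_num
          _ ≤ 2 ^ n := Nat.pow_le_pow_right (by norm_num) (by omega)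
      by_cases h : ∀ P, IsParS (S : Subgroup G) P → Nat.card (zl (S : Subgroup G) P) = 8
      · exact hs G hK S hB hr hz h h2
      · push Not at h
        exact h4 G hK S hB hr ht hz h h2
    · exact hσ G hK S hB ht h2
  · exact hw G hK S hB hr hwd

/-- **`RR S ≠ 1` from its leaf**, `Thin` version. -/
theorem brT_of (hσ : SigTOf K B) (hr : BrTOf K B) : BrrOf K B := by
  intro G _ _ hK S hB hne
  by_cases h : Thin (S : Subgroup G) → L2 (S : Subgroup G)
  · exact hr G hK S hB hne h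
  · push Not at h
    exact hσ G hK S hB h.1 h.2

end glue

/-! ### The tree of `RTree` -/

section tree

variable {K : Cls.{u}}

theorem rbnT_sig (hσ : SigTOf K FB.{u}) (hs : SmOf K FB.{u}) (h4 : FourOf K FB.{u}) (hw : WideAll K FB.{u}) :
    RZ.RBn K := bnT_of (fun _ _ _ _ h => h) hσ hs h4 hw

theorem rbrT_sig (hσ : SigTOf K FB.{u}) (hr : BrTOf K FB.{u}) : RZ.RBr K := brT_of hσ hr

theorem rbcT_sig (hσ : SigTOf K FB.{u}) (hs : SmOf K FB.{u}) (h4 : FourOf K FB.{u}) (hw : WideAll K FB.{u}) :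
    RBc K := RZ.rbc_of (rbnT_sig hσ hs h4 hw)

theorem rbzT_sig (hσ : SigTOf K FB.{u}) (hs : SmOf K FB.{u}) (h4 : FourOf K FB.{u}) (hw : WideAll K FB.{u})
    (hr : BrTOf K FB.{u}) : RBz K := RZ.rbz_of (rbrT_sig hσ hr) (rbnT_sig hσ hs h4 hw)

/-- **Box R.** -/
theorem rgT_sig (hN : RTreeA.NatBig.{u}) (hσ : SigTOf K FB.{u}) (hs : SmOf K FB.{u}) (h4 : FourOf K FB.{u})
    (hw : WideAll K FB.{u}) (hr : BrTOf K FB.{u}) : Merge.RG K :=
  RTreeA.rg_of' hN (rbzT_sig hσ hs h4 hw hr) (rbcT_sig hσ hs h4 hw)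

end tree

/-! ### The tree of `RTreeF` -/

section treeF

variable {K : Cls.{u}}

theorem rbfT_sig (hσ : SigTOf K FBF.{u}) (hs : SmOf K FBF.{u}) (h4 : FourOf K FBF.{u}) (hw : WideAll K FBF.{u})
    (hr : BrTOf K FBF.{u}) {G : Type u} [Group G] [Finite G] (hK : K G) {S : Sylow 2 G} (hB : RBF S) :
    IsKnownSimple' G := by
  by_cases h : RR (S : Subgroup G) = ⊥
  · exact bnT_of toRB hσ hs h4 hw G hK S hB h
  · exact brT_of hσ hr G hK S hB h

theorem rbzFT_sig (hσ : SigTOf K FBF.{u}) (hs : SmOf K FBF.{u}) (h4 : FourOf K FBF.{u}) (hw : WideAll K FBF.{u})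
    (hr : BrTOf K FBF.{u}) : RBzF K :=
  fun _ _ _ hK _ hB _ _ _ _ => rbfT_sig hσ hs h4 hw hr hK hB

theorem rbcFT_sig (hσ : SigTOf K FBF.{u}) (hs : SmOf K FBF.{u}) (h4 : FourOf K FBF.{u}) (hw : WideAll K FBF.{u}) :
    RBcF K :=
  fun G _ _ hK S hB hc => bnT_of toRB hσ hs h4 hw G hK S hB (RZ.eq_bot_of_rc hc)

/-- **Box R.** -/
theorem rgFT_sig (T : RLow.Parts.{u}) (hN : RTreeA.NatBig.{u}) (hσ : SigTOf K FBF.{u}) (hs : SmOf K FBF.{u})
    (h4 : FourOf K FBF.{u}) (hw : WideAll K FBF.{u}) (hr : BrTOf K FBF.{u}) : Merge.RG K :=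
  RTreeF.rg_of T (raBig_of hN) (rbzFT_sig hσ hs h4 hw hr) (rbcFT_sig hσ hs h4 hw)

end treeF

/-! ### The plugs of `Sigma/Glue` -/

section plug

variable {K : Cls.{u}}

theorem sigOf_of_rsig (h : Sigma.RSig K) : SigOf K FB.{u} := h

theorem sigTOf_of_rsig (h : Sigma.RSigT K) : SigTOf K FB.{u} := h

/-- **THEOREM SIGMA from its end.** -/
theorem sigOf_of (ml : MLK.{u, u}) (hE : Sigma.EndA K) : SigOf K FB.{u} := Sigma.rsig_of ml hE

/-- **THEOREM SIGMA from its end**, `Thin` version. -/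
theorem sigTOf_of (ml : MLK.{u, u}) (hE : Sigma.EndT K) : SigTOf K FB.{u} := Sigma.rsigT_of ml hE

/-! ### `SigTOf` is closed -/

/-- **THEOREM SIGMA**, some `|Z : C_Z(P)| ≥ 4`. -/
def SigWOf (K : Cls.{u}) (B : Fr.{u}) : Prop :=
  ∀ (G : Type u) [Group G] [Finite G], K G → ∀ (S : Sylow 2 G), B G S →
    (∃ P, IsParS (S : Subgroup G) P ∧
      4 * Nat.card ↥(zc (S : Subgroup G) ⊓ centralizer (P : Set G)) ≤ Nat.card (zc (S : Subgroup G))) →
      ¬ L1 (S : Subgroup G) → ¬ L2 (S : Subgroup G) → IsKnownSimple' G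

variable {B : Fr.{u}}

theorem SigWOf.mono {B' : Fr.{u}} (hB : ∀ (G : Type u) [Group G] [Finite G] (S : Sylow 2 G), B' G S → B G S)
    (h : SigWOf K B) : SigWOf K B' := fun G _ _ hK S hb => h G hK S (hB G S hb)

theorem sigOf_of_TW (hT : SigTOf K B) (hW : SigWOf K B) : SigOf K B := by
  intro G _ _ hK S hB h1 h2
  rcases thin_or (S := S) with ht | hwd
  · exact hT G hK S hB ht h2
  · exact hW G hK S hB hwd h1 h2

theorem wideAll_of (hW : SigWOf K B) (h : WideOf K B) : WideAll K B := by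
  intro G _ _ hK S hB hr hw
  by_cases h1 : L1 (S : Subgroup G)
  · exact h G hK S hB hr hw (Or.inl h1)
  · by_cases h2 : L2 (S : Subgroup G)
    · exact h G hK S hB hr hw (Or.inr h2)
    · exact hW G hK S hB hw h1 h2

/-- **THEOREM SIGMA for `Thin S`, every frame.** -/
theorem sigT (ml : MLK.{u, u}) (hE : Ext.{u, u})
    (hb : ∀ (G : Type u) [Group G] [Finite G] (S : Sylow 2 G), B G S → RB S) : SigTOf K B :=
  fun G _ _ hK S hB ht h2 => Sigma.Rank.rsigT (K := K) ml hE G hK S (hb G S hB) ht h2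

/-- **THEOREM SIGMA from the case some `|Z : C_Z(P)| ≥ 4`.** -/
theorem sig (ml : MLK.{u, u}) (hE : Ext.{u, u})
    (hb : ∀ (G : Type u) [Group G] [Finite G] (S : Sylow 2 G), B G S → RB S) (hW : SigWOf K B) : SigOf K B :=
  sigOf_of_TW (sigT ml hE hb) hW

theorem rbzFT_ext (ml : MLK.{u, u}) (hE : Ext.{u, u}) (hs : SmOf K FBF.{u}) (h4 : FourOf K FBF.{u})
    (hw : WideAll K FBF.{u}) (hr : BrTOf K FBF.{u}) : RBzF K :=
  rbzFT_sig (sigT ml hE toRB) hs h4 hw hr

theorem rbcFT_ext (ml : MLK.{u, u}) (hE : Ext.{u, u}) (hs : SmOf K FBF.{u}) (h4 : FourOf K FBF.{u})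
    (hw : WideAll K FBF.{u}) : RBcF K :=
  rbcFT_sig (sigT ml hE toRB) hs h4 hw

/-- **Box R** over `MLK`, `Ext` and four sockets. -/
theorem rgFT_ext (T : RLow.Parts.{u}) (hN : RTreeA.NatBig.{u}) (ml : MLK.{u, u}) (hE : Ext.{u, u})
    (hs : SmOf K FBF.{u}) (h4 : FourOf K FBF.{u}) (hw : WideAll K FBF.{u}) (hr : BrTOf K FBF.{u}) : Merge.RG K :=
  rgFT_sig T hN (sigT ml hE toRB) hs h4 hw hr

/-- **Box R** over `MLK`, `Ext` and four sockets. -/
theorem rgT_ext (hN : RTreeA.NatBig.{u}) (ml : MLK.{u, u}) (hE : Ext.{u, u}) (hs : SmOf K FB.{u})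
    (h4 : FourOf K FB.{u}) (hw : WideAll K FB.{u}) (hr : BrTOf K FB.{u}) : Merge.RG K :=
  rgT_sig hN (sigT ml hE fun _ _ _ _ h => h) hs h4 hw hr

end plug

end Cfsg.Agent.Omega.NOThreeL.RRed.GlueSig

end

end

-- merged: Cfsg.Agent.Mrg.Omega.NOThreeL.RRed.FourTree
section

section


/-!
# NO-3L, box R: the tree of `GlueSig.FourOf` (RR S = 1, |Z| = 4, all |Z : C_Z(P)| = 2, some |V_P| ≠ 8, (L2))

`V* = Wd S = ⟨Z^M₀⟩`, `M₀ = MZ S = ⟨P*(S)⟩`.

* `Four S` : the hypotheses of `FourOf`;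
* `ffMod_rr` : `RR S = 1` implies that `V*` is FF; `exists_gOne_rr` : some `P ∈ P*(S)` has an offender of `V*`;
* `TvS S` : some `t ∈ S` is a transvection of `V*`; `Fld S` : some such `P` has natural `SL₂(q)`-blocks, `q ≥ 4`;
  `tvS_or` : one of them holds;
* `Bks S N E R₀ Om phi` : the `𝔽₂`-blocks (`TvFin.Full`): `V* = ∏ N b × R₀`, `N b` = even sets of letters of `Sym(n b)`,
  `n b` odd, `≥ 3`; `exists_bks` : the block theorem;
* `HypJ S N` : at some level (or `J(S)`) the best offenders move all blocks;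
* sockets: `FourFld` (`Fld S`), `FourJ` (`R₀ = 1`, `HypJ`), `FourTwo` (`R₀ = 1`, not `HypJ`), `FourRest` (`R₀ ≠ 1`);
* **`fourOf_of`** : they imply `FourOf`.
-/

set_option autoImplicit false
set_option linter.unusedSectionVars false

namespace Cfsg.Agent.Omega.NOThreeL.RRed.FourTree

open Subgroup Cfsg Cfsg.Agent.ZN Cfsg.Agent.Omega.MinPar Cfsg.Agent.Omega.Frame Cfsg.Agent.Omega.FrameNOFF
open Cfsg.Agent.Omega.Node.NO3L Cfsg.Agent.Omega.NOThreeL.Basic Cfsg.Agent.Omega.NOThreeL.RTree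
open Cfsg.Agent.Omega.NOThreeL.RTreeF
open Cfsg.Agent.Omega.NOThreeL.Merge (MZ le_MZ S_le_MZ isLoc_MZ zl_MZ_comm zl_MZ_isPGroup)
open Cfsg.Agent.Omega.NOThreeL.ZCut (FZ)
open Cfsg.Agent.Omega.NO3b.Bang (bang NN)
open Cfsg.Agent.Omega.NO3S (FFMod)
open Cfsg.Agent.Omega.NO3S.Level (Lev)
open Cfsg.Agent.Omega.NO1.BestOff (Best)
open Cfsg.Agent.Omega.FFThm (ElemM OffM NoOverM)
open Cfsg.Agent.Omega.NOThreeL.RZ (RR)
open Cfsg.Agent.Omega.NOThreeL.RRed.GlueSig

universe u

section defs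

variable {G : Type u} [Group G]

/-- The hypotheses of `FourOf`. -/
structure Four [Finite G] (S : Sylow 2 G) : Prop extends RB S where
  rr : RR (S : Subgroup G) = ⊥
  thin : Thin (S : Subgroup G)
  z4 : Nat.card (zc (S : Subgroup G)) = 4
  n8 : ∃ P, IsParS (S : Subgroup G) P ∧ Nat.card (zl (S : Subgroup G) P) ≠ 8
  l2 : L2 (S : Subgroup G)

/-- some `t ∈ S` is a transvection of `V*` -/
def TvS (S : Subgroup G) : Prop :=
  ∃ t ∈ S, ∃ c ∈ Wd S, c ≠ 1 ∧ Tv (Wd S) c t ∧ t ∉ centralizer (Wd S : Set G)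

/-- some `P ∈ P*(S)` with an offender of `V*` has natural `SL₂(q)`-blocks, `q ≥ 4` -/
def Fld [Finite G] (S : Sylow 2 G) : Prop :=
  ∃ P A, GOne S (MZ (S : Subgroup G)) P A ∧ Big4 S P

/-- **The `𝔽₂`-blocks of `V*`.** -/
structure Bks [Finite G] (S : Sylow 2 G) {I : Type u} (N E : I → Subgroup G) (R₀ : Subgroup G) (Om : I → Type u)
    [∀ i, Fintype (Om i)] [∀ i, DecidableEq (Om i)] (phi : ∀ i, Finset (Om i) → G) : Prop
    extends TvFin.Full (S : Subgroup G) (MZ (S : Subgroup G)) (Wd (S : Subgroup G)) N E R₀ Om phi where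
  nonempty : Nonempty I

/-- `⟨best offenders of S on X⟩ C_S(X)` -/
def nxtX (S X : Subgroup G) : Subgroup G := (S ⊓ centralizer (X : Set G)) ⊔ sSup {A | A ≤ S ∧ Best X A}

/-- A level `(K, X)` over `V*`. -/
structure LevX (S K X : Subgroup G) : Prop extends Lev S K where
  Xle : X ≤ zc K
  Xn : normalizer (K : Set G) ≤ normalizer (X : Set G)
  VX : Wd S ≤ X
  MX : MZ S ≤ normalizer (X : Set G)

/-- (J): `J(S)`, or the best offenders at some level, move all blocks. -/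
def HypJ {ι : Type u} (S : Subgroup G) (N : ι → Subgroup G) : Prop :=
  (∀ b, ¬ jj S ≤ centralizer (N b : Set G)) ∨
    ∃ K X, LevX S K X ∧ ∀ b, ¬ nxtX S X ≤ centralizer (N b : Set G)

end defs

section sockets

variable (K : Cls.{u}) (B : Fr.{u})

/-- fields -/
def FourFld : Prop :=
  ∀ (G : Type u) [Group G] [Finite G], K G → ∀ (S : Sylow 2 G), B G S → Four S → Fld S → IsKnownSimple' G

/-- `R₀ = 1`, one level -/
def FourJ : Prop :=
  ∀ (G : Type u) [Group G] [Finite G], K G → ∀ (S : Sylow 2 G), B G S → Four S → ¬ Fld S →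
    ∀ (I : Type u) [Fintype I] [DecidableEq I] (N E : I → Subgroup G) (Om : I → Type u)
      [∀ i, Fintype (Om i)] [∀ i, DecidableEq (Om i)] (phi : ∀ i, Finset (Om i) → G), Bks S N E ⊥ Om phi →
      HypJ (S : Subgroup G) N → IsKnownSimple' G

/-- `R₀ = 1`, two levels -/
def FourTwo : Prop :=
  ∀ (G : Type u) [Group G] [Finite G], K G → ∀ (S : Sylow 2 G), B G S → Four S → ¬ Fld S →
    ∀ (I : Type u) [Fintype I] [DecidableEq I] (N E : I → Subgroup G) (Om : I → Type u)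
      [∀ i, Fintype (Om i)] [∀ i, DecidableEq (Om i)] (phi : ∀ i, Finset (Om i) → G), Bks S N E ⊥ Om phi →
      ¬ HypJ (S : Subgroup G) N → IsKnownSimple' G

/-- `R₀ ≠ 1` -/
def FourRest : Prop :=
  ∀ (G : Type u) [Group G] [Finite G], K G → ∀ (S : Sylow 2 G), B G S → Four S → ¬ Fld S →
    ∀ (I : Type u) [Fintype I] [DecidableEq I] (N E : I → Subgroup G) (R₀ : Subgroup G) (Om : I → Type u)
      [∀ i, Fintype (Om i)] [∀ i, DecidableEq (Om i)] (phi : ∀ i, Finset (Om i) → G), Bks S N E R₀ Om phi →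
      R₀ ≠ ⊥ → IsKnownSimple' G

end sockets

section tree

variable {G : Type u} [Group G]

/-- `RR S = 1` implies that `V*` is FF. -/
theorem ffMod_rr [Finite G] {S : Sylow 2 G} (B : RB S) (hr : RR (S : Subgroup G) = ⊥) :
    FFMod (S : Subgroup G) (MZ (S : Subgroup G)) := by
  by_contra hn
  have hG := B.ctx
  have hm := B.data.noff
  have hne : zc (S : Subgroup G) ≠ ⊥ := MinSimple.Basic.zc_ne_bot S.isPGroup' (hG.sylow_ne_bot S)
  have hMW := MinSimple.VModule.le_normalizer_zl (S : Subgroup G) (MZ (S : Subgroup G))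
  have hSW : (S : Subgroup G) ≤ normalizer (zl (S : Subgroup G) (MZ (S : Subgroup G)) : Set G) :=
    (S_le_MZ hG B.full).trans hMW
  have hN : NN (S : Subgroup G) (zl (S : Subgroup G) (MZ (S : Subgroup G))) :=
    { le := le_of_le_normalizer S (zl_MZ_isPGroup hG hm) hSW
      norm := hSW
      comm := zl_MZ_comm hG hm
      sq := zl_MZ_sq hG.char2 hm
      nff := fun A hA ho => hn ⟨A, hA, ho⟩ }
  have hI : RZ.Inv (S : Subgroup G) (zl (S : Subgroup G) (MZ (S : Subgroup G))) :=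
    { nn := hN
      ys := hMW
      gen := MinSimple.VModule.zl_le ((le_inf (MinSimple.VModule.zc_le_zl _ _) le_rfl).trans (RZ.Z_le _ _))
        (RZ.le_norm_V _ _) }
  have h1 := hI.le_RR
  rw [hr] at h1
  exact hne (eq_bot_iff.2 ((MinSimple.VModule.zc_le_zl _ _).trans h1))

theorem off_rr [Finite G] {S : Sylow 2 G} (B : RB S) (hr : RR (S : Subgroup G) = ⊥) :
    ∃ A ≤ MZ (S : Subgroup G), OffM (zl (S : Subgroup G) (MZ (S : Subgroup G))) A := by
  obtain ⟨A, hA, h⟩ := ffMod_rr B hr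
  exact ⟨A, hA.trans (S_le_MZ B.ctx B.full), h⟩

theorem gen_MZ [Finite G] (S : Sylow 2 G) :
    MZ (S : Subgroup G) ≤ sSup {P | IsParS (S : Subgroup G) P ∧ P ≤ MZ (S : Subgroup G)} :=
  sSup_le fun _ hP => le_sSup ⟨hP, le_MZ hP⟩

/-- some `P ∈ P*(S)` has an offender of `V*` -/
theorem exists_gOne_rr [Finite G] {S : Sylow 2 G} (B : RB S) (hr : RR (S : Subgroup G) = ⊥) :
    ∃ P A, GOne S (MZ (S : Subgroup G)) P A :=
  exists_gOne B.ctx.char2 (isLoc_MZ B.ctx B.full B.data.noff) (gen_MZ S) (off_rr B hr)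

/-- transvections or fields -/
theorem tvS_or [Finite G] {S : Sylow 2 G} (B : RB S) (hr : RR (S : Subgroup G) = ⊥) :
    TvS (S : Subgroup G) ∨ Fld S :=
  tv_or B.ctx.char2 (isLoc_MZ B.ctx B.full B.data.noff) (gen_MZ S) (off_rr B hr)

/-- **The block theorem** in box R with `RR S = 1` and a transvection. -/
theorem exists_bks [Finite G] {S : Sylow 2 G} (B : RB S) (hr : RR (S : Subgroup G) = ⊥) (ht : TvS (S : Subgroup G)) :
    ∃ (I : Type u) (_ : Fintype I) (_ : DecidableEq I) (N E : I → Subgroup G) (R₀ : Subgroup G) (Om : I → Type u)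
      (_ : ∀ i, Fintype (Om i)) (_ : ∀ i, DecidableEq (Om i)) (phi : ∀ i, Finset (Om i) → G),
      Bks S N E R₀ Om phi := by
  obtain ⟨P, A, hg⟩ := exists_gOne_rr B hr
  have hSM := S_le_MZ B.ctx B.full
  obtain ⟨I, i1, i2, N, E, R₀, Om, i3, i4, phi, h⟩ :=
    TvFin.blocks_zl (S := S) hSM (zl_MZ_sq B.ctx.char2 B.data.noff) hg.no
  obtain ⟨t, htS, c, hc, -, htv, hne⟩ := ht
  obtain ⟨i, -⟩ := h.tvs t (hSM htS) c hc htv hne
  exact ⟨I, i1, i2, N, E, R₀, Om, i3, i4, phi, { toFull := h, nonempty := ⟨i⟩ }⟩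

/-- **`FourOf` from its leaves** -/
theorem fourOf_of {K : Cls.{u}} {B : Fr.{u}}
    (hb : ∀ (G : Type u) [Group G] [Finite G] (S : Sylow 2 G), B G S → RB S)
    (hf : FourFld K B) (hJ : FourJ K B) (h2 : FourTwo K B) (h0 : FourRest K B) : FourOf K B := by
  intro G _ _ hK S hB hr ht hz hn hl
  have h4 : Four S := { toRB := hb G S hB, rr := hr, thin := ht, z4 := hz, n8 := hn, l2 := hl }
  by_cases hF : Fld S
  · exact hf G hK S hB h4 hF
  · obtain ⟨I, i1, i2, N, E, R₀, Om, i3, i4, phi, hBk⟩ :=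
      exists_bks (hb G S hB) hr ((tvS_or (hb G S hB) hr).resolve_right hF)
    by_cases hR : R₀ = ⊥
    · subst hR
      by_cases hj : HypJ (S : Subgroup G) N
      · exact hJ G hK S hB h4 hF I N E Om phi hBk hj
      · exact h2 G hK S hB h4 hF I N E Om phi hBk hj
    · exact h0 G hK S hB h4 hF I N E R₀ Om phi hBk hR

end tree

end Cfsg.Agent.Omega.NOThreeL.RRed.FourTree

end

section


/-!
# The block theorem for transvections over `𝔽₂`: the letters of all blocks, in the group (#24382, #24494)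

* `Pts M V R₀ blk w pr` : the points `w x ∈ V`, `pr F` = product of the points of `F`; the product over a block is `1` and
  these are the only relations; `V = ⟨points⟩ × R₀`; `M` permutes the points and the blocks; every transposition of two
  points of one block is induced by an element of `M` which centralises `R₀`;
* `Pts.inj`, `Pts.conj`, `Pts.pr_eq_iff`, `Pts.disjoint`;
* **`exists_pts`** : `GHyp S V M` gives `Pts`.
-/

set_option autoImplicit false
set_option linter.unusedSectionVars false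

namespace Cfsg.Agent.Omega.NOThreeL.RRed.TvG2

open Subgroup Cfsg.Agent.Omega.TV Cfsg.Agent.Omega.FFBr
open Cfsg.Agent.Omega.Transv (zmod_cases eq_of_add one_ne)
open Cfsg.Agent.Omega.NOThreeL.RRed.TvG
open Cfsg.Agent.Omega.NOThreeL.RRed.TvBlk (Sys Blk exists_blk)
open Cfsg.Agent.Omega.NOThreeL.RRed.TvDec (RR aut)

universe u

variable {G : Type u} [Group G]

/-- The points, read in `G`. -/
structure Pts (M V R₀ : Subgroup G) {Pt I : Type u} [Fintype Pt] [DecidableEq Pt] [DecidableEq I] (blk : Pt → I)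
    (w : Pt → G) (pr : Finset Pt → G) : Prop where
  wV : ∀ x, w x ∈ V
  sq : ∀ v ∈ V, v * v = 1
  MV : M ≤ normalizer (V : Set G)
  pr_empty : pr ∅ = 1
  pr_single : ∀ x, pr {x} = w x
  pr_insert : ∀ x F, x ∉ F → pr (insert x F) = w x * pr F
  pr_symm : ∀ F F', pr (symmDiff F F') = pr F * pr F'
  R₀V : R₀ ≤ V
  R₀M : M ≤ normalizer (R₀ : Set G)
  mem : ∀ v ∈ V, ∃ F, ∃ r ∈ R₀, v = pr F * r
  disj : ∀ F, pr F ∈ R₀ → pr F = 1
  rel : ∀ F, pr F = 1 → ∀ x y, blk x = blk y → (x ∈ F ↔ y ∈ F)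
  sum : ∀ x, pr (Finset.univ.filter fun y => blk y = blk x) = 1
  surj : Function.Surjective blk
  odd : ∀ x, Odd (Finset.univ.filter fun y => blk y = blk x).card
  three : ∀ x, 3 ≤ (Finset.univ.filter fun y => blk y = blk x).card
  perm : ∀ g ∈ M, ∃ σ : Equiv.Perm Pt, (∀ x, g * w x * g⁻¹ = w (σ x)) ∧
    ∀ x y, blk x = blk y ↔ blk (σ x) = blk (σ y)
  full : ∀ x y, x ≠ y → blk x = blk y → ∃ t ∈ M, (∀ z, t * w z * t⁻¹ = w (Equiv.swap x y z)) ∧
    (∀ r ∈ R₀, t * r * t⁻¹ = r) ∧ ∀ v ∈ V, t * v * t⁻¹ = v ∨ t * v * t⁻¹ = v * (w x * w y)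

namespace Pts

variable {M V R₀ : Subgroup G} {Pt I : Type u} [Fintype Pt] [DecidableEq Pt] [DecidableEq I] {blk : Pt → I}
  {w : Pt → G} {pr : Finset Pt → G} (h : Pts M V R₀ blk w pr)

include h

theorem pr_mem (F : Finset Pt) : pr F ∈ V := by
  induction F using Finset.induction_on with
  | empty => rw [h.pr_empty]; exact one_mem _
  | insert x F hx ih => rw [h.pr_insert x F hx]; exact mul_mem (h.wV x) ih

theorem comm {a b : G} (ha : a ∈ V) (hb : b ∈ V) : a * b = b * a := EA.comm_of h.sq ha hb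

theorem pr_sq (F : Finset Pt) : pr F * pr F = 1 := h.sq _ (h.pr_mem F)

/-- `g ∈ M` acts on products -/
theorem conj {g : G} {σ : Equiv.Perm Pt} (hσ : ∀ x, g * w x * g⁻¹ = w (σ x)) (F : Finset Pt) :
    g * pr F * g⁻¹ = pr (F.map σ.toEmbedding) := by
  induction F using Finset.induction_on with
  | empty => rw [Finset.map_empty, h.pr_empty]; group
  | insert x F hx ih =>
    rw [Finset.map_insert, h.pr_insert x F hx, h.pr_insert]
    · have e : g * (w x * pr F) * g⁻¹ = (g * w x * g⁻¹) * (g * pr F * g⁻¹) := by group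
      rw [e, ih, hσ]
      rfl
    · intro hc
      obtain ⟨y, hy, e⟩ := Finset.mem_map.1 hc
      exact hx (by rw [← σ.injective e]; exact hy)

theorem pr_eq_iff {F F' : Finset Pt} (e : pr F = pr F') (x y : Pt) (hxy : blk x = blk y) :
    (x ∈ symmDiff F F' ↔ y ∈ symmDiff F F') :=
  h.rel _ (by rw [h.pr_symm, e, h.pr_sq]) x y hxy

theorem exists_other (x : Pt) : ∃ y, y ≠ x ∧ blk y = blk x := by
  have h1 : 1 < (Finset.univ.filter fun y => blk y = blk x).card := lt_of_lt_of_le (by norm_num) (h.three x)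
  obtain ⟨y, hy, hne⟩ := Finset.exists_mem_ne h1 x
  exact ⟨y, hne, (Finset.mem_filter.1 hy).2⟩

theorem exists_third (x y : Pt) : ∃ z, z ≠ x ∧ z ≠ y ∧ blk z = blk x := by
  by_contra hcon
  push Not at hcon
  have h1 : (Finset.univ.filter fun z => blk z = blk x) ⊆ {x, y} := by
    intro z hz
    rw [Finset.mem_insert, Finset.mem_singleton]
    by_contra hc
    rw [not_or] at hc
    exact hcon z hc.1 hc.2 (Finset.mem_filter.1 hz).2
  have h2 := Finset.card_le_card h1
  have h3 : ({x, y} : Finset Pt).card ≤ 2 := Finset.card_le_two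
  have := h.three x
  omega

theorem inj : Function.Injective w := by
  intro x y e
  by_contra hne
  obtain ⟨z, hzx, hzy, hb⟩ := h.exists_third x y
  have h1 : pr {x} = pr {y} := by rw [h.pr_single, h.pr_single, e]
  have h2 := (h.pr_eq_iff h1 x z hb.symm).1 (by
    rw [Finset.mem_symmDiff]
    exact Or.inl ⟨Finset.mem_singleton_self x, fun hc => hne (Finset.mem_singleton.1 hc)⟩)
  rw [Finset.mem_symmDiff, Finset.mem_singleton, Finset.mem_singleton] at h2
  exact h2.elim (fun h => hzx h.1) fun h => hzy h.1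

theorem ne_one (x : Pt) : w x ≠ 1 := by
  intro e
  obtain ⟨y, hy, hb⟩ := h.exists_other x
  have h1 := (h.rel {x} (by rw [h.pr_single, e]) x y hb.symm).1 (Finset.mem_singleton_self x)
  exact hy (Finset.mem_singleton.1 h1)

theorem gen (h0 : R₀ = ⊥) : V ≤ closure (Set.range w) := by
  intro v hv
  obtain ⟨F, r, hr, rfl⟩ := h.mem v hv
  rw [h0, Subgroup.mem_bot] at hr
  rw [hr, mul_one]
  clear hv hr
  induction F using Finset.induction_on with
  | empty => rw [h.pr_empty]; exact one_mem _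
  | insert x F hx ih =>
    rw [h.pr_insert x F hx]
    exact mul_mem (subset_closure ⟨x, rfl⟩) ih

end Pts

variable {V M : Subgroup G}

section build

variable (sq : ∀ x ∈ V, x * x = 1) (h : M ≤ normalizer (V : Set G))
variable {Pt I : Type u} [Fintype Pt] [Fintype I] [DecidableEq Pt] [DecidableEq I] {blk : Pt → I} {w : Pt → EA V sq}
  {tr : Pt → Pt → TvBlk.W (EA V sq)}

theorem sum_ind (F : Finset Pt) : ∑ x ∈ F, w x = ∑ z : Pt, (if z ∈ F then (1 : ZMod 2) else 0) • w z := by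
  have h1 : ∀ z ∈ (Finset.univ : Finset Pt), (if z ∈ F then (1 : ZMod 2) else 0) • w z = if z ∈ F then w z else 0 := by
    intro z _
    rw [ite_smul, one_smul, zero_smul]
  rw [Finset.sum_congr rfl h1, ← Finset.sum_filter, Finset.filter_mem_eq_inter, Finset.univ_inter]

theorem exists_set (a : Pt → ZMod 2) : ∃ F : Finset Pt, ∑ z : Pt, a z • w z = ∑ x ∈ F, w x := by
  refine ⟨Finset.univ.filter fun z => a z = 1, ?_⟩
  rw [Finset.sum_filter]
  refine Finset.sum_congr rfl fun z _ => ?_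
  rcases zmod_cases (a z) with e | e
  · rw [e, zero_smul, if_neg]
    exact fun hc => one_ne hc.symm
  · rw [e, one_smul, if_pos rfl]

/-- **the points in the group** -/
theorem pts [Finite G] (b : Blk (RR sq h) blk w tr) :
    Pts M V (TvDec.R₀ sq h) blk (fun x => (w x).val) (fun F => (∑ x ∈ F, w x).val) where
  wV x := (w x).val_mem
  sq := sq
  MV := h
  pr_empty := by rw [Finset.sum_empty]; rfl
  pr_single x := by rw [Finset.sum_singleton]
  pr_insert x F hx := by rw [Finset.sum_insert hx]; rfl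
  pr_symm F F' := congrArg EA.val (TvDec.sum_symmDiff sq w F F')
  R₀V := TvDec.toSub_le _
  R₀M g hg := TvDec.mem_normalizer_of (TvDec.conj_R₀ sq h ⟨g, hg⟩)
  mem v hv := by
    obtain ⟨a, ha⟩ := b.decomp (EA.mk sq v hv)
    obtain ⟨F, hF⟩ := exists_set sq (w := w) a
    refine ⟨F, (EA.mk sq v hv + ∑ z, a z • w z).val, ⟨_, ha, rfl⟩, ?_⟩
    have e : EA.mk sq v hv = ∑ x ∈ F, w x + (EA.mk sq v hv + ∑ z, a z • w z) := by
      rw [hF, add_comm (EA.mk sq v hv), ← add_assoc, Transv.add_self, zero_add]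
    exact congrArg EA.val e
  disj F hF := by
    obtain ⟨a, ha, e⟩ := hF
    have e' : a = ∑ x ∈ F, w x := EA.ext e
    rw [e'] at ha
    have h1 : ∑ x ∈ F, w x = 0 := by
      refine b.eq_zero (Submodule.sum_mem _ fun x _ => Submodule.subset_span ⟨x, rfl⟩) ha
    exact EA.val_eq_one.2 h1
  rel F hF x y hxy := by
    have h1 : ∑ x ∈ F, w x = 0 := EA.val_eq_one.1 hF
    rw [sum_ind sq] at h1
    have h2 := b.indep _ h1 x y hxy
    by_cases hx : x ∈ F <;> by_cases hy : y ∈ F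
    · exact ⟨fun _ => hy, fun _ => hx⟩
    · rw [if_pos hx, if_neg hy] at h2; exact absurd h2 one_ne
    · rw [if_neg hx, if_pos hy] at h2; exact absurd h2.symm one_ne
    · exact ⟨fun hc => absurd hc hx, fun hc => absurd hc hy⟩
  sum x := EA.val_eq_one.2 (b.sum_zero x)
  surj := b.surj
  odd := b.odd
  three := b.three
  perm g hg := by
    obtain ⟨σ, h1, h2, -⟩ := b.perm (aut sq h ⟨g, hg⟩) (TvDec.conj_RR sq h ⟨g, hg⟩)
    exact ⟨σ, fun x => congrArg EA.val (h1 x), h2⟩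
  full x y hne hb := by
    obtain ⟨d, hd⟩ := b.tr_mem x y hne hb
    obtain ⟨m, rfl⟩ := pr_surjective h d
    refine ⟨m, m.2, fun z => ?_, ?_, fun v hv => ?_⟩
    · have h1 : aut sq h m (w z) = w z + (tr x y).2 (w z) • (tr x y).1 := hd.act (w z)
      have h2 := b.act_tr x y hb z
      rw [h2] at h1
      exact congrArg EA.val h1
    · rintro _ ⟨a, ha, rfl⟩
      have h1 := congrArg EA.val (hd.act a)
      rw [b.tr_ker x y hb ha, zero_smul, add_zero] at h1
      exact h1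
    · have h1 := congrArg EA.val (hd.act (EA.mk sq v hv))
      rw [b.tr_fst x y hb] at h1
      rcases zmod_cases ((tr x y).2 (EA.mk sq v hv)) with e | e
      · rw [e, zero_smul, add_zero] at h1
        exact Or.inl h1
      · rw [e, one_smul] at h1
        exact Or.inr h1

end build

/-- **The block theorem in the group, in terms of points.** -/
theorem exists_pts [Finite G] {S : Sylow 2 G} (H : GHyp (S : Subgroup G) V M) :
    ∃ (Pt I : Type u) (_ : Fintype Pt) (_ : Fintype I) (_ : DecidableEq Pt) (_ : DecidableEq I) (blk : Pt → I)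
      (w : Pt → G) (pr : Finset Pt → G), Pts M V (TvDec.R₀ H.sq H.norm) blk w pr := by
  have hsys : Sys (RR H.sq H.norm) := TvBlk.sys_of H.faith H.hno H.core H.T H.hgen
  obtain ⟨Pt, I, i1, i2, i3, i4, blk, w, tr, b⟩ := exists_blk hsys
  exact ⟨Pt, I, i1, i2, i3, i4, blk, _, _, pts H.sq H.norm b⟩

end Cfsg.Agent.Omega.NOThreeL.RRed.TvG2

end

end
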