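import Cfsg.Agent.Mrg.Omega.NOThreeL.RRed.WLeftBase
import Cfsg.Agent.Mrg.Omega.NOThreeL.RRed.NatS
import Cfsg.Agent.Mrg.Omega.NOThreeL.RRed.ClassMx
import Cfsg.Agent.Mrg.Omega.NOThreeL.RRed.NS.Blk
import Cfsg.Agent.Mrg.Omega.NOThreeL.RRed.ClassInst
import Mathlib.GroupTheory.Transfer
import Mathlib.GroupTheory.Sylow
import Cfsg.Agent.ZN.ChoiceSit
import Cfsg.Agent.S0537
import Mathlib
import Cfsg.Agent.Mrg.Omega.KL.TwoZ.Ex
import Cfsg.Agent.Mrg.Omega.OM.PT.PTW
import Cfsg.Agent.Mrg.Omega.All.Basic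
import Cfsg.Agent.Mrg.Omega.KL.FlagNO
import Cfsg.Agent.Mrg.Omega.NOThreeL.RRed.InstZ
import Cfsg.Agent.Mrg.Omega.OM.TV.OfT
import Cfsg.Agent.Mrg.Omega.NOThreeL.RRed.Nat1Def
import Cfsg.Agent.Mrg.Omega.KL.ThmIqG
import Cfsg.Agent.Mrg.Omega.KL.TwoZ.Fr
import Cfsg.Agent.Mrg.Omega.OM.PT.NrOne
import Cfsg.Agent.Mrg.Omega.TC.No
import Cfsg.Agent.Mrg.Omega.KL.TwoZ.FrN
import Cfsg.Agent.Mrg.Omega.NO3S.EMany.LowExt
import Cfsg.Agent.Mrg.Omega.KL.TwoZ.GE
import Cfsg.Agent.Lib.NormalAbelian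
import Cfsg.Agent.Mrg.Omega.BTwo.Basic
import Cfsg.Agent.Mrg.Omega.KL.TwoZ.Inp
import Cfsg.Agent.Mrg.Omega.KL.StarM.Pre
import Cfsg.Agent.Mrg.Omega.NOThreeL.RRed.WideTree

-- merged: Cfsg.Agent.Mrg.Omega.NOThreeL.RRed.WLF.Src
section

section


/-!
# NO-3L, box R, row 8 of `WideTree` (two natural blocks, fields): one active `P` per block (helper916)

* `Src S W l` : the blocks and lines of every active `P` are among the `(W b, l b)`;
* `Src.nat1` : an active `P` which moves `Z_i` has exactly one block, `W i`, with line `l i`;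
* `Src.natS` : `NatS F S P (W i) (W (i+1)) (l i)`.
-/

set_option autoImplicit false
set_option linter.unusedSectionVars false

namespace Cfsg.Agent.Omega.NOThreeL.RRed.WLF

open Subgroup Cfsg Cfsg.Agent.ZN Cfsg.Agent.Omega.MinPar Cfsg.Agent.Omega.Frame Cfsg.Agent.Omega.FrameNOFF
open Cfsg.Agent.Omega.FrameFF
open Cfsg.Agent.Omega.Node.NO3L Cfsg.Agent.Omega.NOThreeL.Basic
open Cfsg.Agent.Omega.NOThreeL.Merge (MZ)
open Cfsg.Agent.Omega.NOThreeL.RTree (RB)
open Cfsg.Agent.Omega.FFThm (NatKM NatK ActsSL OffM ElemM NoOverM ConclM)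
open Cfsg.Agent.Omega.NO3S.ThmB (Nb sg)
open Cfsg.Agent.Omega.NO3S.KeyRad (blk blk_le e_blk exists_blk_e)
open Cfsg.Agent.Omega.NOThreeL.RRed.NS (DD YY mem_YY)
open Cfsg.Agent.Omega.NOThreeL.RRed.InstZ (ZZ Spl)
open Cfsg.Agent.Omega.NOThreeL.RRed.WideTree
open Cfsg.Agent.Omega.NOThreeL.RRed.WLeft
open Cfsg.Agent.MinSimple.VModule (oddGen oddGen_def)
open scoped Pointwise

universe u

variable {G : Type u} [Group G]

/-- **every active `P` is natural, its blocks and lines are in the list** -/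
structure Src (S : Subgroup G) (W l : Fin 2 → Subgroup G) : Prop where
  act : ∀ P, Act S P → ∃ (F : Type) (_ : Field F) (_ : Finite F) (_ : CharP F 2) (k : ℕ) (_ : 0 < k)
    (M : NatKM F S P (zl S P) (cv S P) k) (h : Nb M), (∀ j, DD M j = ⊥) ∧ ∀ j, ∃ b, W b = blk M j ∧ l b = YY h j

/-- one natural block -/
structure Nat1 (F : Type) [Field F] (S P W l : Subgroup G) where
  M : NatKM F S P (zl S P) (cv S P) 1
  nb : Nb M
  dd : DD M 0 = ⊥
  hW : W = blk M 0
  hl : l = YY nb 0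

section fin

variable [Finite G] {S : Sylow 2 G} {W l : Fin 2 → Subgroup G}

/-- the class of an active `P` -/
theorem exists_cls (C : CM (S : Subgroup G) (fun i : ULift.{u} (Fin 2) => W i.down)) {P : Subgroup G}
    (hP : Act (S : Subgroup G) P) : ∃ i : Fin 2, ¬ P ≤ centralizer (ZZ (S : Subgroup G) W i : Set G) ∧
      oddGen P ≤ centralizer (W (i + 1) : Set G) ∧
        P ≤ centralizer (ZZ (S : Subgroup G) W (i + 1) : Set G) := by
  obtain ⟨k, hk, hk'⟩ := C.one P hP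
  have hodd : oddGen P ≤ centralizer (W (k.down + 1) : Set G) := by
    rw [oddGen_def, closure_le]
    rintro g ⟨hg, ho⟩
    exact hk' ⟨k.down + 1⟩ (fun e => OM.KTwo.ne_add_one k.down (congrArg ULift.down e).symm) g hg ho
  refine ⟨k.down, hk, hodd, ?_⟩
  conv_lhs => rw [← NoFF.LinesPlug.oddGen_sup hP.1.le (MinSimple.Basic.not_dvd_relIndex S hP.1.le)]
  exact sup_le (hodd.trans (centralizer_le inf_le_left)) (InstZ.Spl.S_le_cent W _)

/-- **an active `P` of class `i` has exactly one block, `W i`** -/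
theorem Src.nat1 (s : Src (S : Subgroup G) W l) {P : Subgroup G} (hP : Act (S : Subgroup G) P) {i : Fin 2}
    (hi : oddGen P ≤ centralizer (W (i + 1) : Set G)) :
    ∃ (F : Type) (_ : Field F) (_ : Finite F) (_ : CharP F 2), Nonempty (Nat1 F (S : Subgroup G) P (W i) (l i)) := by
  obtain ⟨F, iF, iF', iF2, k, hk, M, hM, hD, hb⟩ := s.act P hP
  have key : ∀ j : Fin k, W i = blk M j ∧ l i = YY hM j := by
    intro j
    obtain ⟨b, hb1, hb2⟩ := hb j
    have hbi : b = i := by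
      by_contra hne
      have hb' : b = i + 1 := OM.KTwo.eq_add_one (Ne.symm hne)
      obtain ⟨w, hw, hwe⟩ := exists_blk_e hM j ![1, 0]
      have hwW : w ∈ W (i + 1) := by rw [← hb', hb1]; exact hw
      have h1 : w ∈ cv (S : Subgroup G) P := ⟨blk_le hM j hw, centralizer_le hi (le_centralizer_iff.1 le_rfl hwW)⟩
      have h2 : w ∈ DD M j := ⟨hw, h1⟩
      rw [hD j, mem_bot] at h2
      rw [h2, Nb.e_one (M := M)] at hwe
      exact one_ne_zero (congrFun hwe 0).symm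
    rw [← hbi]
    exact ⟨hb1, hb2⟩
  have hk1 : k = 1 := by
    by_contra hne
    have h2 : 1 < k := by omega
    have h01 : (⟨1, h2⟩ : Fin k) ≠ ⟨0, hk⟩ := by
      intro h
      exact absurd (congrArg Fin.val h) (by norm_num)
    obtain ⟨w, hw, hwe⟩ := exists_blk_e hM ⟨0, hk⟩ ![1, 0]
    have hw' : w ∈ blk M ⟨1, h2⟩ := by rw [← (key ⟨1, h2⟩).1, (key ⟨0, hk⟩).1]; exact hw
    have h3 := e_blk hM h01.symm hw'
    rw [h3] at hwe
    exact one_ne_zero (congrFun hwe 0).symm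
  subst hk1
  exact ⟨F, iF, iF', iF2, ⟨{ M := M, nb := hM, dd := hD 0, hW := (key 0).1, hl := (key 0).2 }⟩⟩

end fin

namespace Nat1

variable {F : Type} [Field F] [CharP F 2] {S P W l : Subgroup G} (N : Nat1 F S P W l)
include N

theorem W_le : W ≤ zl S P := by
  rw [N.hW]
  exact blk_le N.nb 0

theorem mem_l {v : G} : v ∈ l ↔ v ∈ W ∧ N.M.e v 0 1 = 0 := by
  obtain ⟨M, nb, dd, hW, hl⟩ := N
  subst hW hl
  rfl

theorem inf_cv : W ⊓ cv S P = ⊥ := by
  have h := N.dd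
  rw [DD, ← N.hW] at h
  exact h

theorem le_sup : zl S P ≤ W ⊔ cv S P := by
  intro u hu
  obtain ⟨w, hw, hwe⟩ := exists_blk_e N.nb 0 (N.M.e u 0)
  have hwV := blk_le N.nb 0 hw
  have h1 : u * w⁻¹ ∈ cv S P := by
    rw [N.nb.mem_D hu hwV]
    funext i
    rw [Subsingleton.elim i 0, hwe]
  have e : u = w * (u * w⁻¹) := by
    rw [N.nb.cm hwV (mul_mem hu (inv_mem hwV)), inv_mul_cancel_right]
  rw [e]
  exact mul_mem_sup (by rw [N.hW]; exact hw) h1

/-- a `P`-fixed vector of `W` is trivial -/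
theorem eq_one {z : G} (hz : z ∈ W) (hc : P ≤ centralizer ({z} : Set G)) : z = 1 := by
  have h1 : z ∈ W ⊓ cv S P := by
    refine ⟨hz, N.W_le hz, mem_centralizer_iff.2 fun g hg => ?_⟩
    have h2 : g ∈ P := by
      have h3 : oddGen P ≤ P := by
        rw [oddGen_def, closure_le]
        rintro x ⟨hx, -⟩
        exact hx
      exact h3 hg
    exact mem_centralizer_singleton_iff.1 (hc h2)
  rwa [N.inf_cv, mem_bot] at h1

end Nat1

/-- **`NatS` of the block `W i`** -/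
theorem Nat1.natS [Finite G] {F : Type} [Field F] [CharP F 2] {S : Sylow 2 G} {P W W' l : Subgroup G}
    (N : Nat1 F (S : Subgroup G) P W l) (hSP : (S : Subgroup G) ≤ P) (hn : P ≤ normalizer (W : Set G))
    (ho : oddGen P ≤ centralizer (W' : Set G)) :
    ∃ n : NatS F (S : Subgroup G) P W W' l, n.e = fun g => N.M.e g 0 := by
  have hDV : cv (S : Subgroup G) P ≤ normalizer (W : Set G) := by
    refine le_trans (fun d hd => ?_) (centralizer_le_normalizer _)
    exact mem_centralizer_iff.2 fun w hw => N.nb.cm (N.W_le hw) (N.nb.DV hd)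
  have e : ∀ v, v ∈ l ↔ v ∈ NatS.ln N.M.toNatK W N.W_le := fun v => N.mem_l
  have e' : l = NatS.ln N.M.toNatK W N.W_le := Subgroup.ext e
  let n := NatS.ofNatK (W := W') hSP S.isPGroup' (MinSimple.Basic.not_dvd_relIndex S hSP) N.M.toNatK N.W_le N.nb.DV
    N.le_sup N.inf_cv hDV N.nb.DP' hn (fun g hg hgo => ho (by rw [oddGen_def]; exact subset_closure ⟨hg, hgo⟩))
  refine ⟨{ SP := n.SP, two := n.two, syl := n.syl, nV := n.nV, odd := n.odd, e := n.e, mul := n.mul, surj := n.surj,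
            ker := n.ker, lift := n.lift, norm := n.norm, unip := n.unip, lin := fun v => ?_, Sl := ?_ }, rfl⟩
  · exact (e v).trans (n.lin v)
  · have h1 := n.Sl
    rwa [← e'] at h1

end Cfsg.Agent.Omega.NOThreeL.RRed.WLF

end

section


/-!
# NO-3L, box R, row 8 of `WideTree`: the root group of one block, semilinear maps (helper916)

`n : NatS F S P V W l` (`V = F²`, `l = F × 0`).

* `Rt n A` : `A` acts on `V` as the full root group; `Rt.cent` : `C_V(A) = l`;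
* `Rt.mul` : an element which normalises `V` and maps one full root group to another one acts semilinearly on `l`;
* **`Rt.gal`** : a group of such elements which fixes a vector of `l#` acts on `l` as a commutative group;
* `rt_of` : a minimal exact offender of `V*` in `S` which moves `W i` acts on it as the full root group.
-/

set_option autoImplicit false
set_option linter.unusedSectionVars false

namespace Cfsg.Agent.Omega.NOThreeL.RRed.WLF

open Subgroup Cfsg Cfsg.Agent.ZN Cfsg.Agent.Omega.MinPar Cfsg.Agent.Omega.Frame Cfsg.Agent.Omega.FrameNOFF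
open Cfsg.Agent.Omega.FrameFF
open Cfsg.Agent.Omega.NOThreeL.Merge (MZ)
open Cfsg.Agent.Omega.NOThreeL.RTree (RB)
open Cfsg.Agent.Omega.FFThm (NatKM NatK ActsSL OffM ElemM NoOverM ConclM)
open Cfsg.Agent.Omega.NO3S.ThmB (Nb sg)
open Cfsg.Agent.Omega.NatPair (ap ap_add ap_mul ap_one ext2 ap_zero' ap_one')
open Cfsg.Agent.Lib.SL2Mat
open Cfsg.Agent.Omega.NOThreeL.RRed.InstZ (ZZ Spl)
open Cfsg.Agent.Omega.NOThreeL.RRed.WideTree
open Cfsg.Agent.Omega.NOThreeL.RRed.WLeft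
open Cfsg.Agent.MinSimple.VModule (oddGen oddGen_def)
open scoped Pointwise

universe u

/-- multiplicative maps of a finite field commute -/
theorem comm_of_mul {F : Type} [Field F] [Finite F] {f g : F → F} (hf : ∀ x y, f (x * y) = f x * f y)
    (hf0 : f 0 = 0) (hf1 : ∀ x, x ≠ 0 → f x ≠ 0) (hg : ∀ x y, g (x * y) = g x * g y) (hg0 : g 0 = 0)
    (hg1 : ∀ x, x ≠ 0 → g x ≠ 0) (x : F) : f (g x) = g (f x) := by
  by_cases hx : x = 0
  · rw [hx, hg0, hf0, hg0]
  have e1 : ∀ {h : F → F}, (∀ x y, h (x * y) = h x * h y) → (∀ x, x ≠ 0 → h x ≠ 0) → h 1 = 1 := by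
    intro h hh h1
    have h2 := hh 1 1
    rw [mul_one] at h2
    exact (mul_eq_left₀ (h1 1 one_ne_zero)).1 h2.symm
  have hpow : ∀ {h : F → F}, (∀ x y, h (x * y) = h x * h y) → (∀ x, x ≠ 0 → h x ≠ 0) →
      ∀ (y : F) (m : ℕ), h (y ^ m) = h y ^ m := by
    intro h hh h1 y m
    induction m with
    | zero => rw [pow_zero, pow_zero, e1 hh h1]
    | succ m ih => rw [pow_succ, hh, ih, pow_succ]
  obtain ⟨ω, hω⟩ := IsCyclic.exists_generator (α := Fˣ)
  have key : ∀ y : F, y ≠ 0 → ∃ m : ℕ, y = (ω : F) ^ m := by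
    intro y hy
    obtain ⟨m, hm⟩ := (mem_powers_iff_mem_zpowers (x := ω) (y := Units.mk0 y hy)).2 (hω (Units.mk0 y hy))
    refine ⟨m, ?_⟩
    have := congrArg Units.val hm
    simpa using this.symm
  have hω0 : (ω : F) ≠ 0 := ω.ne_zero
  obtain ⟨k, rfl⟩ := key x hx
  obtain ⟨m, hm⟩ := key (f ω) (hf1 _ hω0)
  obtain ⟨p, hp⟩ := key (g ω) (hg1 _ hω0)
  rw [hpow hg hg1, hpow hf hf1, hpow hf hf1, hpow hg hg1, hm, hp, hpow hf hf1, hpow hg hg1, hm, hp]
  rw [← pow_mul, ← pow_mul, ← pow_mul, ← pow_mul]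
  congr 1
  ring

variable {G : Type u} [Group G]

section rt

variable {F : Type} [Field F] [CharP F 2] {S P V W l : Subgroup G}

/-- `A` acts on `V` as the full root group -/
structure Rt (n : NatS F S P V W l) (A : Subgroup G) : Prop where
  root : ∀ a ∈ A, ∃ b : F, ∀ v ∈ V, n.e (a * v * a⁻¹) = ap (up b) (n.e v)
  full : ∀ b : F, ∃ a ∈ A, ∀ v ∈ V, n.e (a * v * a⁻¹) = ap (up b) (n.e v)

variable {n : NatS F S P V W l} {A A' : Subgroup G}

theorem ap_up (b : F) (x : Fin 2 → F) : ap (up b) x = ![x 0 + b * x 1, x 1] := by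
  apply ext2
  · rw [NO3S.ThmB.ap_up_0]; rfl
  · rw [NO3S.ThmB.ap_up_1]; rfl

theorem Rt.cent (hA : Rt n A) (hn : A ≤ normalizer (V : Set G)) : V ⊓ centralizer (A : Set G) = l := by
  ext v
  rw [n.lin]
  constructor
  · rintro ⟨hv, hc⟩
    refine ⟨hv, ?_⟩
    obtain ⟨a, ha, hact⟩ := hA.full 1
    have h1 : a * v * a⁻¹ = v := by
      rw [mem_centralizer_iff.1 hc a ha, mul_inv_cancel_right]
    have h2 := congrFun (hact v hv) 0
    rw [h1, ap_up] at h2
    change n.e v 0 = n.e v 0 + 1 * n.e v 1 at h2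
    rw [one_mul] at h2
    exact left_eq_add.1 h2
  · rintro ⟨hv, h0⟩
    refine ⟨hv, mem_centralizer_iff.2 fun a ha => ?_⟩
    obtain ⟨b, hact⟩ := hA.root a ha
    have h1 : a * v * a⁻¹ = v := by
      refine n.e_inj ((mem_normalizer_iff.1 (hn ha) v).1 hv) hv ?_
      rw [hact v hv, ap_up, h0, mul_zero, add_zero]
      exact ext2 rfl h0.symm
    calc a * v = (a * v * a⁻¹) * a := by group
      _ = v * a := by rw [h1]

/-- the coordinate map of `r` on `l` -/
noncomputable def al (n : NatS F S P V W l) (r : G) (t : F) : F := n.e (r * (n.surj ![t, 0]).choose * r⁻¹) 0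

theorem al_eq (r : G) {v : G} (hv : v ∈ l) : al n r (n.e v 0) = n.e (r * v * r⁻¹) 0 := by
  have h := (n.surj ![n.e v 0, 0]).choose_spec
  have e : (n.surj ![n.e v 0, 0]).choose = v := n.e_inj h.1 (n.lV hv) (by rw [h.2, ← n.e_l hv])
  rw [al, e]

/-- **semilinearity** -/
theorem Rt.mul (hA : Rt n A) (hA' : Rt n A') {r : G} (hrV : r ∈ normalizer (V : Set G))
    (hr : ∀ a ∈ A, r * a * r⁻¹ ∈ A') (hAn : A ≤ normalizer (V : Set G)) (hl : ∀ v ∈ l, r * v * r⁻¹ ∈ l) (s t : F) :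
    al n r (s * t) * al n r 1 = al n r s * al n r t := by
  -- `β x`
  choose sec hsV hse using n.surj
  have hconj : ∀ {v : G}, v ∈ V → r * v * r⁻¹ ∈ V := fun hv => (mem_normalizer_iff.1 hrV _).1 hv
  have hmul : ∀ v ∈ V, ∀ w ∈ V, n.e (r * (v * w) * r⁻¹) = n.e (r * v * r⁻¹) + n.e (r * w * r⁻¹) := by
    intro v hv w hw
    rw [show r * (v * w) * r⁻¹ = (r * v * r⁻¹) * (r * w * r⁻¹) by group, n.mul _ (hconj hv) _ (hconj hw)]
  set β : F → F := fun x => n.e (r * sec ![0, x] * r⁻¹) 1 with hβ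
  -- `α (c x) = c' β x`
  have key : ∀ c : F, ∃ c' : F, ∀ x : F, al n r (c * x) = c' * β x := by
    intro c
    obtain ⟨a, ha, hact⟩ := hA.full c
    obtain ⟨c', hc'⟩ := hA'.root _ (hr a ha)
    refine ⟨c', fun x => ?_⟩
    set w := sec ![0, x] with hw
    have hwV : w ∈ V := hsV _
    have hwe : n.e w = ![0, x] := hse _
    have haw : a * w * a⁻¹ ∈ V := (mem_normalizer_iff.1 (hAn ha) _).1 hwV
    -- `u = [a, w] ∈ l`
    set u := a * w * a⁻¹ * w⁻¹ with hu
    have huV : u ∈ V := mul_mem haw (inv_mem hwV)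
    have hue : n.e u = ![c * x, 0] := by
      rw [hu, n.mul _ haw _ (inv_mem hwV), n.e_inv hwV, hact w hwV, ap_up, hwe]
      apply ext2 <;> simp
    have hul : u ∈ l := (n.lin u).2 ⟨huV, by rw [hue]; rfl⟩
    have h1 : al n r (c * x) = n.e (r * u * r⁻¹) 0 := by
      rw [← al_eq r hul, hue]
      rfl
    rw [h1]
    have e1 : r * u * r⁻¹ = (r * a * r⁻¹) * (r * w * r⁻¹) * (r * a * r⁻¹)⁻¹ * (r * w * r⁻¹)⁻¹ := by
      rw [hu]; group
    have h2 : (r * a * r⁻¹) * (r * w * r⁻¹) * (r * a * r⁻¹)⁻¹ ∈ V := by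
      have e2 : (r * a * r⁻¹) * (r * w * r⁻¹) * (r * a * r⁻¹)⁻¹ = r * (a * w * a⁻¹) * r⁻¹ := by group
      rw [e2]
      exact hconj haw
    rw [e1, n.mul _ h2 _ (inv_mem (hconj hwV)), n.e_inv (hconj hwV), hc' _ (hconj hwV), ap_up]
    change n.e (r * w * r⁻¹) 0 + c' * n.e (r * w * r⁻¹) 1 + - n.e (r * w * r⁻¹) 0 = c' * β x
    ring
  have hβ1 : β 1 ≠ 0 := by
    intro h0
    have h1 : r * sec ![0, 1] * r⁻¹ ∈ l := (n.lin _).2 ⟨hconj (hsV _), h0⟩
    -- `r` maps `l` onto `l`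
    obtain ⟨c', hc'⟩ := key 1
    have h2 := hc' 1
    rw [h0, mul_zero, mul_one] at h2
    have h3 := (n.exists_l (1 : F)).choose_spec
    have h4 := al_eq (n := n) r h3.1
    rw [h3.2] at h4
    change al n r 1 = _ at h4
    rw [h2] at h4
    have h5 : n.e (r * (n.exists_l (1 : F)).choose * r⁻¹) = 0 := by
      rw [n.e_l (hl _ h3.1), ← h4]
      exact ext2 rfl rfl
    have h6 := (n.ker _ (hconj (n.lV h3.1))).1 h5
    have h7 : (n.exists_l (1 : F)).choose = 1 := conj_eq_one_iff.1 h6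
    have h8 := h3.2
    rw [h7, n.e_one] at h8
    exact one_ne_zero (congrFun h8 0).symm
  obtain ⟨c1, hc1⟩ := key 1
  obtain ⟨cs, hcs⟩ := key s
  have a1 := hcs t
  have a2 := hcs 1
  have a3 := hc1 t
  have a4 := hc1 1
  rw [mul_one] at a2
  rw [one_mul] at a3 a4
  rw [a1, a2, a3, a4]
  ring

theorem al_ne {r : G} (hrV : r ∈ normalizer (V : Set G)) (hl : ∀ v ∈ l, r * v * r⁻¹ ∈ l) {x : F} (hx : x ≠ 0) :
    al n r x ≠ 0 := by
  intro h0
  obtain ⟨v, hv, hve⟩ := n.exists_l x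
  have h1 := al_eq (n := n) r hv
  rw [hve] at h1
  change al n r x = _ at h1
  rw [h0] at h1
  have h2 : n.e (r * v * r⁻¹) = 0 := by
    rw [n.e_l (hl _ hv), ← h1]
    exact ext2 rfl rfl
  have h3 := (n.ker _ ((mem_normalizer_iff.1 hrV _).1 (n.lV hv))).1 h2
  have h4 : v = 1 := conj_eq_one_iff.1 h3
  rw [h4, n.e_one] at hve
  exact hx (congrFun hve 0).symm

theorem al_zero (r : G) : al n r 0 = 0 := by
  have h1 := al_eq (n := n) r (one_mem l)
  have h2 : n.e 1 0 = 0 := congrFun n.e_one 0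
  rw [h2] at h1
  rw [h1, mul_one, mul_inv_cancel, h2]

/-- **a group of semilinear maps of `l` which fixes a vector of `l#` is commutative on `l`** -/
theorem Rt.comm [Finite F] (hA : Rt n A) (hAn : A ≤ normalizer (V : Set G)) {R : Subgroup G}
    (hRV : R ≤ normalizer (V : Set G)) (hRl : ∀ r ∈ R, ∀ v ∈ l, r * v * r⁻¹ ∈ l)
    (hRA : ∀ r ∈ R, Rt n (MulAut.conj r • A)) {z : G} (hz : z ∈ l) (hz1 : z ≠ 1)
    (hzR : R ≤ centralizer ({z} : Set G)) :
    ∀ r ∈ R, ∀ t ∈ R, ∀ v ∈ l, r * (t * v * t⁻¹) * r⁻¹ = t * (r * v * r⁻¹) * t⁻¹ := by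
  set z0 : F := n.e z 0 with hz0
  have hz0' : z0 ≠ 0 := by
    intro h0
    apply hz1
    refine (n.ker z (n.lV hz)).1 ?_
    rw [n.e_l hz, ← hz0, h0]
    exact ext2 rfl rfl
  have hne : ∀ r ∈ R, al n r 1 ≠ 0 := fun r hr => al_ne (hRV hr) (hRl r hr) one_ne_zero
  have hm : ∀ r ∈ R, ∀ x y, al n r (x * y) * al n r 1 = al n r x * al n r y := fun r hr x y =>
    hA.mul (hRA r hr) (hRV hr) (fun a ha => ⟨a, ha, rfl⟩) hAn (hRl r hr) x y
  have hfz : ∀ r ∈ R, al n r z0 = z0 := by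
    intro r hr
    rw [hz0, al_eq r hz]
    have h1 := mem_centralizer_singleton_iff.1 (hzR hr)
    rw [h1, mul_inv_cancel_right]
  let σ : G → F → F := fun r x => al n r x / al n r 1
  have hσm : ∀ r ∈ R, ∀ x y, σ r (x * y) = σ r x * σ r y := by
    intro r hr x y
    have h1 := hm r hr x y
    have h2 := hne r hr
    change al n r (x * y) / al n r 1 = al n r x / al n r 1 * (al n r y / al n r 1)
    rw [div_mul_div_comm, ← h1]
    field_simp
  have hσ0 : ∀ r ∈ R, σ r 0 = 0 := by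
    intro r _
    change al n r 0 / al n r 1 = 0
    rw [al_zero, zero_div]
  have hσ1 : ∀ r ∈ R, ∀ x, x ≠ 0 → σ r x ≠ 0 := fun r hr x hx =>
    div_ne_zero (al_ne (hRV hr) (hRl r hr) hx) (hne r hr)
  have hal : ∀ r ∈ R, ∀ x, al n r (z0 * x) = z0 * σ r x := by
    intro r hr x
    have h1 := hm r hr z0 x
    rw [hfz r hr] at h1
    have h2 := hne r hr
    change al n r (z0 * x) = z0 * (al n r x / al n r 1)
    rw [← mul_div_assoc, ← h1, mul_div_cancel_right₀ _ h2]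
  intro r hr t ht v hv
  have htv := hRl t ht v hv
  have hrv := hRl r hr v hv
  set y : F := n.e v 0 / z0 with hy
  have hvy : n.e v 0 = z0 * y := by rw [hy]; field_simp
  have e1 : n.e (r * (t * v * t⁻¹) * r⁻¹) 0 = z0 * σ r (σ t y) := by
    rw [← al_eq r htv, ← al_eq t hv, hvy, hal t ht, hal r hr]
  have e2 : n.e (t * (r * v * r⁻¹) * t⁻¹) 0 = z0 * σ t (σ r y) := by
    rw [← al_eq t hrv, ← al_eq r hv, hvy, hal r hr, hal t ht]
  have h1 := hRl r hr _ htv
  have h2 := hRl t ht _ hrv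
  refine n.e_inj (n.lV h1) (n.lV h2) ?_
  rw [n.e_l h1, n.e_l h2, e1, e2,
    comm_of_mul (hσm r hr) (hσ0 r hr) (hσ1 r hr) (hσm t ht) (hσ0 t ht) (hσ1 t ht)]

end rt

section wide

variable [Finite G] {S : Sylow 2 G} {F : Type} [Field F] [CharP F 2] {P A W W' l : Subgroup G}

/-- **a minimal exact offender of `V*` in `S` which moves `W` acts on it as the full root group** -/
theorem rt_of (hW : Wide S) (N : Nat1 F (S : Subgroup G) P W l) (hP : IsParS (S : Subgroup G) P)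
    (n : NatS F (S : Subgroup G) P W W' l) (hn : n.e = fun g => N.M.e g 0) (hA : A ≤ (S : Subgroup G))
    (hm : Mx (Wd (S : Subgroup G)) A) (hne : ¬ A ≤ centralizer (W : Set G)) : Rt n A := by
  obtain ⟨P₁, A₁, hg⟩ := FourTree.exists_gOne_rr hW.toRB hW.rr
  have hne' : ¬ A ≤ centralizer (zl (S : Subgroup G) P : Set G) := fun h => hne (h.trans (centralizer_le N.W_le))
  obtain ⟨-, -, hoff, -, -⟩ := exact_split hW.toRB.ctx.char2 hP (Merge.le_MZ hP) hg.no hg.comm hA hm.toElemM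
    hm.exact hne'
  obtain ⟨I, hI, hI'⟩ := N.M.offM A hA hoff
  have hall : ∀ b : Fin 1 → F, (fun i => up (b i)) = fun _ => up (b 0) := by
    intro b
    funext i
    rw [Subsingleton.elim i 0]
  by_cases h0 : (0 : Fin 1) ∈ I
  · refine ⟨fun a ha => ?_, fun b => ?_⟩
    · obtain ⟨b, -, hact⟩ := hI a ha
      refine ⟨b 0, fun v hv => ?_⟩
      rw [hn]
      exact hact.1 v (N.W_le hv) 0
    · obtain ⟨a, ha, hact⟩ := hI' (fun _ => b) fun i hi => absurd (by rw [Subsingleton.elim i 0]; exact h0) hi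
      refine ⟨a, ha, fun v hv => ?_⟩
      rw [hn]
      exact hact.1 v (N.W_le hv) 0
  · exfalso
    apply hne'
    intro a ha
    obtain ⟨b, hb, hact⟩ := hI a ha
    have hb0 : b = 0 := by
      funext i
      rw [Subsingleton.elim i 0]
      exact hb 0 h0
    have h1 : ActsSL N.M.e (zl (S : Subgroup G) P) (cv (S : Subgroup G) P) a 1 := by
      have h2 : (fun i => up (b i)) = (1 : Fin 1 → Matrix.SpecialLinearGroup (Fin 2) F) := by
        funext i
        rw [hb0]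
        exact up_zero
      rwa [h2] at hact
    exact mem_centralizer_iff.2 fun v hv => (N.nb.comm_of_one (hP.le (hA ha)) h1 hv).symm

end wide

end Cfsg.Agent.Omega.NOThreeL.RRed.WLF

end

end

-- merged: Cfsg.Agent.Omega.NOThreeL.RShape.Lines
section

/-!
# LEMMA LINES (CARD RWIDE [A2], helper640 #24700 (A))

`K` acts faithfully on the abelian 2-group `Y`, the Sylow 2-subgroup `P` is central in its normaliser and every
`P`-fixed vector is `K`-fixed: then `K = P` (Burnside's transfer theorem and coprime action).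

* `sylow_eq_top` : the abstract form;
* `normalizer_le` : `P` is central in its normaliser if `Y = R₁ × R₂`, `P` normalises `R₁` and `R₂` and acts on each
  of them as an abelian group with at most one involution (field automorphisms of two lines);
* **`le_sup_of`**, **`le_sup_lines`** : the forms for subgroups of a group: `C = C_C(Y) S`.
-/

set_option autoImplicit false
set_option linter.unusedSectionVars false

namespace Cfsg.Agent.Omega.NOThreeL.RShape.Lines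

open Subgroup
open Cfsg.Agent.ZN.ChoiceSit (Syl syl_iff)
open scoped Pointwise

section abs

variable {K : Type*} [Group K] [Finite K] {Y : Type*} [CommGroup Y] [Finite Y] [MulDistribMulAction K Y]

/-- a normal subgroup of odd order acts trivially if every `P`-fixed vector is fixed by it -/
theorem odd_trivial (hY : IsPGroup 2 Y) (P N : Subgroup K) (hP : IsPGroup 2 P) (hN : N.Normal)
    (hodd : Odd (Nat.card N)) (hfix : ∀ y : Y, (∀ g ∈ P, g • y = y) → ∀ g ∈ N, g • y = y) :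
    ∀ g ∈ N, ∀ y : Y, g • y = y := by
  classical
  have : Fintype N := Fintype.ofFinite N
  let τ : Y →* Y :=
    { toFun := fun y => ∏ n : N, (n : K) • y
      map_one' := by simp
      map_mul' := fun a b => by simp only [smul_mul', Finset.prod_mul_distrib] }
  have hτ1 : ∀ y : Y, ∀ m ∈ N, τ (m • y) = τ y := by
    intro y m hm
    change ∏ n : N, (n : K) • m • y = ∏ n : N, (n : K) • y
    refine Fintype.prod_equiv (Equiv.mulRight (⟨m, hm⟩ : N)) _ _ fun n => ?_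
    simp [mul_smul]
  have hτ2 : ∀ g : K, ∀ y : Y, τ (g • y) = g • τ y := by
    intro g y
    change ∏ n : N, (n : K) • g • y = g • ∏ n : N, (n : K) • y
    rw [Finset.smul_prod']
    have hc : ∀ n : N, g⁻¹ * (n : K) * g ∈ N := fun n => by
      have := hN.conj_mem n n.2 g⁻¹
      simpa using this
    have hc' : ∀ n : N, g * (n : K) * g⁻¹ ∈ N := fun n => hN.conj_mem n n.2 g
    let e : N ≃ N :=
      { toFun := fun n => ⟨_, hc n⟩
        invFun := fun n => ⟨_, hc' n⟩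
        left_inv := fun n => by ext; simp [mul_assoc]
        right_inv := fun n => by ext; simp [mul_assoc] }
    refine Fintype.prod_equiv e _ _ fun n => ?_
    change (n : K) • g • y = g • (g⁻¹ * (n : K) * g) • y
    simp only [← mul_smul]
    congr 1
    group
  have hτ3 : ∀ y : Y, (∀ g ∈ N, g • y = y) → τ y = y ^ Nat.card N := by
    intro y hy
    change ∏ n : N, (n : K) • y = _
    rw [Finset.prod_congr rfl fun (n : N) _ => hy n n.2]
    simp [Nat.card_eq_fintype_card]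
  -- the kernel of `τ` is trivial
  have hker : τ.ker = ⊥ := by
    by_contra hne
    have hinv : ∀ g : P, ∀ y ∈ τ.ker, (g : K) • y ∈ τ.ker := by
      intro g y hy
      rw [MonoidHom.mem_ker] at hy ⊢
      rw [hτ2, hy, smul_one]
    let _ : MulAction P τ.ker :=
      { smul := fun g y => ⟨(g : K) • (y : Y), hinv g y y.2⟩
        one_smul := fun y => Subtype.ext (one_smul K (y : Y))
        mul_smul := fun g h y => Subtype.ext (mul_smul (g : K) (h : K) (y : Y)) }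
    have hk2 : IsPGroup 2 τ.ker := hY.to_subgroup _
    have : Nontrivial τ.ker := (Subgroup.nontrivial_iff_ne_bot _).2 hne
    have hdvd : 2 ∣ Nat.card τ.ker := by
      obtain ⟨n, hn0, hn⟩ := hk2.nontrivial_iff_card.mp inferInstance
      rw [hn]
      exact dvd_pow_self 2 (by omega)
    have h1 : (1 : τ.ker) ∈ MulAction.fixedPoints P τ.ker := by
      intro g
      exact Subtype.ext (smul_one (g : K))
    obtain ⟨b, hb, hb1⟩ := hP.exists_fixed_point_of_prime_dvd_card_of_fixed_point τ.ker hdvd h1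
    have hbP : ∀ g ∈ P, g • (b : Y) = b := fun g hg => congrArg Subtype.val (hb ⟨g, hg⟩)
    have hbN := hfix _ hbP
    have h2 : (b : Y) ^ Nat.card N = 1 := by rw [← hτ3 _ hbN]; exact b.2
    obtain ⟨k, hk⟩ := hY (b : Y)
    have hcop : Nat.Coprime (Nat.card N) (2 ^ k) := (Nat.coprime_two_right.2 hodd).pow_right k
    have h3 : orderOf (b : Y) ∣ 1 := by
      rw [← hcop.gcd_eq_one]
      exact Nat.dvd_gcd (orderOf_dvd_of_pow_eq_one h2) (orderOf_dvd_of_pow_eq_one hk)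
    have h4 : (b : Y) = 1 := orderOf_eq_one_iff.1 (Nat.dvd_one.1 h3)
    exact hb1 (Subtype.ext h4.symm)
  intro g hg y
  have h5 : (g • y) * y⁻¹ ∈ τ.ker := by
    rw [MonoidHom.mem_ker, map_mul, hτ1 y g hg, map_inv, mul_inv_cancel]
  rw [hker, Subgroup.mem_bot] at h5
  exact mul_inv_eq_one.1 h5

/-- **faithful, Sylow central in its normaliser, `P`-fixed vectors are `K`-fixed: `K = P`** -/
theorem sylow_eq_top (hY : IsPGroup 2 Y) (hf : ∀ g : K, (∀ y : Y, g • y = y) → g = 1) (P : Sylow 2 K)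
    (hP : normalizer ((P : Subgroup K) : Set K) ≤ centralizer ((P : Subgroup K) : Set K))
    (hfix : ∀ y : Y, (∀ g ∈ (P : Subgroup K), g • y = y) → ∀ g : K, g • y = y) : (P : Subgroup K) = ⊤ := by
  have hc := MonoidHom.ker_transferSylow_isComplement' P hP
  set N := (MonoidHom.transferSylow P hP).ker with hNdef
  have hN : N.Normal := by rw [hNdef]; infer_instance
  have hodd : Odd (Nat.card N) := by
    have h1 : (P : Subgroup K).index = Nat.card N := hc.index_eq_card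
    have h2 : ¬ 2 ∣ (P : Subgroup K).index := P.not_dvd_index
    rw [h1] at h2
    exact Nat.not_even_iff_odd.1 fun h => h2 (even_iff_two_dvd.1 h)
  have h3 := odd_trivial hY (P : Subgroup K) N P.2 hN hodd fun y hy g _ => hfix y hy g
  have h4 : N = ⊥ := by
    rw [eq_bot_iff]
    intro g hg
    exact Subgroup.mem_bot.2 (hf g (h3 g hg))
  have h5 := hc.sup_eq_top
  rwa [h4, bot_sup_eq] at h5

/-- `P` acts on `R` as an abelian group with at most one involution -/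
structure FL (P : Subgroup K) (R : Subgroup Y) : Prop where
  inv : ∀ g ∈ P, ∀ y ∈ R, g • y ∈ R
  comm : ∀ g ∈ P, ∀ h ∈ P, ∀ y ∈ R, g • h • y = h • g • y
  uniq : ∀ g ∈ P, ∀ h ∈ P, (∀ y ∈ R, g • g • y = y) → (∀ y ∈ R, h • h • y = y) →
    (∃ y ∈ R, g • y ≠ y) → (∃ y ∈ R, h • y ≠ y) → ∀ y ∈ R, g • y = h • y

/-- the fixed vectors -/
def fx (Y : Type*) [CommGroup Y] [MulDistribMulAction K Y] (g : K) : Subgroup Y where
  carrier := {y | g • y = y}
  one_mem' := smul_one g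
  mul_mem' := by
    intro a b ha hb
    change g • (a * b) = a * b
    rw [smul_mul', show g • a = a from ha, show g • b = b from hb]
  inv_mem' := by
    intro a ha
    change g • a⁻¹ = a⁻¹
    rw [smul_inv', show g • a = a from ha]

theorem mem_fx {g : K} {y : Y} : y ∈ fx Y g ↔ g • y = y := Iff.rfl

/-- conjugate elements have the same number of fixed vectors -/
theorem card_fx_conj (x g : K) : Nat.card (fx Y (x * g * x⁻¹)) = Nat.card (fx Y g) := by
  refine Nat.card_congr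
    { toFun := fun y => ⟨x⁻¹ • (y : Y), ?_⟩
      invFun := fun y => ⟨x • (y : Y), ?_⟩
      left_inv := fun y => by ext; simp
      right_inv := fun y => by ext; simp }
  · have h : (x * g * x⁻¹) • (y : Y) = y := y.2
    calc g • x⁻¹ • (y : Y) = x⁻¹ • (x * g * x⁻¹) • (y : Y) := by
          simp only [← mul_smul]
          congr 1
          group
      _ = x⁻¹ • (y : Y) := by rw [h]
  · have h : g • (y : Y) = y := y.2
    calc (x * g * x⁻¹) • x • (y : Y) = x • g • (y : Y) := by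
          simp only [← mul_smul]
          congr 1
          group
      _ = x • (y : Y) := by rw [h]

theorem card_fx_lt {g h : K} (hle : fx Y g ≤ fx Y h) (hne : ∃ y : Y, h • y = y ∧ g • y ≠ y) :
    Nat.card (fx Y g) < Nat.card (fx Y h) := by
  obtain ⟨y, h1, h2⟩ := hne
  refine Set.ncard_lt_ncard (s := (fx Y g : Set Y)) (t := (fx Y h : Set Y)) ?_ (Set.toFinite _)
  exact ⟨hle, fun hh => h2 (hh h1)⟩

/-- the support -/
def mv (R : Subgroup Y) (g : K) : Prop := ∃ y ∈ R, g • y ≠ y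

section two

variable {P : Subgroup K} {R₁ R₂ : Subgroup Y}

theorem exists_two (hs : R₁ ⊔ R₂ = ⊤) (y : Y) : ∃ a ∈ R₁, ∃ b ∈ R₂, a * b = y := by
  have h : y ∈ R₁ ⊔ R₂ := hs ▸ Subgroup.mem_top y
  exact Subgroup.mem_sup.1 h

theorem ext2 (hf : ∀ g : K, (∀ y : Y, g • y = y) → g = 1) (hs : R₁ ⊔ R₂ = ⊤) {g h : K}
    (e1 : ∀ y ∈ R₁, g • y = h • y) (e2 : ∀ y ∈ R₂, g • y = h • y) : g = h := by
  have : h⁻¹ * g = 1 := hf _ fun y => by
    obtain ⟨a, ha, b, hb, rfl⟩ := exists_two hs y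
    rw [mul_smul, smul_mul', e1 a ha, e2 b hb, ← smul_mul', inv_smul_smul]
  exact (inv_mul_eq_one.1 this).symm

theorem fx_le (h1 : FL P R₁) (h2 : FL P R₂) (hs : R₁ ⊔ R₂ = ⊤) (hd : R₁ ⊓ R₂ = ⊥) {g h : K}
    (hg : g ∈ P) (hh : h ∈ P) (g2 : ∀ y : Y, g • g • y = y) (hh2 : ∀ y : Y, h • h • y = y)
    (c1 : mv R₁ h → mv R₁ g) (c2 : mv R₂ h → mv R₂ g) : fx Y g ≤ fx Y h := by
  intro y hy
  obtain ⟨a, ha, b, hb, rfl⟩ := exists_two hs y
  have h3 : g • (a * b) = a * b := hy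
  rw [smul_mul'] at h3
  have h4 : g • a * a⁻¹ = b * (g • b)⁻¹ := by
    rw [eq_mul_inv_iff_mul_eq, mul_right_comm, h3]
    simp
  have h5 : g • a * a⁻¹ ∈ R₁ ⊓ R₂ :=
    ⟨R₁.mul_mem (h1.inv g hg a ha) (R₁.inv_mem ha), h4 ▸ R₂.mul_mem hb (R₂.inv_mem (h2.inv g hg b hb))⟩
  rw [hd, Subgroup.mem_bot] at h5
  have ha' : g • a = a := mul_inv_eq_one.1 h5
  have hb' : g • b = b := by
    rw [ha'] at h3
    exact mul_left_cancel h3
  have ha'' : h • a = a := by
    by_cases hm : mv R₁ h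
    · rw [← h1.uniq g hg h hh (fun y _ => g2 y) (fun y _ => hh2 y) (c1 hm) hm a ha, ha']
    · by_contra hne
      exact hm ⟨a, ha, hne⟩
  have hb'' : h • b = b := by
    by_cases hm : mv R₂ h
    · rw [← h2.uniq g hg h hh (fun y _ => g2 y) (fun y _ => hh2 y) (c2 hm) hm b hb, hb']
    · by_contra hne
      exact hm ⟨b, hb, hne⟩
  change h • (a * b) = a * b
  rw [smul_mul', ha'', hb'']

theorem eq_of (hf : ∀ g : K, (∀ y : Y, g • y = y) → g = 1) (h1 : FL P R₁) (h2 : FL P R₂)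
    (hs : R₁ ⊔ R₂ = ⊤) {g h : K}
    (hg : g ∈ P) (hh : h ∈ P) (g2 : ∀ y : Y, g • g • y = y) (hh2 : ∀ y : Y, h • h • y = y)
    (c1 : mv R₁ h ↔ mv R₁ g) (c2 : mv R₂ h ↔ mv R₂ g) : g = h := by
  refine ext2 hf hs (fun y hy => ?_) fun y hy => ?_
  · by_cases hm : mv R₁ h
    · exact h1.uniq g hg h hh (fun y _ => g2 y) (fun y _ => hh2 y) (c1.1 hm) hm y hy
    · have e1 : h • y = y := by
        by_contra hne
        exact hm ⟨y, hy, hne⟩
      have e2 : g • y = y := by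
        by_contra hne
        exact hm (c1.2 ⟨y, hy, hne⟩)
      rw [e1, e2]
  · by_cases hm : mv R₂ h
    · exact h2.uniq g hg h hh (fun y _ => g2 y) (fun y _ => hh2 y) (c2.1 hm) hm y hy
    · have e1 : h • y = y := by
        by_contra hne
        exact hm ⟨y, hy, hne⟩
      have e2 : g • y = y := by
        by_contra hne
        exact hm (c2.2 ⟨y, hy, hne⟩)
      rw [e1, e2]

/-- comparable supports and the same number of fixed vectors: equal -/
theorem eq_of_card (hf : ∀ g : K, (∀ y : Y, g • y = y) → g = 1) (h1 : FL P R₁) (h2 : FL P R₂)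
    (hs : R₁ ⊔ R₂ = ⊤) (hd : R₁ ⊓ R₂ = ⊥) {g h : K}
    (hg : g ∈ P) (hh : h ∈ P) (g2 : ∀ y : Y, g • g • y = y) (hh2 : ∀ y : Y, h • h • y = y)
    (c1 : mv R₁ h → mv R₁ g) (c2 : mv R₂ h → mv R₂ g) (hc : Nat.card (fx Y g) = Nat.card (fx Y h)) : g = h := by
  have hle := fx_le h1 h2 hs hd hg hh g2 hh2 c1 c2
  refine eq_of hf h1 h2 hs hg hh g2 hh2 ⟨c1, fun hm => ?_⟩ ⟨c2, fun hm => ?_⟩
  · by_contra hn
    obtain ⟨y, hy, hne⟩ := hm
    have e1 : h • y = y := by
      by_contra hne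
      exact hn ⟨y, hy, hne⟩
    exact (card_fx_lt hle ⟨y, e1, hne⟩).ne hc
  · by_contra hn
    obtain ⟨y, hy, hne⟩ := hm
    have e1 : h • y = y := by
      by_contra hne
      exact hn ⟨y, hy, hne⟩
    exact (card_fx_lt hle ⟨y, e1, hne⟩).ne hc

/-- the alternatives for two involutions with the same number of fixed vectors -/
theorem alt (hf : ∀ g : K, (∀ y : Y, g • y = y) → g = 1) (h1 : FL P R₁) (h2 : FL P R₂)
    (hs : R₁ ⊔ R₂ = ⊤) (hd : R₁ ⊓ R₂ = ⊥) {g h : K}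
    (hg : g ∈ P) (hh : h ∈ P) (g2 : ∀ y : Y, g • g • y = y) (hh2 : ∀ y : Y, h • h • y = y)
    (hc : Nat.card (fx Y g) = Nat.card (fx Y h)) :
    g = h ∨ (mv R₁ g ∧ ¬ mv R₁ h ∧ ¬ mv R₂ g ∧ mv R₂ h) ∨ (¬ mv R₁ g ∧ mv R₁ h ∧ mv R₂ g ∧ ¬ mv R₂ h) := by
  have e1 := eq_of_card hf h1 h2 hs hd hg hh g2 hh2 (hc := hc)
  have e2 := eq_of_card hf h1 h2 hs hd hh hg hh2 g2 (hc := hc.symm)
  by_cases a1 : mv R₁ g <;> by_cases a2 : mv R₁ h <;> by_cases a3 : mv R₂ g <;> by_cases a4 : mv R₂ h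
  all_goals first
    | exact Or.inl (e1 (fun _ => by assumption) (fun _ => by assumption))
    | exact Or.inl (e2 (fun _ => by assumption) (fun _ => by assumption)).symm
    | exact Or.inl (e1 (fun h => absurd h (by assumption)) (fun _ => by assumption))
    | exact Or.inl (e1 (fun _ => by assumption) (fun h => absurd h (by assumption)))
    | exact Or.inl (e1 (fun h => absurd h (by assumption)) (fun h => absurd h (by assumption)))
    | exact Or.inl (e2 (fun h => absurd h (by assumption)) (fun _ => by assumption)).symm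
    | exact Or.inl (e2 (fun _ => by assumption) (fun h => absurd h (by assumption))).symm
    | exact Or.inl (e2 (fun h => absurd h (by assumption)) (fun h => absurd h (by assumption))).symm
    | exact Or.inr (Or.inl ⟨by assumption, by assumption, by assumption, by assumption⟩)
    | exact Or.inr (Or.inr ⟨by assumption, by assumption, by assumption, by assumption⟩)

/-- an element of odd order which commutes with `g` up to a square -/
theorem commute_of_sq {x g : K} (hx : Odd (orderOf x)) (h : x * x * g = g * (x * x)) : x * g = g * x := by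
  have h1 : Commute (x ^ 2) g := by
    rw [pow_two]
    exact h
  obtain ⟨k, hk⟩ := hx
  have h2 : (x ^ 2) ^ (k + 1) = x := by
    rw [← pow_mul]
    have : 2 * (k + 1) = orderOf x + 1 := by omega
    rw [this, pow_succ, pow_orderOf_eq_one, one_mul]
  have h3 := h1.pow_left (k + 1)
  rw [h2] at h3
  exact h3

/-- odd elements of `N(P)` centralise the involutions of `P` -/
theorem commute_inv (hf : ∀ g : K, (∀ y : Y, g • y = y) → g = 1) (h1 : FL P R₁) (h2 : FL P R₂)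
    (hs : R₁ ⊔ R₂ = ⊤) (hd : R₁ ⊓ R₂ = ⊥) {x : K} (hx : x ∈ normalizer (P : Set K))
    (ho : Odd (orderOf x)) {g : K} (hg : g ∈ P) (g2 : g * g = 1) : x * g = g * x := by
  have hP : ∀ h ∈ P, x * h * x⁻¹ ∈ P := fun h hh => (mem_normalizer_iff.1 hx h).1 hh
  have sq : ∀ h : K, h * h = 1 → (x * h * x⁻¹) * (x * h * x⁻¹) = 1 := by
    intro h hh
    have e : (x * h * x⁻¹) * (x * h * x⁻¹) = x * (h * h) * x⁻¹ := by group
    rw [e, hh]
    group
  have act : ∀ h : K, h * h = 1 → ∀ y : Y, h • h • y = y := fun h hh y => by rw [← mul_smul, hh, one_smul]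
  set h := x * g * x⁻¹ with hdef
  have hh : h ∈ P := hP g hg
  have hh2 : h * h = 1 := sq g g2
  set k := x * h * x⁻¹ with kdef
  have hk : k ∈ P := hP h hh
  have hk2 : k * k = 1 := sq h hh2
  have c1 : Nat.card (fx Y g) = Nat.card (fx Y h) := (card_fx_conj x g).symm
  have c2 : Nat.card (fx Y h) = Nat.card (fx Y k) := (card_fx_conj x h).symm
  have done : g = h → x * g = g * x := by
    intro e
    have e2 : x * g * x⁻¹ = g := by rw [← hdef, ← e]
    exact mul_inv_eq_iff_eq_mul.1 e2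
  rcases alt hf h1 h2 hs hd hg hh (act g g2) (act h hh2) c1 with e | e | e
  · exact done e
  · rcases alt hf h1 h2 hs hd hh hk (act h hh2) (act k hk2) c2 with e' | e' | e'
    · exact done (by
        have : x * g * x⁻¹ = x * h * x⁻¹ := by rw [← hdef, ← kdef]; exact e'
        exact mul_left_cancel (mul_right_cancel this))
    · exact absurd e'.1 e.2.1
    · have e3 : g = k := eq_of hf h1 h2 hs hg hk (act g g2) (act k hk2)
        ⟨fun _ => e.1, fun _ => e'.2.1⟩ ⟨fun h => absurd h e'.2.2.2, fun h => absurd h e.2.2.1⟩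
      refine commute_of_sq ho ?_
      have e4 : x * (x * g * x⁻¹) * x⁻¹ = g := by rw [← hdef, ← kdef]; exact e3.symm
      calc x * x * g = x * (x * g * x⁻¹) * x⁻¹ * (x * x) := by group
        _ = g * (x * x) := by rw [e4]
  · rcases alt hf h1 h2 hs hd hh hk (act h hh2) (act k hk2) c2 with e' | e' | e'
    · exact done (by
        have : x * g * x⁻¹ = x * h * x⁻¹ := by rw [← hdef, ← kdef]; exact e'
        exact mul_left_cancel (mul_right_cancel this))
    · have e3 : g = k := eq_of hf h1 h2 hs hg hk (act g g2) (act k hk2)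
        ⟨fun h => absurd h e'.2.1, fun h => absurd h e.1⟩ ⟨fun _ => e.2.2.1, fun _ => e'.2.2.2⟩
      refine commute_of_sq ho ?_
      have e4 : x * (x * g * x⁻¹) * x⁻¹ = g := by rw [← hdef, ← kdef]; exact e3.symm
      calc x * x * g = x * (x * g * x⁻¹) * x⁻¹ * (x * x) := by group
        _ = g * (x * x) := by rw [e4]
    · exact absurd e'.2.2.1 e.2.2.2

end two

/-- **`P` is central in its normaliser** -/
theorem normalizer_le (hf : ∀ g : K, (∀ y : Y, g • y = y) → g = 1) (P : Sylow 2 K) {R₁ R₂ : Subgroup Y}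
    (h1 : FL (P : Subgroup K) R₁) (h2 : FL (P : Subgroup K) R₂) (hs : R₁ ⊔ R₂ = ⊤) (hd : R₁ ⊓ R₂ = ⊥) :
    normalizer ((P : Subgroup K) : Set K) ≤ centralizer ((P : Subgroup K) : Set K) := by
  have hab : ∀ g ∈ (P : Subgroup K), ∀ h ∈ (P : Subgroup K), g * h = h * g := by
    intro g hg h hh
    refine ext2 hf hs (fun y hy => ?_) fun y hy => ?_
    · rw [mul_smul, mul_smul]; exact h1.comm g hg h hh y hy
    · rw [mul_smul, mul_smul]; exact h2.comm g hg h hh y hy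
  intro g hg
  obtain ⟨k, m, hm, hcm⟩ := Nat.exists_eq_two_pow_mul_odd (n := orderOf g) (orderOf_pos g).ne'
  -- the 2-part
  have hcop : Nat.Coprime m (2 ^ k) := (Nat.coprime_two_right.2 hm).pow_right k
  have ha : g ^ m ∈ (P : Subgroup K) := by
    have hp : IsPGroup 2 (zpowers (g ^ m)) := by
      refine IsPGroup.of_card (n := k) ?_
      rw [Nat.card_zpowers, orderOf_pow_of_dvd hm.pos.ne' ⟨2 ^ k, by rw [hcm, mul_comm]⟩, hcm]
      exact Nat.mul_div_cancel _ hm.pos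
    have hle : zpowers (g ^ m) ≤ normalizer ((P : Subgroup K) : Set K) := by
      rw [zpowers_le]
      exact pow_mem hg m
    have h3 : IsPGroup 2 (((P : Subgroup K) ⊔ zpowers (g ^ m) : Subgroup K)) := by
      exact P.2.to_sup_of_normal_left' hp hle
    have h4 := P.3 h3 le_sup_left
    have h5 : zpowers (g ^ m) ≤ (P : Subgroup K) := by
      conv_rhs => rw [← h4]
      exact le_sup_right
    exact h5 (mem_zpowers _)
  -- the odd part
  have hb : ∀ h ∈ (P : Subgroup K), g ^ (2 ^ k) * h = h * g ^ (2 ^ k) := by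
    have hbn : g ^ (2 ^ k) ∈ normalizer ((P : Subgroup K) : Set K) := pow_mem hg _
    have hbo : orderOf (g ^ (2 ^ k)) = m := by
      rw [orderOf_pow_of_dvd (by positivity) ⟨m, by rw [hcm]⟩, hcm]
      exact Nat.mul_div_cancel_left _ (by positivity)
    intro h hh
    obtain ⟨l, hl⟩ := P.2 ⟨h, hh⟩
    have hl' : h ^ 2 ^ l = 1 := congrArg Subtype.val hl
    refine Cfsg.Agent.S0537.commute_of_commute_omega (P : Subgroup K) 2 hab _
      (fun x hx => (mem_normalizer_iff.1 hbn x).1 hx) m (Nat.coprime_two_right.2 hm)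
      (by rw [← hbo]; exact pow_orderOf_eq_one _) (fun x hx hx2 => ?_) l h hh hl'
    exact commute_inv hf h1 h2 hs hd hbn (by rw [hbo]; exact hm) hx (by rw [← pow_two]; exact hx2)
  rw [mem_centralizer_iff]
  intro h hh
  obtain ⟨u, hu⟩ : ∃ u : ℤ × ℤ, (m : ℤ) * u.1 + (2 ^ k : ℕ) * u.2 = 1 := by
    have := Nat.gcd_eq_gcd_ab m (2 ^ k)
    rw [hcop.gcd_eq_one] at this
    exact ⟨(_, _), by exact_mod_cast this.symm⟩
  have e : g = (g ^ m) ^ u.1 * (g ^ (2 ^ k)) ^ u.2 := by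
    rw [← zpow_natCast g m, ← zpow_natCast g (2 ^ k), ← zpow_mul, ← zpow_mul, ← zpow_add, hu, zpow_one]
  have c1 : Commute h ((g ^ m) ^ u.1) := Commute.zpow_right (hab h hh _ ha) _
  have c2 : Commute h ((g ^ (2 ^ k)) ^ u.2) := Commute.zpow_right (hb h hh).symm _
  rw [e]
  exact c1.mul_right c2

end abs

/-! ### Subgroups of a group -/

section grp

variable {G : Type*} [Group G] [Finite G]

/-- the action of `C / C_C(Y)` on `Y`, as a subgroup of `Y ≃* Y` -/
def rho (C Y : Subgroup G) (hC : C ≤ normalizer (Y : Set G)) : C →* MulAut Y where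
  toFun c :=
    { toFun := fun y => ⟨(c : G) * y * (c : G)⁻¹, (mem_normalizer_iff.1 (hC c.2) y).1 y.2⟩
      invFun := fun y => ⟨(c : G)⁻¹ * y * (c : G), by
        have := (mem_normalizer_iff.1 (hC (inv_mem c.2)) y).1 y.2
        simpa using this⟩
      left_inv := fun y => Subtype.ext (by simp [mul_assoc])
      right_inv := fun y => Subtype.ext (by simp [mul_assoc])
      map_mul' := fun a b => Subtype.ext (by simp [mul_assoc]) }
  map_one' := by ext y; simp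
  map_mul' a b := by ext y; simp [mul_assoc]

theorem rho_apply {C Y : Subgroup G} (hC : C ≤ normalizer (Y : Set G)) (c : C) (y : Y) :
    ((rho C Y hC c y : Y) : G) = (c : G) * y * (c : G)⁻¹ := rfl

/-- the hypotheses for one line: `S` acts on `R` as an abelian group with at most one involution -/
structure FLG (S R : Subgroup G) : Prop where
  inv : ∀ g ∈ S, ∀ y ∈ R, g * y * g⁻¹ ∈ R
  comm : ∀ g ∈ S, ∀ h ∈ S, ∀ y ∈ R, g * (h * y * h⁻¹) * g⁻¹ = h * (g * y * g⁻¹) * h⁻¹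
  uniq : ∀ g ∈ S, ∀ h ∈ S, (∀ y ∈ R, g * (g * y * g⁻¹) * g⁻¹ = y) → (∀ y ∈ R, h * (h * y * h⁻¹) * h⁻¹ = y) →
    (∃ y ∈ R, g * y * g⁻¹ ≠ y) → (∃ y ∈ R, h * y * h⁻¹ ≠ y) → ∀ y ∈ R, g * y * g⁻¹ = h * y * h⁻¹

/-- **`C = C_C(Y) S`**, general form: the image of `S` in `Aut(Y)` is central in its normaliser in the image of `C` -/
theorem le_sup_of {C S Y : Subgroup G} (hS : Syl S C) (hY : IsPGroup 2 Y) (hYc : ∀ x ∈ Y, ∀ y ∈ Y, x * y = y * x)
    (hC : C ≤ normalizer (Y : Set G))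
    (hP : ∀ P : Sylow 2 (rho C Y hC).range, ((S.subgroupOf C).map (rho C Y hC).rangeRestrict) = P →
      normalizer ((P : Subgroup (rho C Y hC).range) : Set (rho C Y hC).range) ≤
        centralizer ((P : Subgroup (rho C Y hC).range) : Set (rho C Y hC).range))
    (hfix : ∀ y ∈ Y, (∀ s ∈ S, s * y * s⁻¹ = y) → ∀ c ∈ C, c * y * c⁻¹ = y) :
    C ≤ (C ⊓ centralizer (Y : Set G)) ⊔ S := by
  let _ : CommGroup Y := { (inferInstance : Group Y) with mul_comm := fun a b => Subtype.ext (hYc a a.2 b b.2) }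
  obtain ⟨P₀, hP₀⟩ := syl_iff.1 hS
  have e0 : (P₀ : Subgroup C) = S.subgroupOf C := by
    rw [← hP₀]
    exact (Subgroup.comap_map_eq_self_of_injective C.subtype_injective _).symm
  set f := (rho C Y hC).rangeRestrict with hf
  have hfs : Function.Surjective f := (rho C Y hC).rangeRestrict_surjective
  let P : Sylow 2 (rho C Y hC).range := P₀.mapSurjective hfs
  have hPc : (P : Subgroup (rho C Y hC).range) = (S.subgroupOf C).map f := by
    rw [Sylow.coe_mapSurjective, e0]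
  have act_def : ∀ (c : C) (y : Y), ((f c • y : Y) : G) = (c : G) * y * (c : G)⁻¹ := fun c y => rfl
  have htop := sylow_eq_top (K := (rho C Y hC).range) (Y := Y) hY
    (fun g hg => Subtype.ext (MulEquiv.ext fun y => hg y)) P (hP P hPc.symm) (by
      intro y hy g
      obtain ⟨c, rfl⟩ := hfs g
      refine Subtype.ext ?_
      rw [act_def]
      refine hfix y y.2 (fun s hs => ?_) c c.2
      have h1 : f ⟨s, hS.1 hs⟩ ∈ (P : Subgroup (rho C Y hC).range) := by
        rw [hPc]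
        exact Subgroup.mem_map_of_mem _ (Subgroup.mem_subgroupOf.2 hs)
      have h2 := congrArg Subtype.val (hy _ h1)
      rw [act_def] at h2
      exact h2)
  intro c hc
  have h1 : f ⟨c, hc⟩ ∈ (P : Subgroup (rho C Y hC).range) := by
    rw [htop]
    exact Subgroup.mem_top _
  rw [hPc] at h1
  obtain ⟨s, hs, hsc⟩ := h1
  have hsS : (s : G) ∈ S := Subgroup.mem_subgroupOf.1 hs
  have h3 : c * (s : G)⁻¹ ∈ C ⊓ centralizer (Y : Set G) := by
    refine Subgroup.mem_inf.2 ⟨C.mul_mem hc (C.inv_mem s.2), mem_centralizer_iff.2 fun y hy => ?_⟩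
    have h4 : f ⟨c, hc⟩ = f s := hsc.symm
    have h5 : ((f ⟨c, hc⟩ • (⟨(s : G)⁻¹ * y * (s : G), by
        have := (mem_normalizer_iff.1 (hC (inv_mem s.2)) y).1 hy
        simpa using this⟩ : Y) : Y) : G) = ((f s • (⟨(s : G)⁻¹ * y * (s : G), by
        have := (mem_normalizer_iff.1 (hC (inv_mem s.2)) y).1 hy
        simpa using this⟩ : Y) : Y) : G) := by rw [h4]
    rw [act_def, act_def] at h5
    change c * ((s : G)⁻¹ * y * (s : G)) * c⁻¹ = (s : G) * ((s : G)⁻¹ * y * (s : G)) * (s : G)⁻¹ at h5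
    have h6 : (s : G) * ((s : G)⁻¹ * y * (s : G)) * (s : G)⁻¹ = y := by group
    rw [h6] at h5
    calc y * (c * (s : G)⁻¹) = (c * ((s : G)⁻¹ * y * (s : G)) * c⁻¹) * (c * (s : G)⁻¹) := by rw [h5]
      _ = c * (s : G)⁻¹ * y := by group
  have e : c = (c * (s : G)⁻¹) * (s : G) := by group
  rw [e]
  exact mul_mem (mem_sup_left h3) (mem_sup_right hsS)

/-- **LEMMA LINES**: `Y = R₁ × R₂`, `S` acts on `R₁` and on `R₂` as an abelian group with at most one involution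
(field automorphisms), every `S`-fixed vector of `Y` is fixed by `C`: `C = C_C(Y) S`. -/
theorem le_sup_lines {C S Y R₁ R₂ : Subgroup G} (hS : Syl S C) (hY : IsPGroup 2 Y)
    (hYc : ∀ x ∈ Y, ∀ y ∈ Y, x * y = y * x) (hC : C ≤ normalizer (Y : Set G))
    (hs : R₁ ⊔ R₂ = Y) (hd : R₁ ⊓ R₂ = ⊥) (h1 : FLG S R₁) (h2 : FLG S R₂)
    (hfix : ∀ y ∈ Y, (∀ s ∈ S, s * y * s⁻¹ = y) → ∀ c ∈ C, c * y * c⁻¹ = y) :
    C ≤ (C ⊓ centralizer (Y : Set G)) ⊔ S := by
  refine le_sup_of hS hY hYc hC ?_ hfix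
  let _ : CommGroup Y := { (inferInstance : Group Y) with mul_comm := fun a b => Subtype.ext (hYc a a.2 b b.2) }
  intro P hP
  have hl1 : R₁ ≤ Y := hs ▸ le_sup_left
  have hl2 : R₂ ≤ Y := hs ▸ le_sup_right
  set f := (rho C Y hC).rangeRestrict with hf
  have act_def : ∀ (c : C) (y : Y), ((f c • y : Y) : G) = (c : G) * y * (c : G)⁻¹ := fun c y => rfl
  have key : ∀ R : Subgroup G, R ≤ Y → FLG S R → FL (Y := Y) (P : Subgroup (rho C Y hC).range) (R.subgroupOf Y) := by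
    intro R hR h
    have lift : ∀ g ∈ (P : Subgroup (rho C Y hC).range), ∃ s : C, (s : G) ∈ S ∧ f s = g := by
      intro g hg
      rw [← hP] at hg
      obtain ⟨s, hs, rfl⟩ := hg
      exact ⟨s, Subgroup.mem_subgroupOf.1 hs, rfl⟩
    refine ⟨?_, ?_, ?_⟩
    · intro g hg y hy
      obtain ⟨s, hsS, rfl⟩ := lift g hg
      rw [Subgroup.mem_subgroupOf] at hy ⊢
      rw [act_def]
      exact h.inv s hsS y hy
    · intro g hg k hk y hy
      obtain ⟨s, hsS, rfl⟩ := lift g hg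
      obtain ⟨t, htS, rfl⟩ := lift k hk
      rw [Subgroup.mem_subgroupOf] at hy
      refine Subtype.ext ?_
      rw [act_def, act_def, act_def, act_def]
      exact h.comm s hsS t htS y hy
    · intro g hg k hk g2 k2 mg mk y hy
      obtain ⟨s, hsS, rfl⟩ := lift g hg
      obtain ⟨t, htS, rfl⟩ := lift k hk
      refine Subtype.ext ?_
      rw [act_def, act_def]
      refine h.uniq s hsS t htS (fun z hz => ?_) (fun z hz => ?_) ?_ ?_ y (Subgroup.mem_subgroupOf.1 hy)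
      · have := congrArg Subtype.val (g2 ⟨z, hR hz⟩ (Subgroup.mem_subgroupOf.2 hz))
        rwa [act_def, act_def] at this
      · have := congrArg Subtype.val (k2 ⟨z, hR hz⟩ (Subgroup.mem_subgroupOf.2 hz))
        rwa [act_def, act_def] at this
      · obtain ⟨z, hz, hne⟩ := mg
        exact ⟨z, Subgroup.mem_subgroupOf.1 hz, fun e => hne (Subtype.ext (by rw [act_def]; exact e))⟩
      · obtain ⟨z, hz, hne⟩ := mk
        exact ⟨z, Subgroup.mem_subgroupOf.1 hz, fun e => hne (Subtype.ext (by rw [act_def]; exact e))⟩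
  refine normalizer_le (Y := Y) (fun g hg => Subtype.ext (MulEquiv.ext fun y => hg y)) P (key R₁ hl1 h1)
    (key R₂ hl2 h2) ?_ ?_
  · rw [← Subgroup.subgroupOf_sup hl1 hl2, hs, Subgroup.subgroupOf_self]
  · rw [eq_bot_iff]
    rintro y ⟨ha, hb⟩
    have : (y : G) ∈ R₁ ⊓ R₂ := ⟨Subgroup.mem_subgroupOf.1 ha, Subgroup.mem_subgroupOf.1 hb⟩
    rw [hd, Subgroup.mem_bot] at this
    exact Subgroup.mem_bot.2 (Subtype.ext this)

end grp

end Cfsg.Agent.Omega.NOThreeL.RShape.Lines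

end

-- merged: Cfsg.Agent.Omega.KL.TwoZ.CycFix
section

/-!
# A cyclic Sylow 2-subgroup whose fixed vectors are fixed by everything

`A` acts on an elementary abelian 2-group `l`, the image of a Sylow 2-subgroup `P` is cyclic and `A` fixes `C_l(P)`
pointwise: then the elements of `A` of odd order act trivially on `l` (used for: `C_G(Z_i) = C_G(l_i) S` for a line
`l_i` on which `S` induces field automorphisms).
-/

set_option autoImplicit false

namespace Cfsg.Agent.Omega.KL.TwoZ.CycFix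

open Subgroup

/-- the faithful case: `R` acts faithfully, `P` is a cyclic Sylow 2-subgroup -/
theorem fix_of_cyclic {R : Type*} [Group R] [Finite R] {l : Type*} [CommGroup l] [Finite l]
    [MulDistribMulAction R l] (hl : ∀ v : l, v * v = 1) (P : Sylow 2 R) (hP : IsCyclic P)
    (hfix : ∀ v : l, (∀ p ∈ P, p • v = v) → ∀ a : R, a • v = v) :
    ∀ a : R, Odd (orderOf a) → ∀ v : l, a • v = v := by
  classical
  have h2 : Fact (Nat.Prime 2) := ⟨Nat.prime_two⟩
  by_cases hev : 2 ∣ Nat.card R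
  swap
  · -- odd order
    have hb : ∀ p ∈ P, p = (1 : R) := by
      intro p hp
      obtain ⟨k, hk⟩ := P.2.exists_card_eq
      have h3 : Nat.card P ∣ Nat.card R := card_subgroup_dvd_card _
      have h4 : Nat.card P = 1 := by
        rcases k with _ | k
        · simpa using hk
        · exact absurd ((dvd_pow_self 2 (Nat.succ_ne_zero k)).trans (hk ▸ h3)) hev
      have h5 : (P : Subgroup R) = ⊥ := (card_eq_one).1 h4
      have h6 : p ∈ (P : Subgroup R) := hp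
      rw [h5, mem_bot] at h6
      exact h6
    intro a _ v
    exact hfix v (fun p hp => by rw [hb p hp, one_smul]) a
  have hmin : (Nat.card R).minFac = 2 := (Nat.minFac_eq_two_iff _).2 hev
  have hc := hP.isComplement' hmin
  set N := (MonoidHom.transferSylow P (hP.normalizer_le_centralizer hmin)).ker with hN
  have hNn : N.Normal := by rw [hN]; infer_instance
  -- `|N|` is odd
  have hNcard : ¬ 2 ∣ Nat.card N := by
    have h3 := MonoidHom.not_dvd_card_ker_transferSylow P (hP.normalizer_le_centralizer hmin)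
    rwa [← hN] at h3
  have hNodd : Odd (Nat.card N) := Nat.not_even_iff_odd.1 fun h => hNcard h.two_dvd
  -- the elements of odd order are in `N`
  have hmemN : ∀ a : R, Odd (orderOf a) → a ∈ N := by
    intro a ha
    rw [hN, MonoidHom.mem_ker]
    have h3 : orderOf (MonoidHom.transferSylow P (hP.normalizer_le_centralizer hmin) a) ∣ orderOf a :=
      orderOf_map_dvd _ _
    obtain ⟨k, hk⟩ := P.2.exists_card_eq
    have h4 : orderOf (MonoidHom.transferSylow P (hP.normalizer_le_centralizer hmin) a) ∣ 2 ^ k := by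
      rw [← hk]; exact orderOf_dvd_natCard _
    have h5 : Nat.Coprime (orderOf a) (2 ^ k) := (Nat.Coprime.pow_right k (Nat.coprime_two_right.2 ha))
    exact orderOf_eq_one_iff.1 (Nat.eq_one_of_dvd_coprimes h5 h3 h4)
  have := Fintype.ofFinite N
  -- the product over `N`
  let e : l → l := fun v => ∏ n : N, (n : R) • v
  have e_mul : ∀ v w, e (v * w) = e v * e w := fun v w => by
    simp only [e, smul_mul', Finset.prod_mul_distrib]
  have e_smul : ∀ (r : R) v, e (r • v) = r • e v := by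
    intro r v
    simp only [e, Finset.smul_prod']
    refine Finset.prod_equiv (MulAut.conjNormal (H := N) r⁻¹).toEquiv (by simp) fun n _ => ?_
    show (n : R) • r • v = r • ((MulAut.conjNormal (H := N) r⁻¹ n : N) : R) • v
    rw [MulAut.conjNormal_apply, smul_smul, smul_smul]
    congr 1
    group
  have e_N : ∀ (n : R), n ∈ N → ∀ v, n • e v = e v := by
    intro n hn v
    simp only [e, Finset.smul_prod']
    refine Finset.prod_equiv (Equiv.mulLeft (⟨n, hn⟩ : N)) (by simp) fun m _ => ?_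
    show n • (m : R) • v = ((⟨n, hn⟩ * m : N) : R) • v
    rw [smul_smul]; rfl
  have hodd : ∀ v : l, v ^ (Nat.card N) = v := by
    intro v
    obtain ⟨m, hm⟩ := hNodd
    rw [hm, pow_succ, pow_mul, pow_two, hl v, one_pow, one_mul]
  have e_fix : ∀ v : l, (∀ n ∈ N, n • v = v) → e v = v := by
    intro v hv
    have h3 : e v = ∏ _n : N, v := Finset.prod_congr rfl fun n _ => hv n n.2
    rw [h3, Finset.prod_const, Finset.card_univ, ← Nat.card_eq_fintype_card, hodd]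
  -- the kernel of `e`
  let K : Subgroup l :=
    { carrier := {v | e v = 1}
      one_mem' := by
        show e 1 = 1
        exact e_fix 1 fun n _ => smul_one n
      mul_mem' := by
        intro v w hv hw
        show e (v * w) = 1
        rw [e_mul, show e v = 1 from hv, show e w = 1 from hw, one_mul]
      inv_mem' := by
        intro v hv
        show e v⁻¹ = 1
        have h3 : v⁻¹ = v := inv_eq_of_mul_eq_one_left (hl v)
        rw [h3]; exact hv }
  have hK : K = ⊥ := by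
    by_contra hne
    obtain ⟨w, hw1⟩ := (Subgroup.ne_bot_iff_exists_ne_one).1 hne
    -- `P` acts on `K`
    let act : MulAction P K :=
      { smul := fun p v => ⟨(p : R) • (v : l), by
          show e ((p : R) • (v : l)) = 1
          rw [e_smul, show e (v : l) = 1 from v.2, smul_one]⟩
        one_smul := fun v => Subtype.ext (one_smul R (v : l))
        mul_smul := fun p q v => Subtype.ext (mul_smul (p : R) (q : R) (v : l)) }
    have h3 : 2 ∣ Nat.card K := by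
      have h4 : orderOf (w : K) = 2 := by
        refine orderOf_eq_prime ?_ hw1
        rw [pow_two]
        exact Subtype.ext (hl (w : l))
      rw [← h4]
      exact orderOf_dvd_natCard _
    obtain ⟨b, hb, hb1⟩ := P.2.exists_fixed_point_of_prime_dvd_card_of_fixed_point K h3 (a := 1)
      (fun p => Subtype.ext (smul_one (p : R)))
    have hb2 : ∀ a : R, a • (b : l) = b := hfix b fun p hp => by
      have := hb ⟨p, hp⟩
      exact congrArg Subtype.val this
    have h5 : e (b : l) = b := e_fix _ fun n _ => hb2 n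
    have h6 : e (b : l) = 1 := b.2
    exact hb1 (Subtype.ext (by rw [← h5, h6]; rfl))
  intro a ha v
  have h7 : e v * v ∈ K := by
    show e (e v * v) = 1
    rw [e_mul, e_fix (e v) fun n hn => e_N n hn v, hl]
  rw [hK, mem_bot] at h7
  have h8 : v = e v := by
    have h9 : e v * v = e v * e v := by rw [h7, hl]
    exact mul_left_cancel h9
  rw [h8]
  exact e_N a (hmemN a ha) v

/-- the general case: the image of `P` on `l` is generated by one element -/
theorem fix_odd {A : Type*} [Group A] [Finite A] {l : Type*} [CommGroup l] [Finite l]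
    [MulDistribMulAction A l] (hl : ∀ v : l, v * v = 1) (P : Subgroup A) (hP2 : IsPGroup 2 P) (hPi : ¬ 2 ∣ P.index)
    (t : A) (ht : t ∈ P) (hcyc : ∀ p ∈ P, ∃ n : ℤ, ∀ v : l, p • v = t ^ n • v)
    (hfix : ∀ v : l, (∀ p ∈ P, p • v = v) → ∀ a : A, a • v = v) :
    ∀ a : A, Odd (orderOf a) → ∀ v : l, a • v = v := by
  classical
  have h2 : Fact (Nat.Prime 2) := ⟨Nat.prime_two⟩
  let φ : A →* MulAut l := MulDistribMulAction.toMulAut A l
  let R := φ.range
  let ψ : A →* R := φ.rangeRestrict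
  have hψ : Function.Surjective ψ := φ.rangeRestrict_surjective
  let actR : MulDistribMulAction R l := MulDistribMulAction.compHom l R.subtype
  have hact : ∀ (a : A) (v : l), ψ a • v = a • v := fun a v => rfl
  let S : Sylow 2 A := IsPGroup.toSylow hP2 hPi
  let Q : Sylow 2 R := S.mapSurjective hψ
  have hQ : ∀ p, p ∈ Q ↔ ∃ a ∈ P, ψ a = p := fun p => Iff.rfl
  have hQc : IsCyclic Q := by
    refine ⟨⟨⟨ψ t, (hQ _).2 ⟨t, ht, rfl⟩⟩, ?_⟩⟩
    rintro ⟨p, hp⟩
    obtain ⟨a, ha, rfl⟩ := (hQ p).1 hp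
    obtain ⟨n, hn⟩ := hcyc a ha
    refine ⟨n, Subtype.ext ?_⟩
    show (ψ t) ^ n = ψ a
    rw [← map_zpow]
    refine Subtype.ext (MulEquiv.ext fun v => ?_)
    show (t ^ n) • v = a • v
    rw [hn v]
  have h3 := fix_of_cyclic hl Q hQc (fun v hv r => by
    obtain ⟨a, rfl⟩ := hψ r
    exact hfix v (fun p hp => hv (ψ p) ((hQ _).2 ⟨p, hp, rfl⟩)) a)
  intro a ha v
  refine h3 (ψ a) (Odd.of_dvd_nat ha (orderOf_map_dvd _ _)) v

end Cfsg.Agent.Omega.KL.TwoZ.CycFix

end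

-- merged: Cfsg.Agent.Mrg.Omega.KL.TwoZ.Line
section

/-!
# Two natural blocks WITH field automorphisms: the frame over the lines `l 0`, `l 1` (helper918 #24444 (C), (F1), (F2))

`S` is a Sylow 2-subgroup of `G`, `V i` the two blocks, `l i ≤ V i` the `F_(q_i)`-line through `Z i = C_{l i}(S)`,
`Ω₁Z(S) = Z 0 × Z 1`.

* `LFr` : the frame; `LFr.ctr` : `C_G(z) ≤ N_G(l i)` for `z ∈ Z i#`; `LFr.cz_le` : `C_G(Ω₁Z(S)) ≤ C_G(l 0 l 1) S`;
* `LFr.fuse` : a conjugate of `l i` which meets `l j` is `l j`, with the whole configuration;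
* `LFr.pp`, `tr`, `ti`, `pts`, `rtU`, `eab`, `xw_eab`, `xw_le`, `noP`, `fus2` : the input of `PT.false_of_pc` for the
  points `l i` and the lines `V i`.
-/

set_option autoImplicit false
set_option linter.unusedSectionVars false
set_option linter.unusedVariables false

namespace Cfsg.Agent.Omega.KL.TwoZ.Line

open Subgroup Cfsg Cfsg.Agent.Omega.MinPar
open Cfsg.Agent.ZN (o2 zc)
open Cfsg.Agent.Omega.OM.KTwo (ne_add_one eq_add_one add_one_add_one le_normalizer_V le_V exists_mul_of_mem_sup)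
open Cfsg.Agent.MinSimple.MinParabolic (IsMinPar)
open Cfsg.Agent.Omega.NoFF.Basic (conj_conj mem_conj conj_le_iff comm_symm comm_mono Z_le_V V_le)
open Cfsg.Agent.Omega.NOThreeL.Pair (conj_eq_of_mem conj_le_normalizer)
open Cfsg.Agent.ZN.ChoiceSit (Syl exists_syl syl_conj o2_le_syl syl_not_dvd)
open Cfsg.Agent.MinSimple.VModule (mem_zc zc_le normalizer_le_normalizer_zc le_o2
  o2_isPGroup o2_le zc_le_centralizer le_centralizer_zc le_normalizer_o2 oddGen oddGen_def)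
open Cfsg.Agent.Omega.TC.LemZ (card_eq le_norm_of norm_cent norm_inf)
open Cfsg.Agent.Omega.KL.TwoZ (CC V_le_of norm_V norm_o2_of sq_conj sq_V)
open Cfsg.Agent.Omega.OM
open scoped Pointwise

universe u

variable {G : Type u} [Group G]

/-- **two natural blocks `V i`, lines `l i`, with field automorphisms** -/
structure LFr [Finite G] (S : Sylow 2 G) (V Z l : Fin 2 → Subgroup G) : Prop where
  char2 : ∀ i, centralizer (Z i : Set G) ⊓ centralizer (o2 (centralizer (Z i : Set G)) : Set G) ≤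
    o2 (centralizer (Z i : Set G))
  sqV : ∀ i, ∀ x ∈ V i, x ^ 2 = 1
  Zl : ∀ i, Z i ≤ l i
  lV : ∀ i, l i ≤ V i
  ne : ∀ i, Z i ≠ ⊥
  zT : zc (S : Subgroup G) = Z 0 ⊔ Z 1
  lZ : ∀ i, ∀ v ∈ l i, v ∈ centralizer ((S : Subgroup G) : Set G) → v ∈ Z i
  com : V 0 ≤ centralizer (V 1 : Set G)
  dis : V 0 ⊓ V 1 = ⊥
  nV : ∀ i, (S : Subgroup G) ≤ normalizer (V i : Set G)
  nS : ∀ n ∈ normalizer ((S : Subgroup G) : Set G), (∀ j, MulAut.conj n • l j = l j ∧ MulAut.conj n • V j = V j) ∨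
    ∀ j, MulAut.conj n • l j = l (j + 1) ∧ MulAut.conj n • V j = V (j + 1)
  /-- LEMMA PERM (#23931, #24327) -/
  perm : ∀ i, centralizer (zc (S : Subgroup G) : Set G) ≤ normalizer (l i : Set G)
  /-- `S` induces a cyclic group (of field automorphisms) on `l i` -/
  cyc : ∀ i, ∃ t ∈ (S : Subgroup G), ∀ s ∈ (S : Subgroup G), ∃ n : ℤ, ∀ v ∈ l i, s * v * s⁻¹ = t ^ n * v * (t ^ n)⁻¹
  /-- a local minimal parabolic which moves `Ω₁Z(S)` normalises the lines or moves all of `Z i#` for one `i`, and then its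
  elements of odd order centralise the other block -/
  uni : ∀ R : Subgroup G, IsMinPar (S : Subgroup G) R → o2 R ≠ ⊥ →
    ¬ R ≤ centralizer (zc (S : Subgroup G) : Set G) →
    (∀ k, R ≤ normalizer (V k : Set G)) ∧ ((∀ k, R ≤ normalizer (l k : Set G)) ∨
      ∃ i, (∀ z ∈ Z i, z ≠ 1 → ¬ R ≤ centralizer ({z} : Set G)) ∧
        ∀ g ∈ R, Odd (orderOf g) → g ∈ centralizer (V (i + 1) : Set G))
  /-- a minimal parabolic which normalises the lines induces on `l i` what `S` induces: if it fixes a vector of `Z i#`,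
  it centralises `Z i` -/
  gal : ∀ R : Subgroup G, IsMinPar (S : Subgroup G) R → (∀ k, R ≤ normalizer (l k : Set G)) → ∀ i, ∀ z ∈ Z i, z ≠ 1 →
    R ≤ centralizer ({z} : Set G) → R ≤ centralizer (Z i : Set G)
  /-- the block group is transitive on `V i#` -/
  trV : ∀ i, ∀ v ∈ V i, ∃ h ∈ centralizer (V (i + 1) : Set G), h ∈ normalizer (V i : Set G) ∧ h * v * h⁻¹ ∈ Z i
  /-- the torus -/
  tor : ∀ i, ∀ v ∈ l i, ∃ h ∈ centralizer (V (i + 1) : Set G), h ∈ normalizer (V i : Set G) ∧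
    h ∈ normalizer (l i : Set G) ∧ h * v * h⁻¹ ∈ Z i
  VQ : ∀ i, V i ≤ o2 (centralizer (Z i : Set G))
  VC : ∀ i, ∀ c ∈ centralizer (Z i : Set G), MulAut.conj c • V i ≤ centralizer (V i : Set G)
  VN : ∀ i, V (i + 1) ≤ NoFF.Basic.V (Z (i + 1)) (centralizer (Z i : Set G))
  /-- `C_S(l i)` acts on `V i` as a root group -/
  root : ∀ i, ∀ x ∈ V i, ∀ y ∈ (S : Subgroup G), y ∈ centralizer (l i : Set G) → x * y * x⁻¹ * y⁻¹ ∈ l i
  reg : ∀ i, ∀ y ∈ (S : Subgroup G), y ∈ centralizer (l i : Set G) → ∀ v ∈ V i, v ∉ l i → y * v = v * y →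
    y ∈ centralizer (V i : Set G)
  cardV : ∀ i, Nat.card (V i) = Nat.card (l i) * Nat.card (l i)
  nonloc : NonLoc (centralizer (Z 0 : Set G)) (centralizer (Z 1 : Set G))

theorem mem_norm_iff {g : G} {A : Subgroup G} : g ∈ normalizer (A : Set G) ↔ MulAut.conj g • A = A := by
  refine ⟨conj_eq_of_mem, fun h => ?_⟩
  rw [mem_normalizer_iff]
  intro x
  constructor
  · intro hx
    rw [← h, mem_conj]
    have e : g⁻¹ * (g * x * g⁻¹) * g = x := by group
    rwa [e]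
  · intro hx
    rw [← h, mem_conj] at hx
    have e : g⁻¹ * (g * x * g⁻¹) * g = x := by group
    rwa [e] at hx

theorem conj_mem {g x : G} {A : Subgroup G} (h : x ∈ A) : g * x * g⁻¹ ∈ MulAut.conj g • A := by
  rw [mem_conj]
  have e : g⁻¹ * (g * x * g⁻¹) * g = x := by group
  rwa [e]

theorem inv_conj {g : G} {A B : Subgroup G} (h : MulAut.conj g • A = B) : MulAut.conj g⁻¹ • B = A := by
  rw [← h, conj_conj, inv_mul_cancel, map_one, one_smul]

namespace LFr

variable [Finite G] {S : Sylow 2 G} {V Z l : Fin 2 → Subgroup G} (D : LFr S V Z l)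

include D

/-! ### Easy facts -/

theorem S2 : IsPGroup 2 (S : Subgroup G) := S.2

theorem Z_le_zc (i : Fin 2) : Z i ≤ zc (S : Subgroup G) := by
  rw [D.zT]
  rcases Fin.exists_fin_two.1 ⟨i, rfl⟩ with h | h
  · rw [h]; exact le_sup_left
  · rw [h]; exact le_sup_right

theorem S_le_C (i : Fin 2) : (S : Subgroup G) ≤ CC Z i :=
  (le_centralizer_zc _).trans (centralizer_le (D.Z_le_zc i))

theorem Z_cent_S (i : Fin 2) : Z i ≤ centralizer ((S : Subgroup G) : Set G) := comm_symm (D.S_le_C i)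

theorem Z_le_S (i : Fin 2) : Z i ≤ (S : Subgroup G) := (D.Z_le_zc i).trans (zc_le _)

theorem syl {X : Subgroup G} (h : (S : Subgroup G) ≤ X) : Syl (S : Subgroup G) X := by
  refine ⟨h, S.2, fun R _ hR2 hSR => ?_⟩
  exact S.3 hR2 hSR

theorem Sl (i : Fin 2) : (S : Subgroup G) ≤ normalizer (l i : Set G) := (le_centralizer_zc _).trans (D.perm i)

theorem ZV (i : Fin 2) : Z i ≤ V i := (D.Zl i).trans (D.lV i)

/-- a subgroup of `C_G(z)` over `S` is local -/
theorem o2_ne {i : Fin 2} {z : G} (hz : z ∈ Z i) (hz1 : z ≠ 1) {R : Subgroup G} (hSR : (S : Subgroup G) ≤ R)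
    (hRz : R ≤ centralizer ({z} : Set G)) : o2 R ≠ ⊥ := by
  have h0 : zpowers z ≤ (S : Subgroup G) := by
    rw [zpowers_le]
    exact D.Z_le_S i hz
  have h1 : zpowers z ≤ o2 R := by
    refine le_o2 (h0.trans hSR) (S.2.to_le h0) ?_
    refine hRz.trans (le_trans ?_ (centralizer_le_normalizer _))
    intro x hx
    rw [mem_centralizer_singleton_iff] at hx
    rw [mem_centralizer_iff]
    rintro _ ⟨k, rfl⟩
    exact ((show Commute x z from hx).zpow_right k).symm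
  intro hc
  rw [hc, le_bot_iff, zpowers_eq_bot] at h1
  exact hz1 h1

theorem comm' (i : Fin 2) : V i ≤ centralizer (V (i + 1) : Set G) := by
  fin_cases i
  · exact D.com
  · exact comm_symm D.com

theorem dis' {i j : Fin 2} (h : i ≠ j) {x : G} (hi : x ∈ V i) (hj : x ∈ V j) : x = 1 := by
  have h1 : x ∈ V 0 ⊓ V 1 := by
    fin_cases i <;> fin_cases j
    · exact absurd rfl h
    · exact ⟨hi, hj⟩
    · exact ⟨hj, hi⟩
    · exact absurd rfl h
  rwa [D.dis, mem_bot] at h1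

theorem exists_ne (i : Fin 2) : ∃ z ∈ Z i, z ≠ 1 := by
  by_contra hc
  push Not at hc
  exact D.ne i (eq_bot_iff.2 fun x hx => mem_bot.2 (hc x hx))

theorem V_comm (i : Fin 2) {x y : G} (hx : x ∈ V i) (hy : y ∈ V i) : x * y = y * x :=
  mem_centralizer_iff.1 (TwoS.comm_of_sq (D.sqV i) hy) x hx

/-- `N_G(S)` on the configuration: `n` maps `l i` to `l j` as soon as the image meets `l j` -/
theorem nS' {n a : G} {i j : Fin 2} (hn : n ∈ normalizer ((S : Subgroup G) : Set G)) (ha : a ∈ l i) (ha1 : a ≠ 1)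
    (h : n * a * n⁻¹ ∈ V j) : MulAut.conj n • l i = l j ∧ MulAut.conj n • l (i + 1) = l (j + 1) ∧
      MulAut.conj n • V i = V j ∧ MulAut.conj n • V (i + 1) = V (j + 1) := by
  have hb1 : n * a * n⁻¹ ≠ 1 := fun h => ha1 (conj_eq_one_iff.1 h)
  rcases D.nS n hn with h1 | h1
  · have h2 : n * a * n⁻¹ ∈ V i := by
      rw [← (h1 i).2]
      exact conj_mem (D.lV i ha)
    have hij : i = j := by
      by_contra hne
      exact hb1 (D.dis' hne h2 h)
    subst hij
    exact ⟨(h1 i).1, (h1 _).1, (h1 i).2, (h1 _).2⟩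
  · have h2 : n * a * n⁻¹ ∈ V (i + 1) := by
      rw [← (h1 i).2]
      exact conj_mem (D.lV i ha)
    have hij : i + 1 = j := by
      by_contra hne
      exact hb1 (D.dis' hne h2 h)
    subst hij
    exact ⟨(h1 i).1, (h1 _).1, (h1 i).2, (h1 _).2⟩

/-! ### (F1) -/

/-- the elements of odd order of `C_G(Ω₁Z(S))` centralise the lines -/
theorem odd_cent (i : Fin 2) : oddGen (centralizer (zc (S : Subgroup G) : Set G)) ≤ centralizer (l i : Set G) := by
  rw [oddGen_def, closure_le]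
  rintro g ⟨hg, hgo⟩
  set X : Subgroup G := centralizer (zc (S : Subgroup G) : Set G) with hX
  have hSX : (S : Subgroup G) ≤ X := le_centralizer_zc _
  let _ : CommGroup (l i) :=
    { (inferInstance : Group (l i)) with
      mul_comm := fun x y => Subtype.ext (D.V_comm i (D.lV i x.2) (D.lV i y.2)) }
  let act : MulDistribMulAction X (l i) :=
    { smul := fun x v => ⟨(x : G) * v * (x : G)⁻¹, (mem_normalizer_iff.1 (D.perm i x.2) v).1 v.2⟩
      one_smul := fun v => Subtype.ext (by show (1 : G) * v * (1 : G)⁻¹ = v; simp)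
      mul_smul := fun x y v => Subtype.ext (by
        show (x * y : G) * v * (x * y : G)⁻¹ = x * (y * v * (y : G)⁻¹) * (x : G)⁻¹
        group)
      smul_mul := fun x v w => Subtype.ext (by
        show (x : G) * (v * w) * (x : G)⁻¹ = (x * v * (x : G)⁻¹) * (x * w * (x : G)⁻¹)
        group)
      smul_one := fun x => Subtype.ext (by show (x : G) * 1 * (x : G)⁻¹ = 1; simp) }
  have hact : ∀ (x : X) (v : l i), ((x • v : l i) : G) = (x : G) * v * (x : G)⁻¹ := fun _ _ => rfl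
  obtain ⟨t, ht, hc⟩ := D.cyc i
  have h1 := CycFix.fix_odd (A := X) (l := l i) (fun v => Subtype.ext (by
      have := D.sqV i v (D.lV i v.2)
      rw [pow_two] at this
      exact this)) ((S : Subgroup G).subgroupOf X) (S.2.comap_of_injective _ X.subtype_injective)
    (syl_not_dvd (D.syl hSX)) ⟨t, hSX ht⟩ ht (by
      rintro ⟨p, hp⟩ hpS
      obtain ⟨n, hn⟩ := hc p hpS
      refine ⟨n, fun v => Subtype.ext ?_⟩
      rw [hact, hact]
      show p * v * p⁻¹ = ((⟨t, hSX ht⟩ ^ n : X) : G) * v * ((⟨t, hSX ht⟩ ^ n : X) : G)⁻¹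
      rw [coe_zpow]
      exact hn v v.2) (by
      intro v hv a
      have hvZ : (v : G) ∈ Z i := by
        refine D.lZ i v v.2 (mem_centralizer_iff.2 fun s hs => ?_)
        have h2 := congrArg Subtype.val (hv ⟨s, hSX hs⟩ hs)
        have h3 : s * (v : G) * s⁻¹ = v := h2
        calc s * (v : G) = (s * v * s⁻¹) * s := by group
          _ = v * s := by rw [h3]
      refine Subtype.ext ?_
      rw [hact]
      have h4 := mem_centralizer_iff.1 a.2 v (D.Z_le_zc i hvZ)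
      rw [← h4, mul_inv_cancel_right]) ⟨g, hg⟩ (by
      rw [← orderOf_injective X.subtype X.subtype_injective]
      exact hgo)
  refine mem_centralizer_iff.2 fun v hv => ?_
  have h5 := congrArg Subtype.val (h1 ⟨v, hv⟩)
  have h6 : g * v * g⁻¹ = v := h5
  calc v * g = (g * v * g⁻¹) * g := by rw [h6]
    _ = g * v := by group

/-- `C_G(Ω₁Z(S)) ≤ C_G(l 0 l 1) S` -/
theorem cz_le : centralizer (zc (S : Subgroup G) : Set G) ≤
    (centralizer (l 0 : Set G) ⊓ centralizer (l 1 : Set G)) ⊔ (S : Subgroup G) := by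
  have hSX : (S : Subgroup G) ≤ centralizer (zc (S : Subgroup G) : Set G) := le_centralizer_zc _
  have h1 := Star.Core.oddGen_sup hSX (syl_not_dvd (D.syl hSX))
  rw [← h1]
  exact sup_le_sup_right (le_inf (D.odd_cent 0) (D.odd_cent 1)) _

/-- the stabiliser of the configuration -/
def conf (V l : Fin 2 → Subgroup G) (i : Fin 2) : Subgroup G :=
  normalizer (l i : Set G) ⊓ normalizer (l (i + 1) : Set G) ⊓ normalizer (V i : Set G) ⊓
    normalizer (V (i + 1) : Set G)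

theorem S_le_conf (i : Fin 2) : (S : Subgroup G) ≤ conf V l i :=
  le_inf (le_inf (le_inf (D.Sl i) (D.Sl _)) (D.nV i)) (D.nV _)

theorem conf_of {g : G} {i : Fin 2} (h : MulAut.conj g • l i = l i ∧ MulAut.conj g • l (i + 1) = l (i + 1) ∧
      MulAut.conj g • V i = V i ∧ MulAut.conj g • V (i + 1) = V (i + 1)) : g ∈ conf V l i :=
  ⟨⟨⟨mem_norm_iff.2 h.1, mem_norm_iff.2 h.2.1⟩, mem_norm_iff.2 h.2.2.1⟩, mem_norm_iff.2 h.2.2.2⟩

/-- `C_G(z) ≤ C_G(l i) Stab` for `z ∈ Z i#` -/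
theorem ctr' {i : Fin 2} {z : G} (hz : z ∈ Z i) (hz1 : z ≠ 1) :
    centralizer ({z} : Set G) ≤ centralizer (l i : Set G) ⊔ conf V l i := by
  have hSz : (S : Subgroup G) ≤ centralizer ({z} : Set G) :=
    (D.S_le_C i).trans (centralizer_le (Set.singleton_subset_iff.2 hz))
  refine MinSimple.MinParabolic.le_of_forall hSz ?_ fun R hR hRX => ?_
  · rintro n ⟨hn, hnS⟩
    refine le_sup_right (a := centralizer (l i : Set G)) (D.conf_of (D.nS' hnS (D.Zl i hz) hz1 (j := i) ?_))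
    have h1 : n * z * n⁻¹ = z := by
      rw [(mem_centralizer_singleton_iff.1 hn), mul_inv_cancel_right]
    rw [h1]
    exact D.ZV i hz
  · by_cases hc : R ≤ centralizer (zc (S : Subgroup G) : Set G)
    · refine (hc.trans D.cz_le).trans (sup_le_sup ?_ (D.S_le_conf i))
      rcases Fin.exists_fin_two.1 ⟨i, rfl⟩ with h | h
      · rw [h]; exact inf_le_left
      · rw [h]; exact inf_le_right
    · obtain ⟨hV, h1 | ⟨k, hk1, hk2⟩⟩ := D.uni R hR (D.o2_ne hz hz1 hR.le hRX) hc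
      · exact (le_inf (le_inf (le_inf (h1 i) (h1 _)) (hV i)) (hV _)).trans le_sup_right
      · rcases PT.eq_or k i with rfl | rfl
        · exact absurd hRX (hk1 z hz hz1)
        · have h2 : oddGen R ≤ centralizer (l (k + 1) : Set G) := by
            rw [oddGen_def, closure_le]
            rintro g ⟨hg, hgo⟩
            exact centralizer_le (D.lV _) (hk2 g hg hgo)
          rw [← Star.Core.oddGen_sup hR.le (syl_not_dvd (D.syl hR.le))]
          exact sup_le_sup h2 (D.S_le_conf _)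

theorem ctr {i : Fin 2} {z : G} (hz : z ∈ Z i) (hz1 : z ≠ 1) :
    centralizer ({z} : Set G) ≤ normalizer (l i : Set G) :=
  (D.ctr' hz hz1).trans (sup_le (centralizer_le_normalizer _) (inf_le_left.trans (inf_le_left.trans inf_le_left)))

theorem C_le_N (i : Fin 2) : CC Z i ≤ normalizer (l i : Set G) := by
  obtain ⟨z, hz, hz1⟩ := D.exists_ne i
  exact (centralizer_le (Set.singleton_subset_iff.2 hz)).trans (D.ctr hz hz1)

/-- products of `C_G(l i)` and elements normalising `l i` -/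
theorem mul_of_sup {i : Fin 2} {x : G} (h : x ∈ centralizer (l i : Set G) ⊔ conf V l i) :
    ∃ c ∈ centralizer (l i : Set G), ∃ m ∈ conf V l i, c * m = x := by
  have hn : conf V l i ≤ normalizer ((centralizer (l i : Set G) : Subgroup G) : Set G) :=
    norm_cent (inf_le_left.trans (inf_le_left.trans inf_le_left))
  obtain ⟨c, hc, m, hm, e⟩ := exists_mul_of_mem_sup hn h
  exact ⟨c, hc, m, hm, e.symm⟩

/-- **a conjugate of `l i` which meets `l j` is `l j`, with the whole configuration** -/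
theorem fuse {i j : Fin 2} {g a : G} (ha : a ∈ l i) (ha1 : a ≠ 1) (h : g * a * g⁻¹ ∈ l j) :
    ∃ c ∈ centralizer (l j : Set G), ∃ m, c * m = g ∧ MulAut.conj m • l i = l j ∧
      MulAut.conj m • l (i + 1) = l (j + 1) ∧ MulAut.conj m • V i = V j ∧ MulAut.conj m • V (i + 1) = V (j + 1) := by
  obtain ⟨h1, h1c, h1V, h1l, h1Z⟩ := D.tor i a ha
  obtain ⟨h2, h2c, h2V, h2l, h2Z⟩ := D.tor j _ h
  set a1 := h1 * a * h1⁻¹ with ha1'
  set b1 := h2 * (g * a * g⁻¹) * h2⁻¹ with hb1'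
  have e1 : (h2 * g * h1⁻¹) * a1 * (h2 * g * h1⁻¹)⁻¹ = b1 := by rw [ha1', hb1']; group
  obtain ⟨n, hn, hn1⟩ := All.HOne.burnside S (D.Z_le_zc i h1Z) (D.Z_le_zc j h2Z) e1
  have ha1ne : a1 ≠ 1 := fun e => ha1 (conj_eq_one_iff.1 e)
  have hb1ne : b1 ≠ 1 := fun e => ha1ne (conj_eq_one_iff.1 (hn1.trans e))
  obtain ⟨n1, n2, n3, n4⟩ := D.nS' hn (D.Zl i h1Z) ha1ne (j := j) (by rw [hn1]; exact D.ZV j h2Z)
  -- `x = h2 g h1⁻¹ n⁻¹` centralises `b1`
  have hx : h2 * g * h1⁻¹ * n⁻¹ ∈ centralizer ({b1} : Set G) := by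
    rw [mem_centralizer_singleton_iff]
    have e2 : n⁻¹ * b1 * n = a1 := by rw [← hn1]; group
    calc h2 * g * h1⁻¹ * n⁻¹ * b1 = (h2 * g * h1⁻¹) * (n⁻¹ * b1 * n) * n⁻¹ := by group
      _ = ((h2 * g * h1⁻¹) * a1 * (h2 * g * h1⁻¹)⁻¹) * (h2 * g * h1⁻¹ * n⁻¹) := by rw [e2]; group
      _ = b1 * (h2 * g * h1⁻¹ * n⁻¹) := by rw [e1]
  obtain ⟨c, hc, m, hm, hcm⟩ := D.mul_of_sup (D.ctr' h2Z hb1ne hx)
  refine ⟨h2⁻¹ * c * h2, ?_, h2⁻¹ * m * n * h1, ?_, ?_, ?_, ?_, ?_⟩
  · have h3 := (mem_normalizer_iff.1 (norm_cent (A := normalizer (l j : Set G)) le_rfl (inv_mem h2l)) c).1 hc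
    rwa [inv_inv] at h3
  · have e3 : h2⁻¹ * c * h2 * (h2⁻¹ * m * n * h1) = h2⁻¹ * (c * m) * n * h1 := by group
    rw [e3, hcm]
    group
  all_goals have hm' := hm
  · obtain ⟨⟨⟨hm1, hm2⟩, hm3⟩, hm4⟩ := hm'
    rw [← conj_conj, ← conj_conj, ← conj_conj, conj_eq_of_mem h1l, n1, conj_eq_of_mem hm1,
      conj_eq_of_mem (inv_mem h2l)]
  · obtain ⟨⟨⟨hm1, hm2⟩, hm3⟩, hm4⟩ := hm'
    have h1' : h1 ∈ normalizer (l (i + 1) : Set G) := centralizer_le_normalizer _ (centralizer_le (D.lV _) h1c)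
    have h2' : h2 ∈ normalizer (l (j + 1) : Set G) := centralizer_le_normalizer _ (centralizer_le (D.lV _) h2c)
    rw [← conj_conj, ← conj_conj, ← conj_conj, conj_eq_of_mem h1', n2, conj_eq_of_mem hm2,
      conj_eq_of_mem (inv_mem h2')]
  · obtain ⟨⟨⟨hm1, hm2⟩, hm3⟩, hm4⟩ := hm'
    rw [← conj_conj, ← conj_conj, ← conj_conj, conj_eq_of_mem h1V, n3, conj_eq_of_mem hm3,
      conj_eq_of_mem (inv_mem h2V)]
  · obtain ⟨⟨⟨hm1, hm2⟩, hm3⟩, hm4⟩ := hm'
    have h1' : h1 ∈ normalizer (V (i + 1) : Set G) := centralizer_le_normalizer _ h1c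
    have h2' : h2 ∈ normalizer (V (j + 1) : Set G) := centralizer_le_normalizer _ h2c
    rw [← conj_conj, ← conj_conj, ← conj_conj, conj_eq_of_mem h1', n4, conj_eq_of_mem hm4,
      conj_eq_of_mem (inv_mem h2')]

theorem fuse_eq {i j : Fin 2} {g a : G} (ha : a ∈ l i) (ha1 : a ≠ 1) (h : g * a * g⁻¹ ∈ l j) :
    MulAut.conj g • l i = l j := by
  obtain ⟨c, hc, m, rfl, h1, -⟩ := D.fuse ha ha1 h
  rw [← conj_conj, h1, conj_eq_of_mem (centralizer_le_normalizer _ hc)]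

/-! ### The points and lines of 683's `PT` -/

/-- `N_G(l i) ≤ C_G(l i) Stab` -/
theorem norm_eq {i : Fin 2} {g : G} (hg : g ∈ normalizer (l i : Set G)) :
    ∃ c ∈ centralizer (l i : Set G), ∃ m ∈ conf V l i, c * m = g := by
  obtain ⟨z, hz, hz1⟩ := D.exists_ne i
  obtain ⟨c, hc, m, hm, h1, h2, h3, h4⟩ := D.fuse (D.Zl i hz) hz1 ((mem_normalizer_iff.1 hg z).1 (D.Zl i hz))
  exact ⟨c, hc, m, D.conf_of ⟨h1, h2, h3, h4⟩, hm⟩

theorem adj_iff {i : Fin 2} {u : Subgroup G} :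
    PT.Adj l (l i) u ↔ ∃ c ∈ centralizer (l i : Set G), u = MulAut.conj c • l (i + 1) := by
  constructor
  · rintro ⟨j, k, h1, rfl⟩
    obtain ⟨z, hz, hz1⟩ := D.exists_ne j
    obtain ⟨c, hc, m, rfl, h2, h3, -, -⟩ := D.fuse (j := i) (g := k) (D.Zl j hz) hz1 (by
      rw [h1]; exact conj_mem (D.Zl j hz))
    exact ⟨c, hc, by rw [← conj_conj, h3]⟩
  · rintro ⟨c, hc, rfl⟩
    exact ⟨i, c, (conj_eq_of_mem (centralizer_le_normalizer _ hc)).symm, rfl⟩

theorem lnOn_iff {i : Fin 2} {x : Subgroup G} :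
    PT.LnOn l V (l i) x ↔ ∃ c ∈ centralizer (l i : Set G), x = MulAut.conj c • V i := by
  constructor
  · rintro ⟨j, k, h1, rfl⟩
    obtain ⟨z, hz, hz1⟩ := D.exists_ne j
    obtain ⟨c, hc, m, rfl, h2, -, h3, -⟩ := D.fuse (j := i) (g := k) (D.Zl j hz) hz1 (by
      rw [h1]; exact conj_mem (D.Zl j hz))
    exact ⟨c, hc, by rw [← conj_conj, h3]⟩
  · rintro ⟨c, hc, rfl⟩
    exact ⟨i, c, (conj_eq_of_mem (centralizer_le_normalizer _ hc)).symm, rfl⟩

theorem cl_le (i : Fin 2) : centralizer (l i : Set G) ≤ CC Z i := centralizer_le (D.Zl i)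

theorem Q_le_S (i : Fin 2) : TwoZ.QQ Z i ≤ (S : Subgroup G) := o2_le_syl (D.syl (D.S_le_C i))

theorem Z_le_Q (i j : Fin 2) : Z j ≤ TwoZ.QQ Z i := by
  refine le_trans (le_inf ((D.Z_le_S j).trans (D.S_le_C i)) ?_) (D.char2 i)
  exact (D.Z_cent_S j).trans (centralizer_le (D.Q_le_S i))

/-- **`N_i` is the same in both frames** -/
theorem NN_eq (i : Fin 2) : PT.NN l (l i) = TwoZ.NN Z i := by
  apply le_antisymm
  · refine sSup_le fun u hu => ?_
    obtain ⟨c, hc, rfl⟩ := D.adj_iff.1 hu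
    have h1 : l (i + 1) ≤ TwoZ.NN Z i := (D.lV _).trans (D.VN i)
    have h2 : MulAut.conj c • TwoZ.NN Z i = TwoZ.NN Z i :=
      conj_eq_of_mem (le_normalizer_V (Z (i + 1)) (CC Z i) (D.cl_le i hc))
    rw [← h2]
    exact conj_le_iff.2 h1
  · refine V_le fun c hc => ?_
    have h1 : MulAut.conj c • l i = l i := conj_eq_of_mem (D.C_le_N i hc)
    have h2 : PT.Adj l (l i) (MulAut.conj c • l (i + 1)) := ⟨i, c, h1.symm, rfl⟩
    exact (conj_le_iff.2 (D.Zl _)).trans h2.le_NN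

theorem TN_le_Q (i : Fin 2) : TwoZ.NN Z i ≤ TwoZ.QQ Z i := V_le_of (D.Z_le_Q i (i + 1)) (le_normalizer_o2 _)

theorem HH_norm_NN (i : Fin 2) : normalizer (l i : Set G) ≤ normalizer (PT.NN l (l i) : Set G) := PT.PP.HH_le_NN _

theorem S_le_H (i : Fin 2) : (S : Subgroup G) ≤ normalizer (l i : Set G) := D.Sl i

theorem PQ_le_S (i : Fin 2) : o2 (normalizer (l i : Set G)) ≤ (S : Subgroup G) := o2_le_syl (D.syl (D.Sl i))

/-- `O₂(N_G(l i))` centralises `l i` -/
theorem PQ_le_cl (i : Fin 2) : o2 (normalizer (l i : Set G)) ≤ centralizer (l i : Set G) := by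
  intro q hq
  refine mem_centralizer_iff.2 fun v hv => ?_
  obtain ⟨h, -, -, h1, h2⟩ := D.tor i v hv
  have h3 : h * q * h⁻¹ ∈ o2 (normalizer (l i : Set G)) := (mem_normalizer_iff.1 (le_normalizer_o2 _ h1) q).1 hq
  have h4 := mem_centralizer_iff.1 (D.S_le_C i (D.PQ_le_S i h3)) _ h2
  have e1 : v * q = h⁻¹ * ((h * v * h⁻¹) * (h * q * h⁻¹)) * h := by group
  have e2 : q * v = h⁻¹ * ((h * q * h⁻¹) * (h * v * h⁻¹)) * h := by group
  rw [e1, e2, h4]

/-- `O₂(N_G(l i)) = O₂(C_G(Z i)) ∩ C_G(l i)` -/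
theorem PQ_eq (i : Fin 2) : o2 (normalizer (l i : Set G)) = TwoZ.QQ Z i ⊓ centralizer (l i : Set G) := by
  apply le_antisymm
  · refine le_inf ?_ (D.PQ_le_cl i)
    exact le_o2 ((D.PQ_le_S i).trans (D.S_le_C i)) (o2_isPGroup _) ((D.C_le_N i).trans (le_normalizer_o2 _))
  · have h1 : TwoZ.QQ Z i ⊓ centralizer (l i : Set G) ≤ o2 (centralizer (l i : Set G)) := by
      refine le_o2 inf_le_right ((o2_isPGroup _).to_le inf_le_left) (le_norm_of fun c hc q hq => ⟨?_, ?_⟩)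
      · exact (mem_normalizer_iff.1 (le_normalizer_o2 _ (D.cl_le i hc)) q).1 hq.1
      · exact (centralizer (l i : Set G)).mul_mem ((centralizer (l i : Set G)).mul_mem hc hq.2) ((centralizer (l i : Set G)).inv_mem hc)
    refine h1.trans (le_o2 ((o2_le _).trans (centralizer_le_normalizer _)) (o2_isPGroup _) ?_)
    intro g hg
    exact norm_o2_of (norm_cent (A := normalizer (l i : Set G)) le_rfl hg)

theorem PQ_le_Q (i : Fin 2) : o2 (normalizer (l i : Set G)) ≤ TwoZ.QQ Z i := by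
  rw [D.PQ_eq]; exact inf_le_left

theorem Q_cent_TN (i : Fin 2) : TwoZ.QQ Z i ≤ centralizer (TwoZ.NN Z i : Set G) :=
  comm_symm (V_le_of ((D.Z_cent_S (i + 1)).trans (centralizer_le (D.Q_le_S i))) (norm_cent (le_normalizer_o2 _)))

theorem TN_le_cl (i : Fin 2) : TwoZ.NN Z i ≤ centralizer (l i : Set G) := by
  have h1 : l i ≤ TwoZ.QQ Z i := (D.lV i).trans (D.VQ i)
  exact comm_symm (h1.trans (D.Q_cent_TN i))

/-- **the axioms of `PT`** -/
theorem pp : PT.PP l V where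
  fus := by
    intro i k h
    obtain ⟨z, hz, hz1⟩ := D.exists_ne i
    obtain ⟨c, hc, m, -, h1, h2, h3, h4⟩ := D.fuse (j := i + 1) (g := k) (D.Zl i hz) hz1 (by
      rw [← h]; exact conj_mem (D.Zl i hz))
    refine ⟨m, fun j => ?_⟩
    rcases PT.eq_or i j with rfl | rfl
    · exact ⟨h1, h3⟩
    · exact ⟨h2, h4⟩
  ZU := D.lV
  UN := by
    intro i
    rw [D.NN_eq]
    have h1 : V (i + 1 + 1) ≤ TwoZ.NN Z (i + 1) := D.VN (i + 1)
    have e : V (i + 1 + 1) = V i := by rw [PT.add2]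
    rwa [e] at h1
  sq := fun i x hx => D.sqV i x (D.lV i hx)
  ne := fun i h => D.ne i (le_bot_iff.1 (h ▸ D.Zl i))
  N_le_Q := by
    intro i
    show PT.NN l (l i) ≤ o2 (normalizer (l i : Set G))
    rw [D.PQ_eq, D.NN_eq]
    exact le_inf (D.TN_le_Q i) (D.TN_le_cl i)
  Q_le_cent := by
    intro i
    rw [D.NN_eq]
    exact (D.PQ_le_Q i).trans (D.Q_cent_TN i)
  UQ := fun i x hx y hy => D.root i x hx y (D.PQ_le_S i hy) (D.PQ_le_cl i hy)
  nonLoc := fun U hU h0 h1 => D.nonloc U hU ((D.C_le_N 0).trans h0) ((D.C_le_N 1).trans h1)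

theorem tr : PT.Tr l V := by
  intro i k h
  obtain ⟨z, hz, hz1⟩ := D.exists_ne i
  obtain ⟨h1, h1c, h1V, h1Z⟩ := D.trV i (k * z * k⁻¹) (h (conj_mem (D.Zl i hz)))
  have h2 : MulAut.conj (h1 * k) • l i = l i := by
    refine D.fuse_eq (D.Zl i hz) hz1 ?_
    have e : (h1 * k) * z * (h1 * k)⁻¹ = h1 * (k * z * k⁻¹) * h1⁻¹ := by group
    rw [e]
    exact D.Zl i h1Z
  refine ⟨h1⁻¹, ?_, ?_⟩
  · rw [← conj_conj] at h2
    exact inv_conj h2
  · exact conj_eq_of_mem (inv_mem (centralizer_le_normalizer _ (centralizer_le (D.lV _) h1c)))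

theorem ti : PT.TIp l := by
  rintro _ _ ⟨i, k, rfl⟩ ⟨j, m, rfl⟩ hne
  by_contra hb
  obtain ⟨x, hx, hx1⟩ : ∃ x ∈ MulAut.conj k • l i ⊓ MulAut.conj m • l j, x ≠ 1 := by
    by_contra hc
    push Not at hc
    exact hb (eq_bot_iff.2 fun x hx => mem_bot.2 (hc x hx))
  apply hne
  have h1 := mem_conj.1 hx.1
  have h2 := mem_conj.1 hx.2
  have h3 : MulAut.conj (m⁻¹ * k) • l i = l j := by
    refine D.fuse_eq h1 (fun e => hx1 ?_) ?_
    · have e1 : x = k * (k⁻¹ * x * k) * k⁻¹ := by group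
      rw [e1, e]; group
    · have e1 : (m⁻¹ * k) * (k⁻¹ * x * k) * (m⁻¹ * k)⁻¹ = m⁻¹ * x * m := by group
      rw [e1]; exact h2
  rw [← h3, conj_conj, mul_inv_cancel_left]

theorem pts : PT.Pts l V := by
  intro i x hx hx1
  obtain ⟨h, -, hV, hZ⟩ := D.trV i x hx
  refine ⟨h⁻¹, ?_, ?_⟩
  · have h1 : MulAut.conj h⁻¹ • V i = V i := conj_eq_of_mem (inv_mem hV)
    rw [← h1]
    exact conj_le_iff.2 (D.lV i)
  · rw [mem_conj, inv_inv]
    exact D.Zl i hZ

theorem eab (i : Fin 2) : IsElementaryAbelian 2 (V i) :=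
  NO3S.EThree.ExactA.eab_iff.2 ⟨TwoS.comm_of_sq (D.sqV i), D.sqV i⟩

theorem rtU : PT.RtU l V := by
  intro i
  refine ⟨fun y hy v hv hv1 h => ?_, D.cardV i, fun h => ?_⟩
  · exact D.reg i y (D.PQ_le_S i hy) (D.PQ_le_cl i hy) v hv hv1 h
  · have h1 := card_le_of_le h
    have h2 : 1 < Nat.card (l i) := by
      rw [Subgroup.one_lt_card_iff_ne_bot]
      exact fun e => D.ne i (le_bot_iff.1 (e ▸ D.Zl i))
    rw [D.cardV i] at h1
    nlinarith

/-- `W_i` and `X_i` -/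
theorem ln_le_W {i : Fin 2} {x : Subgroup G} (h : PT.LnOn l V (l i) x) :
    x ≤ TwoZ.WW V Z i := by
  obtain ⟨c, hc, rfl⟩ := D.lnOn_iff.1 h
  exact Z_le_V (D.cl_le i hc)

theorem W_le_Q (i : Fin 2) : TwoZ.WW V Z i ≤ TwoZ.QQ Z i := V_le_of (D.VQ i) (le_normalizer_o2 _)

theorem W_comm (i : Fin 2) : TwoZ.WW V Z i ≤ centralizer (TwoZ.WW V Z i : Set G) := by
  refine V_le fun c hc => comm_symm (V_le fun d hd => ?_)
  have h1 := D.VC i (c⁻¹ * d) (mul_mem (inv_mem hc) hd)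
  have h2 : MulAut.conj c • (MulAut.conj (c⁻¹ * d) • V i) ≤ MulAut.conj c • centralizer (V i : Set G) :=
    conj_le_iff.2 h1
  rw [conj_conj, mul_inv_cancel_left, NoFF.ThmJFam.conj_cent] at h2
  exact h2

theorem W_sq (i : Fin 2) : ∀ x ∈ TwoZ.WW V Z i, x ^ 2 = 1 := sq_V (D.sqV i) (D.W_comm i)

theorem TN_comm (i : Fin 2) : TwoZ.NN Z i ≤ centralizer (TwoZ.NN Z i : Set G) := (D.TN_le_Q i).trans (D.Q_cent_TN i)

theorem TN_sq (i : Fin 2) : ∀ x ∈ TwoZ.NN Z i, x ^ 2 = 1 :=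
  sq_V (fun x hx => D.sqV _ x (D.ZV _ hx)) (D.TN_comm i)

theorem XW_le (i : Fin 2) : PT.XW l V (l i) ≤ TwoZ.NN Z i ⊔ TwoZ.WW V Z i := by
  unfold PT.XW
  rw [D.NN_eq]
  exact sup_le_sup_left (iSup_le fun x => D.ln_le_W x.2) _

/-- `X_i = ⟨lines on l i⟩ N_i` is elementary abelian -/
theorem xw_eab (i : Fin 2) : IsElementaryAbelian 2 (PT.XW l V (l i)) := by
  have hN : IsElementaryAbelian 2 (TwoZ.NN Z i) := NO3S.EThree.ExactA.eab_iff.2 ⟨D.TN_comm i, D.TN_sq i⟩
  have hW : IsElementaryAbelian 2 (TwoZ.WW V Z i) := NO3S.EThree.ExactA.eab_iff.2 ⟨D.W_comm i, D.W_sq i⟩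
  have hNW : TwoZ.NN Z i ≤ centralizer (TwoZ.WW V Z i : Set G) :=
    comm_symm ((D.W_le_Q i).trans (D.Q_cent_TN i))
  exact NO3S.EThree.ExactA.eab_mono (NO3S.EThree.ExactA.eab_sup hN hW hNW) (D.XW_le i)

theorem V_le_PQ (i : Fin 2) : V i ≤ o2 (normalizer (l i : Set G)) := by
  rw [D.PQ_eq]
  exact le_inf (D.VQ i) (comm_symm ((D.lV i).trans (TwoS.comm_of_sq (D.sqV i))))

theorem xw_le (i : Fin 2) : PT.XW l V (l i) ≤ OM.PG.QQ (l i) := by
  refine sup_le (D.pp.N_le_Q i) (iSup_le fun x => ?_)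
  obtain ⟨c, hc, hx⟩ := D.lnOn_iff.1 x.2
  rw [hx]
  have h1 : MulAut.conj c • o2 (normalizer (l i : Set G)) = o2 (normalizer (l i : Set G)) :=
    conj_eq_of_mem (le_normalizer_o2 _ (centralizer_le_normalizer _ hc))
  show MulAut.conj c • V i ≤ o2 (normalizer (l i : Set G))
  rw [← h1]
  exact conj_le_iff.2 (D.V_le_PQ i)

/-- **(NO)** -/
theorem noP (hML : ML.Final.MLK.{u, u}) (hK : ∀ i, IsKGroup (CC Z i)) : PT.NoP l := by
  rintro _ _ ⟨i, k, rfl, rfl⟩ B hB hBQ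
  have hB' : MulAut.conj k⁻¹ • B ≤ OM.PG.QQ (l i) := by
    have h1 := conj_le_iff (g := k⁻¹) |>.2 hBQ
    rwa [OM.PG.QQ_conj, OM.PG.inv_conj_conj] at h1
  have hB2 : ∀ b ∈ MulAut.conj k⁻¹ • B, b ^ 2 = 1 := sq_conj fun b hb => hB.2 b hb
  have key : OM.PG.Peel.Nob (PT.NN l (l (i + 1))) (MulAut.conj k⁻¹ • B) := by
    unfold OM.PG.Peel.Nob
    rw [D.NN_eq]
    have e : Z (i + 1 + 1) = Z i := by rw [PT.add2]
    have hN : TwoZ.NN Z (i + 1) = NoFF.Basic.V (Z i) (CC Z (i + 1)) := by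
      show NoFF.Basic.V (Z (i + 1 + 1)) (CC Z (i + 1)) = _
      rw [e]
    have hsq := D.TN_sq (i + 1)
    rw [hN] at hsq ⊢
    refine FlagNO.flag_no hML D.S2 (D.S_le_C (i + 1)) (syl_not_dvd (D.syl (D.S_le_C (i + 1))))
      (D.S_le_C i) (hK (i + 1)) hsq ?_ hB2
    -- `B ≤ O₂(C_G(Ω₁Z(S)))`
    refine (hB'.trans (D.PQ_le_Q i)).trans (le_o2 ?_ (o2_isPGroup _) ?_)
    · exact le_inf ((D.Q_le_S i).trans (D.S_le_C _)) ((D.Q_le_S i).trans (D.S_le_C _))
    · exact inf_le_right.trans (le_normalizer_o2 _)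
  have h1 := OM.PG.PeelQ.nob_conj key k
  rw [← PT.NN_conj, OM.PG.conj_inv_conj] at h1
  exact h1

/-- **(0.2)** -/
theorem fus2 : PT.Fus2 l := by
  rintro _ ⟨i, k, rfl⟩ x hx hx01
  have hc01 : l 1 ≤ normalizer (l 0 : Set G) :=
    (((D.lV 1).trans (comm_symm D.com)).trans (centralizer_le (D.lV 0))).trans (centralizer_le_normalizer _)
  obtain ⟨u, hu, v, hv, rfl⟩ := exists_mul_of_mem_sup hc01 hx01
  by_cases hu1 : u = 1
  · right; rw [hu1, one_mul]; exact hv
  by_cases hv1 : v = 1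
  · left; rw [hv1, mul_one]; exact hu
  exfalso
  obtain ⟨g0, g0c, g0V, g0l, g0Z⟩ := D.tor 0 u hu
  obtain ⟨g1, g1c, g1V, g1l, g1Z⟩ := D.tor 1 v hv
  set u' := g0 * u * g0⁻¹ with hu'
  set v' := g1 * v * g1⁻¹ with hv'
  -- `x' = (g0 g1) (u v) (g0 g1)⁻¹ = u' v'`
  have hg1u : g1 * u * g1⁻¹ = u := by
    have h1 : u * g1 = g1 * u := mem_centralizer_iff.1 g1c u (D.lV 0 hu)
    rw [← h1, mul_inv_cancel_right]
  have hg0v : g0 * v' * g0⁻¹ = v' := by
    have h1 : v' * g0 = g0 * v' := mem_centralizer_iff.1 g0c v' (D.ZV 1 g1Z)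
    rw [← h1, mul_inv_cancel_right]
  have e1 : (g0 * g1) * (u * v) * (g0 * g1)⁻¹ = u' * v' := by
    calc (g0 * g1) * (u * v) * (g0 * g1)⁻¹ = (g0 * (g1 * u * g1⁻¹) * g0⁻¹) * (g0 * (g1 * v * g1⁻¹) * g0⁻¹) := by group
      _ = u' * v' := by rw [hg1u, ← hv', hg0v]
  have hu'1 : u' ≠ 1 := fun e => hu1 (conj_eq_one_iff.1 e)
  have hv'1 : v' ≠ 1 := fun e => hv1 (conj_eq_one_iff.1 e)
  have hx1 : u * v ≠ 1 := by
    intro e
    have e2 : u = v⁻¹ := eq_inv_of_mul_eq_one_left e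
    exact hu1 (D.dis' (i := 0) (j := 1) (by decide) (D.lV 0 hu) (by rw [e2]; exact inv_mem (D.lV 1 hv)))
  -- `a = k⁻¹ x k ∈ l i`, its torus conjugate lies in `Z i`
  have ha := mem_conj.1 hx
  obtain ⟨h, hc, hV, hl, hZ⟩ := D.tor i _ ha
  set y := h * (k⁻¹ * (u * v) * k) * h⁻¹ with hy
  have e3 : (g0 * g1 * k * h⁻¹) * y * (g0 * g1 * k * h⁻¹)⁻¹ = u' * v' := by
    rw [← e1, hy]; group
  have hy1 : y ≠ 1 := by
    intro e
    apply hx1
    have e4 : u * v = k * (k⁻¹ * (u * v) * k) * k⁻¹ := by group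
    rw [e4, conj_eq_one_iff.1 e]; group
  obtain ⟨n, hn, hn1⟩ := All.HOne.burnside S (D.Z_le_zc i hZ)
    (mul_mem (D.Z_le_zc 0 g0Z) (D.Z_le_zc 1 g1Z)) e3
  have hmem : ∃ j, u' * v' ∈ l j := by
    rcases D.nS n hn with h1 | h1
    · exact ⟨i, by rw [← hn1, ← (h1 i).1]; exact conj_mem (D.Zl i hZ)⟩
    · exact ⟨i + 1, by rw [← hn1, ← (h1 i).1]; exact conj_mem (D.Zl i hZ)⟩
  obtain ⟨j, hj⟩ := hmem
  rcases PT.eq_or 0 j with rfl | rfl
  · have h2 : v' ∈ V 0 := by
      have := mul_mem (inv_mem (D.ZV 0 g0Z)) (D.lV 0 hj)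
      rwa [inv_mul_cancel_left] at this
    exact hv'1 (D.dis' (i := 0) (j := 1) (by decide) h2 (D.ZV 1 g1Z))
  · have h2 : u' ∈ V 1 := by
      have := mul_mem (D.lV _ hj) (inv_mem (D.ZV 1 g1Z))
      rwa [mul_inv_cancel_right] at this
    exact hu'1 (D.dis' (i := 0) (j := 1) (by decide) (D.ZV 0 g0Z) h2)

/-- **What is left for two natural blocks with field automorphisms**: (G1), (4) and (5)-(7) for the lines. -/
theorem false_of (hML : ML.Final.MLK.{u, u}) (hK : ∀ i, IsKGroup (CC Z i)) (hG : PT.ThmC2 l (PT.XW l V))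
    (hI : PT.NN l (l 0) ⊓ PT.NN l (l 1) ≤ l 0 ⊔ l 1)
    (hPC : ∀ i, PT.XW l V (l i) ≤ centralizer (PT.NN l (l (i + 1)) : Set G)) : False :=
  PT.false_of_pc D.pp D.tr D.ti D.pts D.eab D.rtU D.xw_eab D.xw_le (D.noP hML hK) hG hI D.fus2 hPC

end LFr

end Cfsg.Agent.Omega.KL.TwoZ.Line

end

-- merged: Cfsg.Agent.Mrg.Omega.NOThreeL.RRed.InstLDef
section

section


/-!
# NO-3L, box R: two natural blocks with field automorphisms (definitions; helper19)

* `LD S V W l` : the per-type facts about the block `V`, the other block `W` and the line `l ≤ V`;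
* `LD.flg` : `S` acts on `l` as in LEMMA LINES;
* `NatF S V l` : the data of the instance of 853's frame `KL.TwoZ.Line.LFr`;
* `NatF.perm` : `C_G(Z) ≤ N(l 0 l 1)` ⟹ `C_G(Z) ≤ (C_G(Z) ∩ C(l 0 l 1)) S`.
-/

set_option autoImplicit false
set_option linter.unusedSectionVars false

namespace Cfsg.Agent.Omega.NOThreeL.RRed.InstL

open Subgroup Cfsg Cfsg.Agent.ZN Cfsg.Agent.Omega.MinPar Cfsg.Agent.Omega.Frame Cfsg.Agent.Omega.FrameNOFF
open Cfsg.Agent.Omega.Node.NO3L Cfsg.Agent.Omega.NOThreeL.Basic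
open Cfsg.Agent.Omega.NOThreeL.Merge (MZ)
open Cfsg.Agent.Omega.NOThreeL.RTree (RB)
open Cfsg.Agent.ZN.ChoiceSit (Syl)
open Cfsg.Agent.MinSimple.MinParabolic (IsMinPar)
open Cfsg.Agent.Omega.NOThreeL.RRed.InstZ (ZZ Spl GF)
open Cfsg.Agent.Omega.NOThreeL.RShape.Lines (FLG le_sup_lines)
open scoped Pointwise

universe u

variable {G : Type u} [Group G]

/-- **the facts about one natural block `V`** (`W` the other block, `l` the line) -/
structure LD (S V W l : Subgroup G) : Prop where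
  lV : l ≤ V
  Sl : S ≤ normalizer (l : Set G)
  /-- the `S`-fixed vectors lie in the line -/
  fix : ∀ v ∈ V, v ∈ centralizer (S : Set G) → v ∈ l
  cyc : ∃ t ∈ S, ∀ s ∈ S, ∃ n : ℤ, ∀ v ∈ l, s * v * s⁻¹ = t ^ n * v * (t ^ n)⁻¹
  trV : ∀ v ∈ V, ∃ h ∈ centralizer (W : Set G), h ∈ normalizer (V : Set G) ∧ h * v * h⁻¹ ∈ V ⊓ zc S
  tor : ∀ v ∈ l, ∃ h ∈ centralizer (W : Set G), h ∈ normalizer (V : Set G) ∧
    h ∈ normalizer (l : Set G) ∧ h * v * h⁻¹ ∈ V ⊓ zc S
  root : ∀ x ∈ V, ∀ y ∈ S, y ∈ centralizer (l : Set G) → x * y * x⁻¹ * y⁻¹ ∈ l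
  reg : ∀ y ∈ S, y ∈ centralizer (l : Set G) → ∀ v ∈ V, v ∉ l → y * v = v * y → y ∈ centralizer (V : Set G)
  cardV : Nat.card V = Nat.card l * Nat.card l

/-- a 2-group which acts on `l` as a cyclic group -/
theorem flg_of_cyc [Finite G] {S l : Subgroup G} (hS : S ≤ normalizer (l : Set G))
    (cyc : ∃ t ∈ S, ∀ s ∈ S, ∃ n : ℤ, ∀ v ∈ l, s * v * s⁻¹ = t ^ n * v * (t ^ n)⁻¹) : FLG S l := by
  obtain ⟨t, ht, hc⟩ := cyc
  have inv : ∀ g ∈ S, ∀ y ∈ l, g * y * g⁻¹ ∈ l := fun g hg y hy => (mem_normalizer_iff.1 (hS hg) y).1 hy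
  -- the automorphism induced by `t`
  let τ : MulAut l := RShape.Lines.rho S l hS ⟨t, ht⟩
  have hτ : ∀ (n : ℤ) (y : l), (((τ ^ n : MulAut l) y : l) : G) = t ^ n * y * (t ^ n)⁻¹ := by
    intro n y
    have e : (τ ^ n : MulAut l) = RShape.Lines.rho S l hS (⟨t, ht⟩ ^ n) := (map_zpow (RShape.Lines.rho S l hS) _ _).symm
    rw [e, RShape.Lines.rho_apply]
    simp
  refine ⟨inv, fun g hg h hh y hy => ?_, fun g hg h hh hg2 hh2 hg1 hh1 y hy => ?_⟩
  · obtain ⟨n, hn⟩ := hc g hg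
    obtain ⟨m, hm⟩ := hc h hh
    rw [hn _ (inv h hh y hy), hm y hy, hm _ (inv g hg y hy), hn y hy]
    have e1 : t ^ n * (t ^ m * y * (t ^ m)⁻¹) * (t ^ n)⁻¹ = (t ^ n * t ^ m) * y * (t ^ n * t ^ m)⁻¹ := by group
    have e2 : t ^ m * (t ^ n * y * (t ^ n)⁻¹) * (t ^ m)⁻¹ = (t ^ m * t ^ n) * y * (t ^ m * t ^ n)⁻¹ := by group
    rw [e1, e2, ← zpow_add, ← zpow_add, add_comm]
  · obtain ⟨n, hn⟩ := hc g hg
    obtain ⟨m, hm⟩ := hc h hh
    -- `τ ^ n`, `τ ^ m` are involutions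
    have key : ∀ (k : ℤ) (x : G), x ∈ S → (∀ v ∈ l, x * v * x⁻¹ = t ^ k * v * (t ^ k)⁻¹) →
        (∀ y ∈ l, x * (x * y * x⁻¹) * x⁻¹ = y) → (∃ y ∈ l, x * y * x⁻¹ ≠ y) →
        τ ^ (2 * k) = 1 ∧ τ ^ k ≠ 1 := by
      intro k x hx hk h2 h1
      constructor
      · ext y
        rw [two_mul, zpow_add]
        have e1 := hτ k y
        have e2 := hτ k ((τ ^ k : MulAut l) y)
        have e3 : (((τ ^ k * τ ^ k : MulAut l) y : l) : G) = t ^ k * ((τ ^ k : MulAut l) y : l) * (t ^ k)⁻¹ := e2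
        rw [e3, e1, ← hk y y.2, ← hk _ (inv x hx y y.2), h2 y y.2]
        rfl
      · intro hc1
        obtain ⟨y, hy, hne⟩ := h1
        apply hne
        have e1 := hτ k ⟨y, hy⟩
        rw [hc1] at e1
        rw [hk y hy]
        exact e1.symm
    obtain ⟨a1, a2⟩ := key n g hg hn hg2 hg1
    obtain ⟨b1, b2⟩ := key m h hh hm hh2 hh1
    have d1 := orderOf_dvd_iff_zpow_eq_one.2 a1
    have d2 := orderOf_dvd_iff_zpow_eq_one.2 b1
    have d3 : ¬ (orderOf τ : ℤ) ∣ n := fun hc1 => a2 (orderOf_dvd_iff_zpow_eq_one.1 hc1)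
    have d4 : ¬ (orderOf τ : ℤ) ∣ m := fun hc1 => b2 (orderOf_dvd_iff_zpow_eq_one.1 hc1)
    obtain ⟨a, ha⟩ := d1
    obtain ⟨b, hb⟩ := d2
    have oa : Odd a := by
      by_contra hne
      rw [Int.not_odd_iff_even] at hne
      obtain ⟨c, hc'⟩ := hne
      apply d3
      refine ⟨c, ?_⟩
      have : 2 * n = 2 * (orderOf τ * c) := by rw [ha, hc']; ring
      linarith
    have ob : Odd b := by
      by_contra hne
      rw [Int.not_odd_iff_even] at hne
      obtain ⟨c, hc'⟩ := hne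
      apply d4
      refine ⟨c, ?_⟩
      have : 2 * m = 2 * (orderOf τ * c) := by rw [hb, hc']; ring
      linarith
    have d5 : (orderOf τ : ℤ) ∣ n - m := by
      obtain ⟨c, hc'⟩ := oa.sub_odd ob
      refine ⟨c, ?_⟩
      have : 2 * (n - m) = 2 * (orderOf τ * c) := by
        calc 2 * (n - m) = orderOf τ * a - orderOf τ * b := by rw [← ha, ← hb]; ring
          _ = orderOf τ * (a - b) := by ring
          _ = 2 * (orderOf τ * c) := by rw [hc']; ring
      linarith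
    have d6 : τ ^ n = τ ^ m := by
      have h1 := orderOf_dvd_iff_zpow_eq_one.1 d5
      rw [zpow_sub, mul_inv_eq_one] at h1
      exact h1
    have e1 := hτ n ⟨y, hy⟩
    have e2 := hτ m ⟨y, hy⟩
    rw [d6] at e1
    rw [hn y hy, hm y hy]
    exact e1.symm.trans e2

theorem LD.flg [Finite G] {S V W l : Subgroup G} (h : LD S V W l) : FLG S l := flg_of_cyc h.Sl h.cyc

end Cfsg.Agent.Omega.NOThreeL.RRed.InstL

end

section


/-!
# NO-3L, box R: the instance of 853's frame `KL.TwoZ.Line.LFr` (two natural blocks with field automorphisms; helper19)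

* `NatF S V l` : the data; **`NatF.lfr`** : `LFr S V (ZZ S V) l`.
-/

set_option autoImplicit false
set_option linter.unusedSectionVars false

namespace Cfsg.Agent.Omega.NOThreeL.RRed.InstL

open Subgroup Cfsg Cfsg.Agent.ZN Cfsg.Agent.Omega.MinPar Cfsg.Agent.Omega.Frame Cfsg.Agent.Omega.FrameNOFF
open Cfsg.Agent.Omega.Node.NO3L Cfsg.Agent.Omega.NOThreeL.Basic
open Cfsg.Agent.Omega.NOThreeL.Merge (MZ)
open Cfsg.Agent.Omega.NOThreeL.RTree (RB)
open Cfsg.Agent.ZN.ChoiceSit (Syl)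
open Cfsg.Agent.MinSimple.MinParabolic (IsMinPar)
open Cfsg.Agent.Omega.NOThreeL.RRed.InstZ (ZZ Spl GF)
open Cfsg.Agent.Omega.NOThreeL.RShape.Lines (FLG le_sup_lines)
open Cfsg.Agent.Omega.OM.KTwo (exists_mul_of_mem_sup)
open scoped Pointwise

universe u

variable {G : Type u} [Group G]

/-- **two natural blocks with field automorphisms**: the data of the instance -/
structure NatF [Finite G] (S : Sylow 2 G) (V l : Fin 2 → Subgroup G) : Prop where
  nM : ∀ i, MZ (S : Subgroup G) ≤ normalizer (V i : Set G)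
  nS : ∀ n ∈ normalizer ((S : Subgroup G) : Set G), (∀ j, MulAut.conj n • l j = l j ∧ MulAut.conj n • V j = V j) ∨
    ∀ j, MulAut.conj n • l j = l (j + 1) ∧ MulAut.conj n • V j = V (j + 1)
  ld : ∀ i, LD (S : Subgroup G) (V i) (V (i + 1)) (l i)
  act : ∀ R, IsParS (S : Subgroup G) R → (∀ k, R ≤ normalizer (l k : Set G)) ∨
    ∃ i, (∀ z ∈ ZZ (S : Subgroup G) V i, z ≠ 1 → ¬ R ≤ centralizer ({z} : Set G)) ∧
      ∀ g ∈ R, Odd (orderOf g) → g ∈ centralizer (V (i + 1) : Set G)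
  gal : ∀ R, IsParS (S : Subgroup G) R → (∀ k, R ≤ normalizer (l k : Set G)) → ∀ i,
    ∀ z ∈ ZZ (S : Subgroup G) V i, z ≠ 1 → R ≤ centralizer ({z} : Set G) →
      R ≤ centralizer (ZZ (S : Subgroup G) V i : Set G)

namespace NatF

variable [Finite G] {S : Sylow 2 G} {V l : Fin 2 → Subgroup G} (N : NatF S V l)
include N

theorem Sl (i : Fin 2) : (S : Subgroup G) ≤ normalizer (l i : Set G) := (N.ld i).Sl

theorem comm_l (s : Spl S V) (h : RB S) {i j : Fin 2} : l i ≤ centralizer (l j : Set G) :=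
  (N.ld i).lV.trans ((s.comm h i j).trans (centralizer_le (N.ld j).lV))

/-- `C_G(Z)` normalises both lines as soon as it normalises their product (LEMMA LINES). -/
theorem perm (s : Spl S V) (h : RB S)
    (zj : centralizer (zc (S : Subgroup G) : Set G) ≤ normalizer ((l 0 ⊔ l 1 : Subgroup G) : Set G)) (i : Fin 2) :
    centralizer (zc (S : Subgroup G) : Set G) ≤ normalizer (l i : Set G) := by
  set C : Subgroup G := centralizer (zc (S : Subgroup G) : Set G) with hC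
  have hSC : (S : Subgroup G) ≤ C := MinSimple.VModule.le_centralizer_zc _
  have h0V : ∀ k, l k ≤ V k := fun k => (N.ld k).lV
  have hVS := s.V_le_S h
  have hY2 : IsPGroup 2 ↥(l 0 ⊔ l 1) := S.isPGroup'.to_le (sup_le ((h0V 0).trans (hVS 0)) ((h0V 1).trans (hVS 1)))
  have hYc : ∀ x ∈ l 0 ⊔ l 1, ∀ y ∈ l 0 ⊔ l 1, x * y = y * x := by
    have h1 : (l 0 ⊔ l 1 : Subgroup G) ≤ centralizer ((l 0 ⊔ l 1 : Subgroup G) : Set G) :=
      sup_le (NoFF.Basic.comm_symm (sup_le (N.comm_l s h) (N.comm_l s h)))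
        (NoFF.Basic.comm_symm (sup_le (N.comm_l s h) (N.comm_l s h)))
    exact fun x hx y hy => (mem_centralizer_iff.1 (h1 hy) x hx)
  have hfix : ∀ y ∈ l 0 ⊔ l 1, (∀ t ∈ (S : Subgroup G), t * y * t⁻¹ = y) → ∀ c ∈ C, c * y * c⁻¹ = y := by
    intro y hy hyS c hc
    have hyZ : y ∈ zc (S : Subgroup G) := by
      refine mem_zc.2 ⟨(sup_le ((h0V 0).trans (hVS 0)) ((h0V 1).trans (hVS 1))) hy, fun t ht => ?_, ?_⟩
      · have h1 := hyS t ht
        calc t * y = (t * y * t⁻¹) * t := by group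
          _ = y * t := by rw [h1]
      · have h1 : y ∈ zl (S : Subgroup G) (MZ (S : Subgroup G)) := by
          rw [← s.sup]
          exact sup_le_sup (h0V 0) (h0V 1) hy
        exact Star.zl_sq h.ctx.char2 h.data.noff y h1
    have h2 := mem_centralizer_iff.1 hc y hyZ
    rw [← h2, mul_inv_cancel_right]
  have hdis : l 0 ⊓ l 1 = ⊥ := by
    rw [eq_bot_iff, ← s.dis]
    exact inf_le_inf (h0V 0) (h0V 1)
  have hSylC : Syl (S : Subgroup G) C := ⟨hSC, S.isPGroup', fun Q _ hQ2 hQ => S.is_maximal' hQ2 hQ⟩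
  have h1 := le_sup_lines hSylC hY2 hYc zj rfl hdis (N.ld 0).flg (N.ld 1).flg hfix
  refine h1.trans (sup_le ?_ (N.Sl i))
  refine (inf_le_right.trans (centralizer_le ?_)).trans (centralizer_le_normalizer _)
  have h2 : l i ≤ l 0 ⊔ l 1 := by
    rcases Fin.exists_fin_two.1 ⟨i, rfl⟩ with e | e
    · rw [e]; exact le_sup_left
    · rw [e]; exact le_sup_right
  exact h2

omit N in
/-- a local mover is in `P*(S)` -/
theorem parS_of {R : Subgroup G} (hR : IsMinPar (S : Subgroup G) R) (ho : o2 R ≠ ⊥)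
    (hm : ¬ R ≤ centralizer (zc (S : Subgroup G) : Set G)) : IsParS (S : Subgroup G) R := by
  by_contra h3
  exact hm (par_le_CZ S ⟨hR, ho⟩ h3)

omit N in
theorem o2_ne_of {z : G} (hz : z ∈ zc (S : Subgroup G)) (hz1 : z ≠ 1) {R : Subgroup G}
    (hSR : (S : Subgroup G) ≤ R) (hRz : R ≤ centralizer ({z} : Set G)) : o2 R ≠ ⊥ := by
  have h0 : zpowers z ≤ zc (S : Subgroup G) := by rw [zpowers_le]; exact hz
  have h1 : zpowers z ≤ o2 R := by
    refine MinSimple.VModule.le_o2 ((h0.trans (zc_le _)).trans hSR) (S.isPGroup'.to_le (h0.trans (zc_le _))) ?_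
    refine hRz.trans (le_trans ?_ (centralizer_le_normalizer _))
    intro x hx
    rw [mem_centralizer_singleton_iff] at hx
    rw [mem_centralizer_iff]
    rintro _ ⟨k, rfl⟩
    exact ((show Commute x z from hx).zpow_right k).symm
  intro hc
  rw [hc, le_bot_iff, zpowers_eq_bot] at h1
  exact hz1 h1

theorem ZZ_le (i : Fin 2) : ZZ (S : Subgroup G) V i ≤ l i := fun v hv =>
  (N.ld i).fix v hv.1 (MinSimple.VModule.zc_le_centralizer _ hv.2)

/-- **the frame of two natural blocks with field automorphisms** -/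
theorem lfr (h : RB S) (s : Spl S V)
    (zj : centralizer (zc (S : Subgroup G) : Set G) ≤ normalizer ((l 0 ⊔ l 1 : Subgroup G) : Set G))
    (hn : NonLoc (centralizer (ZZ (S : Subgroup G) V 0 : Set G)) (centralizer (ZZ (S : Subgroup G) V 1 : Set G))) :
    KL.TwoZ.Line.LFr S V (ZZ (S : Subgroup G) V) l where
  char2 := (s.gf h).char2
  sqV := (s.gf h).sqV
  Zl := N.ZZ_le
  lV i := (N.ld i).lV
  ne := (s.gf h).ne
  zT := (s.gf h).zT
  lZ i v hv hvS := by
    refine mem_inf.2 ⟨(N.ld i).lV hv, mem_zc.2 ⟨s.V_le_S h i ((N.ld i).lV hv), fun t ht => ?_, ?_⟩⟩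
    · have h1 := mem_centralizer_iff.1 hvS t ht
      exact h1
    · exact s.sq h i v ((N.ld i).lV hv)
  com := (s.gf h).comm 0 1
  dis := s.dis
  nV := s.nS
  nS := N.nS
  perm := N.perm s h zj
  cyc i := (N.ld i).cyc
  uni R hR ho hm := by
    have h1 := parS_of hR ho hm
    refine ⟨fun k => (NOThreeL.Merge.le_MZ h1).trans (N.nM k), N.act R h1⟩
  gal R hR hl i z hz hz1 hRz := by
    by_cases hm : R ≤ centralizer (zc (S : Subgroup G) : Set G)
    · exact hm.trans (centralizer_le inf_le_right)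
    · exact N.gal R (parS_of hR (o2_ne_of hz.2 hz1 hR.le hRz) hm) hl i z hz hz1 hRz
  trV i := (N.ld i).trV
  tor i := (N.ld i).tor
  VQ := (s.gf h).VQ
  VC := (s.gf h).VC
  VN := (s.gf h).VN
  root i := (N.ld i).root
  reg i := (N.ld i).reg
  cardV i := (N.ld i).cardV
  nonloc := hn

end NatF

end Cfsg.Agent.Omega.NOThreeL.RRed.InstL

end

end

-- merged: Cfsg.Agent.Mrg.Omega.KL.TwoZ.LineW
section

/-!
# Two natural blocks WITH field automorphisms: `LFr` gives 401's points-level frame `PTW` (helper918 #24444 (C))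

* `LFrW` : `LFr`, the tori, `C_O(B) = l 0 l 1` for `B = C_S(l 0 l 1)`;
* `LFrW.ptw` : the frame `PTW l V (C_S(l 0 l 1))` from (G1) and (4);
* `bf_of` : the field `bf` from `Ω₁Z(J(O)) = l 0 l 1`.
-/

set_option autoImplicit false
set_option linter.unusedSectionVars false
set_option linter.unusedVariables false

namespace Cfsg.Agent.Omega.KL.TwoZ.Line

open Subgroup Cfsg Cfsg.Agent.Omega.MinPar
open Cfsg.Agent.ZN (o2 zc)
open Cfsg.Agent.Omega.NoFF.Basic (conj_conj mem_conj conj_le_iff comm_symm comm_mono Z_le_V V_le)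
open Cfsg.Agent.Omega.NOThreeL.Pair (conj_eq_of_mem conj_le_normalizer)
open Cfsg.Agent.ZN.ChoiceSit (Syl exists_syl syl_conj o2_le_syl syl_not_dvd)
open Cfsg.Agent.MinSimple.VModule (mem_zc zc_le le_o2 o2_isPGroup o2_le zc_le_centralizer le_centralizer_zc
  le_normalizer_o2)
open Cfsg.Agent.Omega.KL.TwoS (Mx)
open Cfsg.Agent.Omega.KL.TwoZ (CC)
open Cfsg.Agent.Omega.OM
open scoped Pointwise

universe u

variable {G : Type u} [Group G]

/-- `C_S(l 0 l 1)` -/
def BB [Finite G] (S : Sylow 2 G) (l : Fin 2 → Subgroup G) : Subgroup G :=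
  (S : Subgroup G) ⊓ (centralizer (l 0 : Set G) ⊓ centralizer (l 1 : Set G))

theorem BB_le [Finite G] (S : Sylow 2 G) (l : Fin 2 → Subgroup G) (i : Fin 2) : BB S l ≤ centralizer (l i : Set G) := by
  fin_cases i
  · exact inf_le_right.trans inf_le_left
  · exact inf_le_right.trans inf_le_right

/-- **two natural blocks with field automorphisms, complete data** -/
structure LFrW [Finite G] (S : Sylow 2 G) (V Z l : Fin 2 → Subgroup G) : Prop extends LFr S V Z l where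
  /-- the torus on `l i` -/
  torZ : ∀ i, ∀ x ∈ l i, x ≠ 1 → ∀ y ∈ l i, y ≠ 1 → ∃ h : G, h ∈ centralizer (V (i + 1) : Set G) ∧
    MulAut.conj h • l i = l i ∧ MulAut.conj h • V i = V i ∧ h * x * h⁻¹ = y
  /-- the torus on `V i / l i` -/
  torU : ∀ i, ∀ x ∈ V i, x ∉ l i → ∀ y ∈ V i, y ∉ l i → ∃ h : G, h ∈ centralizer (V (i + 1) : Set G) ∧
    MulAut.conj h • l i = l i ∧ MulAut.conj h • V i = V i ∧ y⁻¹ * (h * x * h⁻¹) ∈ l i
  /-- `C_O(C_S(l 0 l 1))` has `Ω₁ = l 0 l 1` -/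
  bf : ∀ n ∈ o2 (centralizer (zc (S : Subgroup G) : Set G)), n ^ 2 = 1 → (∀ b ∈ BB S l, b * n = n * b) →
    n ∈ l 0 ⊔ l 1

/-- **`bf` from `Ω₁Z(J(O)) = l 0 l 1`** (371's LEMMA ZJ): members of `AA(O)` centralise the lines and
`{n ∈ O | n² = 1, [n, AA(O)] = 1} ≤ l 0 l 1`. -/
theorem bf_of [Finite G] {S : Sylow 2 G} {l : Fin 2 → Subgroup G}
    (aa : ∀ A, Mx (o2 (centralizer (zc (S : Subgroup G) : Set G))) A → ∀ i, A ≤ centralizer (l i : Set G))
    (zj : ∀ n ∈ o2 (centralizer (zc (S : Subgroup G) : Set G)), n ^ 2 = 1 →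
      (∀ A, Mx (o2 (centralizer (zc (S : Subgroup G) : Set G))) A → ∀ a ∈ A, a * n = n * a) → n ∈ l 0 ⊔ l 1) :
    ∀ n ∈ o2 (centralizer (zc (S : Subgroup G) : Set G)), n ^ 2 = 1 → (∀ b ∈ BB S l, b * n = n * b) →
      n ∈ l 0 ⊔ l 1 := by
  intro n hn hn2 h
  refine zj n hn hn2 fun A hA a ha => h a ⟨?_, aa A hA 0 ha, aa A hA 1 ha⟩
  have hSC : (S : Subgroup G) ≤ centralizer (zc (S : Subgroup G) : Set G) := le_centralizer_zc _
  have hS : Syl (S : Subgroup G) (centralizer (zc (S : Subgroup G) : Set G)) :=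
    ⟨hSC, S.2, fun R _ hR2 hSR => S.3 hR2 hSR⟩
  exact o2_le_syl hS (hA.le ha)

namespace LFr

variable [Finite G] {S : Sylow 2 G} {V Z l : Fin 2 → Subgroup G} (D : LFr S V Z l)
include D

theorem tr4 (i : Fin 2) (k : G) (h : MulAut.conj k • l i ≤ V i) : ∃ m : G, MulAut.conj m • l i = MulAut.conj k • l i ∧
    MulAut.conj m • l (i + 1) = l (i + 1) ∧ MulAut.conj m • V i = V i ∧ MulAut.conj m • V (i + 1) = V (i + 1) := by
  obtain ⟨z, hz, hz1⟩ := D.exists_ne i
  obtain ⟨h1, h1c, h1V, h1Z⟩ := D.trV i (k * z * k⁻¹) (h (conj_mem (D.Zl i hz)))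
  have h2 : MulAut.conj (h1 * k) • l i = l i := by
    refine D.fuse_eq (D.Zl i hz) hz1 ?_
    have e : (h1 * k) * z * (h1 * k)⁻¹ = h1 * (k * z * k⁻¹) * h1⁻¹ := by group
    rw [e]
    exact D.Zl i h1Z
  refine ⟨h1⁻¹, ?_, ?_, ?_, ?_⟩
  · rw [← conj_conj] at h2
    exact inv_conj h2
  · exact conj_eq_of_mem (inv_mem (centralizer_le_normalizer _ (centralizer_le (D.lV _) h1c)))
  · exact conj_eq_of_mem (inv_mem h1V)
  · exact conj_eq_of_mem (inv_mem (centralizer_le_normalizer _ h1c))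

theorem Q_le_O (i : Fin 2) : TwoZ.QQ Z i ≤ o2 (centralizer (zc (S : Subgroup G) : Set G)) := by
  refine le_o2 ((D.Q_le_S i).trans (le_centralizer_zc _)) (o2_isPGroup _) ?_
  exact (centralizer_le (D.Z_le_zc i)).trans (le_normalizer_o2 _)

/-- `O₂(N_G(l i) / C(N_i)) = 1` -/
theorem core (i : Fin 2) : PT.Pc.CoreP l i := by
  obtain ⟨z, hz, hz1⟩ := D.exists_ne (i + 1)
  refine TV.coreP_of (T := (S : Subgroup G)) (z := Z (i + 1)) (D.syl (D.Sl i)) ?_ (D.Z_cent_S _) ?_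
  · rw [D.NN_eq]
    exact OM.KTwo.le_V _ _
  · intro E hE hN
    rw [D.NN_eq]
    exact V_le fun c hc => by
      have h1 : MulAut.conj c • E = E := conj_eq_of_mem (hN (D.C_le_N i hc))
      rw [← h1]
      exact conj_le_iff.2 hE

end LFr

namespace LFrW

variable [Finite G] {S : Sylow 2 G} {V Z l : Fin 2 → Subgroup G} (D : LFrW S V Z l)
include D

/-- **the points-level frame for the lines** -/
theorem ptw (hML : ML.Final.MLK.{u, u}) (hK : ∀ i, IsKGroup (CC Z i)) (g1 : PT.ThmC2 l (PT.XW l V))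
    (inter : PT.NN l (l 0) ⊓ PT.NN l (l 1) ≤ l 0 ⊔ l 1) : PT.PTW l V (BB S l) where
  toPP := D.pp
  ti := D.ti
  fus2 := D.fus2
  sqU := D.eab
  tr := D.tr4
  pts := D.pts
  rt := D.rtU
  ab := D.xw_eab
  le := D.xw_le
  cen := D.PQ_le_cl
  no := D.noP hML hK
  g1 := g1
  core := D.core
  inter := inter
  B2 := S.2.to_le inf_le_left
  BH := fun i => inf_le_left.trans (D.Sl i)
  BU := by
    intro i x hx b hb
    have h1 := inv_mem (D.root i x hx b hb.1 (BB_le S l i hb))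
    have e : (x * b * x⁻¹ * b⁻¹)⁻¹ = b * x * b⁻¹ * x⁻¹ := by group
    rwa [e] at h1
  Bfix := by
    intro i n hn hb
    rw [D.NN_eq] at hn
    refine D.bf n (D.Q_le_O i (D.TN_le_Q i hn)) (D.TN_sq i n hn) fun b hb' => ?_
    have h1 := hb b hb'
    calc b * n = (b * n * b⁻¹) * b := by group
      _ = n * b := by rw [h1]
  torZ := D.torZ
  torU := D.torU

end LFrW

end Cfsg.Agent.Omega.KL.TwoZ.Line

end

-- merged: Cfsg.Agent.Mrg.Omega.NOThreeL.RRed.InstLW
section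

/-!
# NO-3L, box R: from 640's coordinates `NatS` to `LD`; the frame `LFrW` (helper19)

* **`ld_of_natS`** : `NatS F S P V W l → LD S V W l`;
* `torZ_of_natS`, `torU_of_natS`; **`lfrw_of`** : `LFr` + `NatS` for both types + `bf` give 853's `LFrW`;
* `zj_of_perm` : `C(Z) ≤ N(l i)` for both `i` gives `C(Z) ≤ N(l 0 l 1)`.
-/

set_option autoImplicit false
set_option linter.unusedSectionVars false
set_option linter.unusedVariables false

namespace Cfsg.Agent.Omega.NOThreeL.RRed.InstL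

open Subgroup Cfsg Cfsg.Agent.ZN Cfsg.Agent.Omega.MinPar
open Cfsg.Agent.Omega.NOThreeL.RRed.InstZ (ZZ Spl GF)
open Cfsg.Agent.MinSimple.VModule (oddGen)
open Cfsg.Agent.Omega.NOThreeL.Pair (conj_eq_of_mem)
open scoped Pointwise

universe u

variable {G : Type u} [Group G]

section one

variable [Finite G] {F : Type} [Field F] [Finite F] [CharP F 2] {S : Sylow 2 G} {P V W l : Subgroup G}
  (N : NatS F (S : Subgroup G) P V W l)
include N

theorem exists_fixed (hVS : V ≤ (S : Subgroup G)) (sq : ∀ x ∈ V, x ^ 2 = 1) :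
    ∃ z ∈ V, z ≠ 1 ∧ z ∈ centralizer ((S : Subgroup G) : Set G) ∧ z ∈ zc (S : Subgroup G) := by
  have hne : V ≠ ⊥ := by
    intro h
    obtain ⟨v, hv, hv1⟩ := N.surj ![1, 0]
    rw [h, mem_bot] at hv
    rw [hv, N.e_one] at hv1
    have := congrFun hv1 0
    simp at this
  have h1 := PLocal.OffenderStep.inf_centralizer_ne_bot V (S : Subgroup G) (S.isPGroup'.to_le hVS) S.isPGroup'
    (N.SP.trans N.nV) hne
  obtain ⟨⟨z, hz⟩, hz1⟩ := (Subgroup.ne_bot_iff_exists_ne_one).1 h1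
  have hz1' : z ≠ 1 := fun h => hz1 (Subtype.ext h)
  refine ⟨z, hz.1, hz1', hz.2, mem_zc.2 ⟨hVS hz.1, fun t ht => ?_, sq z hz.1⟩⟩
  exact mem_centralizer_iff.1 hz.2 t ht

/-- **`LD` from the coordinates** -/
theorem ld_of_natS (hVS : V ≤ (S : Subgroup G)) (sq : ∀ x ∈ V, x ^ 2 = 1) : LD (S : Subgroup G) V W l := by
  obtain ⟨z, hz, hz1, hzS, hzc⟩ := exists_fixed N hVS sq
  refine ⟨N.lV, N.Sl, fun v hv hvS => N.fixed_le hv hvS, N.cyc, fun v hv => ?_, fun v hv => ?_, N.root, N.reg, N.cardV⟩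
  · obtain ⟨h, h1, h2, h3 | h3⟩ := N.trV hz hz1 hzS v hv
    · exact ⟨h, h1, h2, by rw [h3]; exact one_mem _⟩
    · exact ⟨h, h1, h2, by rw [h3]; exact mem_inf.2 ⟨hz, hzc⟩⟩
  · by_cases hv1 : v = 1
    · exact ⟨1, one_mem _, one_mem _, one_mem _, by rw [hv1]; simp⟩
    · obtain ⟨h, hh, hhl, h3⟩ := N.tor_one hz hz1 hzS hv hv1
      exact ⟨h, N.odd_le hh, N.nV (N.oddGen_le hh), hhl, by rw [h3]; exact mem_inf.2 ⟨hz, hzc⟩⟩

theorem torZ_of_natS (hVS : V ≤ (S : Subgroup G)) (sq : ∀ x ∈ V, x ^ 2 = 1) :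
    ∀ x ∈ l, x ≠ 1 → ∀ y ∈ l, y ≠ 1 → ∃ h : G, h ∈ centralizer (W : Set G) ∧
      MulAut.conj h • l = l ∧ MulAut.conj h • V = V ∧ h * x * h⁻¹ = y := by
  intro x hx hx1 y hy hy1
  obtain ⟨z, hz, hz1, hzS, hzc⟩ := exists_fixed N hVS sq
  obtain ⟨h, hh, hhl, h3⟩ := N.tor hz hz1 hzS hx hx1 hy hy1
  exact ⟨h, N.odd_le hh, conj_eq_of_mem hhl, conj_eq_of_mem (N.nV (N.oddGen_le hh)), h3⟩

theorem torU_of_natS (hVS : V ≤ (S : Subgroup G)) (sq : ∀ x ∈ V, x ^ 2 = 1) :
    ∀ x ∈ V, x ∉ l → ∀ y ∈ V, y ∉ l → ∃ h : G, h ∈ centralizer (W : Set G) ∧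
      MulAut.conj h • l = l ∧ MulAut.conj h • V = V ∧ y⁻¹ * (h * x * h⁻¹) ∈ l := by
  intro x hx hxl y hy hyl
  obtain ⟨h, hh, hhl, h3⟩ := N.torU sq hx hxl hy hyl
  exact ⟨h, N.odd_le hh, conj_eq_of_mem hhl, conj_eq_of_mem (N.nV (N.oddGen_le hh)), h3⟩

end one

/-- **`LFrW`** from `LFr`, the coordinates and `bf` -/
theorem lfrw_of [Finite G] {S : Sylow 2 G} {V Z l : Fin 2 → Subgroup G} (D : KL.TwoZ.Line.LFr S V Z l)
    (hN : ∀ i, ∃ (F : Type) (_ : Field F) (_ : Finite F) (_ : CharP F 2) (P : Subgroup G),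
      Nonempty (NatS F (S : Subgroup G) P (V i) (V (i + 1)) (l i)))
    (bf : ∀ n ∈ o2 (centralizer (zc (S : Subgroup G) : Set G)), n ^ 2 = 1 →
      (∀ b ∈ KL.TwoZ.Line.BB S l, b * n = n * b) → n ∈ l 0 ⊔ l 1) : KL.TwoZ.Line.LFrW S V Z l where
  toLFr := D
  torZ i := by
    obtain ⟨F, _, _, _, P, ⟨N⟩⟩ := hN i
    exact torZ_of_natS N ((D.VQ i).trans (D.Q_le_S i)) (D.sqV i)
  torU i := by
    obtain ⟨F, _, _, _, P, ⟨N⟩⟩ := hN i
    exact torU_of_natS N ((D.VQ i).trans (D.Q_le_S i)) (D.sqV i)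
  bf := bf

/-- both lines are normalised ⟹ their product is -/
theorem zj_of_perm {C : Subgroup G} {l : Fin 2 → Subgroup G} (h : ∀ c ∈ C, ∀ i, c ∈ normalizer (l i : Set G)) :
    C ≤ normalizer ((l 0 ⊔ l 1 : Subgroup G) : Set G) := by
  have key : ∀ c ∈ C, MulAut.conj c • (l 0 ⊔ l 1 : Subgroup G) = l 0 ⊔ l 1 := by
    intro c hc
    rw [Subgroup.smul_sup, conj_eq_of_mem (h c hc 0), conj_eq_of_mem (h c hc 1)]
  intro c hc
  exact ZN.ChoiceBase.mem_normalizer_iff_cj.2 (key c hc)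

end Cfsg.Agent.Omega.NOThreeL.RRed.InstL

end

-- merged: Cfsg.Agent.Mrg.Omega.NOThreeL.RRed.WLF.NatFOf
section

section


/-!
# NO-3L, box R, row 8 of `WideTree`: the data `NatF` of the instance of 853's frame `LFr` (helper916)

`Wide S`, `MvAct S`, two classes `CM S W`, `Src S W l`:

* `exists_nat` : one active `P` per class, with coordinates;
* `norm_l` : an inactive `R ∈ P*(S)` normalises both lines; `norm_l'` : `N_G(S)` permutes the lines;
* `gal` : an `R ∈ P*(S)` which normalises the lines and fixes some `z ∈ Z_i#` centralises `Z_i`;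
* **`natF`** : `InstL.NatF S W l`.
-/

set_option autoImplicit false
set_option linter.unusedSectionVars false

namespace Cfsg.Agent.Omega.NOThreeL.RRed.WLF

open Subgroup Cfsg Cfsg.Agent.ZN Cfsg.Agent.Omega.MinPar Cfsg.Agent.Omega.Frame Cfsg.Agent.Omega.FrameNOFF
open Cfsg.Agent.Omega.FrameFF
open Cfsg.Agent.Omega.NOThreeL.Merge (MZ)
open Cfsg.Agent.Omega.NOThreeL.RTree (RB)
open Cfsg.Agent.Omega.NatPair (ap ap_add ap_mul ap_one ext2 ap_zero' ap_one')
open Cfsg.Agent.Lib.SL2Mat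
open Cfsg.Agent.Omega.NOThreeL.RRed.InstZ (ZZ Spl)
open Cfsg.Agent.Omega.NOThreeL.RRed.InstL (NatF LD ld_of_natS)
open Cfsg.Agent.Omega.NOThreeL.RRed.WideTree
open Cfsg.Agent.Omega.NOThreeL.RRed.WLeft
open Cfsg.Agent.Omega.NOThreeL.Pair (conj_eq_of_mem)
open Cfsg.Agent.MinSimple.VModule (oddGen oddGen_def)
open scoped Pointwise

universe u

variable {G : Type u} [Group G] [Finite G] {S : Sylow 2 G} {W l : Fin 2 → Subgroup G}

/-- `A` does not centralise `W`, `g W = W'` : `A^g` does not centralise `W'` -/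
theorem not_cent_conj {A W W' : Subgroup G} {g : G} (h : ¬ A ≤ centralizer (W : Set G))
    (hg : MulAut.conj g • W = W') : ¬ MulAut.conj g • A ≤ centralizer (W' : Set G) := by
  intro h1
  apply h
  intro a ha
  have h2 : g * a * g⁻¹ ∈ centralizer (W' : Set G) := h1 ⟨a, ha, rfl⟩
  refine mem_centralizer_iff.2 fun w hw => ?_
  have h3 : g * w * g⁻¹ ∈ W' := by
    rw [← hg]
    exact ⟨w, hw, rfl⟩
  have h4 := mem_centralizer_iff.1 h2 _ h3
  have h5 : g * (w * a) * g⁻¹ = g * (a * w) * g⁻¹ := by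
    calc g * (w * a) * g⁻¹ = (g * w * g⁻¹) * (g * a * g⁻¹) := by group
      _ = (g * a * g⁻¹) * (g * w * g⁻¹) := h4
      _ = g * (a * w) * g⁻¹ := by group
  exact mul_left_cancel (mul_right_cancel h5)

variable (hW : Wide S) (hm : MvAct (S : Subgroup G)) (C : CM (S : Subgroup G) (fun i : ULift.{u} (Fin 2) => W i.down))
  (s : Src (S : Subgroup G) W l)
include hW C s

/-- **one active `P` per class, with coordinates** -/
theorem exists_nat (hm : MvAct (S : Subgroup G)) (i : Fin 2) :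
    ∃ (F : Type) (_ : Field F) (_ : Finite F) (_ : CharP F 2) (P : Subgroup G)
      (N : Nat1 F (S : Subgroup G) P (W i) (l i)) (n : NatS F (S : Subgroup G) P (W i) (W (i + 1)) (l i)),
        Act (S : Subgroup G) P ∧ P ≤ centralizer (ZZ (S : Subgroup G) W (i + 1) : Set G) ∧
          n.e = fun g => N.M.e g 0 := by
  obtain ⟨P, hP, -, ho, hc⟩ := exists_act hW.toRB C hm (OM.KTwo.ne_add_one i)
  have hodd : oddGen P ≤ centralizer (W (i + 1) : Set G) := by
    rw [oddGen_def, closure_le]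
    rintro g ⟨hg, hgo⟩
    exact ho g hg hgo
  obtain ⟨F, iF, iF', iF2, ⟨N⟩⟩ := s.nat1 hP hodd
  obtain ⟨n, hn⟩ := N.natS hP.1.le ((Merge.le_MZ hP.1).trans (cm_inv C i)) hodd
  exact ⟨F, iF, iF', iF2, P, N, n, hP, hc, hn⟩

/-- `C_(W i)(A) = l i` for the minimal exact offenders `A ≤ S` which move `W i` -/
theorem cent_eq (hm : MvAct (S : Subgroup G)) {i : Fin 2} {A : Subgroup G} (hA : A ≤ (S : Subgroup G))
    (hx : Mx (Wd (S : Subgroup G)) A) (hne : ¬ A ≤ centralizer (W i : Set G)) :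
    W i ⊓ centralizer (A : Set G) = l i := by
  obtain ⟨F, iF, iF', iF2, P, N, n, hP, -, hn⟩ := exists_nat hW C s hm i
  exact (rt_of hW N hP.1 n hn hA hx hne).cent (hA.trans (S_nor hW.toRB C i))

omit hW C s in
/-- an inactive `R ∈ P*(S)` permutes the minimal exact offenders in `S` -/
theorem conj_EE {R : Subgroup G} (hR : IsParS (S : Subgroup G) R) (hna : ¬ Act (S : Subgroup G) R) {A : Subgroup G}
    (hA : A ≤ (S : Subgroup G)) (hx : Mx (Wd (S : Subgroup G)) A) {r : G} (hr : r ∈ R) :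
    MulAut.conj r • A ≤ (S : Subgroup G) ∧ Mx (Wd (S : Subgroup G)) (MulAut.conj r • A) := by
  have h1 : A ≤ o2 R := by
    by_contra h2
    exact hna ⟨hR, A, hA, hx, h2⟩
  have h2 : MulAut.conj r • A ≤ o2 R := by
    have h3 : MulAut.conj r • o2 R = o2 R := conj_eq_of_mem (MinSimple.VModule.le_normalizer_o2 _ hr)
    rw [← h3]
    exact NoFF.Basic.conj_le_iff.2 h1
  exact ⟨h2.trans (hR.isLoc.o2_le S), CI.mx_conj hx (le_norm_Wd (Merge.le_MZ hR hr))⟩

/-- **an inactive `R ∈ P*(S)` normalises the lines** -/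
theorem norm_l (hm : MvAct (S : Subgroup G)) {R : Subgroup G} (hR : IsParS (S : Subgroup G) R)
    (hna : ¬ Act (S : Subgroup G) R) (i : Fin 2) : R ≤ normalizer (l i : Set G) := by
  obtain ⟨A, hA, hx, hne⟩ := C.mvd ⟨i⟩
  intro r hr
  have hrW : MulAut.conj r • W i = W i := conj_eq_of_mem (cm_inv C i (Merge.le_MZ hR hr))
  obtain ⟨h1, h2⟩ := conj_EE hR hna hA hx hr
  have h3 := cent_eq hW C s hm h1 h2 (not_cent_conj hne hrW)
  have h4 := cent_eq hW C s hm hA hx hne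
  refine mem_nor ?_
  rw [← h4, Subgroup.smul_inf, hrW, NoFF.ThmJFam.conj_cent, h3, h4]

/-- **`N_G(S)` permutes the lines** -/
theorem norm_l' (hm : MvAct (S : Subgroup G)) {g : G} (hg : g ∈ normalizer ((S : Subgroup G) : Set G)) {i j : Fin 2}
    (hij : MulAut.conj g • W i = W j) : MulAut.conj g • l i = l j := by
  obtain ⟨A, hA, hx, hne⟩ := C.mvd ⟨i⟩
  have h1 : MulAut.conj g • A ≤ (S : Subgroup G) := by
    have h2 : MulAut.conj g • (S : Subgroup G) = S := conj_eq_of_mem hg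
    rw [← h2]
    exact NoFF.Basic.conj_le_iff.2 hA
  have h2 : Mx (Wd (S : Subgroup G)) (MulAut.conj g • A) := CI.mx_conj hx (CI.norm_zl hg (CI.norm_MZ hg))
  rw [← cent_eq hW C s hm hA hx hne, Subgroup.smul_inf, hij, NoFF.ThmJFam.conj_cent,
    cent_eq hW C s hm h1 h2 (not_cent_conj hne hij)]

/-- an active `R` does not normalise both lines -/
theorem not_act {R : Subgroup G} (hl : ∀ k, R ≤ normalizer (l k : Set G)) : ¬ Act (S : Subgroup G) R := by
  intro hR
  obtain ⟨i, -, hodd, -⟩ := exists_cls C hR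
  obtain ⟨F, iF, iF', iF2, ⟨N⟩⟩ := s.nat1 hR hodd
  obtain ⟨n, -⟩ := N.natS hR.1.le ((Merge.le_MZ hR.1).trans (cm_inv C i)) hodd
  obtain ⟨v, hv, hve⟩ := n.exists_l 1
  obtain ⟨g, hg, hact⟩ := n.lift (lo 1)
  have h1 := ((n.lin _).1 ((mem_normalizer_iff.1 (hl i hg) v).1 hv)).2
  rw [hact v (n.lV hv), hve, NO3S.ThmB.ap_lo_1] at h1
  simp at h1

/-- **the field `gal`** -/
theorem gal (hm : MvAct (S : Subgroup G)) {R : Subgroup G} (hR : IsParS (S : Subgroup G) R)
    (hl : ∀ k, R ≤ normalizer (l k : Set G)) (i : Fin 2) {z : G} (hz : z ∈ ZZ (S : Subgroup G) W i) (hz1 : z ≠ 1)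
    (hzR : R ≤ centralizer ({z} : Set G)) : R ≤ centralizer (ZZ (S : Subgroup G) W i : Set G) := by
  have hna := not_act hW C s hl
  obtain ⟨F, iF, iF', iF2, P, N, n, hP, -, hn⟩ := exists_nat hW C s hm i
  obtain ⟨A, hA, hx, hne⟩ := C.mvd ⟨i⟩
  have hRW : R ≤ normalizer (W i : Set G) := (Merge.le_MZ hR).trans (cm_inv C i)
  have hRl : ∀ r ∈ R, ∀ v ∈ l i, r * v * r⁻¹ ∈ l i := fun r hr v hv => (mem_normalizer_iff.1 (hl i hr) v).1 hv
  have hfix : ∀ z ∈ ZZ (S : Subgroup G) W i, z ∈ l i := fun z hz =>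
    n.fixed_le hz.1 (MinSimple.VModule.zc_le_centralizer _ hz.2)
  have key := (rt_of hW N hP.1 n hn hA hx hne).comm (hA.trans (S_nor hW.toRB C i)) hRW hRl (fun r hr => by
    obtain ⟨h1, h2⟩ := conj_EE hR hna hA hx hr
    exact rt_of hW N hP.1 n hn h1 h2 (not_cent_conj hne (conj_eq_of_mem (hRW hr)))) (hfix z hz) hz1 hzR
  refine InstZ.le_of_conj hR.toIsMinPar fun r hr t ht => mem_centralizer_iff.2 fun x hx => ?_
  have htx : t * x * t⁻¹ = x := by
    have := mem_centralizer_iff.1 (MinSimple.VModule.zc_le_centralizer _ hx.2) t ht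
    rw [this, mul_inv_cancel_right]
  have h1 : r⁻¹ * x * r ∈ l i := by
    have := hRl r⁻¹ (inv_mem hr) x (hfix x hx)
    rwa [inv_inv] at this
  have h2 := key r hr t (hR.le ht) _ h1
  have e1 : r * (r⁻¹ * x * r) * r⁻¹ = x := by group
  rw [e1, htx] at h2
  calc x * (r * t * r⁻¹) = (r * (t * (r⁻¹ * x * r) * t⁻¹) * r⁻¹) * (r * t * r⁻¹) := by rw [h2]
    _ = r * t * r⁻¹ * x := by group

/-- **`NatF S W l`** -/
theorem natF (hm : MvAct (S : Subgroup G)) : NatF S W l where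
  nM := cm_inv C
  nS g hg := by
    rcases cm_nS C hg with h | h
    · exact Or.inl fun j => ⟨norm_l' hW C s hm hg (h j), h j⟩
    · exact Or.inr fun j => ⟨norm_l' hW C s hm hg (h j), h j⟩
  ld i := by
    obtain ⟨F, iF, iF', iF2, P, N, n, -, -, -⟩ := exists_nat hW C s hm i
    exact ld_of_natS n (W_le_S hW.toRB C i) fun x hx => Wd_sq hW.toRB x (cm_le C i hx)
  act R hR := by
    by_cases hA : Act (S : Subgroup G) R
    · right
      obtain ⟨i, -, hodd, -⟩ := exists_cls C hA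
      obtain ⟨F, iF, iF', iF2, ⟨N⟩⟩ := s.nat1 hA hodd
      refine ⟨i, fun z hz hz1 hc => hz1 (N.eq_one hz.1 hc), fun g hg hgo => hodd ?_⟩
      rw [oddGen_def]
      exact subset_closure ⟨hg, hgo⟩
    · exact Or.inl (norm_l hW C s hm hR hA)
  gal R hR hl i z hz hz1 hzR := gal hW C s hm hR hl i hz hz1 hzR

end Cfsg.Agent.Omega.NOThreeL.RRed.WLF

end

section


/-!
# NO-3L, box R, row 8 of `WideTree`: `Spl S W` and nonlocality with fields (helper916; text helper640 #24700 (B))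

* `spl_of` : 692's `Spl S W`;
* **`nonLoc_of`** : `⟨C_G(Z_0), C_G(Z_1)⟩` is nonlocal, from `C_G(Z) ≤ N(l i)`;
* **`lfr_of`** : `KL.TwoZ.Line.LFr S W (ZZ S W) l`.
-/

set_option autoImplicit false
set_option linter.unusedSectionVars false

namespace Cfsg.Agent.Omega.NOThreeL.RRed.WLF

open Subgroup Cfsg Cfsg.Agent.ZN Cfsg.Agent.Omega.MinPar Cfsg.Agent.Omega.Frame Cfsg.Agent.Omega.FrameNOFF
open Cfsg.Agent.Omega.FrameFF
open Cfsg.Agent.Omega.NOThreeL.Merge (MZ)
open Cfsg.Agent.Omega.NOThreeL.RTree (RB)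
open Cfsg.Agent.Omega.NOThreeL.RRed.InstZ (ZZ Spl)
open Cfsg.Agent.Omega.NOThreeL.RRed.WideTree
open Cfsg.Agent.Omega.NOThreeL.RRed.WLeft
open Cfsg.Agent.Omega.NOThreeL.Pair (conj_eq_of_mem)
open Cfsg.Agent.MinSimple.VModule (oddGen oddGen_def)
open scoped Pointwise

universe u

variable {G : Type u} [Group G] [Finite G] {S : Sylow 2 G} {W l : Fin 2 → Subgroup G}
  (hW : Wide S) (C : CM (S : Subgroup G) (fun i : ULift.{u} (Fin 2) => W i.down))
  (s : Src (S : Subgroup G) W l)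
include hW C s

/-- **`Spl S W`** -/
theorem spl_of (hm : MvAct (S : Subgroup G)) : Spl S W := by
  refine spl hW.toRB C (fun i => ?_) fun i j hij => ?_
  · obtain ⟨F, iF, iF', iF2, P, N, n, hP, -, -⟩ := exists_nat hW C s hm i
    exact ⟨P, hP.1, N.W_le⟩
  · obtain ⟨F, iF, iF', iF2, P, N, n, hP, hc, -⟩ := exists_nat hW C s hm i
    have hj : j = i + 1 := OM.KTwo.eq_add_one hij
    obtain ⟨z, hz, hz1⟩ := exists_z hW.toRB C i
    intro v hv
    by_cases hv1 : v = 1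
    · rw [hv1]; exact one_mem _
    obtain ⟨h, hh, e⟩ := n.trans hv hv1 hz.1 hz1 (MinSimple.VModule.zc_le_centralizer _ hz.2)
    have hhP : h⁻¹ ∈ centralizer (ZZ (S : Subgroup G) W j : Set G) := by
      rw [hj]
      exact inv_mem (hc (n.oddGen_le hh))
    have h1 : MulAut.conj h⁻¹ • ZZ (S : Subgroup G) W i ≤ NoFF.Basic.V (ZZ (S : Subgroup G) W i)
        (centralizer (ZZ (S : Subgroup G) W j : Set G)) := NoFF.Basic.Z_le_V hhP
    apply h1
    refine ⟨z, hz, ?_⟩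
    change h⁻¹ * z * h⁻¹⁻¹ = v
    rw [← e]; group

/-- **nonlocality** -/
theorem nonLoc_of (hm : MvAct (S : Subgroup G))
    (hcl : ∀ c ∈ centralizer (zc (S : Subgroup G) : Set G), ∀ i, c ∈ normalizer (l i : Set G)) :
    NonLoc (centralizer (ZZ (S : Subgroup G) W 0 : Set G)) (centralizer (ZZ (S : Subgroup G) W 1 : Set G)) := by
  have h := hW.toRB
  have hlW : ∀ i, l i ≤ W i := fun i => by
    obtain ⟨F, iF, iF', iF2, P, N, n, -, -, -⟩ := exists_nat hW C s hm i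
    exact n.lV
  have hZl : ∀ i, ZZ (S : Subgroup G) W i ≤ l i := fun i => by
    obtain ⟨F, iF, iF', iF2, P, N, n, -, -, -⟩ := exists_nat hW C s hm i
    exact fun z hz => n.fixed_le hz.1 (MinSimple.VModule.zc_le_centralizer _ hz.2)
  have hWab : ∀ i j, W i ≤ centralizer (W j : Set G) := fun i j x hx => mem_centralizer_iff.2 fun y hy =>
    (mem_centralizer_iff.1 (Star.zl_comm h.ctx.char2 h.data.noff (cm_le C i hx)) y (cm_le C j hy))
  have hlc : ∀ i j, l i ≤ centralizer (l j : Set G) := fun i j =>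
    (hlW i).trans ((hWab i j).trans (centralizer_le (hlW j)))
  set G₀ : Subgroup G := centralizer (l 0 : Set G) ⊔ centralizer (l 1 : Set G) with hG₀
  have hcG : ∀ i, centralizer (l i : Set G) ≤ G₀ := by
    intro i
    rcases Fin.exists_fin_two.1 ⟨i, rfl⟩ with e | e
    · rw [e]; exact le_sup_left
    · rw [e]; exact le_sup_right
  -- what normalises both lines normalises `G₀`
  have hnG : ∀ g : G, (∀ i, g ∈ normalizer (l i : Set G)) → g ∈ normalizer (G₀ : Set G) := by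
    intro g hg
    refine mem_nor ?_
    rw [hG₀, Subgroup.smul_sup, NoFF.ThmJFam.conj_cent, NoFF.ThmJFam.conj_cent, conj_eq_of_mem (hg 0),
      conj_eq_of_mem (hg 1)]
  have hSl : ∀ i, (S : Subgroup G) ≤ normalizer (l i : Set G) := fun i t ht =>
    hcl t (MinSimple.VModule.le_centralizer_zc _ ht) i
  have hSG : (S : Subgroup G) ≤ normalizer (G₀ : Set G) := fun t ht => hnG t fun i => hSl i ht
  have hCG : centralizer (zc (S : Subgroup G) : Set G) ≤ normalizer (G₀ : Set G) := fun c hc => hnG c (hcl c hc)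
  -- `P*(S)` normalises `G₀`
  have hPG : ∀ R, IsParS (S : Subgroup G) R → R ≤ normalizer (G₀ : Set G) := by
    intro R hR
    by_cases hA : Act (S : Subgroup G) R
    · obtain ⟨i, -, hodd, -⟩ := exists_cls C hA
      conv_lhs => rw [← NoFF.LinesPlug.oddGen_sup hR.le (MinSimple.Basic.not_dvd_relIndex S hR.le)]
      refine sup_le ?_ hSG
      exact (hodd.trans ((centralizer_le (hlW (i + 1))).trans (hcG (i + 1)))).trans le_normalizer
    · exact fun r hr => hnG r fun i => norm_l hW C s hm hR hA i hr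
  -- `O₂(G₀) = 1`
  have hE : o2 G₀ = ⊥ := by
    refine Merge.nonLoc_MZ h.ctx h.full _ (MinSimple.VModule.o2_isPGroup _) (sSup_le fun R hR => ?_) ?_
    · exact (hPG R hR).trans (fun g hg => KL.TwoZ.norm_o2_of hg)
    · exact hCG.trans (fun g hg => KL.TwoZ.norm_o2_of hg)
  intro U hU h0 h1
  have hUS : U ≤ (S : Subgroup G) := le_of_le_normalizer S hU ((InstZ.Spl.S_le_cent W 0).trans h0)
  have hGU : G₀ ≤ normalizer (U : Set G) :=
    sup_le ((centralizer_le (hZl 0)).trans h0) ((centralizer_le (hZl 1)).trans h1)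
  -- `[U, G₀] ≤ U ∩ G₀ = 1`
  have hUG : U ⊓ G₀ = ⊥ := by
    rw [eq_bot_iff, ← hE]
    refine MinSimple.VModule.le_o2 inf_le_right (hU.to_le inf_le_left) ?_
    intro g hg
    rw [mem_normalizer_iff]
    intro x
    rw [mem_inf, mem_inf]
    exact and_congr (mem_normalizer_iff.1 (hGU hg) x) (mem_normalizer_iff.1 (le_normalizer hg) x)
  have hcen : ∀ y ∈ U, ∀ g ∈ G₀, y * g = g * y := by
    intro y hy g hg
    have h2 : y * g * y⁻¹ * g⁻¹ ∈ U ⊓ G₀ := by
      refine mem_inf.2 ⟨?_, ?_⟩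
      · have h3 := (mem_normalizer_iff.1 (hGU hg) _).1 (inv_mem hy)
        have e : y * g * y⁻¹ * g⁻¹ = y * (g * y⁻¹ * g⁻¹) := by group
        rw [e]
        exact mul_mem hy h3
      · exact mul_mem ((mem_normalizer_iff.1 (hSG (hUS hy)) g).1 hg) (inv_mem hg)
    rw [hUG, mem_bot] at h2
    calc y * g = (y * g * y⁻¹ * g⁻¹) * (g * y) := by group
      _ = g * y := by rw [h2, one_mul]
  have hlG : ∀ i, l i ≤ G₀ := fun i => (hlc i 0).trans (hcG 0)
  have hUG' : U ≤ G₀ := fun y hy => hcG 0 (mem_centralizer_iff.2 fun x hx => (hcen y hy x (hlG 0 hx)).symm)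
  rwa [inf_eq_left.2 hUG'] at hUG

/-- **853's frame `LFr`** -/
theorem lfr_of (hm : MvAct (S : Subgroup G))
    (hcl : ∀ c ∈ centralizer (zc (S : Subgroup G) : Set G), ∀ i, c ∈ normalizer (l i : Set G)) :
    KL.TwoZ.Line.LFr S W (ZZ (S : Subgroup G) W) l :=
  (natF hW C s hm).lfr hW.toRB (spl_of hW C s hm) (InstL.zj_of_perm hcl) (nonLoc_of hW C s hm hcl)

end Cfsg.Agent.Omega.NOThreeL.RRed.WLF

end

end

-- merged: Cfsg.Agent.Mrg.Omega.KL.TwoZ.LineI
section

section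


/-!
# THEOREM I(q) over the lines (two natural blocks with field automorphisms; helper918 #24444 (C) (F5))

* `LE S V Z l i P E` : `P ≥ S` acts on `V (i+1)`, `E` is normal in `P`, `C_S(l (i+1)) ≤ E`, `S ∩ E ≤ C(l (i+1))`
  (`E` = the part of `P` which acts on `V (i+1)` by matrices of determinant one);
* `LFr.exists_gen`, `LFr.no_N`, `LFr.mx_eq`; `LFr.gdat`;
* **`LFr.inter`** : `N_0 ∩ N_1 ≤ l 0 l 1`.
-/

set_option autoImplicit false
set_option linter.unusedSectionVars false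

namespace Cfsg.Agent.Omega.KL.TwoZ.Line

open Subgroup Cfsg Cfsg.Agent.Omega.MinPar
open Cfsg.Agent.ZN (o2 zc)
open Cfsg.Agent.Omega.OM.KTwo (ne_add_one eq_add_one add_one_add_one le_normalizer_V le_V)
open Cfsg.Agent.MinSimple.MinParabolic (IsMinPar)
open Cfsg.Agent.Omega.NoFF.Basic (conj_conj mem_conj conj_le_iff comm_symm)
open Cfsg.Agent.ZN.ChoiceSit (Syl syl_not_dvd o2_le_syl)
open Cfsg.Agent.MinSimple.VModule (mem_zc zc_le o2_isPGroup o2_le le_o2 le_normalizer_o2 le_centralizer_zc)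
open Cfsg.Agent.Omega.TC.LemZ (card_eq norm_cent)
open Cfsg.Agent.Omega.KL.TwoS (Mx comm_of_sq)
open Cfsg.Agent.Omega.KL.TwoZ (CC)
open Cfsg.Agent.Omega.OM
open scoped Pointwise

universe u

variable {G : Type u} [Group G]

/-- `P ≥ S` acts on `V (i+1)`, and `E` is the part of `P` which acts linearly with determinant one -/
structure LE [Finite G] (S : Sylow 2 G) (V Z l : Fin 2 → Subgroup G) (i : Fin 2) (P E : Subgroup G) : Prop where
  SP : (S : Subgroup G) ≤ P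
  PC : P ≤ centralizer (Z i : Set G)
  PV : P ≤ normalizer (V (i + 1) : Set G)
  mv : ¬ P ≤ normalizer (l (i + 1) : Set G)
  nrm : P ≤ normalizer (((S : Subgroup G) ⊓ centralizer (V (i + 1) : Set G) : Subgroup G) : Set G)
  EP : E ≤ P
  nE : P ≤ normalizer (E : Set G)
  lE : ∀ s ∈ (S : Subgroup G), s ∈ centralizer (l (i + 1) : Set G) → s ∈ E
  El : ∀ s ∈ (S : Subgroup G), s ∈ E → s ∈ centralizer (l (i + 1) : Set G)

/-- the field `nrm` for a minimal parabolic -/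
theorem LE.nrm_of [Finite G] {S : Sylow 2 G} {P U : Subgroup G} (hP : IsMinPar (S : Subgroup G) P)
    (hU : P ≤ normalizer (U : Set G)) (hm : ¬ P ≤ (P ⊓ centralizer (U : Set G)) ⊔ (S : Subgroup G)) :
    P ≤ normalizer (((S : Subgroup G) ⊓ centralizer (U : Set G) : Subgroup G) : Set G) := by
  have hf : Fact (Nat.Prime 2) := ⟨Nat.prime_two⟩
  have hsyl : Syl (S : Subgroup G) P := ⟨hP.le, S.2, fun R _ hR2 hSR => S.3 hR2 hSR⟩
  have hn : P ≤ normalizer ((P ⊓ centralizer (U : Set G) : Subgroup G) : Set G) :=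
    ThmIq.le_norm_of_conj fun g hg x hx => ⟨P.mul_mem (P.mul_mem hg hx.1) (P.inv_mem hg),
      (mem_normalizer_iff.1 (norm_cent hU hg) x).1 hx.2⟩
  rcases hP.sup_eq_or_inf_le S.2 (syl_not_dvd hsyl) inf_le_left hn with h | h
  · exact absurd h.ge hm
  · have h2 : (S : Subgroup G) ⊓ centralizer (U : Set G) = o2 P ⊓ centralizer (U : Set G) := by
      apply le_antisymm
      · exact le_inf ((le_inf inf_le_left (le_inf (inf_le_left.trans hP.le) inf_le_right)).trans h) inf_le_right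
      · exact inf_le_inf_right _ (o2_le_syl hsyl)
    rw [h2]
    exact ThmIq.le_norm_of_conj fun g hg x hx =>
      ⟨(mem_normalizer_iff.1 (le_normalizer_o2 _ hg) x).1 hx.1,
        (mem_normalizer_iff.1 (norm_cent hU hg) x).1 hx.2⟩

namespace LFr

variable [Finite G] {S : Sylow 2 G} {V Z l : Fin 2 → Subgroup G} (D : LFr S V Z l)

include D

theorem CC_inf_eq (i : Fin 2) : CC Z i ⊓ CC Z (i + 1) = centralizer (zc (S : Subgroup G) : Set G) := by
  apply le_antisymm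
  · rintro c ⟨h0, h1⟩
    have key : ∀ j, c ∈ CC Z j := by
      intro j
      by_cases hj : i = j
      · exact hj ▸ h0
      · rw [eq_add_one hj] at *
        exact h1
    rw [D.zT]
    have h2 : Z 0 ⊔ Z 1 ≤ centralizer ({c} : Set G) := by
      refine sup_le (fun x hx => ?_) (fun x hx => ?_)
      · exact mem_centralizer_singleton_iff.2 (mem_centralizer_iff.1 (key 0) x hx)
      · exact mem_centralizer_singleton_iff.2 (mem_centralizer_iff.1 (key 1) x hx)
    rw [mem_centralizer_iff]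
    exact fun x hx => mem_centralizer_singleton_iff.1 (h2 hx)
  · exact le_inf (centralizer_le (D.Z_le_zc _)) (centralizer_le (D.Z_le_zc _))

theorem qq_le_O (i : Fin 2) : TwoZ.QQ Z i ≤ o2 (centralizer (zc (S : Subgroup G) : Set G)) :=
  le_o2 ((D.Q_le_S i).trans (le_centralizer_zc _)) (o2_isPGroup _)
    ((centralizer_le (D.Z_le_zc i)).trans (le_normalizer_o2 _))

theorem O_le_S : o2 (centralizer (zc (S : Subgroup G) : Set G)) ≤ (S : Subgroup G) :=
  o2_le_syl (D.syl (le_centralizer_zc _))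

theorem TN_le_O (i : Fin 2) : TwoZ.NN Z i ≤ o2 (centralizer (zc (S : Subgroup G) : Set G)) :=
  (D.TN_le_Q i).trans (D.qq_le_O i)

/-- **(NO)** on `N_i` for `B ≤ O` -/
theorem no_N (hML : ML.Final.MLK.{u, u}) {i : Fin 2} (hK : IsKGroup (CC Z i)) {B : Subgroup G}
    (hB : B ≤ o2 (centralizer (zc (S : Subgroup G) : Set G))) (hB2 : ∀ b ∈ B, b ^ 2 = 1) :
    (centralizer (TwoZ.NN Z i : Set G)).relIndex B ≤ (centralizer (B : Set G)).relIndex (TwoZ.NN Z i) := by
  refine FlagNO.flag_no hML D.S2 (D.S_le_C i) (syl_not_dvd (D.syl (D.S_le_C i))) (D.S_le_C (i + 1)) hK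
    (D.TN_sq i) ?_ hB2
  have h := D.CC_inf_eq i
  rw [show (centralizer (Z i : Set G) ⊓ centralizer (Z (i + 1) : Set G) : Subgroup G) =
    centralizer (zc (S : Subgroup G) : Set G) from h]
  exact hB

theorem mx_eq (hML : ML.Final.MLK.{u, u}) {i : Fin 2} (hK : IsKGroup (CC Z i)) {A : Subgroup G}
    (hA : Mx (o2 (centralizer (zc (S : Subgroup G) : Set G))) A) :
    (centralizer (TwoZ.NN Z i : Set G)).relIndex A = (centralizer (A : Set G)).relIndex (TwoZ.NN Z i) :=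
  le_antisymm (D.no_N hML hK hA.le hA.sq) (hA.thom (D.TN_le_O i) (D.TN_sq i))

theorem exists_notMem (i : Fin 2) : ∃ v ∈ V i, v ∉ l i := by
  by_contra hc
  push Not at hc
  have h1 := card_le_of_le (show V i ≤ l i from hc)
  have h2 : 1 < Nat.card (l i) := by
    rw [Subgroup.one_lt_card_iff_ne_bot]
    exact fun e => D.ne i (le_bot_iff.1 (e ▸ D.Zl i))
  rw [D.cardV i] at h1
  nlinarith

/-- a maximal `A ≤ O` in `C(l i)` which moves `V i` induces all of `C_S(l i)` on `V i` -/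
theorem exists_gen {i : Fin 2} {A : Subgroup G} (hA : Mx (o2 (centralizer (zc (S : Subgroup G) : Set G))) A)
    (hAl : A ≤ centralizer (l i : Set G)) (hm : ¬ A ≤ centralizer (V i : Set G)) :
    (∀ t ∈ (S : Subgroup G), t ∈ centralizer (l i : Set G) → ∃ a ∈ A, a⁻¹ * t ∈ centralizer (V i : Set G)) ∧
      Nat.card A = Nat.card (l i) * Nat.card (A ⊓ centralizer (V i : Set G) : Subgroup G) := by
  obtain ⟨v, hv, hvl⟩ := D.exists_notMem i
  have hAS : A ≤ (S : Subgroup G) := hA.le.trans D.O_le_S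
  have hVO : V i ≤ o2 (centralizer (zc (S : Subgroup G) : Set G)) := (D.VQ i).trans (D.qq_le_O i)
  have hroot : ∀ t ∈ (S : Subgroup G), t ∈ centralizer (l i : Set G) → t * v * t⁻¹ * v⁻¹ ∈ l i := by
    intro t ht htl
    have h1 := inv_mem (D.root i v hv t ht htl)
    have e : (v * t * v⁻¹ * t⁻¹)⁻¹ = t * v * t⁻¹ * v⁻¹ := by group
    rwa [e] at h1
  have key : ∀ t ∈ (S : Subgroup G), t ∈ centralizer (l i : Set G) → ∀ s ∈ (S : Subgroup G),
      s ∈ centralizer (l i : Set G) → t * v * t⁻¹ * v⁻¹ = s * v * s⁻¹ * v⁻¹ →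
        t⁻¹ * s ∈ centralizer (V i : Set G) := by
    intro t ht htl s hs hsl h
    refine D.reg i _ (mul_mem (inv_mem ht) hs) (mul_mem (inv_mem htl) hsl) v hv hvl ?_
    have h1 : t * v * t⁻¹ = s * v * s⁻¹ := mul_right_cancel h
    calc t⁻¹ * s * v = t⁻¹ * (s * v * s⁻¹) * s := by group
      _ = t⁻¹ * (t * v * t⁻¹) * s := by rw [h1]
      _ = v * (t⁻¹ * s) := by group
  -- `C_{V i}(A) = l i`
  have hfix : V i ⊓ centralizer (A : Set G) = l i := by
    apply le_antisymm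
    · rintro x ⟨hx, hxA⟩
      by_contra hxl
      exact hm fun a ha => D.reg i a (hAS ha) (hAl ha) x hx hxl (mem_centralizer_iff.1 hxA a ha)
    · exact le_inf (D.lV i) (comm_symm hAl)
  have hrel : (centralizer (A : Set G)).relIndex (V i) = Nat.card (l i) := by
    have c1 := card_eq (V i) (centralizer (A : Set G))
    rw [hfix, D.cardV i] at c1
    exact (Nat.eq_of_mul_eq_mul_left Nat.card_pos c1).symm
  have hge : Nat.card (l i) ≤ (centralizer (V i : Set G)).relIndex A := by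
    rw [← hrel]
    exact hA.thom hVO (D.sqV i)
  set C : Subgroup A := (centralizer (V i : Set G)).subgroupOf A with hC
  let g : A ⧸ C → l i := fun q => ⟨(q.out : A) * v * ((q.out : A) : G)⁻¹ * v⁻¹,
    hroot _ (hAS (q.out : A).2) (hAl (q.out : A).2)⟩
  have hg : Function.Injective g := by
    intro q q' h
    have h2 := key _ (hAS (q.out : A).2) (hAl (q.out : A).2) _ (hAS (q'.out : A).2) (hAl (q'.out : A).2)
      (congrArg Subtype.val h)
    rw [← Quotient.out_eq' q, ← Quotient.out_eq' q']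
    exact QuotientGroup.eq.2 (mem_subgroupOf.2 h2)
  have hcard : Nat.card (A ⧸ C) = (centralizer (V i : Set G)).relIndex A := rfl
  have hle : Nat.card (A ⧸ C) ≤ Nat.card (l i) := Nat.card_le_card_of_injective g hg
  have hbij : Function.Bijective g := hg.bijective_of_nat_card_le (by rw [hcard]; exact hge)
  have heq : (centralizer (V i : Set G)).relIndex A = Nat.card (l i) := le_antisymm (hcard ▸ hle) hge
  refine ⟨fun t ht htl => ?_, ?_⟩
  · obtain ⟨q, hq⟩ := hbij.2 ⟨t * v * t⁻¹ * v⁻¹, hroot t ht htl⟩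
    exact ⟨(q.out : A), (q.out : A).2, key _ (hAS (q.out : A).2) (hAl (q.out : A).2) t ht htl
      (congrArg Subtype.val hq)⟩
  · have c1 := card_eq A (centralizer (V i : Set G))
    rw [heq, mul_comm] at c1
    exact c1

/-- **the data of THEOREM I(q)** on one side -/
theorem gdat (hML : ML.Final.MLK.{u, u}) {i : Fin 2} (hK : IsKGroup (CC Z i))
    (hk3 : ∀ B : Subgroup G, B ≤ o2 (centralizer (zc (S : Subgroup G) : Set G)) → (∀ b ∈ B, b ^ 2 = 1) →
      (∀ j, B ≤ centralizer (l j : Set G)) →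
      (centralizer (B : Set G)).relIndex (TwoZ.NN Z i) ≤ (centralizer (TwoZ.NN Z i : Set G)).relIndex B →
      ∀ n ∈ TwoZ.NN Z i, (∀ b ∈ B, b * n * b⁻¹ * n⁻¹ ∈ l i) → ∀ b ∈ B, b * n = n * b)
    {A P E : Subgroup G} (hA : Mx (o2 (centralizer (zc (S : Subgroup G) : Set G))) A)
    (hAl : ∀ j, A ≤ centralizer (l j : Set G))
    (hm : ¬ A ≤ centralizer (V (i + 1) : Set G)) (hP : LE S V Z l i P E) :
    ThmIq.GDat P (S : Subgroup G) A E (TwoZ.NN Z i) (V (i + 1)) (l i) (l (i + 1)) := by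
  have hAS : A ≤ (S : Subgroup G) := hA.le.trans D.O_le_S
  obtain ⟨hgen, hcard⟩ := D.exists_gen hA (hAl (i + 1)) hm
  exact
    { sqN := D.TN_sq i
      sqZ := fun x hx => D.sqV i x (D.lV i hx)
      NZ := D.TN_le_cl i
      PN := hP.PC.trans (le_normalizer_V _ _)
      PV := hP.PV
      PZ := hP.PC.trans (D.C_le_N i)
      VN := D.VN i
      SP := hP.SP
      two := D.S2
      syl := syl_not_dvd (D.syl hP.SP)
      fix := hAl i
      disj := by
        rw [eq_bot_iff]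
        rintro x ⟨hx, hx'⟩
        exact mem_bot.2 (D.dis' (ne_add_one i).symm hx (D.lV i hx'))
      le := D.lV (i + 1)
      ti := fun g _ hgn z hz hgz => by
        by_contra hz1
        exact hgn (mem_norm_iff.2 (D.fuse_eq hz hz1 hgz))
      mv := hP.mv
      AS := hAS
      AE := fun a ha => hP.lE a (hAS ha) (hAl (i + 1) ha)
      EP := hP.EP
      nE := hP.nE
      comm := fun a ha v hv => by
        have h1 := inv_mem (D.root (i + 1) v hv a (hAS ha) (hAl (i + 1) ha))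
        have e : (v * a * v⁻¹ * a⁻¹)⁻¹ = a * v * a⁻¹ * v⁻¹ := by group
        rwa [e] at h1
      cent := hAl (i + 1)
      gen := fun s hs hsE => hgen s hs (hP.El s hs hsE)
      nrm := hP.nrm
      reg := fun a ha ham v hv hav => by
        by_contra hvl
        exact ham (D.reg (i + 1) a (hAS ha) (hAl (i + 1) ha) v hv hvl hav)
      ab := comm_of_sq hA.sq
      cardV := D.cardV (i + 1)
      cardA := hcard
      no := fun C hC => D.no_N hML hK (hC.trans hA.le) fun a ha => hA.sq a (hC ha)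
      ex := D.mx_eq hML hK hA
      k3 := fun C hC he => hk3 C (hC.trans hA.le) (fun a ha => hA.sq a (hC ha)) (fun j => hC.trans (hAl j)) he.ge }

/-- **THEOREM I(q) over the lines** (helper918 #24444 (F5)): `N_0 ∩ N_1 ≤ l 0 l 1` -/
theorem inter (hML : ML.Final.MLK.{u, u}) (hK : ∀ i, IsKGroup (CC Z i)) (hP : ∀ i, ∃ P E, LE S V Z l i P E)
    (hAl : ∀ A, Mx (o2 (centralizer (zc (S : Subgroup G) : Set G))) A → ∀ i, A ≤ centralizer (l i : Set G))
    (hg3 : ∀ i, ∃ A : Subgroup G, Mx (o2 (centralizer (zc (S : Subgroup G) : Set G))) A ∧ A ≤ TwoZ.QQ Z i ∧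
      ¬ A ≤ centralizer (V i : Set G))
    (hk3 : ∀ (i : Fin 2) (B : Subgroup G), B ≤ o2 (centralizer (zc (S : Subgroup G) : Set G)) →
      (∀ b ∈ B, b ^ 2 = 1) → (∀ j, B ≤ centralizer (l j : Set G)) →
      (centralizer (B : Set G)).relIndex (TwoZ.NN Z i) ≤ (centralizer (TwoZ.NN Z i : Set G)).relIndex B →
      ∀ n ∈ TwoZ.NN Z i, (∀ b ∈ B, b * n * b⁻¹ * n⁻¹ ∈ l i) → ∀ b ∈ B, b * n = n * b) :
    PT.NN l (l 0) ⊓ PT.NN l (l 1) ≤ l 0 ⊔ l 1 := by
  rw [D.NN_eq, D.NN_eq]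
  have h10 : (1 : Fin 2) + 1 = 0 := rfl
  have h01 : (0 : Fin 2) + 1 = 1 := rfl
  obtain ⟨A, hA, hAQ, hAm⟩ := hg3 1
  obtain ⟨A', hA', hAQ', hAm'⟩ := hg3 0
  obtain ⟨P, E, hE⟩ := hP 0
  obtain ⟨P', E', hE'⟩ := hP 1
  have F := D.gdat hML (hK 0) (hk3 0) hA (hAl A hA) (by rw [h01]; exact hAm) hE
  have F' := D.gdat hML (hK 1) (hk3 1) hA' (hAl A' hA') (by rw [h10]; exact hAm') hE'
  rw [h01] at F
  rw [h10] at F'
  refine ThmIq.inter_le F F' (hAQ.trans (D.Q_cent_TN 1)) (hAQ'.trans (D.Q_cent_TN 0)) (D.Sl 0) (D.Sl 1) ?_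
  intro x hx hxS
  have h1 : (TwoZ.NN Z 0 ⊓ TwoZ.NN Z 1) ⊔ (l 0 ⊔ l 1) ≤ TwoZ.NN Z 0 ⊔ l 0 :=
    sup_le (inf_le_left.trans le_sup_left) (sup_le le_sup_right (((D.lV 1).trans (D.VN 0)).trans le_sup_left))
  have h2 : TwoZ.NN Z 0 ⊔ l 0 ≤ (S : Subgroup G) :=
    sup_le ((D.TN_le_Q 0).trans (D.Q_le_S 0)) (((D.lV 0).trans (D.VQ 0)).trans (D.Q_le_S 0))
  have h3 : x ∈ zc (S : Subgroup G) := mem_zc.2 ⟨h2 (h1 hx), fun b hb => mem_centralizer_iff.1 hxS b hb,
    ThmIq.sq_sup_of (D.TN_le_cl 0) (D.TN_sq 0) (fun x hx => D.sqV 0 x (D.lV 0 hx)) x (h1 hx)⟩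
  rw [D.zT] at h3
  exact sup_le_sup (D.Zl 0) (D.Zl 1) h3

end LFr

end Cfsg.Agent.Omega.KL.TwoZ.Line

end

section


/-!
# (F2) over the lines (helper918 #24444 (C)): the maximal `A ≤ O₂(C_G(Ω₁Z(S)))` centralise the lines

**`LFr.mx_le_cl`** : `Mx O A → A ≤ C(l i)`; no coordinates: `S` is cyclic on `l i`, `C_S(l i)` acts regularly and the
lines on `V i` are pairwise disjoint.
-/

set_option autoImplicit false
set_option linter.unusedSectionVars false

namespace Cfsg.Agent.Omega.KL.TwoZ.Line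

open Subgroup Cfsg Cfsg.Agent.Omega.MinPar
open Cfsg.Agent.ZN (o2 zc)
open Cfsg.Agent.Omega.NoFF.Basic (conj_conj mem_conj conj_le_iff comm_symm)
open Cfsg.Agent.Omega.NoFF.ThmJFam (card_sup_inf card_conj)
open Cfsg.Agent.Omega.TC.LemZ (card_eq)
open Cfsg.Agent.Omega.KL.TwoS (Mx comm_of_sq)
open Cfsg.Agent.Omega.OM
open scoped Pointwise

universe u

variable {G : Type u} [Group G]

/-- two elements which act on `l` as elements of a cyclic group and have trivial squares -/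
theorem cyc_two {t0 : G} {l : Subgroup G} (ht0 : t0 ∈ normalizer (l : Set G)) {a t : G} {m n : ℤ}
    (ha : a * a = 1) (ht : t * t = 1) (ham : ∀ v ∈ l, a * v * a⁻¹ = t0 ^ m * v * (t0 ^ m)⁻¹)
    (htn : ∀ v ∈ l, t * v * t⁻¹ = t0 ^ n * v * (t0 ^ n)⁻¹) (htl : t ∉ centralizer (l : Set G)) :
    a ∈ centralizer (l : Set G) ∨ a * t ∈ centralizer (l : Set G) := by
  have mem_c : ∀ g : G, g ∈ centralizer (l : Set G) ↔ ∀ v ∈ l, g * v * g⁻¹ = v := by
    intro g
    rw [mem_centralizer_iff]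
    constructor
    · intro h v hv
      rw [← h v hv, mul_inv_cancel_right]
    · intro h v hv
      calc v * g = (g * v * g⁻¹) * g := by rw [h v hv]
        _ = g * v := by group
  let H : AddSubgroup ℤ :=
    { carrier := {k | t0 ^ k ∈ centralizer (l : Set G)}
      zero_mem' := by
        show t0 ^ (0 : ℤ) ∈ centralizer (l : Set G)
        rw [zpow_zero]
        exact one_mem _
      add_mem' := fun {a b} (ha : t0 ^ a ∈ centralizer (l : Set G)) (hb : t0 ^ b ∈ centralizer (l : Set G)) => by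
        show t0 ^ (a + b) ∈ centralizer (l : Set G)
        rw [zpow_add]
        exact mul_mem ha hb
      neg_mem' := fun {a} (ha : t0 ^ a ∈ centralizer (l : Set G)) => by
        show t0 ^ (-a) ∈ centralizer (l : Set G)
        rw [zpow_neg]
        exact inv_mem ha }
  have hln : ∀ (k : ℤ), ∀ v ∈ l, t0 ^ k * v * (t0 ^ k)⁻¹ ∈ l := fun k v hv =>
    (mem_normalizer_iff.1 (zpow_mem ht0 k) v).1 hv
  have dbl : ∀ (g : G) (k : ℤ), g * g = 1 → (∀ v ∈ l, g * v * g⁻¹ = t0 ^ k * v * (t0 ^ k)⁻¹) → k + k ∈ H := by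
    intro g k hg hgk
    show t0 ^ (k + k) ∈ centralizer (l : Set G)
    rw [mem_c]
    intro v hv
    have h1 := hgk _ (hln k v hv)
    rw [← hgk v hv] at h1
    have e1 : g * (g * v * g⁻¹) * g⁻¹ = v := by
      calc g * (g * v * g⁻¹) * g⁻¹ = (g * g) * v * (g * g)⁻¹ := by group
        _ = v := by rw [hg]; group
    rw [e1, hgk v hv] at h1
    rw [zpow_add]
    calc t0 ^ k * t0 ^ k * v * (t0 ^ k * t0 ^ k)⁻¹ = t0 ^ k * (t0 ^ k * v * (t0 ^ k)⁻¹) * (t0 ^ k)⁻¹ := by group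
      _ = v := h1.symm
  have toC : ∀ (g : G) (k : ℤ), (∀ v ∈ l, g * v * g⁻¹ = t0 ^ k * v * (t0 ^ k)⁻¹) → k ∈ H →
      g ∈ centralizer (l : Set G) := by
    intro g k hgk hk
    rw [mem_c]
    intro v hv
    rw [hgk v hv]
    exact (mem_c _).1 hk v hv
  obtain ⟨N, hN⟩ := Int.subgroup_cyclic H
  have mem_H : ∀ k : ℤ, k ∈ H ↔ ∃ c : ℤ, c * N = k := by
    intro k
    rw [hN, AddSubgroup.mem_closure_singleton]
    simp only [smul_eq_mul]
  obtain ⟨α, hα⟩ := (mem_H _).1 (dbl a m ha ham)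
  obtain ⟨β, hβ⟩ := (mem_H _).1 (dbl t n ht htn)
  rcases Int.even_or_odd' α with ⟨α', h | h⟩
  · left
    refine toC a m ham ((mem_H _).2 ⟨α', ?_⟩)
    rw [h] at hα
    linarith
  · rcases Int.even_or_odd' β with ⟨β', h' | h'⟩
    · exfalso
      refine htl (toC t n htn ((mem_H _).2 ⟨β', ?_⟩))
      rw [h'] at hβ
      linarith
    · right
      refine toC (a * t) (m + n) (fun v hv => ?_) ((mem_H _).2 ⟨α' + β' + 1, ?_⟩)
      · have e1 : a * t * v * (a * t)⁻¹ = a * (t * v * t⁻¹) * a⁻¹ := by group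
        rw [e1, htn v hv, ham _ (hln n v hv), zpow_add]
        group
      · rw [h] at hα
        rw [h'] at hβ
        linarith

namespace LFr

variable [Finite G] {S : Sylow 2 G} {V Z l : Fin 2 → Subgroup G} (D : LFr S V Z l)

include D

/-- elements of `C_S(l i)` with the same commutator with one `v ∈ V i - l i` agree on `V i` -/
theorem reg_key {i : Fin 2} {v : G} (hv : v ∈ V i) (hvl : v ∉ l i) {t s : G} (ht : t ∈ (S : Subgroup G))
    (htl : t ∈ centralizer (l i : Set G)) (hs : s ∈ (S : Subgroup G)) (hsl : s ∈ centralizer (l i : Set G))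
    (h : t * v * t⁻¹ * v⁻¹ = s * v * s⁻¹ * v⁻¹) : t⁻¹ * s ∈ centralizer (V i : Set G) := by
  refine D.reg i _ (mul_mem (inv_mem ht) hs) (mul_mem (inv_mem htl) hsl) v hv hvl ?_
  have h1 : t * v * t⁻¹ = s * v * s⁻¹ := mul_right_cancel h
  calc t⁻¹ * s * v = t⁻¹ * (s * v * s⁻¹) * s := by group
    _ = t⁻¹ * (t * v * t⁻¹) * s := by rw [h1]
    _ = v * (t⁻¹ * s) := by group

/-- **(F2)** : the maximal `A ≤ O` centralise the lines -/
theorem mx_le_cl {A : Subgroup G} (hA : Mx (o2 (centralizer (zc (S : Subgroup G) : Set G))) A) (i : Fin 2) :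
    A ≤ centralizer (l i : Set G) := by
  by_contra hcon
  obtain ⟨t, htA, htl⟩ := SetLike.not_le_iff_exists.1 hcon
  have hAS : A ≤ (S : Subgroup G) := hA.le.trans D.O_le_S
  have hVO : V i ≤ o2 (centralizer (zc (S : Subgroup G) : Set G)) := (D.VQ i).trans (D.qq_le_O i)
  have hcm : ∀ a ∈ A, ∀ b ∈ A, a * b = b * a := fun a ha b hb => mem_centralizer_iff.1 (comm_of_sq hA.sq hb) a ha
  have hVc : ∀ x ∈ V i, ∀ y ∈ V i, x * y = y * x := fun x hx y hy => D.V_comm i hx hy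
  have hsq : ∀ a ∈ A, a * a = 1 := fun a ha => by rw [← pow_two]; exact hA.sq a ha
  obtain ⟨t0, ht0, hc⟩ := D.cyc i
  set q := Nat.card (l i) with hq
  -- `|A : C_A(l)| = 2`
  have h2 : (centralizer (l i : Set G)).relIndex A = 2 := by
    rw [Subgroup.relIndex_eq_two_iff]
    refine ⟨t, htA, fun b hb => ?_⟩
    obtain ⟨m, hm⟩ := hc b (hAS hb)
    obtain ⟨n, hn⟩ := hc t (hAS htA)
    rcases cyc_two (D.Sl i ht0) (hsq b hb) (hsq t htA) hm hn htl with h | h
    · refine Or.inr ⟨h, fun h' => htl ?_⟩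
      have := mul_mem (inv_mem h) h'
      rwa [inv_mul_cancel_left] at this
    · refine Or.inl ⟨h, fun h' => htl ?_⟩
      have := mul_mem (inv_mem h') h
      rwa [inv_mul_cancel_left] at this
  obtain ⟨v, hv, hvl⟩ := D.exists_notMem i
  obtain ⟨v0, hv0, hv0l, hv0S⟩ := ThmIq.exists_coset (S := (S : Subgroup G)) (K := V i) (K0 := l i) D.S2 (D.sqV i)
    (fun h => hvl (h hv)) (D.nV i) (D.Sl i)
  set f := Nat.card (l i ⊓ centralizer ({t} : Set G) : Subgroup G) with hf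
  have mem_ct : ∀ x : G, x ∈ centralizer ({t} : Set G) ↔ t * x = x * t := by
    intro x
    rw [mem_centralizer_singleton_iff]
    exact eq_comm
  -- `2 f ≤ q`
  have hf2 : 2 * f ≤ q := by
    have c1 := card_eq (l i) (centralizer ({t} : Set G))
    have c2 : (centralizer ({t} : Set G)).relIndex (l i) ≠ 1 := by
      intro h
      rw [relIndex_eq_one] at h
      exact htl (mem_centralizer_iff.2 fun x hx => ((mem_ct x).1 (h hx)).symm)
    have c3 : (centralizer ({t} : Set G)).relIndex (l i) ≠ 0 := (TwoS.relIndex_pos _ _).ne'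
    have c4 : 2 ≤ (centralizer ({t} : Set G)).relIndex (l i) := by omega
    rw [← hf, ← hq] at c1
    rw [c1, mul_comm]
    exact Nat.mul_le_mul_left f c4
  -- `2 ≤ f`
  have hf1 : 2 ≤ f := by
    have h1 : Z i ≤ l i ⊓ centralizer ({t} : Set G) := by
      refine le_inf (D.Zl i) fun z hz => (mem_ct z).2 ?_
      exact (mem_centralizer_iff.1 (D.Z_cent_S i hz) t (hAS htA))
    have h2 : 1 < Nat.card (Z i) := by
      rw [Subgroup.one_lt_card_iff_ne_bot]
      exact D.ne i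
    exact lt_of_lt_of_le h2 (card_le_of_le h1)
  set A0 : Subgroup G := A ⊓ centralizer (l i : Set G) with hA0
  -- `|A_0 : C(V)| ≤ f`
  have h3 : (centralizer (V i : Set G)).relIndex A0 ≤ f := by
    have hcm2 : ∀ a ∈ A0, a * v0 * a⁻¹ * v0⁻¹ ∈ l i ⊓ centralizer ({t} : Set G) := by
      rintro a ⟨ha, hal⟩
      have h1 := inv_mem (D.root i v0 hv0 a (hAS ha) hal)
      have e : (v0 * a * v0⁻¹ * a⁻¹)⁻¹ = a * v0 * a⁻¹ * v0⁻¹ := by group
      rw [e] at h1
      refine ⟨h1, (mem_ct _).2 ?_⟩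
      set x := t * v0 * t⁻¹ * v0⁻¹ with hx
      have hxl : x ∈ l i := hv0S t (hAS htA)
      have e1 : t * v0 * t⁻¹ = x * v0 := by rw [hx]; group
      have hta : t * a * t⁻¹ = a := by rw [hcm t htA a ha, mul_inv_cancel_right]
      have hax : a * x * a⁻¹ = x := by
        rw [← mem_centralizer_iff.1 hal x hxl, mul_inv_cancel_right]
      have e2 : t * (a * v0 * a⁻¹ * v0⁻¹) * t⁻¹ =
          (t * a * t⁻¹) * (t * v0 * t⁻¹) * (t * a * t⁻¹)⁻¹ * (t * v0 * t⁻¹)⁻¹ := by group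
      have e3 : t * (a * v0 * a⁻¹ * v0⁻¹) * t⁻¹ = x * (a * v0 * a⁻¹ * v0⁻¹) * x⁻¹ := by
        rw [e2, hta, e1]
        calc a * (x * v0) * a⁻¹ * (x * v0)⁻¹ = (a * x * a⁻¹) * (a * v0 * a⁻¹) * v0⁻¹ * x⁻¹ := by group
          _ = x * (a * v0 * a⁻¹) * v0⁻¹ * x⁻¹ := by rw [hax]
          _ = _ := by group
      have e4 : x * (a * v0 * a⁻¹ * v0⁻¹) = (a * v0 * a⁻¹ * v0⁻¹) * x :=
        hVc x (D.lV i hxl) _ (D.lV i h1)
      rw [e4, mul_inv_cancel_right] at e3
      calc t * (a * v0 * a⁻¹ * v0⁻¹) = (t * (a * v0 * a⁻¹ * v0⁻¹) * t⁻¹) * t := by group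
        _ = _ := by rw [e3]
    set C : Subgroup A0 := (centralizer (V i : Set G)).subgroupOf A0 with hC
    let g : A0 ⧸ C → (l i ⊓ centralizer ({t} : Set G) : Subgroup G) :=
      fun r => ⟨(r.out : A0) * v0 * ((r.out : A0) : G)⁻¹ * v0⁻¹, hcm2 _ (r.out : A0).2⟩
    have hg : Function.Injective g := by
      intro r r' h
      have h4 := D.reg_key hv0 hv0l (hAS (r.out : A0).2.1) (r.out : A0).2.2 (hAS (r'.out : A0).2.1)
        (r'.out : A0).2.2 (congrArg Subtype.val h)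
      rw [← Quotient.out_eq' r, ← Quotient.out_eq' r']
      exact QuotientGroup.eq.2 (mem_subgroupOf.2 h4)
    exact Nat.card_le_card_of_injective g hg
  -- `|A : C_A(V)| = 2 |A_0 : C_{A_0}(V)|`
  have hVl : centralizer (V i : Set G) ≤ centralizer (l i : Set G) := centralizer_le (D.lV i)
  have h4 : (centralizer (V i : Set G)).relIndex A = 2 * (centralizer (V i : Set G)).relIndex A0 := by
    have c1 := card_eq A (centralizer (V i : Set G))
    have c2 := card_eq A0 (centralizer (V i : Set G))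
    have c3 := card_eq A (centralizer (l i : Set G))
    have e : A0 ⊓ centralizer (V i : Set G) = A ⊓ centralizer (V i : Set G) := by
      apply le_antisymm
      · exact inf_le_inf_right _ inf_le_left
      · exact le_inf (le_inf inf_le_left (inf_le_right.trans hVl)) inf_le_right
    rw [e] at c2
    rw [h2, ← hA0, c1, c2, mul_assoc, mul_comm _ 2] at c3
    exact Nat.eq_of_mul_eq_mul_left Nat.card_pos c3
  have hth := hA.thom hVO (D.sqV i)
  have cV := card_eq (V i) (centralizer (A : Set G))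
  rw [D.cardV i, ← hq] at cV
  by_cases hA0V : A0 ≤ centralizer (V i : Set G)
  · -- `A_0` centralises `V`
    have h5 : (centralizer (V i : Set G)).relIndex A0 = 1 := relIndex_eq_one.2 hA0V
    rw [h4, h5, mul_one] at hth
    set W : Subgroup G := V i ⊓ centralizer ({t} : Set G) with hW
    have hWV : W ≤ V i := inf_le_left
    have hAW : V i ⊓ centralizer (A : Set G) ≤ W := by
      refine inf_le_inf_left _ fun x hx => (mem_ct x).2 ?_
      exact mem_centralizer_iff.1 hx t htA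
    have hWc : q * q ≤ Nat.card W * 2 := by
      rw [cV]
      exact Nat.mul_le_mul (card_le_of_le hAW) hth
    have hWl : W ⊓ l i = l i ⊓ centralizer ({t} : Set G) := by
      apply le_antisymm
      · exact le_inf inf_le_right (inf_le_left.trans inf_le_right)
      · exact le_inf (le_inf (inf_le_left.trans (D.lV i)) inf_le_right) inf_le_left
    have hlW : l i ≤ centralizer (W : Set G) := fun x hx => mem_centralizer_iff.2 fun y hy =>
      hVc y (hWV hy) x (D.lV i hx)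
    -- `V = W l`
    have hsup : V i ≤ W ⊔ l i := by
      have c5 := card_sup_inf (A := W) (B := l i) (comm_symm hlW)
      rw [hWl, ← hf, ← hq] at c5
      have hle : W ⊔ l i ≤ V i := sup_le hWV (D.lV i)
      have c7 : q * q ≤ Nat.card (W ⊔ l i : Subgroup G) := by
        set c := Nat.card (W ⊔ l i : Subgroup G) with hcdef
        have hq0 : 0 < q := Nat.card_pos
        have d1 : q * q * q ≤ c * q := by
          calc q * q * q ≤ (Nat.card W * 2) * q := Nat.mul_le_mul_right q hWc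
            _ = (Nat.card W * q) * 2 := by ring
            _ = (c * f) * 2 := by rw [c5]
            _ = c * (2 * f) := by ring
            _ ≤ c * q := Nat.mul_le_mul_left c hf2
        exact Nat.le_of_mul_le_mul_right d1 hq0
      exact (Subgroup.eq_of_le_of_card_ge hle (by rw [D.cardV i]; exact c7)).ge
    have hVt : ∀ y ∈ V i, t * y * t⁻¹ * y⁻¹ ∈ l i := by
      intro y hy
      obtain ⟨w, hw, x, hx, rfl⟩ := ThmIq.exists_mul_sup (comm_symm hlW) (hsup hy)
      have hw2 := (mem_ct w).1 hw.2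
      have e : t * (w * x) * t⁻¹ * (w * x)⁻¹ = (t * w) * x * t⁻¹ * x⁻¹ * w⁻¹ := by group
      have e2 : (t * w) * x * t⁻¹ * x⁻¹ * w⁻¹ = w * (t * x * t⁻¹ * x⁻¹) * w⁻¹ := by rw [hw2]; group
      have hxt : t * x * t⁻¹ * x⁻¹ ∈ l i :=
        mul_mem ((mem_normalizer_iff.1 (D.Sl i (hAS htA)) x).1 hx) (inv_mem hx)
      rw [e, e2, hVc w (hWV hw) _ (D.lV i hxt), mul_inv_cancel_right]
      exact hxt
    -- the line through a `t`-fixed vector
    have hpt : PT.IsPt l (l i) := ⟨i, 1, by rw [map_one, one_smul]⟩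
    have line : ∀ w ∈ W, w ∉ l i → ∃ k : G, MulAut.conj k • l i ≤ W ∧ w ∈ MulAut.conj k • l i := by
      intro w hw hwl
      have hw1 : w ≠ 1 := fun h => hwl (h ▸ one_mem _)
      obtain ⟨k, hkV, hwk⟩ := D.pts i w hw.1 hw1
      refine ⟨k, fun y hy => ⟨hkV hy, (mem_ct y).2 ?_⟩, hwk⟩
      have hk1 : PT.IsPt l (MulAut.conj k • l i) := ⟨i, k, rfl⟩
      have hk2 : PT.IsPt l (MulAut.conj t • (MulAut.conj k • l i)) := ⟨i, t * k, by rw [conj_conj]⟩
      have h6 : MulAut.conj t • (MulAut.conj k • l i) = MulAut.conj k • l i := by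
        by_contra hne
        have h7 := D.ti _ _ hk2 hk1 hne
        have h8 : w ∈ MulAut.conj t • (MulAut.conj k • l i) ⊓ MulAut.conj k • l i := by
          refine mem_inf.2 ⟨mem_conj.2 ?_, hwk⟩
          have hw3 := (mem_ct w).1 hw.2
          have e : t⁻¹ * w * t = w := by
            calc t⁻¹ * w * t = t⁻¹ * (w * t) := by group
              _ = w := by rw [← hw3]; group
          rw [e]
          exact hwk
        rw [h7, mem_bot] at h8
        exact hw1 h8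
      have h9 : t * y * t⁻¹ ∈ MulAut.conj k • l i := by
        rw [← h6]
        exact conj_mem hy
      have h10 : t * y * t⁻¹ * y⁻¹ ∈ MulAut.conj k • l i ⊓ l i := mem_inf.2 ⟨mul_mem h9 (inv_mem hy), hVt y (hkV hy)⟩
      have h11 : MulAut.conj k • l i ⊓ l i = ⊥ := D.ti _ _ hk1 hpt (fun h => hwl (h ▸ hwk))
      rw [h11, mem_bot, mul_inv_eq_one] at h10
      calc t * y = (t * y * t⁻¹) * t := by group
        _ = y * t := by rw [h10]
    obtain ⟨w, hwW, hwl⟩ : ∃ w ∈ W, w ∉ l i := by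
      by_contra hc2
      push Not at hc2
      have h6 : W ≤ W ⊓ l i := le_inf le_rfl hc2
      rw [hWl] at h6
      have h7 := card_le_of_le h6
      rw [← hf] at h7
      have h8 : q * q ≤ q := by
        calc q * q ≤ Nat.card W * 2 := hWc
          _ ≤ f * 2 := Nat.mul_le_mul_right 2 h7
          _ = 2 * f := mul_comm _ _
          _ ≤ q := hf2
      nlinarith
    obtain ⟨z, hz, hz1⟩ := D.exists_ne i
    have hzl : z ∈ l i := D.Zl i hz
    have hzW : z ∈ W := ⟨D.ZV i hz, (mem_ct z).2 (mem_centralizer_iff.1 (D.Z_cent_S i hz) t (hAS htA))⟩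
    obtain ⟨k, hk, hwk⟩ := line w hwW hwl
    obtain ⟨k', hk', hwk'⟩ := line (z * w) (mul_mem hzW hwW) (fun h => hwl (by
      have := mul_mem (inv_mem hzl) h
      rwa [inv_mul_cancel_left] at this))
    have hne : MulAut.conj k • l i ≠ MulAut.conj k' • l i := by
      intro h
      have h6 : z ∈ MulAut.conj k • l i := by
        have := mul_mem (h ▸ hwk' : z * w ∈ MulAut.conj k • l i) (inv_mem hwk)
        rwa [mul_inv_cancel_right] at this
      by_cases h7 : MulAut.conj k • l i = l i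
      · exact hwl (h7 ▸ hwk)
      · have h8 := D.ti _ _ ⟨i, k, rfl⟩ hpt h7
        have h9 : z ∈ MulAut.conj k • l i ⊓ l i := mem_inf.2 ⟨h6, hzl⟩
        rw [h8, mem_bot] at h9
        exact hz1 h9
    have hbot := D.ti _ _ ⟨i, k, rfl⟩ ⟨i, k', rfl⟩ hne
    have hcc : MulAut.conj k • l i ≤ centralizer ((MulAut.conj k' • l i : Subgroup G) : Set G) := fun x hx =>
      mem_centralizer_iff.2 fun y hy => hVc y (hWV (hk' hy)) x (hWV (hk hx))
    have c8 := card_sup_inf hcc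
    rw [hbot, Subgroup.card_bot, mul_one, card_conj, card_conj, ← hq] at c8
    have h12 : V i ≤ W := by
      have h13 : MulAut.conj k • l i ⊔ MulAut.conj k' • l i ≤ W := sup_le hk hk'
      have h14 := card_le_of_le h13
      rw [c8] at h14
      exact (Subgroup.eq_of_le_of_card_ge hWV (by rw [D.cardV i]; exact h14)).ge
    exact htl (mem_centralizer_iff.2 fun x hx => ((mem_ct x).1 (h12 (D.lV i hx)).2).symm)
  · -- `A_0` moves `V`
    have h5 : V i ⊓ centralizer (A : Set G) ≤ l i ⊓ centralizer ({t} : Set G) := by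
      rintro x ⟨hx, hxA⟩
      refine ⟨?_, (mem_ct x).2 (mem_centralizer_iff.1 hxA t htA)⟩
      by_contra hxl
      exact hA0V fun a ha => D.reg i a (hAS ha.1) ha.2 x hx hxl (mem_centralizer_iff.1 hxA a ha.1)
    have h6 := card_le_of_le h5
    rw [← hf] at h6
    rw [h4] at hth
    have h7 : q * q ≤ f * (2 * f) := by
      rw [cV]
      exact Nat.mul_le_mul h6 (hth.trans (Nat.mul_le_mul_left 2 h3))
    nlinarith

/-- **THEOREM I(q) over the lines**, (F2) plugged -/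
theorem inter' (hML : ML.Final.MLK.{u, u}) (hK : ∀ i, IsKGroup (TwoZ.CC Z i)) (hP : ∀ i, ∃ P E, LE S V Z l i P E)
    (hg3 : ∀ i, ∃ A : Subgroup G, Mx (o2 (centralizer (zc (S : Subgroup G) : Set G))) A ∧ A ≤ TwoZ.QQ Z i ∧
      ¬ A ≤ centralizer (V i : Set G))
    (hk3 : ∀ (i : Fin 2) (B : Subgroup G), B ≤ o2 (centralizer (zc (S : Subgroup G) : Set G)) →
      (∀ b ∈ B, b ^ 2 = 1) → (∀ j, B ≤ centralizer (l j : Set G)) →
      (centralizer (B : Set G)).relIndex (TwoZ.NN Z i) ≤ (centralizer (TwoZ.NN Z i : Set G)).relIndex B →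
      ∀ n ∈ TwoZ.NN Z i, (∀ b ∈ B, b * n * b⁻¹ * n⁻¹ ∈ l i) → ∀ b ∈ B, b * n = n * b) :
    PT.NN l (l 0) ⊓ PT.NN l (l 1) ≤ l 0 ⊔ l 1 :=
  D.inter hML hK hP (fun _ hA i => D.mx_le_cl hA i) hg3 hk3

end LFr

end Cfsg.Agent.Omega.KL.TwoZ.Line

end

section


/-!
# `LE` from 640's `NatS`: the data of THEOREM I(q) over the lines
-/

set_option autoImplicit false
set_option linter.unusedSectionVars false

namespace Cfsg.Agent.Omega.KL.TwoZ.Line

open Subgroup Cfsg Cfsg.Agent.Omega.MinPar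
open Cfsg.Agent.ZN (o2 zc)
open Cfsg.Agent.MinSimple.MinParabolic (IsMinPar)
open Cfsg.Agent.MinSimple.VModule (oddGen oddGen_def)
open Cfsg.Agent.Omega.NOThreeL.RRed (NatS)
open Cfsg.Agent.Omega.NoFF.Basic (conj_conj mem_conj conj_le_iff comm_symm)
open Cfsg.Agent.Omega.NoFF.ThmJFam (card_conj conj_inf)
open Cfsg.Agent.Omega.NOThreeL.Pair (conj_eq_of_mem)
open Cfsg.Agent.ZN.ChoiceSit (Syl exists_syl syl_conj)
open Cfsg.Agent.Omega.TC.LemZ (norm_cent)
open Cfsg.Agent.Omega.KL.TwoS (Mx)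
open Cfsg.Agent.Omega.KL.TwoZ (CC)
open Cfsg.Agent.Omega.OM
open scoped Pointwise

universe u

variable {G : Type u} [Group G] [Finite G] {S : Sylow 2 G} {V Z l : Fin 2 → Subgroup G}

/-- **the data of THEOREM I(q) over the lines from the coordinates of `V (i+1)`** -/
theorem LFr.le_of_natS (D : LFr S V Z l) {i : Fin 2} {F : Type} [Field F] [Finite F] [CharP F 2] {P W : Subgroup G}
    (N : NatS F (S : Subgroup G) P (V (i + 1)) W (l (i + 1))) (hW : Z i ≤ W)
    (hP : IsMinPar (S : Subgroup G) P) : LE S V Z l i P N.E := by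
  have hmv : ¬ P ≤ normalizer (l (i + 1) : Set G) := by
    intro h
    obtain ⟨v, hv, hvl⟩ := D.exists_notMem (i + 1)
    obtain ⟨z, hz, hz1⟩ := D.exists_ne (i + 1)
    obtain ⟨g, hg, hgv⟩ := N.trans hv (fun h' => hvl (h' ▸ one_mem _)) (D.ZV _ hz) hz1 (D.Z_cent_S _ hz)
    have hgP : g ∈ P := (by
      rw [oddGen_def] at hg
      exact (closure_le _).2 (fun x hx => hx.1) hg)
    apply hvl
    have h1 := (mem_normalizer_iff.1 (h hgP) v).2
    exact h1 (by rw [hgv]; exact D.Zl _ hz)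
  refine
    { SP := N.SP
      PC := ?_
      PV := N.nV
      mv := hmv
      nrm := LE.nrm_of hP N.nV fun h => hmv (h.trans (sup_le ?_ (D.Sl (i + 1))))
      EP := N.E_le
      nE := N.E_norm
      lE := fun s hs hsl => N.cl_le_E hs hsl
      El := fun s hs hsE => N.E_cl hs hsE }
  · rw [← Star.Core.oddGen_sup N.SP N.syl]
    exact sup_le (N.odd_le.trans (centralizer_le hW)) (D.S_le_C i)
  · exact inf_le_right.trans ((centralizer_le (D.lV _)).trans (centralizer_le_normalizer _))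

/-- Frattini: `P = C_P(U) N_P(S ∩ C(U))` -/
theorem frat_of {P U : Subgroup G} (hSP : (S : Subgroup G) ≤ P) (hU : P ≤ normalizer (U : Set G)) {g : G}
    (hg : g ∈ P) : ∃ k ∈ P ⊓ centralizer (U : Set G),
      k⁻¹ * g ∈ normalizer (((S : Subgroup G) ⊓ centralizer (U : Set G) : Subgroup G) : Set G) := by
  set K : Subgroup G := P ⊓ centralizer (U : Set G) with hK
  set T : Subgroup G := (S : Subgroup G) ⊓ centralizer (U : Set G) with hT
  have hTK : T ≤ K := inf_le_inf_right _ hSP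
  have hn0 : P ≤ normalizer (K : Set G) := ThmIq.le_norm_of_conj fun g hg y hy =>
    mem_inf.2 ⟨P.mul_mem (P.mul_mem hg hy.1) (P.inv_mem hg), (mem_normalizer_iff.1 (norm_cent hU hg) y).1 hy.2⟩
  have hn : ∀ x ∈ P, MulAut.conj x • K = K := fun x hx => conj_eq_of_mem (hn0 hx)
  have hsylP : Syl (S : Subgroup G) P := ⟨hSP, S.2, fun R _ hR2 hSR => S.3 hR2 hSR⟩
  have hSK : (S : Subgroup G) ⊓ K = T := by
    rw [hK, ← inf_assoc, inf_eq_left.2 hSP]
  have hsyl : Syl T K := by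
    refine ⟨hTK, S.2.to_le inf_le_left, fun Q hQ hQ2 hle => ?_⟩
    obtain ⟨R, hR, hQR⟩ := exists_syl hQ2 (hQ.trans inf_le_left : Q ≤ P)
    obtain ⟨h, hh, e⟩ := syl_conj hsylP hR
    have e' : MulAut.conj h • (S : Subgroup G) = R := e
    have h1 : Q ≤ MulAut.conj h • T := by
      rw [← hSK, conj_inf, e', hn h hh]
      exact le_inf hQR hQ
    have h2 := card_le_of_le h1
    rw [card_conj] at h2
    exact (Subgroup.eq_of_le_of_card_ge hle h2).symm
  have h1 : MulAut.conj g • T ≤ K := by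
    rw [← hn g hg]
    exact conj_le_iff.2 hTK
  obtain ⟨R, hR, hTR⟩ := exists_syl ((S.2.to_le inf_le_left : IsPGroup 2 T).map (MulAut.conj g).toMonoidHom) h1
  have hTR' : MulAut.conj g • T ≤ R := hTR
  obtain ⟨k, hk, e⟩ := syl_conj hsyl hR
  have e' : MulAut.conj k • T = R := e
  have h2 : MulAut.conj g • T = MulAut.conj k • T := by
    rw [e']
    refine Subgroup.eq_of_le_of_card_ge hTR' ?_
    rw [← e', card_conj, card_conj]
  refine ⟨k, hk, mem_norm_iff.2 ?_⟩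
  rw [← conj_conj, h2, conj_conj, inv_mul_cancel, map_one, one_smul]

/-- the same, `P` arbitrary -/
theorem LFr.exists_le_of_natS (D : LFr S V Z l) {i : Fin 2} {F : Type} [Field F] [Finite F] [CharP F 2]
    {P W : Subgroup G} (N : NatS F (S : Subgroup G) P (V (i + 1)) W (l (i + 1))) (hW : Z i ≤ W) :
    ∃ P' E', LE S V Z l i P' E' := by
  set K : Subgroup G := normalizer (((S : Subgroup G) ⊓ centralizer (V (i + 1) : Set G) : Subgroup G) : Set G) with hK
  have hSK : (S : Subgroup G) ≤ K := ThmIq.le_norm_of_conj fun g hg x hx =>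
    mem_inf.2 ⟨(S : Subgroup G).mul_mem ((S : Subgroup G).mul_mem hg hx.1) ((S : Subgroup G).inv_mem hg),
      (mem_normalizer_iff.1 (norm_cent (D.nV (i + 1)) hg) x).1 hx.2⟩
  have hPC : P ≤ centralizer (Z i : Set G) := by
    rw [← Star.Core.oddGen_sup N.SP N.syl]
    exact sup_le (N.odd_le.trans (centralizer_le hW)) (D.S_le_C i)
  have hmv : ¬ P ≤ normalizer (l (i + 1) : Set G) := by
    intro h
    obtain ⟨v, hv, hvl⟩ := D.exists_notMem (i + 1)
    obtain ⟨z, hz, hz1⟩ := D.exists_ne (i + 1)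
    obtain ⟨g, hg, hgv⟩ := N.trans hv (fun h' => hvl (h' ▸ one_mem _)) (D.ZV _ hz) hz1 (D.Z_cent_S _ hz)
    have hgP : g ∈ P := (by
      rw [oddGen_def] at hg
      exact (closure_le _).2 (fun x hx => hx.1) hg)
    apply hvl
    have h1 := (mem_normalizer_iff.1 (h hgP) v).2
    exact h1 (by rw [hgv]; exact D.Zl _ hz)
  refine ⟨P ⊓ K, N.E ⊓ (P ⊓ K),
    { SP := le_inf N.SP hSK
      PC := inf_le_left.trans hPC
      PV := inf_le_left.trans N.nV
      mv := fun h => hmv fun g hg => ?_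
      nrm := inf_le_right
      EP := inf_le_right
      nE := ThmIq.le_norm_of_conj fun g hg x hx => ⟨(mem_normalizer_iff.1 (N.E_norm hg.1) x).1 hx.1,
        (P ⊓ K).mul_mem ((P ⊓ K).mul_mem hg hx.2) ((P ⊓ K).inv_mem hg)⟩
      lE := fun s hs hsl => ⟨N.cl_le_E hs hsl, N.SP hs, hSK hs⟩
      El := fun s hs hsE => N.E_cl hs hsE.1 }⟩
  obtain ⟨k, hk, hkg⟩ := frat_of N.SP N.nV hg
  have h1 : k⁻¹ * g ∈ P ⊓ K := ⟨P.mul_mem (P.inv_mem hk.1) hg, hkg⟩
  have h2 : k ∈ normalizer (l (i + 1) : Set G) := centralizer_le_normalizer _ (centralizer_le (D.lV _) hk.2)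
  have h3 := mul_mem h2 (h h1)
  rwa [mul_inv_cancel_left] at h3

/-- **THEOREM I(q) over the lines from coordinates** -/
theorem LFr.inter_natS (D : LFr S V Z l) (hML : ML.Final.MLK.{u, u}) (hK : ∀ i, IsKGroup (CC Z i))
    (hN : ∀ i, ∃ (F : Type) (_ : Field F) (_ : Finite F) (_ : CharP F 2) (P : Subgroup G),
      Nonempty (NatS F (S : Subgroup G) P (V i) (V (i + 1)) (l i)))
    (hg3 : ∀ i, ∃ A : Subgroup G, Mx (o2 (centralizer (zc (S : Subgroup G) : Set G))) A ∧ A ≤ TwoZ.QQ Z i ∧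
      ¬ A ≤ centralizer (V i : Set G))
    (hk3 : ∀ (i : Fin 2) (B : Subgroup G), B ≤ o2 (centralizer (zc (S : Subgroup G) : Set G)) →
      (∀ b ∈ B, b ^ 2 = 1) → (∀ j, B ≤ centralizer (l j : Set G)) →
      (centralizer (B : Set G)).relIndex (TwoZ.NN Z i) ≤ (centralizer (TwoZ.NN Z i : Set G)).relIndex B →
      ∀ n ∈ TwoZ.NN Z i, (∀ b ∈ B, b * n * b⁻¹ * n⁻¹ ∈ l i) → ∀ b ∈ B, b * n = n * b) :
    PT.NN l (l 0) ⊓ PT.NN l (l 1) ≤ l 0 ⊔ l 1 :=
  D.inter' hML hK (fun i => by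
    obtain ⟨F, iF, iF', iF2, P, ⟨N⟩⟩ := hN (i + 1)
    refine D.exists_le_of_natS N ?_
    rw [PT.add2]
    exact D.ZV i) hg3 hk3

end Cfsg.Agent.Omega.KL.TwoZ.Line

end

end

-- merged: Cfsg.Agent.Mrg.Omega.KL.TwoM.Fr
section

section


/-!
# Two centres `Z 0`, `Z 1` of any order with arbitrary `V 0`, `V 1`: no condition on the minimal parabolics but `uni`

`TwoZ.Fr` without `mvs` and `odd`, with `V 0 ∩ V 1 = 1` (helper692 #24722 (2), helper241 #24672, helper863 #24788): torus and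
diagonal parabolics (K2's), field automorphisms and any number of blocks are allowed.

`T` is a Sylow 2-subgroup of `C_i = C_G(Z i)` (`i = 0, 1`), `Ω₁Z(T) = Z 0 Z 1`, `D = C_G(Ω₁Z(T)) = C_0 ∩ C_1`,
`O = O₂(D)`, `⟨C_0, C_1⟩` nonlocal; `V i ≥ Z i` elementary abelian, normalised by `T` and by `N_{C_j}(T)`, `V 0 ∩ V 1 = 1`,
`V i ≤ O₂(C_i)`, the conjugates of `V i` under `C_i` commute, `V (i+1) ≤ N_i = ⟨Z (i+1) ^ C_i⟩`; some `T`-minimal
`R ≤ C_i` moves `Z (i+1)`; every `T`-minimal `R ≤ C_j` (`j ≠ i`) which moves `Z i` normalises `V 0` and `V 1`.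

* `Fr` : the frame; `Fr.dis'` : `V i ∩ Z (i+1) = 1`; `Fr.cV` : `C_{V i}(T) = Z i`.
-/

set_option autoImplicit false
set_option linter.unusedSectionVars false

namespace Cfsg.Agent.Omega.KL.TwoM

open Subgroup Cfsg Cfsg.Agent.Omega.MinPar
open Cfsg.Agent.ZN (o2 zc)
open Cfsg.Agent.Omega.OM.KTwo (ne_add_one eq_add_one add_one_add_one le_normalizer_V le_V exists_mul_of_mem_sup)
open Cfsg.Agent.MinSimple.MinParabolic (IsMinPar)
open Cfsg.Agent.Omega.NoFF.Basic (conj_conj mem_conj conj_le_iff comm_symm comm_mono Z_le_V V_le)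
open Cfsg.Agent.Omega.NOThreeL.Pair (conj_eq_of_mem conj_le_normalizer)
open Cfsg.Agent.Omega.NoFF.ThmJFam (card_sup_inf card_conj)
open Cfsg.Agent.ZN.ChoiceSit (Syl exists_syl syl_conj o2_le_syl)
open Cfsg.Agent.MinSimple.VModule (mem_zc zc_le normalizer_le_normalizer_zc le_o2
  o2_isPGroup o2_le zc_le_centralizer le_centralizer_zc le_normalizer_o2)
open Cfsg.Agent.Omega.TC.LemZ (card_eq le_norm_of norm_cent norm_inf)
open Cfsg.Agent.Omega.KL.TwoS (Mx comm_of_sq sq_sup relIndex_le_of_sup sup_of_relIndex_le)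
open Cfsg.Agent.Omega.KL.TwoZ (CC QQ NH NN WW UU HH V_le_of norm_V norm_o2_of sq_conj sq_V)
open scoped Pointwise

universe u

variable {G : Type u} [Group G]

/-- **the frame** -/
structure Fr [Finite G] (T : Subgroup G) (V Z : Fin 2 → Subgroup G) : Prop where
  char2 : ∀ i, centralizer (Z i : Set G) ⊓ centralizer (o2 (centralizer (Z i : Set G)) : Set G) ≤
    o2 (centralizer (Z i : Set G))
  sqV : ∀ i, ∀ x ∈ V i, x ^ 2 = 1
  ZV : ∀ i, Z i ≤ V i
  ne : ∀ i, Z i ≠ ⊥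
  zT : zc T = Z 0 ⊔ Z 1
  syl : ∀ i, Syl T (centralizer (Z i : Set G))
  nT : ∀ i, centralizer (Z i : Set G) ⊓ normalizer (T : Set G) ≤
    normalizer (Z (i + 1) : Set G) ⊓ normalizer (V i : Set G) ⊓ normalizer (V (i + 1) : Set G)
  nV : ∀ i, T ≤ normalizer (V i : Set G)
  VQ : ∀ i, V i ≤ o2 (centralizer (Z i : Set G))
  VC : ∀ i, ∀ c ∈ centralizer (Z i : Set G), MulAut.conj c • V i ≤ centralizer (V i : Set G)
  VN : ∀ i, V (i + 1) ≤ NoFF.Basic.V (Z (i + 1)) (centralizer (Z i : Set G))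
  par : ∀ i, ∃ R : Subgroup G, IsMinPar T R ∧ R ≤ centralizer (Z i : Set G) ∧ ¬ R ≤ centralizer (Z (i + 1) : Set G)
  uni : ∀ i j, i ≠ j → ∀ R : Subgroup G, IsMinPar T R → R ≤ centralizer (Z j : Set G) →
    ¬ R ≤ centralizer (Z i : Set G) → ∀ k, R ≤ normalizer (V k : Set G)
  dis : V 0 ⊓ V 1 = ⊥
  nonloc : NonLoc (centralizer (Z 0 : Set G)) (centralizer (Z 1 : Set G))

namespace Fr

variable [Finite G] {T : Subgroup G} {V Z : Fin 2 → Subgroup G} (D : Fr T V Z)

include D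

/-! ### Easy facts -/

theorem T_isPGroup : IsPGroup 2 T := (D.syl 0).2.1

theorem T_le_C (i : Fin 2) : T ≤ CC Z i := (D.syl i).1

theorem Z_sq (i : Fin 2) : ∀ z ∈ Z i, z ^ 2 = 1 := fun z hz => D.sqV i z (D.ZV i hz)

theorem Z_le_zc (i : Fin 2) : Z i ≤ zc T := by
  rw [D.zT]
  rcases Fin.exists_fin_two.1 ⟨i, rfl⟩ with h | h
  · rw [h]; exact le_sup_left
  · rw [h]; exact le_sup_right

theorem Q_le_T (i : Fin 2) : QQ Z i ≤ T := o2_le_syl (D.syl i)

theorem Z_le_T (i : Fin 2) : Z i ≤ T := (D.Z_le_zc i).trans (zc_le _)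

theorem comm_Z (i : Fin 2) : T ≤ centralizer (Z i : Set G) := D.T_le_C i

theorem Z_cent_T (i : Fin 2) : Z i ≤ centralizer (T : Set G) := comm_symm (D.T_le_C i)

theorem Z_le_Q (i j : Fin 2) : Z j ≤ QQ Z i := by
  refine le_trans (le_inf ((D.Z_le_T j).trans (D.T_le_C i)) ?_) (D.char2 i)
  exact (D.Z_cent_T j).trans (centralizer_le (D.Q_le_T i))

theorem cent_zc_le (i : Fin 2) : centralizer (zc T : Set G) ≤ CC Z i := centralizer_le (D.Z_le_zc i)

theorem CC_inf : CC Z 0 ⊓ CC Z 1 ≤ centralizer (zc T : Set G) := by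
  rw [D.zT]
  rintro c ⟨h0, h1⟩
  have h2 : Z 0 ⊔ Z 1 ≤ centralizer ({c} : Set G) := by
    refine sup_le (fun x hx => ?_) (fun x hx => ?_)
    · exact mem_centralizer_singleton_iff.2 (mem_centralizer_iff.1 h0 x hx)
    · exact mem_centralizer_singleton_iff.2 (mem_centralizer_iff.1 h1 x hx)
  rw [mem_centralizer_iff]
  exact fun x hx => mem_centralizer_singleton_iff.1 (h2 hx)

theorem le_D {i : Fin 2} {H : Subgroup G} (h : H ≤ CC Z i) (h' : H ≤ CC Z (i + 1)) : H ≤ centralizer (zc T : Set G) := by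
  refine le_trans ?_ D.CC_inf
  rcases Fin.exists_fin_two.1 ⟨i, rfl⟩ with e | e
  · subst e; exact le_inf h h'
  · subst e; exact le_inf h' h

theorem mem_D {i : Fin 2} {c : G} (h : c ∈ CC Z i) (h' : c ∈ CC Z (i + 1)) : c ∈ centralizer (zc T : Set G) := by
  apply D.CC_inf
  rcases Fin.exists_fin_two.1 ⟨i, rfl⟩ with e | e
  · subst e; exact ⟨h, h'⟩
  · subst e; exact ⟨h', h⟩

theorem T_le_D : T ≤ centralizer (zc T : Set G) := le_centralizer_zc T

theorem syl_D : Syl T (centralizer (zc T : Set G)) :=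
  ⟨D.T_le_D, D.T_isPGroup, fun R hR hR2 hTR => (D.syl 0).2.2 R (hR.trans (D.cent_zc_le 0)) hR2 hTR⟩

theorem O_le_T : o2 (centralizer (zc T : Set G)) ≤ T := o2_le_syl D.syl_D

theorem Q_le_O (i : Fin 2) : QQ Z i ≤ o2 (centralizer (zc T : Set G)) :=
  le_o2 ((D.Q_le_T i).trans D.T_le_D) (o2_isPGroup _) ((D.cent_zc_le i).trans (le_normalizer_o2 _))

theorem nonloc' {i : Fin 2} {W : Subgroup G} (hW : IsPGroup 2 W) (h : CC Z i ≤ normalizer (W : Set G))
    (h' : CC Z (i + 1) ≤ normalizer (W : Set G)) : W = ⊥ := by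
  rcases Fin.exists_fin_two.1 ⟨i, rfl⟩ with e | e
  · subst e; exact D.nonloc W hW h h'
  · subst e; exact D.nonloc W hW h' h

/-! ### `N_i` -/

theorem N_le (i : Fin 2) {X : Subgroup G} (hX : CC Z i ≤ normalizer (X : Set G)) (h : Z (i + 1) ≤ X) : NN Z i ≤ X :=
  V_le_of h hX

theorem N_le_Q (i : Fin 2) : NN Z i ≤ QQ Z i := V_le_of (D.Z_le_Q i (i + 1)) (le_normalizer_o2 _)

theorem N_le_cent_Q (i : Fin 2) : NN Z i ≤ centralizer (QQ Z i : Set G) :=
  V_le_of ((D.Z_cent_T (i + 1)).trans (centralizer_le (D.Q_le_T i))) (norm_cent (le_normalizer_o2 _))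

theorem Q_le_cent_N (i : Fin 2) : QQ Z i ≤ centralizer (NN Z i : Set G) := comm_symm (D.N_le_cent_Q i)

theorem N_comm (i : Fin 2) : NN Z i ≤ centralizer (NN Z i : Set G) := (D.N_le_Q i).trans (D.Q_le_cent_N i)

theorem N_le_O (i : Fin 2) : NN Z i ≤ o2 (centralizer (zc T : Set G)) := (D.N_le_Q i).trans (D.Q_le_O i)

theorem N_le_C (i j : Fin 2) : NN Z i ≤ CC Z j := ((D.N_le_Q i).trans (D.Q_le_T i)).trans (D.T_le_C j)

theorem N_sq (i : Fin 2) : ∀ x ∈ NN Z i, x ^ 2 = 1 := sq_V (D.Z_sq (i + 1)) (D.N_comm i)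

/-- a normal subgroup of `C_i` which centralises `Z (i+1)` centralises `N_i` -/
theorem cent_N_of_le {i : Fin 2} {X : Subgroup G} (hn : CC Z i ≤ normalizer (X : Set G)) (hX : X ≤ CC Z (i + 1)) :
    X ≤ centralizer (NN Z i : Set G) :=
  comm_symm (V_le_of (comm_symm hX) (norm_cent hn))

theorem cent_N_le (i : Fin 2) : centralizer (NN Z i : Set G) ≤ CC Z (i + 1) := centralizer_le (le_V _ _)

/-- `C_O(N_i) = Q_i` -/
theorem O_inf_le (i : Fin 2) : o2 (centralizer (zc T : Set G)) ⊓ centralizer (NN Z i : Set G) ≤ QQ Z i := by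
  have h1 := GenTool.o2_inf_le (L := CC Z i) (N := CC Z i ⊓ centralizer (NN Z i : Set G))
    (R := centralizer (zc T : Set G)) inf_le_left
    (fun g hg x hx => ⟨(CC Z i).mul_mem ((CC Z i).mul_mem hg hx.1) ((CC Z i).inv_mem hg),
      (mem_normalizer_iff.1 (norm_cent (le_normalizer_V (Z (i + 1)) (CC Z i)) hg) x).1 hx.2⟩)
    (fun x hx => D.mem_D hx.1 (D.cent_N_le i hx.2))
  refine le_trans ?_ h1
  exact le_inf inf_le_left (le_inf ((inf_le_left.trans D.O_le_T).trans (D.T_le_C i)) inf_le_right)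

/-- `V i ∩ V (i+1) = 1` -/
theorem disV (i : Fin 2) : ∀ z ∈ V i, z ∈ V (i + 1) → z = 1 := by
  intro z hz hz2
  have h1 : z ∈ V 0 ⊓ V 1 := by
    rcases Fin.exists_fin_two.1 ⟨i, rfl⟩ with e | e
    · subst e; exact ⟨hz, hz2⟩
    · subst e; exact ⟨hz2, hz⟩
  rw [D.dis] at h1
  exact mem_bot.1 h1

/-- `V i ∩ Z (i+1) = 1` -/
theorem dis' (i : Fin 2) : ∀ z ∈ V i, z ∈ Z (i + 1) → z = 1 := fun z hz hz2 => D.disV i z hz (D.ZV _ hz2)

/-- `C_{V i}(T) = Z i` -/
theorem cV (i : Fin 2) : ∀ w ∈ V i, w ∈ centralizer (T : Set G) → w ∈ Z i := by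
  intro w hw hwT
  have h1 : w ∈ zc T :=
    mem_zc.2 ⟨(D.Q_le_T i) (D.VQ i hw), fun t ht => mem_centralizer_iff.1 hwT t ht, D.sqV i w hw⟩
  rw [D.zT] at h1
  have hc : Z 1 ≤ normalizer (Z 0 : Set G) :=
    ((D.Z_le_T 1).trans (D.T_le_C 0)).trans (centralizer_le_normalizer _)
  obtain ⟨a, ha, b, hb, rfl⟩ := exists_mul_of_mem_sup hc h1
  rcases Fin.exists_fin_two.1 ⟨i, rfl⟩ with e | e
  · subst e
    have h2 : b ∈ V 0 := by
      have := mul_mem (inv_mem (D.ZV 0 ha)) hw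
      rwa [inv_mul_cancel_left] at this
    rw [D.dis' 0 b h2 hb, mul_one]
    exact ha
  · subst e
    have h2 : a ∈ V 1 := by
      have := mul_mem hw (inv_mem (D.ZV 1 hb))
      rwa [mul_inv_cancel_right] at this
    rw [D.dis' 1 a h2 ha, one_mul]
    exact hb

theorem exists_move (i : Fin 2) : ¬ CC Z i ≤ CC Z (i + 1) := by
  intro h1
  have h2 := D.nonloc' (i := i) (W := QQ Z (i + 1)) (o2_isPGroup _) (h1.trans (le_normalizer_o2 _))
    (le_normalizer_o2 _)
  have h3 := D.Z_le_Q (i + 1) i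
  rw [h2, le_bot_iff] at h3
  exact D.ne i h3

/-- `V (i+1) ≤ N_i` -/
theorem V_le_N (i : Fin 2) : V (i + 1) ≤ NN Z i := D.VN i

/-! ### `W_i`, `U_i` -/

theorem cent_V_le (i : Fin 2) : centralizer (V i : Set G) ≤ CC Z i := centralizer_le (D.ZV i)

theorem U_le_N (i : Fin 2) : UU V Z i ≤ NN Z i :=
  V_le_of (le_V _ _) ((D.cent_V_le i).trans (le_normalizer_V _ _))

theorem U_sq (i : Fin 2) : ∀ x ∈ UU V Z i, x ^ 2 = 1 := fun x hx => D.N_sq i x (D.U_le_N i hx)

theorem norm_U (i : Fin 2) : normalizer (V i : Set G) ⊓ normalizer (Z (i + 1) : Set G) ≤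
    normalizer (UU V Z i : Set G) :=
  norm_V inf_le_right (inf_le_left.trans (norm_cent (A := normalizer (V i : Set G)) le_rfl))

theorem H_le_C (i : Fin 2) : HH T V i ≤ CC Z i := sup_le (D.cent_V_le i) (D.T_le_C i)

theorem T_le_H (i : Fin 2) : T ≤ HH T V i := le_sup_right

theorem H_le_norm_U (i : Fin 2) : HH T V i ≤ normalizer (UU V Z i : Set G) :=
  sup_le (le_normalizer_V _ _)
    ((le_inf (D.nV i) ((D.T_le_C _).trans (centralizer_le_normalizer _))).trans (D.norm_U i))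

theorem NH_H (i : Fin 2) : NH Z i (HH T V i) = UU V Z i := by
  apply le_antisymm
  · exact V_le_of (le_V _ _) (D.H_le_norm_U i)
  · exact V_le_of (le_V _ _) (le_sup_left.trans (le_normalizer_V _ _))

theorem W_le_Q (i : Fin 2) : WW V Z i ≤ QQ Z i := V_le_of (D.VQ i) (le_normalizer_o2 _)

theorem W_comm (i : Fin 2) : WW V Z i ≤ centralizer (WW V Z i : Set G) := by
  refine V_le fun c hc => comm_symm (V_le fun d hd => ?_)
  have h1 := D.VC i (c⁻¹ * d) (mul_mem (inv_mem hc) hd)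
  have h2 : MulAut.conj c • (MulAut.conj (c⁻¹ * d) • V i) ≤ MulAut.conj c • centralizer (V i : Set G) :=
    conj_le_iff.2 h1
  rw [conj_conj, mul_inv_cancel_left, NoFF.ThmJFam.conj_cent] at h2
  exact h2

theorem W_sq (i : Fin 2) : ∀ x ∈ WW V Z i, x ^ 2 = 1 := sq_V (D.sqV i) (D.W_comm i)

end Fr

end Cfsg.Agent.Omega.KL.TwoM

end

section


/-!
# EX for both sides over `TwoM.Fr`: the exact group for THEOREM KL*

`O = O₂(D)`; `Mx O A` : `A` elementary abelian of maximal order in `O`.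

* `Fr.no_H`, `Fr.no_N` : (NO), by helper863's flag (NO); `Fr.mx` : `A` is exact on `N_i`, `C_A(N_i) N_i` is maximal in `O` and
  contained in `Q_i`;
* `Fr.ex_U` : `B = C_A(U_i)` : `B ≤ O₂(C_G(V i) T)`, `|B : C_B(N_i)| = |N_i : C_{N_i}(B)|`;
* `TwoZ.Fail i` : `C_A(U_i) = C_A(N_i)` for all maximal `A ≤ Q_{i+1}`; `Fr.not_both` : not both sides fail;
* `Out` : the output, with `[V i, B] = 1`; **`Fr.ex`** : there is an `Out`, or for both `i` : not `Fail i`, `V i ≰ N_i`,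
  `J(O)` moves `V i`.
-/

set_option autoImplicit false
set_option linter.unusedSectionVars false

namespace Cfsg.Agent.Omega.KL.TwoM

open Subgroup Cfsg Cfsg.Agent.Omega.MinPar
open Cfsg.Agent.ZN (o2 zc)
open Cfsg.Agent.Omega.OM.KTwo (ne_add_one eq_add_one add_one_add_one le_normalizer_V le_V exists_mul_of_mem_sup)
open Cfsg.Agent.MinSimple.MinParabolic (IsMinPar)
open Cfsg.Agent.Omega.NoFF.Basic (conj_conj mem_conj conj_le_iff comm_symm comm_mono Z_le_V V_le)
open Cfsg.Agent.Omega.NOThreeL.Pair (conj_eq_of_mem conj_le_normalizer)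
open Cfsg.Agent.Omega.NoFF.ThmJFam (card_sup_inf card_conj conj_cent conj_inf)
open Cfsg.Agent.ZN.ChoiceSit (Syl exists_syl syl_conj o2_le_syl syl_not_dvd)
open Cfsg.Agent.MinSimple.VModule (mem_zc zc_le normalizer_le_normalizer_zc le_o2
  o2_isPGroup o2_le zc_le_centralizer le_centralizer_zc le_normalizer_o2)
open Cfsg.Agent.Omega.TC (kgroup_mono)
open Cfsg.Agent.Omega.TC.LemZ (card_eq le_norm_of norm_cent norm_inf)
open Cfsg.Agent.Omega.KL.TwoS (Mx comm_of_sq sq_sup relIndex_le_of_sup sup_of_relIndex_le relIndex_pos relIndex_mono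
  relIndex_anti relIndex_split)
open Cfsg.Agent.Omega.KL.TwoZ (CC QQ NH NN WW UU HH V_le_of norm_V norm_o2_of sq_conj sq_V Fail SS MM)
open scoped Pointwise

universe u

variable {G : Type u} [Group G]

namespace Fr

variable [Finite G] {T : Subgroup G} {V Z : Fin 2 → Subgroup G} (D : Fr T V Z)

include D

/-- **(NO)** for `H` on `⟨Z (i+1) ^ H⟩` -/
theorem no_H (hML : ML.Final.MLK.{u, u}) {i : Fin 2} {H A : Subgroup G} (hK : IsKGroup (CC Z i)) (hT : T ≤ H)
    (hH : H ≤ CC Z i) (hA : A ≤ o2 (centralizer (zc T : Set G))) (hA2 : ∀ a ∈ A, a ^ 2 = 1) :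
    (centralizer (NH Z i H : Set G)).relIndex A ≤ (centralizer (A : Set G)).relIndex (NH Z i H) := by
  have hS : Syl T H := ⟨hT, D.T_isPGroup, fun R hR hR2 hTR => (D.syl i).2.2 R (hR.trans hH) hR2 hTR⟩
  refine (FlagNO.flag_no_of hML D.T_isPGroup hT (syl_not_dvd hS) (D.T_le_C (i + 1)) (kgroup_mono hK hH) ?_
    (X := centralizer (zc T : Set G)) (fun x hx => D.mem_D (hH hx.1) hx.2) hA ((hA.trans D.O_le_T).trans hT)
    ((hA.trans D.O_le_T).trans (D.T_le_C (i + 1))) hA2).1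
  intro x hx
  exact D.N_sq i x (V_le_of (le_V _ _) (hH.trans (le_normalizer_V _ _)) hx)

theorem no_N (hML : ML.Final.MLK.{u, u}) {i : Fin 2} {A : Subgroup G} (hK : IsKGroup (CC Z i))
    (hA : A ≤ o2 (centralizer (zc T : Set G))) (hA2 : ∀ a ∈ A, a ^ 2 = 1) :
    (centralizer (NN Z i : Set G)).relIndex A ≤ (centralizer (A : Set G)).relIndex (NN Z i) :=
  D.no_H hML hK (D.T_le_C i) le_rfl hA hA2

/-- `A` maximal in `O` : exact on `N_i`, `C_A(N_i) N_i` is maximal and `≤ Q_i` -/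
theorem mx (hML : ML.Final.MLK.{u, u}) {i : Fin 2} {A : Subgroup G} (hK : IsKGroup (CC Z i))
    (hA : Mx (o2 (centralizer (zc T : Set G))) A) :
    (centralizer (NN Z i : Set G)).relIndex A = (centralizer (A : Set G)).relIndex (NN Z i) ∧
    Mx (o2 (centralizer (zc T : Set G))) (A ⊓ centralizer (NN Z i : Set G) ⊔ NN Z i) ∧
    A ⊓ centralizer (NN Z i : Set G) ⊔ NN Z i ≤ QQ Z i := by
  have h1 := D.no_N hML hK hA.le hA.sq
  refine ⟨le_antisymm h1 (hA.thom (D.N_le_O i) (D.N_sq i)), hA.sup (D.N_le_O i) (D.N_sq i) h1, sup_le ?_ (D.N_le_Q i)⟩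
  exact (inf_le_inf_right _ hA.le).trans (D.O_inf_le i)

/-- `B = C_A(U_i)` -/
theorem ex_U (hML : ML.Final.MLK.{u, u}) {i : Fin 2} {A : Subgroup G} (hK : IsKGroup (CC Z i))
    (hA : Mx (o2 (centralizer (zc T : Set G))) A) :
    A ⊓ centralizer (UU V Z i : Set G) ≤ o2 (HH T V i) ∧
    (centralizer (NN Z i : Set G)).relIndex (A ⊓ centralizer (UU V Z i : Set G)) =
      (centralizer ((A ⊓ centralizer (UU V Z i : Set G) : Subgroup G) : Set G)).relIndex (NN Z i) ∧
    Mx (o2 (centralizer (zc T : Set G))) (A ⊓ centralizer (UU V Z i : Set G) ⊔ UU V Z i) := by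
  set B : Subgroup G := A ⊓ centralizer (UU V Z i : Set G) with hB
  have hUN := D.U_le_N i
  have hCN : centralizer (NN Z i : Set G) ≤ centralizer (UU V Z i : Set G) := centralizer_le hUN
  have hUno := D.no_H hML hK (D.T_le_H i) (D.H_le_C i) hA.le hA.sq
  rw [D.NH_H] at hUno
  refine ⟨?_, ?_, hA.sup (hUN.trans (D.N_le_O i)) (D.U_sq i) hUno⟩
  · have h1 := GenTool.o2_inf_le (L := HH T V i) (N := HH T V i ⊓ centralizer (UU V Z i : Set G))
      (R := centralizer (zc T : Set G)) inf_le_left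
      (fun g hg x hx => ⟨(HH T V i).mul_mem ((HH T V i).mul_mem hg hx.1) ((HH T V i).inv_mem hg),
        (mem_normalizer_iff.1 (norm_cent (D.H_le_norm_U i) hg) x).1 hx.2⟩)
      (fun x hx => D.mem_D (D.H_le_C i hx.1)
        (centralizer_le (le_V (Z (i + 1)) (centralizer (V i : Set G))) hx.2))
    refine le_trans ?_ h1
    exact le_inf (inf_le_left.trans hA.le) (le_inf ((inf_le_left.trans (hA.le.trans D.O_le_T)).trans (D.T_le_H i))
      inf_le_right)
  · -- counting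
    have hA1 := (D.mx hML hK hA).1
    have s1 := relIndex_split (A := A) hCN
    rw [← hB] at s1
    have hCC : centralizer (A : Set G) ≤ centralizer (B : Set G) := centralizer_le inf_le_left
    have s2 := relIndex_split (A := NN Z i) hCC
    have hUB : UU V Z i ≤ NN Z i ⊓ centralizer (B : Set G) := le_inf hUN (comm_symm inf_le_right)
    have h3 : (centralizer (UU V Z i : Set G)).relIndex A ≤
        (centralizer (A : Set G)).relIndex (NN Z i ⊓ centralizer (B : Set G)) := hUno.trans (relIndex_mono hUB)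
    have h4 := D.no_N hML hK (A := B) (inf_le_left.trans hA.le) (fun b hb => hA.sq b hb.1)
    refine le_antisymm h4 ?_
    by_contra hc
    push Not at hc
    rw [hA1, s2] at s1
    have p1 := relIndex_pos (centralizer (UU V Z i : Set G)) A
    have h5 : (centralizer (NN Z i : Set G)).relIndex B * (centralizer (UU V Z i : Set G)).relIndex A <
        (centralizer (A : Set G)).relIndex (NN Z i ⊓ centralizer (B : Set G)) * (centralizer (B : Set G)).relIndex (NN Z i) := by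
      calc (centralizer (NN Z i : Set G)).relIndex B * (centralizer (UU V Z i : Set G)).relIndex A
          < (centralizer (B : Set G)).relIndex (NN Z i) * (centralizer (UU V Z i : Set G)).relIndex A :=
            Nat.mul_lt_mul_of_pos_right hc p1
        _ ≤ (centralizer (B : Set G)).relIndex (NN Z i) *
            (centralizer (A : Set G)).relIndex (NN Z i ⊓ centralizer (B : Set G)) := Nat.mul_le_mul_left _ h3
        _ = _ := Nat.mul_comm _ _
    exact absurd s1.symm h5.ne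

end Fr

namespace Fr

variable [Finite G] {T : Subgroup G} {V Z : Fin 2 → Subgroup G} (D : Fr T V Z)

include D

theorem fail_eq (hML : ML.Final.MLK.{u, u}) {i : Fin 2} (hK : IsKGroup (CC Z i)) (hF : Fail T V Z i)
    {A : Subgroup G} (hA : Mx (o2 (centralizer (zc T : Set G))) A) (hAQ : A ≤ QQ Z (i + 1)) :
    A ⊓ centralizer (NN Z i : Set G) ⊔ NN Z i = A ⊓ centralizer (UU V Z i : Set G) ⊔ UU V Z i := by
  have h1 := (D.mx hML hK hA).2.1
  have h2 := (D.ex_U hML hK hA).2.2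
  have h3 : A ⊓ centralizer (UU V Z i : Set G) ⊔ UU V Z i ≤ A ⊓ centralizer (NN Z i : Set G) ⊔ NN Z i :=
    sup_le_sup (le_inf inf_le_left (hF A hA hAQ)) (D.U_le_N i)
  exact (Subgroup.eq_of_le_of_card_ge h3 (h2.max _ h1.le h1.sq)).symm

/-- one step of the invariance of `SS i` -/
theorem SS_step (hML : ML.Final.MLK.{u, u}) {i : Fin 2} (hK : IsKGroup (CC Z i)) (hF : Fail T V Z i) {g : G}
    (hg : g ∈ CC Z (i + 1)) (hg2 : g ∈ CC Z i ∨ g ∈ normalizer (V i : Set G)) {X : Subgroup G} (hX : X ∈ SS T Z i) :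
    MulAut.conj g • X ∈ SS T Z i := by
  obtain ⟨A, hA, hAQ, rfl⟩ := hX
  have e1 : MulAut.conj g • QQ Z (i + 1) = QQ Z (i + 1) := conj_eq_of_mem (le_normalizer_o2 _ hg)
  have hAg : MulAut.conj g • A ≤ QQ Z (i + 1) := by rw [← e1]; exact conj_le_iff.2 hAQ
  have hMg := hA.conj (g := g) (hAg.trans (D.Q_le_O _))
  refine ⟨MulAut.conj g • A, hMg, hAg, ?_⟩
  rcases hg2 with h | h
  · have e2 : MulAut.conj g • NN Z i = NN Z i := conj_eq_of_mem (le_normalizer_V _ _ h)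
    rw [Subgroup.smul_sup, conj_inf, conj_cent, e2]
  · have e2 : MulAut.conj g • UU V Z i = UU V Z i := conj_eq_of_mem (D.norm_U i ⟨h, centralizer_le_normalizer _ hg⟩)
    rw [D.fail_eq hML hK hF hA hAQ, D.fail_eq hML hK hF hMg hAg, Subgroup.smul_sup, conj_inf, conj_cent, e2]

/-- **`SS i` is `C_{i+1}`-invariant** -/
theorem SS_inv (hML : ML.Final.MLK.{u, u}) {i : Fin 2} (hK : IsKGroup (CC Z i)) (hF : Fail T V Z i) {g : G}
    (hg : g ∈ CC Z (i + 1)) {X : Subgroup G} (hX : X ∈ SS T Z i) : MulAut.conj g • X ∈ SS T Z i := by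
  let K : Subgroup G :=
    { carrier := {g | ∀ X, X ∈ SS T Z i ↔ MulAut.conj g • X ∈ SS T Z i}
      one_mem' := fun X => by rw [map_one, one_smul]
      mul_mem' := by
        intro a b ha hb X
        rw [hb X, ha, conj_conj]
      inv_mem' := by
        intro a ha X
        have h := ha (MulAut.conj a⁻¹ • X)
        rw [conj_conj, mul_inv_cancel, map_one, one_smul] at h
        exact h.symm }
  have key : ∀ R : Subgroup G, R ≤ CC Z (i + 1) → (∀ r ∈ R, r ∈ CC Z i ∨ r ∈ normalizer (V i : Set G)) → R ≤ K := by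
    intro R hR hR2 r hr X
    refine ⟨D.SS_step hML hK hF (hR hr) (hR2 r hr), fun h => ?_⟩
    have h1 := D.SS_step hML hK hF (hR (inv_mem hr)) (hR2 _ (inv_mem hr)) h
    rwa [conj_conj, inv_mul_cancel, map_one, one_smul] at h1
  have h : CC Z (i + 1) ≤ K := by
    refine MinSimple.MinParabolic.le_of_forall (D.T_le_C _) ?_ fun R hR hRC => ?_
    · refine key _ inf_le_left fun r hr => Or.inr ?_
      have h1 := (D.nT (i + 1) hr).2
      rwa [add_one_add_one] at h1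
    · by_cases hm : R ≤ CC Z i
      · exact key R hRC fun r hr => Or.inl (hm hr)
      · exact key R hRC fun r hr => Or.inr (D.uni i (i + 1) (ne_add_one i) R hR hRC hm i hr)
  exact (h hg X).1 hX

theorem SS_mx (hML : ML.Final.MLK.{u, u}) {i : Fin 2} (hK : IsKGroup (CC Z i)) {X : Subgroup G} (hX : X ∈ SS T Z i) :
    Mx (o2 (centralizer (zc T : Set G))) X ∧ X ≤ QQ Z i ∧ NN Z i ≤ X := by
  obtain ⟨A, hA, -, rfl⟩ := hX
  obtain ⟨-, h1, h2⟩ := D.mx hML hK hA
  exact ⟨h1, h2, le_sup_right⟩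

/-- members of `SS i` lie in `Q_{i+1}` -/
theorem SS_le (hML : ML.Final.MLK.{u, u}) {i : Fin 2} (hK : IsKGroup (CC Z i)) (hF : Fail T V Z i)
    {X : Subgroup G} (hX : X ∈ SS T Z i) : X ≤ QQ Z (i + 1) := by
  have h1 : NoFF.Basic.V X (CC Z (i + 1)) ≤ o2 (centralizer (zc T : Set G)) :=
    V_le fun c hc => (D.SS_mx hML hK (D.SS_inv hML hK hF hc hX)).1.le
  have h2 : NoFF.Basic.V X (CC Z (i + 1)) ≤ QQ Z (i + 1) :=
    le_o2 ((h1.trans D.O_le_T).trans (D.T_le_C _)) ((o2_isPGroup _).to_le h1) (le_normalizer_V _ _)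
  exact (le_V _ _).trans h2

/-- `⟨N_i ^ C_{i+1}⟩ ≤ X` -/
theorem MM_le (hML : ML.Final.MLK.{u, u}) {i : Fin 2} (hK : IsKGroup (CC Z i)) (hF : Fail T V Z i)
    {X : Subgroup G} (hX : X ∈ SS T Z i) : MM Z i ≤ X := by
  refine V_le fun c hc => ?_
  have h1 := (D.SS_mx hML hK (D.SS_inv hML hK hF (inv_mem hc) hX)).2.2
  have h2 : MulAut.conj c • NN Z i ≤ MulAut.conj c • (MulAut.conj c⁻¹ • X) := conj_le_iff.2 h1
  rwa [conj_conj, mul_inv_cancel, map_one, one_smul] at h2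

theorem SS_nonempty (hML : ML.Final.MLK.{u, u}) (i : Fin 2) (hK : ∀ i, IsKGroup (CC Z i)) : ∃ X, X ∈ SS T Z i := by
  obtain ⟨A, hA⟩ := Mx.exists_mx (o2 (centralizer (zc T : Set G)))
  obtain ⟨-, h1, h2⟩ := D.mx hML (hK (i + 1)) hA
  exact ⟨_, _, h1, h2, rfl⟩

/-- `[N_i, N_{i+1}] = 1` -/
theorem fail_comm (hML : ML.Final.MLK.{u, u}) {i : Fin 2} (hK : ∀ i, IsKGroup (CC Z i)) (hF : Fail T V Z i) :
    NN Z i ≤ centralizer (NN Z (i + 1) : Set G) := by
  obtain ⟨X, hX⟩ := D.SS_nonempty hML i hK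
  exact ((D.SS_mx hML (hK i) hX).2.2.trans (D.SS_le hML (hK i) hF hX)).trans (D.Q_le_cent_N (i + 1))

/-- `A ≤ Q_i` maximal: `C_A(N_{i+1}) N_{i+1} ∈ SS i` -/
theorem mem_SS (hML : ML.Final.MLK.{u, u}) {i : Fin 2} (hK : ∀ i, IsKGroup (CC Z i)) (hF : Fail T V Z i)
    {A : Subgroup G} (hA : Mx (o2 (centralizer (zc T : Set G))) A) (hAQ : A ≤ QQ Z i) :
    A ⊓ centralizer (NN Z (i + 1) : Set G) ⊔ NN Z (i + 1) ∈ SS T Z i := by
  obtain ⟨-, h1, h2⟩ := D.mx hML (hK (i + 1)) hA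
  set A' : Subgroup G := A ⊓ centralizer (NN Z (i + 1) : Set G) ⊔ NN Z (i + 1) with hA'
  have h3 : A' ≤ centralizer (NN Z i : Set G) :=
    sup_le (inf_le_left.trans (hAQ.trans (D.Q_le_cent_N i))) (comm_symm (D.fail_comm hML hK hF))
  have h4 : NN Z i ≤ A' := h1.le_of_comm (D.N_le_O i) (D.N_sq i) (comm_symm h3)
  refine ⟨A', h1, h2, ?_⟩
  rw [inf_eq_left.2 h3, sup_eq_left.2 h4]

/-- (b): not both fail -/
theorem not_both (hML : ML.Final.MLK.{u, u}) {i : Fin 2} (hK : ∀ i, IsKGroup (CC Z i)) (hF : Fail T V Z i)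
    (hF' : Fail T V Z (i + 1)) : False := by
  -- `SS j = {X maximal in O : X ≤ Q_0 ∩ Q_1}`
  have key : ∀ {j : Fin 2}, Fail T V Z j → ∀ X : Subgroup G, X ∈ SS T Z j ↔
      Mx (o2 (centralizer (zc T : Set G))) X ∧ X ≤ QQ Z j ∧ X ≤ QQ Z (j + 1) := by
    intro j hj X
    constructor
    · intro h
      obtain ⟨h1, h2, -⟩ := D.SS_mx hML (hK j) h
      exact ⟨h1, h2, D.SS_le hML (hK j) hj h⟩
    · rintro ⟨h1, h2, h3⟩
      have h4 : X ≤ centralizer (NN Z j : Set G) := h2.trans (D.Q_le_cent_N j)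
      have h5 : NN Z j ≤ X := h1.le_of_comm (D.N_le_O j) (D.N_sq j) (comm_symm h4)
      refine ⟨X, h1, h3, ?_⟩
      rw [inf_eq_left.2 h4, sup_eq_left.2 h5]
  have heq : ∀ X : Subgroup G, X ∈ SS T Z (i + 1) ↔ X ∈ SS T Z i := by
    intro X
    rw [key hF', key hF, add_one_add_one]
    tauto
  set J : Subgroup G := ⨆ A : SS T Z i, (A : Subgroup G) with hJ
  have hJO : J ≤ o2 (centralizer (zc T : Set G)) := iSup_le fun A => (D.SS_mx hML (hK i) A.2).1.le
  have hinv : ∀ g : G, (∀ X, X ∈ SS T Z i → MulAut.conj g • X ∈ SS T Z i) → ∀ x ∈ J, g * x * g⁻¹ ∈ J := by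
    intro g hg x hx
    have h2 : J ≤ MulAut.conj g⁻¹ • J := by
      refine iSup_le fun A => ?_
      have h3 : MulAut.conj g • (A : Subgroup G) ≤ J := le_iSup (fun A : SS T Z i => (A : Subgroup G)) ⟨_, hg A A.2⟩
      have h4 : MulAut.conj g⁻¹ • (MulAut.conj g • (A : Subgroup G)) ≤ MulAut.conj g⁻¹ • J := conj_le_iff.2 h3
      rwa [conj_conj, inv_mul_cancel, map_one, one_smul] at h4
    have h5 := h2 hx
    rw [mem_conj, inv_inv] at h5
    exact h5
  have hJ1 : J = ⊥ := by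
    refine D.nonloc' (i := i) ((o2_isPGroup _).to_le hJO) (le_norm_of fun g hg => hinv g fun X hX => ?_)
      (le_norm_of fun g hg => hinv g fun X hX => D.SS_inv hML (hK i) hF hg hX)
    refine (heq _).1 (D.SS_inv hML (hK (i + 1)) hF' ?_ ((heq _).2 hX))
    rwa [add_one_add_one]
  obtain ⟨X, hX⟩ := D.SS_nonempty hML i hK
  have h2 : NN Z i ≤ J := (D.SS_mx hML (hK i) hX).2.2.trans (le_iSup (fun A : SS T Z i => (A : Subgroup G)) ⟨X, hX⟩)
  rw [hJ1] at h2
  exact D.ne (i + 1) (le_bot_iff.1 ((le_V _ _).trans h2))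

end Fr

/-- the output of EX: the input of THEOREM KL* on `X`, on the level of `C_i` -/
structure Out (T : Subgroup G) (V Z : Fin 2 → Subgroup G) (i : Fin 2) (X B : Subgroup G) : Prop where
  NX : NN Z i ≤ X
  VX : V i ≤ X
  CX : CC Z i ≤ normalizer (X : Set G)
  XQ : X ≤ QQ Z i
  sqX : ∀ x ∈ X, x ^ 2 = 1
  sqB : ∀ b ∈ B, b ^ 2 = 1
  BO : B ≤ o2 (centralizer (zc T : Set G))
  BH : B ≤ o2 (HH T V i)
  BV : B ≤ centralizer (V i : Set G)
  ker : B ⊓ centralizer (NN Z i : Set G) ≤ centralizer (X : Set G)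
  ex : (centralizer (B : Set G)).relIndex X ≤ (centralizer (NN Z i : Set G)).relIndex B
  mv : ¬ B ≤ centralizer (NN Z i : Set G)

namespace Fr

variable [Finite G] {T : Subgroup G} {V Z : Fin 2 → Subgroup G} (D : Fr T V Z)

include D

theorem X_facts (i : Fin 2) : (WW V Z i ⊔ NN Z i ≤ QQ Z i) ∧ (∀ x ∈ WW V Z i ⊔ NN Z i, x ^ 2 = 1) ∧
    CC Z i ≤ normalizer ((WW V Z i ⊔ NN Z i : Subgroup G) : Set G) ∧ V i ≤ WW V Z i ⊔ NN Z i := by
  have hc : WW V Z i ≤ centralizer (NN Z i : Set G) := (D.W_le_Q i).trans (D.Q_le_cent_N i)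
  refine ⟨sup_le (D.W_le_Q i) (D.N_le_Q i), sq_sup (D.W_sq i) (D.N_sq i) hc, ?_, (le_V _ _).trans le_sup_left⟩
  refine le_norm_of fun c hcc x hx => ?_
  obtain ⟨w, hw, n, hn, rfl⟩ := exists_mul_of_mem_sup ((comm_symm hc).trans (centralizer_le_normalizer _)) hx
  have e : c * (w * n) * c⁻¹ = (c * w * c⁻¹) * (c * n * c⁻¹) := by group
  rw [e]
  exact mul_mem (mem_sup_left ((mem_normalizer_iff.1 (le_normalizer_V (V i) (CC Z i) hcc) w).1 hw))
    (mem_sup_right ((mem_normalizer_iff.1 (le_normalizer_V (Z (i + 1)) (CC Z i) hcc) n).1 hn))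

/-- the common part of (c) and (e): `A` maximal, `C_A(N_i) N_i` centralises `X = W_i N_i` -/
theorem out_of (hML : ML.Final.MLK.{u, u}) {i : Fin 2} (hK : IsKGroup (CC Z i)) {A : Subgroup G}
    (hA : Mx (o2 (centralizer (zc T : Set G))) A)
    (hc : A ⊓ centralizer (NN Z i : Set G) ≤ centralizer ((WW V Z i ⊔ NN Z i : Subgroup G) : Set G))
    (hm : ¬ A ⊓ centralizer (UU V Z i : Set G) ≤ centralizer (NN Z i : Set G)) (hAV : A ≤ centralizer (V i : Set G)) :
    Out T V Z i (WW V Z i ⊔ NN Z i) (A ⊓ centralizer (UU V Z i : Set G)) := by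
  obtain ⟨h1, h2, h3, h4⟩ := D.X_facts i
  obtain ⟨h5, h6, -⟩ := D.ex_U hML hK hA
  have hXc : WW V Z i ⊔ NN Z i ≤ centralizer ((WW V Z i ⊔ NN Z i : Subgroup G) : Set G) := comm_of_sq h2
  have h7 : (centralizer (A : Set G)).relIndex (WW V Z i ⊔ NN Z i) ≤ (centralizer (A : Set G)).relIndex (NN Z i) := by
    refine (hA.thom (h1.trans (D.Q_le_O i)) h2).trans ?_
    rw [← (D.mx hML hK hA).1]
    have e1 : (A ⊓ centralizer (NN Z i : Set G)).relIndex A = (centralizer (NN Z i : Set G)).relIndex A :=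
      inf_relIndex_left _ _
    rw [← e1]
    exact relIndex_anti hc
  have h8 := sup_of_relIndex_le le_sup_right hXc h7
  have h9 : WW V Z i ⊔ NN Z i ≤ NN Z i ⊔ ((WW V Z i ⊔ NN Z i) ⊓
      centralizer ((A ⊓ centralizer (UU V Z i : Set G) : Subgroup G) : Set G)) :=
    h8.trans (sup_le_sup_left (inf_le_inf_left _ (centralizer_le inf_le_left)) _)
  refine ⟨le_sup_right, h4, h3, h1, h2, fun b hb => hA.sq b hb.1, inf_le_left.trans hA.le, h5, inf_le_left.trans hAV,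
    ?_, ?_, hm⟩
  · exact (inf_le_inf_right _ inf_le_left).trans hc
  · rw [h6]
    exact relIndex_le_of_sup le_sup_right hXc h9

/-- (c) -/
theorem out_c (hML : ML.Final.MLK.{u, u}) {i : Fin 2} (hK : ∀ i, IsKGroup (CC Z i)) (hF : Fail T V Z i)
    (hF' : ¬ Fail T V Z (i + 1)) : ∃ X B : Subgroup G, Out T V Z (i + 1) X B := by
  unfold Fail at hF'
  push Not at hF'
  obtain ⟨A, hA, hAQ, hm⟩ := hF'
  rw [add_one_add_one] at hAQ
  refine ⟨_, _, D.out_of hML (hK (i + 1)) hA ?_ hm ((hAQ.trans (D.Q_le_cent_N i)).trans (centralizer_le (D.V_le_N i)))⟩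
  have h1 := D.MM_le hML (hK i) hF (D.mem_SS hML hK hF hA hAQ)
  have h2 : WW V Z (i + 1) ⊔ NN Z (i + 1) ≤ A ⊓ centralizer (NN Z (i + 1) : Set G) ⊔ NN Z (i + 1) := by
    refine sup_le (le_trans ?_ h1) le_sup_right
    refine V_le fun c hc => ?_
    exact (conj_le_iff.2 (D.V_le_N i)).trans (Z_le_V hc)
  refine comm_symm (h2.trans ?_)
  refine sup_le (comm_mono hA.comm inf_le_left inf_le_left) (comm_symm inf_le_right)

/-- (e) -/
theorem out_e (hML : ML.Final.MLK.{u, u}) {i : Fin 2} (hK : IsKGroup (CC Z i)) (hF : ¬ Fail T V Z i)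
    (hJ : ∀ A : Subgroup G, Mx (o2 (centralizer (zc T : Set G))) A → A ≤ centralizer (V i : Set G)) :
    ∃ X B : Subgroup G, Out T V Z i X B := by
  unfold Fail at hF
  push Not at hF
  obtain ⟨A, hA, -, hm⟩ := hF
  refine ⟨_, _, D.out_of hML hK hA ?_ hm (hJ A hA)⟩
  obtain ⟨-, h1, h2⟩ := D.mx hML hK hA
  have h3 : WW V Z i ≤ centralizer ((A ⊓ centralizer (NN Z i : Set G) ⊔ NN Z i : Subgroup G) : Set G) := by
    refine V_le fun c hc => ?_
    have e1 : MulAut.conj c⁻¹ • QQ Z i = QQ Z i := conj_eq_of_mem (le_normalizer_o2 _ (inv_mem hc))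
    have h4 : MulAut.conj c⁻¹ • (A ⊓ centralizer (NN Z i : Set G) ⊔ NN Z i) ≤ QQ Z i := by
      rw [← e1]; exact conj_le_iff.2 h2
    have h5 := comm_symm (hJ _ (h1.conj (h4.trans (D.Q_le_O i))))
    have h6 : MulAut.conj c • V i ≤ MulAut.conj c • centralizer
        ((MulAut.conj c⁻¹ • (A ⊓ centralizer (NN Z i : Set G) ⊔ NN Z i) : Subgroup G) : Set G) := conj_le_iff.2 h5
    rwa [conj_cent, conj_conj, mul_inv_cancel, map_one, one_smul] at h6
  have h7 : A ⊓ centralizer (NN Z i : Set G) ≤ A ⊓ centralizer (NN Z i : Set G) ⊔ NN Z i := le_sup_left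
  refine comm_symm (sup_le (h3.trans (centralizer_le h7)) ?_)
  exact comm_symm inf_le_right

/-- (d) -/
theorem out_d (hML : ML.Final.MLK.{u, u}) {i : Fin 2} (hK : IsKGroup (CC Z i)) (hF : ¬ Fail T V Z i)
    (hV : V i ≤ NN Z i) : ∃ X B : Subgroup G, Out T V Z i X B := by
  unfold Fail at hF
  push Not at hF
  obtain ⟨A, hA, hAQ, hm⟩ := hF
  obtain ⟨h5, h6, -⟩ := D.ex_U hML hK hA
  have h7 : V i ≤ NN Z (i + 1) := by
    have := D.V_le_N (i + 1)
    rwa [add_one_add_one] at this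
  exact ⟨NN Z i, A ⊓ centralizer (UU V Z i : Set G), le_rfl, hV, le_normalizer_V _ _, D.N_le_Q i, D.N_sq i,
    fun b hb => hA.sq b hb.1, inf_le_left.trans hA.le, h5,
    (inf_le_left.trans (hAQ.trans (D.Q_le_cent_N _))).trans (centralizer_le h7), inf_le_right, h6.ge, hm⟩

/-- **EX** (helper23 #22505 (II)) -/
theorem ex (hML : ML.Final.MLK.{u, u}) (hK : ∀ i, IsKGroup (CC Z i)) :
    (∃ (i : Fin 2) (X B : Subgroup G), Out T V Z i X B) ∨ ∀ i, ¬ Fail T V Z i ∧ ¬ V i ≤ NN Z i ∧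
      ∃ A : Subgroup G, Mx (o2 (centralizer (zc T : Set G))) A ∧ ¬ A ≤ centralizer (V i : Set G) := by
  by_contra hc
  push Not at hc
  obtain ⟨h1, i, h2⟩ := hc
  have key : ∀ j, ¬ Fail T V Z j := by
    intro j hF
    by_cases hF' : Fail T V Z (j + 1)
    · exact D.not_both hML hK hF hF'
    · obtain ⟨X, B, h⟩ := D.out_c hML hK hF hF'
      exact h1 _ X B h
  by_cases hV : V i ≤ NN Z i
  · obtain ⟨X, B, h⟩ := D.out_d hML (hK i) (key i) hV
    exact h1 _ X B h
  · obtain ⟨X, B, h⟩ := D.out_e hML (hK i) (key i) (h2 (key i) hV)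
    exact h1 _ X B h

end Fr

end Cfsg.Agent.Omega.KL.TwoM

end

end

-- merged: Cfsg.Agent.Mrg.Omega.OM.PT.Seven
section

/-!
# TEXT W2 (7) over 401's frame `PTW` (helper918 #24006)

`PTW.pc` : `[N_a, N_u] = 1` for all `a ~ u` implies `[X_{j}, N_{j+1}] = 1`, both `j`, all `q`; `PTW.seven`.
(Radical side: `Pc.pcRad`; non-radical side: `NrOne.NrH.nr_one`, one class from `B` instead of LEMMA 0.)
-/

set_option autoImplicit false
set_option linter.unusedSectionVars false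

namespace Cfsg.Agent.Omega.OM.PT

open Subgroup Cfsg Cfsg.Agent.ZN Cfsg.Agent.Omega.MinPar
open Cfsg.Agent.Omega.OM.PG (HH QQ HH_conj QQ_conj conj_inv_conj inv_conj_conj)
open Cfsg.Agent.Omega.OM.PG.Peel (exists_mul_of_comm)
open Cfsg.Agent.Omega.NO3S.EThree.ExactA (eab_iff eab_sup eab_mono)
open Cfsg.Agent.Omega.NoFF.Basic (conj_conj mem_conj conj_le_iff conj_le_centralizer comm_symm comm_mono)
open Cfsg.Agent.Omega.NOThreeL.Pair (conj_eq_of_mem)
open scoped Pointwise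

universe u

variable {G : Type u} [Group G]

namespace PTW

variable {Z U : Fin 2 → Subgroup G} {B : Subgroup G} (D : PTW Z U B)
include D

theorem sup_eq (j : Fin 2) : Z 0 ⊔ Z 1 = Z j ⊔ Z (j + 1) := by
  rcases eq_or 0 j with rfl | rfl
  · rfl
  · exact sup_comm _ _

/-- the fixed points of `B` on `N_{j+1}`, non-radical -/
theorem fix_of [Finite G] {j : Fin 2} (hnr : ¬ Z (j + 1) ≤ NN Z (Z (j + 1))) {n : G} (hn : n ∈ NN Z (Z (j + 1)))
    (hb : ∀ b ∈ B, b * n = n * b) : n ∈ Z j := by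
  have h1 : n ∈ Z j ⊔ Z (j + 1) := by
    rw [← D.sup_eq j]
    exact D.Bfix (j + 1) n hn fun b hb' => by rw [hb b hb', mul_inv_cancel_right]
  have hjN : Z j ≤ NN Z (Z (j + 1)) := (adj Z j).symm.le_NN
  have hcc : Z j ≤ centralizer (Z (j + 1) : Set G) :=
    (hjN.trans (D.NN_le_QQ (isPt Z (j + 1)))).trans (D.cen (j + 1))
  obtain ⟨x, hx, y, hy, e⟩ := exists_mul_of_comm hcc h1
  have hyN : y ∈ NN Z (Z (j + 1)) := by
    have e1 : y = x⁻¹ * n := by rw [← e]; group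
    rw [e1]
    exact mul_mem (inv_mem (hjN hx)) hn
  by_cases hy1 : y = 1
  · rw [hy1, mul_one] at e
    rwa [← e]
  · exfalso
    apply hnr
    intro w hw
    by_cases hw1 : w = 1
    · rw [hw1]
      exact one_mem _
    obtain ⟨h, -, hZ, -, e2⟩ := D.torZ (j + 1) y hy hy1 w hw hw1
    have h2 : h ∈ HH (Z (j + 1)) := ChoiceBase.mem_normalizer_iff_cj.2 hZ
    rw [← e2]
    exact (mem_normalizer_iff.1 (PP.HH_le_NN _ h2) y).1 hyN

theorem tr3 (j : Fin 2) : Pc.Tr Z U j := fun k hk => by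
  obtain ⟨l, h1, h2, h3, -⟩ := D.tr j k hk
  exact ⟨l, h1, h2, h3⟩

variable [Finite G]

theorem nrB (hcom : ∀ a u : Subgroup G, Adj Z a u → Com Z a u) (j : Fin 2) : NrOne.NrB Z U j where
  P := D.toPP
  F := xf D.toPP D.ab D.le
  ti := D.ti
  com := hcom
  tr := D.tr3 j
  sur := sur_of D.toPP D.rt j
  pts := D.pts j
  cardU := (D.rt j).2.1
  core := D.core (j + 1)

/-- **TEXT W2 (7), both types, all `q`** -/
theorem pc (hcom : ∀ a u : Subgroup G, Adj Z a u → Com Z a u) (j : Fin 2) :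
    XW Z U (Z j) ≤ centralizer (NN Z (Z (j + 1)) : Set G) := by
  have E := D.nrB hcom j
  have h : Pc.Aj Z j (Z (j + 1)) (Z j) := ⟨1, by rw [map_one, one_smul], by rw [map_one, one_smul]⟩
  by_cases hr : Z (j + 1) ≤ NN Z (Z (j + 1))
  · exact Pc.pcRad D.toPP E.F hcom D.ti (D.tr3 j) (sur_of D.toPP D.rt j) (D.pts j) (D.rt j).2.1 (D.core (j + 1)) hr h
  · exact NrOne.NrH.nr_one ⟨E, E.oneC_of_B D.B2 (D.BH _) (D.BH _) fun n hn hb => D.fix_of hr hn hb⟩ h

/-- **TEXT W2 (7)** -/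
theorem seven (hcom : ∀ a u : Subgroup G, Adj Z a u → Com Z a u) :
    ∃ j, XW Z U (Z j) ≤ centralizer (NN Z (Z (j + 1)) : Set G) := ⟨0, D.pc hcom 0⟩

/-- TEXT W2 (6) is enough -/
theorem false_of_six (six : NN Z (Z 0) ≤ centralizer (NN Z (Z 1) : Set G)) : False :=
  D.false_of_sockets six fun hcom => D.seven hcom

end PTW

end Cfsg.Agent.Omega.OM.PT

end

-- merged: Cfsg.Agent.Mrg.Omega.OM.PT.W2
section

/-!
# TEXT W2 (5)-(8) (helper918 #24006): the points-level frame is contradictory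

`PTW.false` : `PTW Z U B` is contradictory; any orders of `Z 0`, `Z 1`.
-/

set_option autoImplicit false
set_option linter.unusedSectionVars false

namespace Cfsg.Agent.Omega.OM.PT

open Subgroup Cfsg Cfsg.Agent.ZN Cfsg.Agent.Omega.MinPar
open scoped Pointwise

universe u

variable {G : Type u} [Group G] [Finite G] {Z U : Fin 2 → Subgroup G} {B : Subgroup G}

/-- **TEXT W2 (5)-(8)** -/
theorem PTW.false (D : PTW Z U B) : False := D.false_of_sockets D.six D.seven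

end Cfsg.Agent.Omega.OM.PT

end

-- merged: Cfsg.Agent.Mrg.Omega.KL.TwoZ.LineM
section

/-!
# Two natural blocks WITH field automorphisms: 391's frame `TwoM.Fr`, (0.2), the end (helper918 #24444 (C))

* `LFr.Z_eq` : `Z i = l i ∩ Ω₁Z(S)`; `LFr.sti` : `C_{C_i}(w) ≤ N_G(Z (i+1))`, `w ∈ Z (i+1)#`; `LFr.sep` : (0.2) modulo `l i`;
* **`LFr.frM : TwoM.Fr S V Z`**;
* **`LFrW.false_of'`** : (G1) and (4) over the lines are contradictory.
-/

set_option autoImplicit false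
set_option linter.unusedSectionVars false
set_option linter.unusedVariables false

namespace Cfsg.Agent.Omega.KL.TwoZ.Line

open Subgroup Cfsg Cfsg.Agent.Omega.MinPar
open Cfsg.Agent.ZN (o2 zc)
open Cfsg.Agent.MinSimple.MinParabolic (IsMinPar)
open Cfsg.Agent.Omega.NoFF.Basic (conj_conj mem_conj conj_le_iff comm_symm comm_mono Z_le_V V_le)
open Cfsg.Agent.Omega.NOThreeL.Pair (conj_eq_of_mem conj_le_normalizer)
open Cfsg.Agent.ZN.ChoiceSit (Syl exists_syl syl_conj o2_le_syl syl_not_dvd)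
open Cfsg.Agent.MinSimple.VModule (mem_zc zc_le le_o2 o2_isPGroup o2_le zc_le_centralizer le_centralizer_zc
  le_normalizer_o2 normalizer_le_normalizer_zc)
open Cfsg.Agent.Omega.TC.LemZ (card_eq le_norm_of norm_cent norm_inf)
open Cfsg.Agent.Omega.KL.TwoS (Mx)
open Cfsg.Agent.Omega.KL.TwoZ (CC V_le_of)
open Cfsg.Agent.Omega.OM
open scoped Pointwise

universe u

variable {G : Type u} [Group G]

namespace LFr

variable [Finite G] {S : Sylow 2 G} {V Z l : Fin 2 → Subgroup G} (D : LFr S V Z l)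
include D

theorem Z_eq (i : Fin 2) : Z i = l i ⊓ zc (S : Subgroup G) :=
  le_antisymm (le_inf (D.Zl i) (D.Z_le_zc i)) fun v hv => D.lZ i v hv.1 (zc_le_centralizer _ hv.2)

/-- an element of `N_G(S)` which fixes a vector of `V i#` fixes the whole configuration -/
theorem nS_fix {n : G} {i : Fin 2} (hn : n ∈ normalizer ((S : Subgroup G) : Set G)) {a : G} (ha : a ∈ Z i)
    (ha1 : a ≠ 1) (h : n * a * n⁻¹ = a) : (∀ k, MulAut.conj n • l k = l k) ∧ (∀ k, MulAut.conj n • V k = V k) ∧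
      ∀ k, n ∈ normalizer (Z k : Set G) := by
  obtain ⟨h1, h2, h3, h4⟩ := D.nS' hn (D.Zl i ha) ha1 (j := i) (by rw [h]; exact D.ZV i ha)
  have hl : ∀ k, MulAut.conj n • l k = l k := fun k => by
    rcases PT.eq_or i k with rfl | rfl
    · exact h1
    · exact h2
  refine ⟨hl, fun k => ?_, fun k => ?_⟩
  · rcases PT.eq_or i k with rfl | rfl
    · exact h3
    · exact h4
  · rw [D.Z_eq k]
    exact norm_inf (A := zpowers n) (zpowers_le.2 (mem_norm_iff.2 (hl k)))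
      (zpowers_le.2 (normalizer_le_normalizer_zc _ hn)) (mem_zpowers n)

/-- `C_{C_i}(w)` normalises `Z (i+1)` -/
theorem sti {i : Fin 2} {w : G} (hw : w ∈ Z (i + 1)) (hw1 : w ≠ 1) :
    CC Z i ⊓ centralizer ({w} : Set G) ≤ normalizer (Z (i + 1) : Set G) := by
  have hS : (S : Subgroup G) ≤ CC Z i ⊓ centralizer ({w} : Set G) := le_inf (D.S_le_C i)
    ((D.S_le_C (i + 1)).trans (centralizer_le (Set.singleton_subset_iff.2 hw)))
  refine MinSimple.MinParabolic.le_of_forall hS ?_ fun R hR hRX => ?_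
  · rintro n ⟨⟨-, hn⟩, hnS⟩
    refine (D.nS_fix hnS hw hw1 ?_).2.2 _
    rw [(mem_centralizer_singleton_iff.1 hn), mul_inv_cancel_right]
  · by_cases hc : R ≤ centralizer (zc (S : Subgroup G) : Set G)
    · exact (hc.trans (centralizer_le (D.Z_le_zc _))).trans (centralizer_le_normalizer _)
    · obtain ⟨-, h1 | ⟨k, hk1, hk2⟩⟩ := D.uni R hR (D.o2_ne hw hw1 hR.le (hRX.trans inf_le_right)) hc
      · exact (D.gal R hR h1 (i + 1) w hw hw1 (hRX.trans inf_le_right)).trans (centralizer_le_normalizer _)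
      · rcases PT.eq_or i k with rfl | rfl
        · obtain ⟨z, hz, hz1⟩ := D.exists_ne k
          exact absurd ((hRX.trans inf_le_left).trans (centralizer_le (Set.singleton_subset_iff.2 hz))) (hk1 z hz hz1)
        · exact absurd (hRX.trans inf_le_right) (hk1 w hw hw1)

theorem mem_ll {i : Fin 2} {x m : G} (hx : x ∈ l i) (hm : m ∈ l (i + 1)) : x * m ∈ l 0 ⊔ l 1 := by
  have h : ∀ k, l k ≤ l 0 ⊔ l 1 := fun k => by
    rcases PT.eq_or 0 k with rfl | rfl
    · exact le_sup_left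
    · exact le_sup_right
  exact mul_mem (h _ hx) (h _ hm)

/-- **(0.2) modulo `l i`** -/
theorem sep {i : Fin 2} {c m : G} (hc : c ∈ CC Z i) (hm : m ∈ Z (i + 1)) (h : c * m * c⁻¹ * m⁻¹ ∈ l i) :
    c * m * c⁻¹ = m := by
  by_cases hm1 : m = 1
  · rw [hm1]; group
  by_contra hne
  set x := c * m * c⁻¹ * m⁻¹ with hx
  have hx1 : x ≠ 1 := fun e => hne (by rw [hx, mul_inv_eq_one] at e; exact e)
  have hml : m ∈ l (i + 1) := D.Zl _ hm
  have e1 : x * m = c * m * c⁻¹ := by rw [hx]; group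
  have hxm : x * m ∈ l 0 ⊔ l 1 := D.mem_ll h hml
  have hpt : x * m ∈ MulAut.conj c • l (i + 1) := by rw [e1]; exact conj_mem hml
  have key : ∀ k, x * m ∉ l k := by
    intro k hk
    rcases PT.eq_or i k with rfl | rfl
    · have h2 : m ∈ l k := by
        have := mul_mem (inv_mem h) hk
        rwa [inv_mul_cancel_left] at this
      exact hm1 (D.dis' (ne_add_one' k) (D.lV _ h2) (D.lV _ hml))
    · have h2 : x ∈ l (i + 1) := by
        have := mul_mem hk (inv_mem hml)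
        rwa [mul_inv_cancel_right] at this
      exact hx1 (D.dis' (ne_add_one' i) (D.lV _ h) (D.lV _ h2))
  rcases D.fus2 _ ⟨i + 1, c, rfl⟩ _ hpt hxm with h3 | h3
  · exact key 0 h3
  · exact key 1 h3
where
  ne_add_one' (i : Fin 2) : i ≠ i + 1 := by fin_cases i <;> decide

/-- **391's frame** -/
theorem frM : TwoM.Fr (S : Subgroup G) V Z where
  char2 := D.char2
  sqV := D.sqV
  ZV := D.ZV
  ne := D.ne
  zT := D.zT
  syl := fun i => D.syl (D.S_le_C i)
  nT := by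
    rintro i n ⟨hn, hnS⟩
    obtain ⟨z, hz, hz1⟩ := D.exists_ne i
    obtain ⟨h1, h2, h3⟩ := D.nS_fix hnS hz hz1 (by
      rw [← mem_centralizer_iff.1 hn z hz, mul_inv_cancel_right])
    exact ⟨⟨h3 _, mem_norm_iff.2 (h2 _)⟩, mem_norm_iff.2 (h2 _)⟩
  nV := D.nV
  VQ := D.VQ
  VC := D.VC
  VN := D.VN
  par := by
    intro i
    by_contra hc
    push Not at hc
    have h1 : CC Z i ≤ normalizer (Z (i + 1) : Set G) := by
      refine MinSimple.MinParabolic.le_of_forall (D.S_le_C i) ?_ fun R hR hRX =>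
        (hc R hR hRX).trans (centralizer_le_normalizer _)
      rintro n ⟨hn, hnS⟩
      obtain ⟨z, hz, hz1⟩ := D.exists_ne i
      exact (D.nS_fix hnS hz hz1 (by
        rw [← mem_centralizer_iff.1 hn z hz, mul_inv_cancel_right])).2.2 _
    have h2 : CC Z i ≤ normalizer (TwoZ.QQ Z (i + 1) : Set G) := fun c hc' =>
      norm_o2_of (norm_cent (A := normalizer (Z (i + 1) : Set G)) le_rfl (h1 hc'))
    have h3 : TwoZ.QQ Z (i + 1) = ⊥ := by
      rcases Fin.exists_fin_two.1 ⟨i, rfl⟩ with e | e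
      · subst e
        exact D.nonloc _ (o2_isPGroup _) h2 (le_normalizer_o2 _)
      · subst e
        exact D.nonloc _ (o2_isPGroup _) (le_normalizer_o2 _) h2
    have h4 := D.Z_le_Q (i + 1) i
    rw [h3, le_bot_iff] at h4
    exact D.ne i h4
  uni := by
    intro i j hij R hR hj hi k
    obtain ⟨z, hz, hz1⟩ := D.exists_ne j
    exact (D.uni R hR (D.o2_ne hz hz1 hR.le (hj.trans (centralizer_le (Set.singleton_subset_iff.2 hz))))
      fun h => hi (h.trans (centralizer_le (D.Z_le_zc i)))).1 k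
  dis := D.dis
  nonloc := D.nonloc

end LFr

namespace LFrW

variable [Finite G] {S : Sylow 2 G} {V Z l : Fin 2 → Subgroup G} (D : LFrW S V Z l)
include D

/-- **fields, `k_1 = k_2 = 1`: (G1) and (4) over the lines are contradictory** -/
theorem false_of' (hML : ML.Final.MLK.{u, u}) (hK : ∀ i, IsKGroup (CC Z i)) (g1 : PT.ThmC2 l (PT.XW l V))
    (inter : PT.NN l (l 0) ⊓ PT.NN l (l 1) ≤ l 0 ⊔ l 1) : False :=
  (D.ptw hML hK g1 inter).false

end LFrW

end Cfsg.Agent.Omega.KL.TwoZ.Line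

end

-- merged: Cfsg.Agent.Mrg.Omega.KL.TwoM.NoE
section

/-!
# (NO) for flags modulo an invariant subgroup

`T` a Sylow 2-subgroup of `C` (a K-group) which centralises `Z`, `E` normal in `C`, `⟨Z ^ C⟩ ≤ M ≤ C`, `M / E` elementary
abelian, `c ∈ C`, `[Z, c] ≤ E` implies `[Z, c] = 1`.  `B ≤ O₂(C_C(Z))` elementary abelian.

* **`flag_mod`** : `|B : C_B(⟨Z ^ C⟩)| ≤ |M : C_M(B mod E)|` (`flag_no` in `C / E`);
* **`Fr.no_E`** : over `TwoM.Fr`.
-/

set_option autoImplicit false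
set_option linter.unusedSectionVars false

namespace Cfsg.Agent.Omega.KL.TwoM

open Subgroup Cfsg Cfsg.Agent.Omega.MinPar
open Cfsg.Agent.ZN (o2 zc)
open Cfsg.Agent.Omega.OM.KTwo (ne_add_one eq_add_one add_one_add_one le_normalizer_V le_V exists_mul_of_mem_sup)
open Cfsg.Agent.Omega.NoFF.Basic (conj_conj mem_conj conj_le_iff comm_symm comm_mono Z_le_V V_le)
open Cfsg.Agent.ZN.ChoiceSit (Syl exists_syl syl_conj o2_le_syl syl_not_dvd)
open Cfsg.Agent.MinSimple.VModule (mem_zc zc_le le_o2 o2_isPGroup o2_le le_normalizer_o2)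
open Cfsg.Agent.Omega.KL.TwoS (relIndex_anti relIndex_mono)
open Cfsg.Agent.Omega.KL.TwoZ (CC QQ NH NN WW UU HH V_le_of norm_V norm_o2_of sq_conj sq_V XX)
open Cfsg.Agent.Omega.KL.FlagNO (V_le_elem conj_mem_V flag_no o2_inf_sub)
open scoped Pointwise

universe u

variable {G : Type u} [Group G] [Finite G]

/-- **(NO) for flags modulo `E`** -/
theorem flag_mod (ml : ML.Final.MLK.{u, u}) {C T Z E B M : Subgroup G} (two : IsPGroup 2 T)
    (syl : ¬ 2 ∣ T.relIndex C) (TZ : T ≤ centralizer (Z : Set G)) (KC : IsKGroup C)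
    (CE : C ≤ normalizer (E : Set G)) (ZM : NoFF.Basic.V Z C ≤ M) (MC : M ≤ C) (sq : ∀ x ∈ M, x * x ∈ E)
    (sep : ∀ c ∈ C, ∀ m ∈ Z, c * m * c⁻¹ * m⁻¹ ∈ E → c * m * c⁻¹ = m)
    (hB : B ≤ o2 (C ⊓ centralizer (Z : Set G))) (el : ∀ b ∈ B, b ^ 2 = 1) {CW : Subgroup G}
    (hCW : ∀ x ∈ CW, ∀ b ∈ B, b * x * b⁻¹ * x⁻¹ ∈ E) :
    (centralizer (NoFF.Basic.V Z C : Set G)).relIndex B ≤ CW.relIndex M := by
  have hZM : Z ≤ M := (le_V Z C).trans ZM
  have hZC : Z ≤ C := hZM.trans MC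
  have hBC : B ≤ C := hB.trans ((o2_le _).trans inf_le_left)
  have hEn : (E.subgroupOf C).Normal := normal_subgroupOf_of_le_normalizer CE
  let π : C →* C ⧸ E.subgroupOf C := QuotientGroup.mk' (E.subgroupOf C)
  have hπ : Function.Surjective π := QuotientGroup.mk'_surjective _
  have hker : ∀ x : C, π x = 1 ↔ (x : G) ∈ E := by
    intro x
    rw [← MonoidHom.mem_ker, QuotientGroup.ker_mk', mem_subgroupOf]
  have hcm : ∀ x y : C, π x * π y = π y * π x ↔ (x : G) * y * (x : G)⁻¹ * (y : G)⁻¹ ∈ E := by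
    intro x y
    rw [← mul_inv_eq_iff_eq_mul, ← mul_inv_eq_one, ← map_mul, ← map_inv, ← map_mul, ← map_inv, ← map_mul, hker]
    push_cast
    rfl
  set Zb : Subgroup (C ⧸ E.subgroupOf C) := (Z.subgroupOf C).map π with hZb
  set Bb : Subgroup (C ⧸ E.subgroupOf C) := (B.subgroupOf C).map π with hBb
  -- `C(Z̄)`
  have hcZ : (⊤ : Subgroup (C ⧸ E.subgroupOf C)) ⊓ centralizer (Zb : Set (C ⧸ E.subgroupOf C)) =
      ((C ⊓ centralizer (Z : Set G)).subgroupOf C).map π := by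
    rw [top_inf_eq]
    ext q
    constructor
    · intro hq
      obtain ⟨c, rfl⟩ := hπ q
      refine mem_map_of_mem π (mem_subgroupOf.2 (mem_inf.2 ⟨c.2, mem_centralizer_iff.2 fun z hz => ?_⟩))
      have h1 : π ⟨z, hZC hz⟩ * π c = π c * π ⟨z, hZC hz⟩ :=
        mem_centralizer_iff.1 hq _ (mem_map_of_mem π (mem_subgroupOf.2 hz))
      have h2 := (hcm c ⟨z, hZC hz⟩).1 h1.symm
      exact (eq_mul_of_mul_inv_eq (sep c c.2 z hz h2)).symm
    · rintro ⟨c, hc, rfl⟩
      rw [mem_centralizer_iff]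
      rintro _ ⟨z, hz, rfl⟩
      have h1 : (z : G) * c = c * z := mem_centralizer_iff.1 (mem_subgroupOf.1 hc).2 z (mem_subgroupOf.1 hz)
      rw [← map_mul, ← map_mul]
      exact congrArg π (Subtype.ext h1)
  have hVM : NoFF.Basic.V Zb (⊤ : Subgroup (C ⧸ E.subgroupOf C)) ≤ (M.subgroupOf C).map π := by
    refine V_le_elem fun g _ z hz => ?_
    obtain ⟨c, rfl⟩ := hπ g
    obtain ⟨z, hz, rfl⟩ := hz
    rw [← map_mul, ← map_inv, ← map_mul]
    exact mem_map_of_mem π (mem_subgroupOf.2 (ZM (conj_mem_V c.2 (mem_subgroupOf.1 hz))))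
  have key := flag_no (H := (⊤ : Subgroup (C ⧸ E.subgroupOf C))) (T := (T.subgroupOf C).map π) (Z := Zb) (B := Bb) ml
    ((two.comap_of_injective C.subtype C.subtype_injective).map π) le_top
    (by
      rw [relIndex_top_right]
      exact fun h2 => syl (h2.trans (index_map_dvd _ hπ)))
    (by
      rintro _ ⟨t, ht, rfl⟩
      rw [mem_centralizer_iff]
      rintro _ ⟨z, hz, rfl⟩
      have h1 : (z : G) * t = t * z := mem_centralizer_iff.1 (TZ (mem_subgroupOf.1 ht)) z (mem_subgroupOf.1 hz)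
      rw [← map_mul, ← map_mul]
      exact congrArg π (Subtype.ext h1))
    (ML.Final.sec_KG.sub _ (ML.Final.sec_KG.quo C KC (E.subgroupOf C)) ⊤)
    (by
      intro x hx
      obtain ⟨y, hy, rfl⟩ := hVM hx
      rw [← map_pow, hker, pow_two]
      exact sq y (mem_subgroupOf.1 hy))
    (by
      rw [hcZ]
      refine le_trans ?_ (KL.GenTool.o2_map_le π _)
      exact map_mono (Plug.sub_o2 (S := C ⊓ centralizer (Z : Set G)) (fun c => mem_subgroupOf) hB))
    (by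
      rintro _ ⟨b, hb, rfl⟩
      rw [← map_pow]
      have h1 : b ^ 2 = 1 := Subtype.ext (el b (mem_subgroupOf.1 hb))
      rw [h1, map_one])
  -- the left side
  have hL : (centralizer (NoFF.Basic.V Z C : Set G)).relIndex B ≤
      (centralizer (NoFF.Basic.V Zb (⊤ : Subgroup (C ⧸ E.subgroupOf C)) : Set (C ⧸ E.subgroupOf C))).relIndex Bb := by
    rw [hBb, ← relIndex_comap, ← relIndex_subgroupOf hBC]
    refine relIndex_anti fun c hc => mem_subgroupOf.2 ?_
    have h1 : NoFF.Basic.V Z C ≤ centralizer ({(c : G)} : Set G) := by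
      refine V_le_elem fun l hl z hz => ?_
      rw [mem_centralizer_singleton_iff]
      have h0 : l * z * l⁻¹ ∈ C := C.mul_mem (C.mul_mem hl (hZC hz)) (C.inv_mem hl)
      have h2 : π ⟨l * z * l⁻¹, h0⟩ * π c = π c * π ⟨l * z * l⁻¹, h0⟩ := by
        refine mem_centralizer_iff.1 (mem_comap.1 hc) _ ?_
        have h3 := conj_mem_V (Z := Zb) (h := π ⟨l, hl⟩) (mem_top (π ⟨l, hl⟩) : _ ∈ (⊤ : Subgroup (C ⧸ E.subgroupOf C)))
          (mem_map_of_mem π (mem_subgroupOf.2 (show ((⟨z, hZC hz⟩ : C) : G) ∈ Z from hz)))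
        rw [← map_mul, ← map_inv, ← map_mul] at h3
        exact h3
      have h3 := (hcm c _).1 h2.symm
      have h4 : (l⁻¹ * c * l) * z * (l⁻¹ * c * l)⁻¹ * z⁻¹ ∈ E := by
        have h5 := (mem_normalizer_iff.1 (CE (C.inv_mem hl)) _).1 h3
        have e : l⁻¹ * ((c : G) * (l * z * l⁻¹) * (c : G)⁻¹ * (l * z * l⁻¹)⁻¹) * l⁻¹⁻¹ =
            (l⁻¹ * c * l) * z * (l⁻¹ * c * l)⁻¹ * z⁻¹ := by group
        rw [← e]
        exact h5
      have h5 := sep _ (C.mul_mem (C.mul_mem (C.inv_mem hl) c.2) hl) z hz h4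
      have h6 : (c : G) * (l * z * l⁻¹) * (c : G)⁻¹ = l * z * l⁻¹ := by
        calc (c : G) * (l * z * l⁻¹) * (c : G)⁻¹ = l * ((l⁻¹ * c * l) * z * (l⁻¹ * c * l)⁻¹) * l⁻¹ := by group
          _ = l * z * l⁻¹ := by rw [h5]
      exact (eq_mul_of_mul_inv_eq h6).symm
    rw [mem_centralizer_iff]
    exact fun x hx => mem_centralizer_singleton_iff.1 (h1 hx)
  -- the right side
  have hR : (centralizer (Bb : Set (C ⧸ E.subgroupOf C))).relIndex
      (NoFF.Basic.V Zb (⊤ : Subgroup (C ⧸ E.subgroupOf C))) ≤ CW.relIndex M := by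
    refine (relIndex_mono hVM).trans ?_
    rw [← relIndex_comap, ← relIndex_subgroupOf MC]
    refine relIndex_anti fun x hx => mem_comap.2 ?_
    rw [mem_centralizer_iff]
    rintro _ ⟨b, hb, rfl⟩
    exact (hcm b x).2 (hCW x (mem_subgroupOf.1 hx) b (mem_subgroupOf.1 hb))
  exact hL.trans (key.trans hR)

namespace Fr

variable {T : Subgroup G} {V Z : Fin 2 → Subgroup G} (D : Fr T V Z)

include D

/-- **(NO)** on `N_i E / E` -/
theorem no_E (hML : ML.Final.MLK.{u, u}) {i : Fin 2} (hK : IsKGroup (CC Z i)) {E : Subgroup G}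
    (CE : CC Z i ≤ normalizer (E : Set G)) (EX : E ≤ XX V Z i)
    (sep : ∀ c ∈ CC Z i, ∀ m ∈ Z (i + 1), c * m * c⁻¹ * m⁻¹ ∈ E → c * m * c⁻¹ = m) {A : Subgroup G}
    (hA : A ≤ o2 (centralizer (zc T : Set G))) (hA2 : ∀ a ∈ A, a ^ 2 = 1) {CW : Subgroup G}
    (hCW : ∀ x ∈ CW, ∀ a ∈ A, a * x * a⁻¹ * x⁻¹ ∈ E) :
    (centralizer (NN Z i : Set G)).relIndex A ≤ CW.relIndex (NN Z i ⊔ E) := by
  have hX := D.X_facts i
  have hXC : WW V Z i ⊔ NN Z i ≤ CC Z i := hX.1.trans ((D.Q_le_T i).trans (D.T_le_C i))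
  have hEX : E ≤ WW V Z i ⊔ NN Z i := EX
  have hAC : A ≤ CC Z i := (hA.trans D.O_le_T).trans (D.T_le_C i)
  have hAC' : A ≤ CC Z (i + 1) := (hA.trans D.O_le_T).trans (D.T_le_C (i + 1))
  have hsub : CC Z i ⊓ centralizer (Z (i + 1) : Set G) ≤ centralizer (zc T : Set G) := fun c hc => D.mem_D hc.1 hc.2
  refine flag_mod hML D.T_isPGroup (syl_not_dvd (D.syl i)) (D.T_le_C (i + 1)) hK CE le_sup_left
    (sup_le ((le_sup_right : NN Z i ≤ WW V Z i ⊔ NN Z i).trans hXC) (hEX.trans hXC)) (fun x hx => ?_) sep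
    ((le_inf hA (le_inf hAC hAC')).trans (o2_inf_sub hsub)) hA2 hCW
  have h1 := hX.2.1 x ((sup_le le_sup_right hEX : NN Z i ⊔ E ≤ WW V Z i ⊔ NN Z i) hx)
  rw [← pow_two, h1]
  exact one_mem _

end Fr

end Cfsg.Agent.Omega.KL.TwoM

end

-- merged: Cfsg.Agent.Mrg.Omega.KL.TwoZ.LineK3
section

/-!
# (K3) over the lines (two natural blocks with field automorphisms; helper918 #24444 (C))

* `LFr.sep_l` : `m ∈ Z (i+1)`, `c m c⁻¹ m⁻¹ ∈ l i` implies `c m c⁻¹ = m`;
* **`LFr.k3`** : `B ≤ O ∩ C(l i)` elementary abelian, exact on `N_i` : `n ∈ N_i`, `[n, B] ≤ l i` implies `[n, B] = 1`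
  ((NO) for flags modulo `l i`, helper391's `flag_mod`).
-/

set_option autoImplicit false
set_option linter.unusedSectionVars false

namespace Cfsg.Agent.Omega.KL.TwoZ.Line

open Subgroup Cfsg Cfsg.Agent.Omega.MinPar
open Cfsg.Agent.ZN (o2 zc)
open Cfsg.Agent.Omega.OM.KTwo (ne_add_one eq_add_one add_one_add_one le_normalizer_V le_V)
open Cfsg.Agent.Omega.NoFF.Basic (conj_conj mem_conj conj_le_iff comm_symm)
open Cfsg.Agent.ZN.ChoiceSit (Syl syl_not_dvd o2_le_syl)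
open Cfsg.Agent.MinSimple.VModule (mem_zc zc_le o2_isPGroup o2_le le_o2 le_normalizer_o2 le_centralizer_zc)
open Cfsg.Agent.Omega.TC.LemZ (card_eq norm_cent)
open Cfsg.Agent.Omega.KL.TwoS (Mx comm_of_sq sq_sup relIndex_le_of_sup relIndex_anti relIndex_pos)
open Cfsg.Agent.Omega.KL.TwoZ (CC)
open Cfsg.Agent.Omega.OM
open scoped Pointwise

universe u

variable {G : Type u} [Group G]

namespace LFr

variable [Finite G] {S : Sylow 2 G} {V Z l : Fin 2 → Subgroup G} (D : LFr S V Z l)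

include D

/-- a point meets `m l i`, `m ∈ Z (i+1)`, in `m` only -/
theorem sep_l {i : Fin 2} {c m : G} (hm : m ∈ Z (i + 1)) (h : c * m * c⁻¹ * m⁻¹ ∈ l i) : c * m * c⁻¹ = m := by
  have hml : m ∈ l (i + 1) := D.Zl _ hm
  have hl : ∀ j, l j ≤ l 0 ⊔ l 1 := by
    intro j
    rcases Fin.exists_fin_two.1 ⟨j, rfl⟩ with e | e
    · rw [e]; exact le_sup_left
    · rw [e]; exact le_sup_right
  have h1 : c * m * c⁻¹ ∈ l 0 ⊔ l 1 := by
    have h2 := mul_mem (hl i h) (hl (i + 1) hml)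
    rwa [inv_mul_cancel_right] at h2
  have h3 : ∀ j, c * m * c⁻¹ ∈ l j → c * m * c⁻¹ = m := by
    intro j hj
    by_cases hij : i = j
    · rw [← hij] at hj
      have h4 : m ∈ l i := by
        have h5 := mul_mem (inv_mem h) hj
        have e : (c * m * c⁻¹ * m⁻¹)⁻¹ * (c * m * c⁻¹) = m := by group
        rwa [e] at h5
      have h6 : m = 1 := D.dis' (ne_add_one i) (D.lV i h4) (D.lV _ hml)
      rw [h6, mul_one, mul_inv_cancel]
    · obtain rfl : j = i + 1 := eq_add_one hij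
      have h4 : c * m * c⁻¹ * m⁻¹ ∈ l (i + 1) := mul_mem hj (inv_mem hml)
      have h6 := D.dis' (ne_add_one i) (D.lV i h) (D.lV _ h4)
      exact mul_inv_eq_one.1 h6
  rcases D.fus2 (MulAut.conj c • l (i + 1)) ⟨i + 1, c, rfl⟩ _ (conj_mem hml) h1 with h2 | h2
  · exact h3 0 h2
  · exact h3 1 h2

/-- **(K3) over the lines** -/
theorem k3 (hML : ML.Final.MLK.{u, u}) {i : Fin 2} (hK : IsKGroup (CC Z i)) {B : Subgroup G}
    (hB : B ≤ o2 (centralizer (zc (S : Subgroup G) : Set G))) (hB2 : ∀ b ∈ B, b ^ 2 = 1)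
    (hBl : B ≤ centralizer (l i : Set G))
    (he : (centralizer (B : Set G)).relIndex (TwoZ.NN Z i) ≤ (centralizer (TwoZ.NN Z i : Set G)).relIndex B) :
    ∀ n ∈ TwoZ.NN Z i, (∀ b ∈ B, b * n * b⁻¹ * n⁻¹ ∈ l i) → ∀ b ∈ B, b * n = n * b := by
  have hMc : TwoZ.NN Z i ⊔ l i ≤ centralizer ((TwoZ.NN Z i ⊔ l i : Subgroup G) : Set G) :=
    comm_of_sq (sq_sup (D.TN_sq i) (fun x hx => D.sqV i x (D.lV i hx)) (D.TN_le_cl i))
  let CW : Subgroup G :=
    { carrier := {x | x ∈ TwoZ.NN Z i ⊔ l i ∧ ∀ b ∈ B, b * x * b⁻¹ * x⁻¹ ∈ l i}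
      one_mem' := ⟨one_mem _, fun b _ => by simp⟩
      mul_mem' := by
        rintro x y ⟨hx, hx'⟩ ⟨hy, hy'⟩
        refine ⟨mul_mem hx hy, fun b hb => ?_⟩
        have e : b * (x * y) * b⁻¹ * (x * y)⁻¹ = (b * x * b⁻¹ * x⁻¹) * (x * (b * y * b⁻¹ * y⁻¹) * x⁻¹) := by group
        rw [e, mem_centralizer_iff.1 (hMc (mem_sup_right (hy' b hb))) x hx, mul_inv_cancel_right]
        exact mul_mem (hx' b hb) (hy' b hb)
      inv_mem' := by
        rintro x ⟨hx, hx'⟩
        refine ⟨inv_mem hx, fun b hb => ?_⟩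
        have e : b * x⁻¹ * b⁻¹ * x⁻¹⁻¹ = x⁻¹ * (b * x * b⁻¹ * x⁻¹)⁻¹ * x⁻¹⁻¹ := by group
        rw [e, mem_centralizer_iff.1 (hMc (mem_sup_right (inv_mem (hx' b hb)))) x⁻¹ (inv_mem hx),
          mul_inv_cancel_right]
        exact inv_mem (hx' b hb) }
  have hsub : CC Z i ⊓ centralizer (Z (i + 1) : Set G) ≤ centralizer (zc (S : Subgroup G) : Set G) :=
    (D.CC_inf_eq i).le
  have hBD : B ≤ CC Z i ⊓ centralizer (Z (i + 1) : Set G) :=
    (hB.trans (o2_le _)).trans (D.CC_inf_eq i).ge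
  have h1 : (centralizer (TwoZ.NN Z i : Set G)).relIndex B ≤ CW.relIndex (TwoZ.NN Z i ⊔ l i) := by
    refine TwoM.flag_mod (Z := Z (i + 1)) hML D.S2 (syl_not_dvd (D.syl (D.S_le_C i))) (D.S_le_C (i + 1)) hK
      (D.C_le_N i) le_sup_left
      (sup_le (((D.TN_le_Q i).trans (D.Q_le_S i)).trans (D.S_le_C i))
        ((((D.lV i).trans (D.VQ i)).trans (D.Q_le_S i)).trans (D.S_le_C i)))
      (fun x hx => ?_) (fun c _ m hm h => D.sep_l hm h) ((le_inf hB hBD).trans (FlagNO.o2_inf_sub hsub)) hB2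
      (fun x hx b hb => hx.2 b hb)
    have h2 : x ^ 2 = 1 := sq_sup (D.TN_sq i) (fun x hx => D.sqV i x (D.lV i hx)) (D.TN_le_cl i) x hx
    rw [← pow_two, h2]
    exact one_mem _
  -- `|N_i l_i : C(B)| = |N_i : C(B)|`
  have h2 : (centralizer (B : Set G)).relIndex (TwoZ.NN Z i ⊔ l i) ≤ (centralizer (B : Set G)).relIndex (TwoZ.NN Z i) :=
    relIndex_le_of_sup le_sup_left hMc
      (sup_le le_sup_left (le_trans (le_inf le_sup_right (comm_symm hBl)) le_sup_right))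
  have h3 : (TwoZ.NN Z i ⊔ l i) ⊓ centralizer (B : Set G) ≤ CW := by
    rintro x ⟨hx, hx2⟩
    refine ⟨hx, fun a ha => ?_⟩
    rw [mem_centralizer_iff.1 hx2 a ha, mul_inv_cancel_right, mul_inv_cancel]
    exact one_mem _
  have h4 : CW ≤ TwoZ.NN Z i ⊔ l i := fun x hx => hx.1
  have h5 : CW.relIndex (TwoZ.NN Z i ⊔ l i) =
      ((TwoZ.NN Z i ⊔ l i) ⊓ centralizer (B : Set G)).relIndex (TwoZ.NN Z i ⊔ l i) := by
    refine le_antisymm (relIndex_anti h3) ?_
    rw [inf_relIndex_left]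
    exact (h2.trans he).trans h1
  have h6 : Nat.card CW ≤ Nat.card ((TwoZ.NN Z i ⊔ l i) ⊓ centralizer (B : Set G) : Subgroup G) := by
    have c1 := card_eq (TwoZ.NN Z i ⊔ l i) CW
    have c2 := card_eq (TwoZ.NN Z i ⊔ l i) ((TwoZ.NN Z i ⊔ l i) ⊓ centralizer (B : Set G))
    rw [inf_eq_right.2 h4] at c1
    rw [inf_eq_right.2 inf_le_left, ← h5] at c2
    rw [c1] at c2
    exact (Nat.eq_of_mul_eq_mul_right (relIndex_pos _ _) c2).le
  have h7 : CW ≤ centralizer (B : Set G) := by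
    rw [← Subgroup.eq_of_le_of_card_ge h3 h6]
    exact inf_le_right
  intro n hn h b hb
  exact mem_centralizer_iff.1 (h7 (show n ∈ CW from ⟨mem_sup_left hn, h⟩)) b hb

end LFr

end Cfsg.Agent.Omega.KL.TwoZ.Line

end

-- merged: Cfsg.Agent.Mrg.Omega.KL.StarQ.VecL
section

/-!
# THEOREM KL*(q) with a `T`-invariant `Y` centralised by the odd elements of `N_H(T)` (bb #24444 (C), (F4))

The situation of `StarQ.InpQ`, where `Y` is `T`-invariant and the elements of odd order of `N_H(T)` fix `Y` pointwise, in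
place of `cY` (fields: `Y` = the vectors `n_w`, `w ∈ V i`, modulo the line).

* `InpL T A Z Y` : this situation; `exists_of_core_odd` : the end of the machine over `LB`;
* **`InpL.exists_sysW`**, **`InpL.exists_sysT`**, **`InpL.false_of`**.
-/

set_option autoImplicit false

namespace Cfsg.Agent.Omega.KL.StarQ

open Subgroup Cfsg Cfsg.Agent.ZN Cfsg.Agent.ClassTwoFusion.Quad
open Cfsg.Agent.Omega.ML.MinFrame hiding comm_of_sq
open Cfsg.Agent.Omega.ML.Final Cfsg.Agent.Omega.NO3S.EMany.Low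
open Cfsg.Agent.Omega.KL.Star.Core
open Cfsg.Agent.MinSimple.VModule (o2_isPGroup o2_le le_o2 le_normalizer_o2 o2_le_of_sylow oddGen oddGen_le oddGen_def)
open Cfsg.Agent.MinSimple.MinParabolic (IsMinPar le_of_forall)

universe u v

section

variable {H : Type u} [Group H] [Finite H] {M : Type v} [Group M] [Finite M] [MulDistribMulAction H M]
  {T A : Subgroup H}

/-- **the end over `LB`** -/
theorem exists_of_core_odd (h : LB H M T A) (hM : MLK.{u, v}) {x : M} (tx : ∀ t ∈ T, t • x = x)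
    {Y : Subgroup M} (TY : ∀ t ∈ T, ∀ w ∈ Y, t • w ∈ Y)
    (NY : ∀ g ∈ normalizer (T : Set H), Odd (orderOf g) → ∀ w ∈ Y, g • w = w)
    (hY : ¬ ∀ g : H, Odd (orderOf g) → ∀ w ∈ Y, g • w = w)
    (par : ∀ P : Subgroup H, IsMinPar T P → (∀ p ∈ P, p • x = x) ∨ ∀ g ∈ P, Odd (orderOf g) → ∀ w ∈ Y, g • w = w)
    (mv : ∃ P : Subgroup H, IsMinPar T P ∧ ∃ p ∈ P, p • x ≠ x) :
    ∃ (H' : Type u) (_ : Group H') (_ : Finite H') (N : Type v) (_ : Group N) (_ : Finite N)
      (_ : MulDistribMulAction H' N) (T' A' : Subgroup H') (x' y' : N), SysW T' A' x' y' ∧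
      ∀ K : Subgroup H', K.Normal → Odd (Nat.card K) → K = ⊥ := by
  have hx : ¬ ∀ g : H, g • x = x := by
    obtain ⟨P, -, p, -, hp⟩ := mv
    exact fun hc => hp (hc p)
  obtain ⟨N, i1, i2, i3, A', x', u', c⟩ := core h hM tx hx TY hY
  -- minimal parabolics
  have hP : ∀ P : Subgroup H, IsMinPar T P → (∀ p ∈ P, p • x' = x') ∨ ∀ p ∈ P, p • u' = u' := by
    intro P hP
    rcases par P hP with h1 | h2
    · exact Or.inl ((c.sx P hP.le).2 h1)
    · right
      have h3 : oddGen P ⊔ T = P := oddGen_sup hP.le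
        fun h2 => h.syl (h2.trans (relIndex_dvd_index_of_le hP.le))
      have h4 : P ≤ MulAction.stabilizer H u' := by
        rw [← h3]
        refine sup_le ?_ fun t ht => c.tu t ht
        rw [oddGen_def, closure_le]
        rintro g ⟨hgP, hgo⟩
        exact c.su g hgo fun w hw => h2 g hgP hgo w hw
      exact fun p hp => h4 hp
  obtain ⟨P, hPm, p, hp, hpx⟩ := mv
  have hPx' : ∃ p ∈ P, p • x' ≠ x' := by
    by_contra hc
    push Not at hc
    exact hpx ((c.sx P hPm.le).1 hc p hp)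
  have hPu : ∀ p ∈ P, p • u' = u' := (hP P hPm).resolve_left fun h1 => by
    obtain ⟨q, hq, hqx⟩ := hPx'
    exact hqx (h1 q hq)
  -- shift
  obtain ⟨x1, hx1, hxs⟩ := c.lb.shift c.tx
  obtain ⟨u1, hu1, hus⟩ := c.lb.shift c.tu
  have tx1 : ∀ t ∈ T, t • x1 = x1 := fun t ht => (hxs t).2 (c.tx t ht)
  have tu1 : ∀ t ∈ T, t • u1 = u1 := fun t ht => (hus t).2 (c.tu t ht)
  have mx1 : ¬ ∀ g : H, g • x1 = x1 := fun hc => c.mx fun g => (hxs g).1 (hc g)
  have mu1 : ¬ ∀ g : H, g • u1 = u1 := fun hc => c.mu fun g => (hus g).1 (hc g)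
  obtain ⟨H', j1, j2, N', j3, j4, j5, π, f, B, o, hs⟩ := c.lb.exists_sysW₀ hM tx1 tu1 hx1 hu1 mu1
    (by
      obtain ⟨q, hq, hqx⟩ := hPx'
      exact ⟨P, hPm, ⟨q, hq, fun hc => hqx ((hxs q).1 hc)⟩, fun q hq => (hus q).2 (hPu q hq)⟩)
    (fun P hP' => by
      rcases hP P hP' with h1 | h1
      · exact ⟨x1, hx1, mx1, fun q hq => (hxs q).2 (h1 q hq)⟩
      · exact ⟨u1, hu1, mu1, fun q hq => (hus q).2 (h1 q hq)⟩)
  refine ⟨H', j1, j2, N', j3, j4, j5, _, B, _, _, hs, fun K hK hKo => ?_⟩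
  have hcen := odd_le_center hs hK hKo
  by_contra hne
  obtain ⟨⟨ν, hν⟩, hν1'⟩ := (Subgroup.ne_bot_iff_exists_ne_one).1 hne
  have hν1 : ν ≠ 1 := fun h1 => hν1' (Subtype.ext h1)
  have hνc : ∀ g : H', g * ν = ν * g := fun g => mem_center_iff.1 (hcen hν) g
  have hνT : ν ∈ normalizer ((T.map π : Subgroup H') : Set H') := by
    rw [mem_normalizer_iff]
    intro g
    rw [← hνc g, mul_inv_cancel_right]
  obtain ⟨_, ⟨t, ht, rfl⟩, n, hn, hνn⟩ := KL.GenTool.exists_normalizer_map π o.πs h.two h.syl hνT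
  obtain ⟨a, ha1, ha2⟩ := exists_pow h.two ht n
  set g : H := n ^ 2 ^ a with hg
  have hgN : g ∈ normalizer (T : Set H) := (normalizer (T : Set H)).pow_mem hn _
  have hπg : π g = ν ^ 2 ^ a := by
    have h1 : Commute (π t) ν := hνc _
    have h2 : π n = (π t)⁻¹ * ν := by rw [hνn]; group
    have h3 : Commute (π t)⁻¹ ν := h1.inv_left
    rw [hg, map_pow, h2, h3.mul_pow, inv_pow, ← map_pow, ha1, map_one, inv_one, one_mul]
  have hπg1 : π g ≠ 1 := by
    rw [hπg]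
    intro h1
    apply hν1
    have h2 : orderOf ν ∣ 2 ^ a := orderOf_dvd_of_pow_eq_one h1
    have h3 : orderOf ν ∣ Nat.card K := by
      have := orderOf_dvd_natCard (⟨ν, hν⟩ : K)
      rwa [orderOf_mk] at this
    have h4 : Odd (orderOf ν) := hKo.of_dvd_nat h3
    have h5 : (2 ^ a).Coprime (orderOf ν) := Nat.Coprime.pow_left a (Nat.coprime_two_left.mpr h4)
    exact orderOf_eq_one_iff.1 (Nat.eq_one_of_dvd_coprimes h5 h2 dvd_rfl)
  have hgY : ∀ w ∈ Y, g • w = w := fun w hw => NY g hgN ha2 w hw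
  -- so `π g` fixes the second vector
  have hgu : g • u1 = u1 := (hus g).2 (c.su g ha2 hgY)
  have hfix : π g • f ⟨u1, hu1⟩ = f ⟨u1, hu1⟩ := by
    rw [← o.eqv g ⟨u1, hu1⟩]
    exact congrArg f (Subtype.ext hgu)
  have hnor : (zpowers (π g)).Normal := by
    refine ⟨fun k hk s => ?_⟩
    have h1 : k ∈ center H' := by
      have h2 : zpowers (π g) ≤ center H' := by
        rw [zpowers_le, hπg]
        exact (center H').pow_mem (hcen hν) _
      exact h2 hk
    rw [mem_center_iff.1 h1 s, mul_inv_cancel_right]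
    exact hk
  have h1 := hs.bot_of_fix hnor hs.y1 fun k hk => by
    have h2 : zpowers (π g) ≤ MulAction.stabilizer H' (f ⟨u1, hu1⟩) := by
      rw [zpowers_le]
      exact hfix
    exact h2 hk
  exact hπg1 (by
    have h2 := mem_zpowers (π g)
    rw [h1] at h2
    exact mem_bot.1 h2)

end

/-- **The input of THEOREM KL*(q)** -/
structure InpL {H : Type u} [Group H] {M : Type v} [Group M] [MulDistribMulAction H M] (T A : Subgroup H)
    (Z Y : Subgroup M) : Prop where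
  sq : ∀ m : M, m * m = 1
  two : IsPGroup 2 T
  syl : ¬ 2 ∣ T.index
  tZ : ∀ z ∈ Z, ∀ t ∈ T, t • z = z
  NZ : ∀ g ∈ normalizer (T : Set H), ∀ z ∈ Z, g • z ∈ Z
  TY : ∀ t ∈ T, ∀ w ∈ Y, t • w ∈ Y
  /-- the elements of odd order of `N_H(T)` fix `Y` pointwise -/
  NY : ∀ g ∈ normalizer (T : Set H), Odd (orderOf g) → ∀ w ∈ Y, g • w = w
  /-- a `T`-minimal `P` fixes `Z` pointwise, or its elements of odd order centralise `Y` -/
  par : ∀ P : Subgroup H, IsMinPar T P → (∀ z ∈ Z, ∀ p ∈ P, p • z = z) ∨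
    ∀ g ∈ P, Odd (orderOf g) → ∀ w ∈ Y, g • w = w
  el : ∀ a ∈ A, a * a = 1
  exact : (cv M (A : Set H)).index = Nat.card A
  atom : ∀ C : Subgroup H, C ≤ A → C ≠ ⊥ → C ≠ A → Nat.card C < (cv M (C : Set H)).index
  nT : ¬ A ≤ o2 (⊤ : Subgroup H)
  AZ : A ≤ o2 (fxr H Z)
  AY : A ≤ o2 (fxr H Y ⊔ T)
  KH : IsKGroup H

namespace InpL

variable {H : Type u} [Group H] [Finite H] {M : Type v} [Group M] [Finite M] [MulDistribMulAction H M]
  {T A : Subgroup H} {Z Y : Subgroup M}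

omit [Finite M] in
theorem AT (i : InpL T A Z Y) : A ≤ T :=
  i.AZ.trans (o2_le_of_sylow i.two fun h2 => i.syl (h2.trans (relIndex_dvd_index_of_le fun t ht z hz => i.tZ z hz t ht)))

/-- **THEOREM KL*(q).** -/
theorem exists_sysW (i : InpL T A Z Y) (hM : MLK.{u, v}) :
    ∃ (H' : Type u) (_ : Group H') (_ : Finite H') (N : Type v) (_ : Group N) (_ : Finite N)
      (_ : MulDistribMulAction H' N) (T' A' : Subgroup H') (x' y' : N), SysW T' A' x' y' ∧
      ∀ K : Subgroup H', K.Normal → Odd (Nat.card K) → K = ⊥ := by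
  -- `L` minimal
  obtain ⟨L, ⟨hTL, hAL⟩, hmin⟩ : ∃ L : Subgroup H, (T ≤ L ∧ ¬ A ≤ o2 L) ∧
      ∀ R : Subgroup H, (T ≤ R ∧ ¬ A ≤ o2 R) → R ≤ L → R = L := by
    have hfin : {L : Subgroup H | T ≤ L ∧ ¬ A ≤ o2 L}.Finite := Set.toFinite _
    obtain ⟨B, hB⟩ := hfin.exists_minimal ⟨⊤, le_top, i.nT⟩
    exact ⟨B, hB.1, fun C hC hCB => le_antisymm hCB (hB.2 hC hCB)⟩
  have hAT := i.AT
  have hAL' : A ≤ L := hAT.trans hTL
  have e1 : ∀ {C : Subgroup H}, C ≤ L → (C.subgroupOf L).map L.subtype = C := fun {C} hC => by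
    rw [subgroupOf_map_subtype, inf_eq_left.2 hC]
  have hcv : ∀ C : Subgroup L, cv M (C : Set L) = cv M ((C.map L.subtype : Subgroup H) : Set H) := by
    intro C
    ext m
    constructor
    · rintro hm _ ⟨c, hc, rfl⟩
      exact hm c hc
    · exact fun hm c hc => hm _ ⟨c, hc, rfl⟩
  have hcard : ∀ C : Subgroup L, Nat.card (C.map L.subtype) = Nat.card C := fun C =>
    card_map_of_injective L.subtype_injective
  have hlb : LB L M (T.subgroupOf L) (A.subgroupOf L) := by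
    refine ⟨i.sq, i.two.comap_subtype, fun h2 => ?_, fun x hx => hAT hx, fun b hb => Subtype.ext (i.el b hb), ?_, ?_, ?_, ?_,
      sec_KG.sub H i.KH L⟩
    · exact i.syl (h2.trans (relIndex_dvd_index_of_le hTL))
    · rw [hcv, e1 hAL', i.exact, ← hcard, e1 hAL']
    · intro C hC hC1 hCF
      rw [hcv, ← hcard]
      refine i.atom _ ?_ ?_ ?_
      · rintro _ ⟨c, hc, rfl⟩
        exact hC hc
      · intro h1
        exact hC1 ((Subgroup.map_eq_bot_iff_of_injective _ L.subtype_injective).1 h1)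
      · intro h1
        apply hCF
        rw [← h1]
        exact (comap_map_eq_self_of_injective L.subtype_injective C).symm
    · intro R hTR hR
      have h1 : R.map L.subtype ≠ L := by
        intro h2
        apply hR
        rw [eq_top_iff]
        intro r _
        have h3 : (r : H) ∈ R.map L.subtype := by
          rw [h2]
          exact r.2
        obtain ⟨s, hs, hsr⟩ := h3
        rwa [← (Subtype.ext hsr : s = r)]
      have h2 : T ≤ R.map L.subtype := fun t ht => ⟨⟨t, hTL ht⟩, hTR ht, rfl⟩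
      have h3 : A ≤ o2 (R.map L.subtype) := by
        by_contra hc
        exact h1 (hmin _ ⟨h2, hc⟩ (map_subtype_le R))
      exact fun x hx => KL.GenTool.o2_subgroupOf_le R (h3 hx)
    · intro hc
      apply hAL
      have h1 := (map_mono (f := L.subtype) hc).trans (KL.GenTool.o2_map_le L.subtype ⊤)
      rw [e1 hAL', ← MonoidHom.range_eq_map, L.range_subtype] at h1
      exact h1
  -- normalizers of `T`
  have hNN : ∀ g : L, g ∈ normalizer ((T.subgroupOf L : Subgroup L) : Set L) → (g : H) ∈ normalizer (T : Set H) := by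
    intro g hg
    rw [mem_normalizer_iff] at hg ⊢
    intro t
    constructor
    · intro ht
      exact (hg ⟨t, hTL ht⟩).1 ht
    · intro ht
      have h1 : t ∈ L := by
        have h2 := L.mul_mem (L.mul_mem (L.inv_mem g.2) (hTL ht)) g.2
        have e : (g : H)⁻¹ * (g * t * (g : H)⁻¹) * g = t := by group
        rwa [e] at h2
      exact (hg ⟨t, h1⟩).2 ht
  -- a `T`-minimal subgroup of `L` which moves `Z`
  obtain ⟨P, hPm, hPZ⟩ : ∃ P : Subgroup L, IsMinPar (T.subgroupOf L) P ∧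
      ¬ ∀ z ∈ Z, ∀ p ∈ P, p • z = z := by
    by_contra hc
    push Not at hc
    apply hAL
    -- `C_L(Z)` is normal in `L`
    let F : Subgroup H := fxr H Z ⊓ L
    have hTF : T ≤ F := le_inf (fun t ht z hz => i.tZ z hz t ht) hTL
    have h1 : (⊤ : Subgroup L) ≤ (normalizer (F : Set H)).subgroupOf L := by
      refine le_of_forall (S := T.subgroupOf L) le_top (fun g hg => ?_) fun P hP _ p hp => ?_
      · rw [mem_subgroupOf]
        have hg1 := hNN g hg.2
        have hconj : ∀ k : H, k ∈ normalizer (T : Set H) → k ∈ L → ∀ w ∈ F, k * w * k⁻¹ ∈ F := by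
          intro k hk hkL w hw
          refine ⟨fun z hz => ?_, L.mul_mem (L.mul_mem hkL hw.2) (L.inv_mem hkL)⟩
          have h2 := hw.1 _ (i.NZ k⁻¹ (inv_mem hk) z hz)
          rw [mul_smul, mul_smul, h2, smul_inv_smul]
        rw [mem_normalizer_iff]
        intro w
        refine ⟨hconj g hg1 g.2 w, fun hw => ?_⟩
        have h2 := hconj (g : H)⁻¹ (inv_mem hg1) (L.inv_mem g.2) _ hw
        have e : (g : H)⁻¹ * (g * w * (g : H)⁻¹) * (g : H)⁻¹⁻¹ = w := by group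
        rwa [e] at h2
      · rw [mem_subgroupOf]
        exact le_normalizer (show (p : H) ∈ F from ⟨fun z hz => hc P hP z hz p hp, p.2⟩)
    have h2 : L ≤ normalizer (F : Set H) := fun g hg => h1 (mem_top (⟨g, hg⟩ : L))
    exact (le_inf i.AZ (hAT.trans hTF)).trans
      ((InpG.o2_le_o2_of_le inf_le_left).trans (o2_le_o2 inf_le_right h2))
  push Not at hPZ
  obtain ⟨x, hxZ, p, hp, hpx⟩ := hPZ
  have htx : ∀ t ∈ T.subgroupOf L, t • x = x := fun t ht => i.tZ x hxZ _ ht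
  -- `L ≠ C_L(Y) T`
  have hY : ¬ ∀ g : L, Odd (orderOf g) → ∀ w ∈ Y, g • w = w := by
    intro hc
    apply hAL
    have h1 : oddGen L ⊔ T = L := oddGen_sup hTL fun h2 => i.syl (h2.trans (relIndex_dvd_index_of_le hTL))
    have h2 : L ≤ fxr H Y ⊔ T := by
      rw [← h1]
      refine sup_le_sup_right ?_ T
      rw [oddGen_def, closure_le]
      rintro g ⟨hgL, hgo⟩ w hw
      exact hc ⟨g, hgL⟩ (by rwa [orderOf_mk]) w hw
    exact (le_inf i.AY hAL').trans (InpG.o2_le_o2_of_le h2)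
  refine exists_of_core_odd hlb hM htx (Y := Y) (fun t ht w hw => i.TY t (mem_subgroupOf.1 ht) w hw)
    (fun g hg hgo w hw => i.NY g (hNN g hg) (by rwa [orderOf_coe]) w hw) hY (fun R hR => ?_) ⟨P, hPm, p, hp, hpx⟩
  rcases i.par _ (KL.GenTool.minPar_map_subtype hTL hR) with h1 | h2
  · exact Or.inl fun q hq => h1 x hxZ _ ⟨q, hq, rfl⟩
  · refine Or.inr fun g hg hgo w hw => h2 _ ⟨g, hg, rfl⟩ ?_ w hw
    rwa [Subgroup.coe_subtype, orderOf_coe]

/-- **THEOREM KL*(q)**, with the output `Two.SysT` -/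
theorem exists_sysT (i : InpL T A Z Y) (hM : MLK.{u, v}) :
    ∃ (H' : Type u) (_ : Group H') (_ : Finite H') (N : Type v) (_ : Group N) (_ : Finite N)
      (_ : MulDistribMulAction H' N) (T' A' : Subgroup H') (x' y' : N), ML.Ex.Two.SysT H' N T' A' x' y' := by
  obtain ⟨H', i1, i2, N, i3, i4, i5, T', A', x', y', h, ho⟩ := i.exists_sysW hM
  exact ⟨H', i1, i2, N, i3, i4, i5, T', A', x', y', h.sysT ho⟩

/-- **THEOREM KL*(q)**, with EXT -/
theorem false_of (hM : MLK.{u, v}) (hE : ML.Ex.Two.Ext.{u, v}) (i : InpL T A Z Y) : False := by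
  obtain ⟨H', i1, i2, N, i3, i4, i5, T', A', x', y', h⟩ := i.exists_sysT hM
  exact hE H' N T' A' x' y' h

end InpL

end Cfsg.Agent.Omega.KL.StarQ

end

-- merged: Cfsg.Agent.Mrg.Omega.KL.GLine.GSt
section

/-!
# THEOREM G* over lines, one-sided abstract form (bb #24444 (C), (F4)); no condition on the minimal parabolics but `uni`

`C ≥ T`, `N = ⟨Zj ^ C⟩`, `E ≤ Vi` (a line or `Z i`), `X ≥ N, Vi` elementary abelian, all normalised by `C` (not `Vi`).

* `PreL`, **`PreL.inp`** : the input of THEOREM KL*(q) (`StarQ.InpL`) for an `A` which is exact modulo the kernel;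
* `GSt C T Vi E Zj X B` : the frame; `GSt.no_E` : (NO) on `N E / E` (863's `flag_no` in `C / E`); `GSt.le_E`;
* **`GSt.false_of`** : `K ≤ C_C(E)` normalised by `C`, `[X, K] ≤ N E`, `N ≤ ⟨Zj ^ (K T)⟩` : impossible.
-/

set_option autoImplicit false
set_option linter.unusedSectionVars false

namespace Cfsg.Agent.Omega.KL.GLine

open Subgroup Cfsg Cfsg.Agent.Omega.MinPar
open Cfsg.Agent.ZN (o2 zc)
open Cfsg.Agent.ClassTwoFusion.Quad Cfsg.Agent.Omega.ML.MinFrame
open Cfsg.Agent.Omega.OM.KTwo (ne_add_one eq_add_one add_one_add_one le_normalizer_V le_V exists_mul_of_mem_sup)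
open Cfsg.Agent.MinSimple.MinParabolic (IsMinPar)
open Cfsg.Agent.Omega.NoFF.Basic (conj_conj mem_conj conj_le_iff comm_symm comm_mono Z_le_V V_le)
open Cfsg.Agent.ZN.ChoiceSit (Syl exists_syl syl_conj o2_le_syl syl_not_dvd)
open Cfsg.Agent.MinSimple.VModule (mem_zc zc_le normalizer_le_normalizer_zc le_o2
  o2_isPGroup o2_le zc_le_centralizer le_centralizer_zc le_normalizer_o2 oddGen oddGen_def)
open Cfsg.Agent.Omega.TC (kgroup_mono)
open Cfsg.Agent.Omega.TC.LemZ (card_eq le_norm_of norm_cent norm_inf)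
open Cfsg.Agent.Omega.KL.Quo (norm_lift)
open Cfsg.Agent.Omega.KL.StarQ (InpL)
open Cfsg.Agent.Omega.KL.TwoS (Mx relIndex_anti relIndex_mono relIndex_le_of_sup)
open Cfsg.Agent.Omega.KL.TwoZ (exists_odd exists_fix_sec tE V_le_of norm_V)
open Cfsg.Agent.Omega.ML.Final (conjAct)
open scoped Pointwise

universe u v

/-- the input of THEOREM KL*(q), `Y` is `T`-invariant, the odd elements of `N_C(T)` fix `Y` pointwise -/
structure PreL {C : Type u} [Group C] {M : Type v} [Group M] [MulDistribMulAction C M] (T A : Subgroup C)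
    (Z Y : Subgroup M) : Prop where
  sq : ∀ m : M, m * m = 1
  two : IsPGroup 2 T
  syl : ¬ 2 ∣ T.index
  tZ : ∀ z ∈ Z, ∀ t ∈ T, t • z = z
  NZ : ∀ g ∈ normalizer (T : Set C), ∀ z ∈ Z, g • z ∈ Z
  TY : ∀ t ∈ T, ∀ w ∈ Y, t • w ∈ Y
  NY : ∀ g ∈ normalizer (T : Set C), Odd (orderOf g) → ∀ w ∈ Y, g • w = w
  par : ∀ P : Subgroup C, IsMinPar T P → (∀ z ∈ Z, ∀ p ∈ P, p • z = z) ∨
    ∀ g ∈ P, Odd (orderOf g) → ∀ w ∈ Y, g • w = w
  el : ∀ a ∈ A, a * a = 1
  AZ : A ≤ o2 (fxr C Z)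
  AY : A ≤ o2 (fxr C Y ⊔ T)
  /-- `A` is faithful on `⟨Z^C⟩` modulo the kernel -/
  nk : ∀ a ∈ A, (∀ (c : C), ∀ z ∈ Z, a • c • z = c • z) → ∀ m : M, a • m = m
  mv : ∃ a ∈ A, ∃ m : M, a • m ≠ m
  no : ∀ B : Subgroup C, B ≤ A → (fxr C (⊤ : Subgroup M)).relIndex B ≤ (cv M (B : Set C)).index
  le : (cv M (A : Set C)).index ≤ (fxr C (⊤ : Subgroup M)).relIndex A
  KC : IsKGroup C

section pre

variable {C : Type u} [Group C] [Finite C] {M : Type v} [Group M] [Finite M] [MulDistribMulAction C M]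
  {T A : Subgroup C} {Z Y : Subgroup M}

theorem PreL.inp (h : PreL T A Z Y) :
    ∃ (H : Type u) (_ : Group H) (_ : Finite H) (_ : MulDistribMulAction H M) (T' A' : Subgroup H),
      InpL T' A' Z Y := by
  have htriv : ∀ k ∈ fxr C (⊤ : Subgroup M), ∀ m : M, k • m = m := fun k hk m => hk m (mem_top m)
  have hN : (fxr C (⊤ : Subgroup M)).Normal := fxr_normal fun _ _ _ => mem_top _
  set N := fxr C (⊤ : Subgroup M) with hNdef
  let _ : MulDistribMulAction (C ⧸ N) M := quoAct N htriv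
  let π : C →* C ⧸ N := QuotientGroup.mk' N
  have hπ : Function.Surjective π := QuotientGroup.mk'_surjective N
  have he : ∀ (g : C) (v : M), π g • v = g • v := fun _ _ => rfl
  have hker : ∀ k : C, (∀ v : M, k • v = v) → π k = 1 := fun k hk =>
    (QuotientGroup.eq_one_iff k).2 fun v _ => hk v
  have hker2 : ∀ k : C, π k = 1 → ∀ v : M, k • v = v := fun k hk v =>
    (QuotientGroup.eq_one_iff k).1 hk v (mem_top v)
  -- stabilisers
  have hfx : ∀ Y' : Subgroup M, (fxr C Y').map π = fxr (C ⧸ N) Y' := by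
    intro Y'
    ext g
    constructor
    · rintro ⟨c, hc, rfl⟩
      exact hc
    · intro hg
      obtain ⟨c, rfl⟩ := hπ g
      exact ⟨c, hg, rfl⟩
  have ho2 : ∀ S : Subgroup C, A ≤ o2 S → A.map π ≤ o2 (S.map π) := by
    intro S hS
    refine (map_mono hS).trans (le_o2 (map_mono (o2_le _)) ((o2_isPGroup _).map π) ?_)
    exact (map_mono (le_normalizer_o2 _)).trans (le_normalizer_map π)
  have hx : A.map π ≤ o2 (fxr (C ⧸ N) Z) := by
    rw [← hfx]
    exact ho2 _ h.AZ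
  have hy : A.map π ≤ o2 (fxr (C ⧸ N) Y ⊔ T.map π) := by
    rw [← hfx, ← Subgroup.map_sup]
    exact ho2 _ h.AY
  have hsyl : ¬ 2 ∣ (T.map π).index := fun h2 => h.syl (h2.trans (index_map_dvd T hπ))
  have hKH : IsKGroup (C ⧸ N) := ML.Final.sec_KG.quo C h.KC N
  have hel : ∀ a ∈ A.map π, a * a = 1 := by
    rintro _ ⟨a, ha, rfl⟩
    rw [← map_mul, h.el a ha, map_one]
  -- `A.map π` is faithful on `⟨Z^C⟩`
  have hfa : ∀ g ∈ A.map π, (∀ (c : C ⧸ N), ∀ z ∈ Z, g • c • z = c • z) → g = 1 := by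
    rintro _ ⟨a, ha, rfl⟩ hg
    exact hker a (h.nk a ha fun c z hz => hg (π c) z hz)
  -- (NO)
  have hcv : ∀ B : Subgroup C, cv M (B.map π : Set (C ⧸ N)) = cv M (B : Set C) := by
    intro B
    ext v
    constructor
    · exact fun hv a ha => hv _ ⟨a, ha, rfl⟩
    · rintro hv _ ⟨a, ha, rfl⟩
      exact hv a ha
  have hcard : ∀ B : Subgroup C, Nat.card (B.map π) = N.relIndex B := by
    intro B
    rw [← relIndex_bot_left, ← relIndex_comap, MonoidHom.comap_bot, QuotientGroup.ker_mk']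
  have hno : ∀ B : Subgroup (C ⧸ N), B ≤ A.map π → Nat.card B ≤ (cv M (B : Set (C ⧸ N))).index := by
    intro B hB
    have e : (A ⊓ B.comap π).map π = B := by
      apply le_antisymm
      · rintro _ ⟨a, ha, rfl⟩
        exact ha.2
      · intro g hg
        obtain ⟨a, ha, rfl⟩ := hB hg
        exact ⟨a, ⟨ha, hg⟩, rfl⟩
    rw [← e, hcv, hcard]
    exact h.no _ inf_le_left
  have hex : (cv M (A.map π : Set (C ⧸ N))).index = Nat.card (A.map π) := by
    refine le_antisymm ?_ (hno _ le_rfl)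
    rw [hcv, hcard]
    exact h.le
  have hA1 : A.map π ≠ ⊥ := by
    intro h1
    obtain ⟨a, ha, m, hm⟩ := h.mv
    apply hm
    refine hker2 a ?_ m
    rw [← mem_bot, ← h1]
    exact ⟨a, ha, rfl⟩
  -- an atom
  obtain ⟨B, ⟨hBA, hB1, hBe⟩, hmin⟩ : ∃ B : Subgroup (C ⧸ N), (B ≤ A.map π ∧ B ≠ ⊥ ∧
      (cv M (B : Set (C ⧸ N))).index = Nat.card B) ∧ ∀ B' : Subgroup (C ⧸ N), (B' ≤ A.map π ∧ B' ≠ ⊥ ∧
      (cv M (B' : Set (C ⧸ N))).index = Nat.card B') → B' ≤ B → B' = B := by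
    obtain ⟨B, hB⟩ := (Set.toFinite {B : Subgroup (C ⧸ N) | B ≤ A.map π ∧ B ≠ ⊥ ∧
      (cv M (B : Set (C ⧸ N))).index = Nat.card B}).exists_minimal ⟨A.map π, le_rfl, hA1, hex⟩
    exact ⟨B, hB.prop, fun B' hB' hle => le_antisymm hle (hB.le_of_le hB' hle)⟩
  have htZ : ∀ z ∈ Z, ∀ t ∈ T.map π, t • z = z := by
    rintro z hz _ ⟨t, ht, rfl⟩
    exact h.tZ z hz t ht
  refine ⟨C ⧸ N, inferInstance, inferInstance, inferInstance, T.map π, B, ?_⟩
  refine ⟨h.sq, h.two.map π, hsyl, htZ, ?_, ?_, ?_, ?_, fun a ha => hel a (hBA ha), hBe, ?_, ?_, hBA.trans hx,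
    hBA.trans hy, hKH⟩
  · intro g hg z hz
    obtain ⟨t, ht, n, hn, rfl⟩ := norm_lift π hπ h.two h.syl hg
    rw [he, mul_smul]
    exact h.NZ t (le_normalizer ht) _ (h.NZ n hn z hz)
  · rintro _ ⟨t, ht, rfl⟩ w hw
    exact h.TY t ht w hw
  · -- an element of odd order of `N(T π)` lifts to an element of odd order of `N(T)`, times `T`
    intro g hg hgo w hw
    obtain ⟨t, ht, n, hn, rfl⟩ := norm_lift π hπ h.two h.syl hg
    -- `T n` contains a power of `t n` of odd order ...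
    have hR : (T ⊔ zpowers n) ≤ normalizer (T : Set C) := sup_le le_normalizer (zpowers_le.2 hn)
    have hm : π (t * n) ∈ (T ⊔ zpowers n).map π :=
      mem_map_of_mem π (mul_mem (mem_sup_left ht) (mem_sup_right (mem_zpowers n)))
    obtain ⟨c, hc, hco, hce⟩ := exists_odd π hm hgo
    rw [← hce]
    exact h.NY c (hR hc) hco w hw
  · intro P hP
    obtain ⟨R, hR, rfl⟩ := Quo.exists_minPar π hπ hP
    rcases h.par R hR with h1 | h1
    · left
      rintro z hz _ ⟨r, hr, rfl⟩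
      exact h1 z hz r hr
    · right
      intro g hg hog w hw
      obtain ⟨c, hc, hco, rfl⟩ := exists_odd π hg hog
      exact h1 c hc hco w hw
  · intro B' hB' hB1' hne
    refine lt_of_le_of_ne (hno B' (hB'.trans hBA)) fun h1 => hne ?_
    exact hmin B' ⟨hB'.trans hBA, hB1', h1.symm⟩ hB'
  · -- `O₂(H)` centralises `⟨Z^H⟩`
    intro hle
    apply hB1
    rw [eq_bot_iff]
    intro b hb
    rw [mem_bot]
    refine hfa b (hBA hb) fun c z hz => ?_
    have h1 : c⁻¹ * b * c ∈ o2 (⊤ : Subgroup (C ⧸ N)) := by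
      have := (mem_normalizer_iff.1 (le_normalizer_o2 (⊤ : Subgroup (C ⧸ N)) (mem_top c⁻¹)) b).1 (hle hb)
      rwa [inv_inv] at this
    have h2 : o2 (⊤ : Subgroup (C ⧸ N)) ≤ T.map π :=
      Cfsg.Agent.MinSimple.VModule.o2_le_of_sylow (h.two.map π) (by rwa [relIndex_top_right])
    have h3 := htZ z hz _ (h2 h1)
    rw [mul_smul, mul_smul, inv_smul_eq_iff] at h3
    exact h3

end pre

variable {G : Type u} [Group G]

/-- `K ⊴ H`, `T` Sylow in `H` : `T ∩ K` is Sylow in `K` -/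
theorem syl_inf' [Finite G] {T H K : Subgroup G} (hT : Syl T H) (hKH : K ≤ H)
    (hn : H ≤ normalizer (K : Set G)) : Syl (T ⊓ K) K := by
  refine ⟨inf_le_right, hT.2.1.to_le inf_le_left, fun Q hQ hQ2 hle => ?_⟩
  obtain ⟨R, hR, hQR⟩ := exists_syl hQ2 (hQ.trans hKH)
  obtain ⟨h, hh, e⟩ := syl_conj hT hR
  have h1 : Q ≤ ZN.ChoiceBase.cj h (T ⊓ K) := by
    rw [ZN.ChoiceBase.cj_inf, e]
    refine le_inf hQR ?_
    have h2 : ZN.ChoiceBase.cj h K = K := ZN.ChoiceBase.mem_normalizer_iff_cj.1 (hn hh)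
    rw [h2]
    exact hQ
  have h2 := Subgroup.card_le_of_le h1
  rw [ZN.ChoiceBase.card_cj] at h2
  exact (Subgroup.eq_of_le_of_card_ge hle h2).symm

theorem syl_of_le [Finite G] {T H K : Subgroup G} (hT : Syl T H) (hTK : T ≤ K) (hKH : K ≤ H) : Syl T K :=
  ⟨hTK, hT.2.1, fun R hR hR2 hTR => hT.2.2 R (hR.trans hKH) hR2 hTR⟩

/-- an element of odd order with `[w, g] ∈ E`, `E` of exponent 2 centralised by `g`, commutes with `w` -/
theorem comm_of_odd {E : Subgroup G} (sq : ∀ e ∈ E, e ^ 2 = 1) {g w : G} (hgE : g ∈ centralizer (E : Set G))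
    (hgo : Odd (orderOf g)) (h : g * w * g⁻¹ * w⁻¹ ∈ E) : w * g = g * w := by
  set z := g * w * g⁻¹ * w⁻¹ with hzdef
  have hgz : g * z = z * g := (mem_centralizer_iff.1 hgE z h).symm
  have h3 : ∀ n : ℕ, g ^ n * w * (g ^ n)⁻¹ = z ^ n * w := by
    intro n
    induction n with
    | zero => simp
    | succ n ih =>
      have h4 : Commute g (z ^ n) := (show Commute g z from hgz).pow_right n
      calc g ^ (n + 1) * w * (g ^ (n + 1))⁻¹ = g * (g ^ n * w * (g ^ n)⁻¹) * g⁻¹ := by rw [pow_succ']; group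
        _ = (g * z ^ n) * w * g⁻¹ := by rw [ih]; group
        _ = z ^ n * (g * w * g⁻¹ * w⁻¹) * w := by rw [h4.eq]; group
        _ = z ^ (n + 1) * w := by rw [← hzdef, pow_succ]
  have h4 := h3 (orderOf g)
  rw [pow_orderOf_eq_one, one_mul, inv_one, mul_one] at h4
  have h5 : z ^ orderOf g = 1 := mul_right_cancel (a := z ^ orderOf g) (b := w) (c := 1) (by rw [← h4, one_mul])
  obtain ⟨k, hk⟩ := hgo
  rw [hk, pow_succ, pow_mul, sq z h, one_pow, one_mul] at h5
  have h7 : g * w * g⁻¹ = w := by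
    have h8 : g * w * g⁻¹ * w⁻¹ = 1 := by rw [← hzdef]; exact h5
    exact mul_inv_eq_one.1 h8
  exact (eq_mul_of_mul_inv_eq h7).symm

/-- **the one-sided frame of THEOREM G*** -/
structure GSt [Finite G] (C T Vi E Zj X B : Subgroup G) : Prop where
  syl : Syl T C
  KC : IsKGroup C
  CE : C ≤ normalizer (E : Set G)
  CX : C ≤ normalizer (X : Set G)
  XC : X ≤ C
  sqX : ∀ x ∈ X, x ^ 2 = 1
  EV : E ≤ Vi
  VX : Vi ≤ X
  NX : NoFF.Basic.V Zj C ≤ X
  VC : centralizer (Vi : Set G) ≤ C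
  TZ : T ≤ centralizer (Zj : Set G)
  TV : T ≤ normalizer (Vi : Set G)
  root : ∀ t ∈ T, t ∈ centralizer (E : Set G) → ∀ w ∈ Vi, t * w * t⁻¹ * w⁻¹ ∈ E
  nT : C ⊓ normalizer (T : Set G) ≤ normalizer (Zj : Set G) ⊓ normalizer (Vi : Set G)
  uni : ∀ R : Subgroup G, IsMinPar T R → R ≤ C → ¬ R ≤ centralizer (Zj : Set G) → R ≤ normalizer (Vi : Set G)
  sep : ∀ c ∈ C, ∀ m ∈ Zj, c * m * c⁻¹ * m⁻¹ ∈ E → c * m * c⁻¹ = m
  dis : Vi ⊓ (NoFF.Basic.V Zj C ⊔ E) ≤ E
  sqB : ∀ b ∈ B, b ^ 2 = 1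
  BO : B ≤ o2 (C ⊓ centralizer (Zj : Set G))
  BV : B ≤ o2 (centralizer (Vi : Set G) ⊔ T)
  ex : (centralizer (B : Set G)).relIndex (NoFF.Basic.V Zj C) ≤ (centralizer (NoFF.Basic.V Zj C : Set G)).relIndex B
  mv : ¬ B ≤ centralizer (NoFF.Basic.V Zj C : Set G)

namespace GSt

variable [Finite G] {C T Vi E Zj X B : Subgroup G} (D : GSt C T Vi E Zj X B)

include D

theorem TC : T ≤ C := D.syl.1

theorem two : IsPGroup 2 T := D.syl.2.1

theorem E_le_X : E ≤ X := D.EV.trans D.VX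

theorem NE_le_X : NoFF.Basic.V Zj C ⊔ E ≤ X := sup_le D.NX D.E_le_X

theorem X_comm {x y : G} (hx : x ∈ X) (hy : y ∈ X) : x * y = y * x :=
  mem_centralizer_iff.1 (Cfsg.Agent.Omega.KL.TwoS.comm_of_sq D.sqX hy) x hx

theorem XE : ∀ x ∈ X, ∀ y ∈ E, x * y = y * x := fun _ hx _ hy => D.X_comm hx (D.E_le_X hy)

theorem X_norm_E : X ≤ normalizer (E : Set G) := D.XC.trans D.CE

theorem conj_E {c e : G} (hc : c ∈ C) (he : e ∈ E) : c * e * c⁻¹ ∈ E := (mem_normalizer_iff.1 (D.CE hc) e).1 he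

theorem Zj_le : Zj ≤ X := (le_V Zj C).trans D.NX

theorem C_norm_NE : C ≤ normalizer ((NoFF.Basic.V Zj C ⊔ E : Subgroup G) : Set G) := by
  refine le_norm_of fun c hc x hx => ?_
  obtain ⟨n, hn, e, he, rfl⟩ := exists_mul_of_mem_sup ((D.E_le_X.trans D.XC).trans (le_normalizer_V _ _)) hx
  have e1 : c * (n * e) * c⁻¹ = (c * n * c⁻¹) * (c * e * c⁻¹) := by group
  rw [e1]
  exact mul_mem (mem_sup_left ((mem_normalizer_iff.1 (le_normalizer_V Zj C hc) n).1 hn))
    (mem_sup_right (D.conj_E hc he))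

/-- (0.2) for the conjugates -/
theorem sep' {c l m : G} (hc : c ∈ C) (hl : l ∈ C) (hm : m ∈ Zj)
    (h : c * (l * m * l⁻¹) * c⁻¹ * (l * m * l⁻¹)⁻¹ ∈ E) : c * (l * m * l⁻¹) * c⁻¹ = l * m * l⁻¹ := by
  have h1 := D.sep (l⁻¹ * c * l) (mul_mem (mul_mem (inv_mem hl) hc) hl) m hm (by
    have e : l⁻¹ * c * l * m * (l⁻¹ * c * l)⁻¹ * m⁻¹ = l⁻¹ * (c * (l * m * l⁻¹) * c⁻¹ * (l * m * l⁻¹)⁻¹) * l⁻¹⁻¹ := by group
    rw [e]
    exact D.conj_E (inv_mem hl) h)
  calc c * (l * m * l⁻¹) * c⁻¹ = l * (l⁻¹ * c * l * m * (l⁻¹ * c * l)⁻¹) * l⁻¹ := by group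
    _ = l * m * l⁻¹ := by rw [h1]

/-- an element of `C` which centralises `⟨Zj^L⟩ E / E` centralises `⟨Zj^L⟩` -/
theorem cent_of_mod {L : Subgroup G} (hL : L ≤ C) {c : G} (hc : c ∈ C)
    (h : ∀ l ∈ L, ∀ m ∈ Zj, c * (l * m * l⁻¹) * c⁻¹ * (l * m * l⁻¹)⁻¹ ∈ E) :
    c ∈ centralizer (NoFF.Basic.V Zj L : Set G) := by
  have h1 : NoFF.Basic.V Zj L ≤ centralizer ({c} : Set G) := by
    refine V_le fun l hl z hz => ?_
    rw [mem_conj] at hz
    have h2 := D.sep' hc (hL hl) hz (h l hl _ hz)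
    have e : l * (l⁻¹ * z * l) * l⁻¹ = z := by group
    rw [e] at h2
    rw [mem_centralizer_singleton_iff]
    exact (eq_mul_of_mul_inv_eq h2).symm
  rw [mem_centralizer_iff]
  exact fun x hx => mem_centralizer_singleton_iff.1 (h1 hx)

/-- `{x ∈ N E : [x, A] ≤ E}` -/
abbrev tN (A : Set G) : Subgroup G := tE (NoFF.Basic.V Zj C ⊔ E) E A fun x hx y hy => D.XE x (D.NE_le_X hx) y hy

/-- `{x ∈ X : [c, x] ∈ E}` -/
abbrev tX (c : G) : Subgroup G := tE X E ({c} : Set G) D.XE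

theorem mem_tX {c x : G} : x ∈ D.tX c ↔ x ∈ X ∧ c * x * c⁻¹ * x⁻¹ ∈ E :=
  ⟨fun h => ⟨h.1, h.2 c rfl⟩, fun h => ⟨h.1, by rintro _ rfl; exact h.2⟩⟩

/-- exactness on `N E / E` -/
theorem le_E {A : Subgroup G} (hA : A ≤ C) :
    (D.tN (A : Set G)).relIndex (NoFF.Basic.V Zj C ⊔ E) ≤ (centralizer (A : Set G)).relIndex (NoFF.Basic.V Zj C) := by
  have hXc : NoFF.Basic.V Zj C ⊔ E ≤ centralizer ((NoFF.Basic.V Zj C ⊔ E : Subgroup G) : Set G) :=
    Cfsg.Agent.Omega.KL.TwoS.comm_of_sq fun x hx => D.sqX x (D.NE_le_X hx)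
  have hEt : E ≤ D.tN (A : Set G) := fun e he =>
    ⟨mem_sup_right he, fun b hb => mul_mem (D.conj_E (hA hb) he) (inv_mem he)⟩
  refine (relIndex_le_of_sup le_sup_left hXc (sup_le le_sup_left (le_trans (le_inf le_sup_right hEt) le_sup_right))).trans ?_
  rw [← inf_relIndex_left (NoFF.Basic.V Zj C) (centralizer (A : Set G))]
  refine relIndex_anti fun x hx => ⟨mem_sup_left hx.1, fun b hb => ?_⟩
  rw [mem_centralizer_iff.1 hx.2 b hb, mul_inv_cancel_right, mul_inv_cancel]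
  exact one_mem _

/-- **(NO)** on `N E / E` -/
theorem no_E (hML : ML.Final.MLK.{u, u}) {A : Subgroup G} (hA : A ≤ o2 (C ⊓ centralizer (Zj : Set G)))
    (hA2 : ∀ a ∈ A, a ^ 2 = 1) :
    (centralizer (NoFF.Basic.V Zj C : Set G)).relIndex A ≤ (D.tN (A : Set G)).relIndex (NoFF.Basic.V Zj C ⊔ E) := by
  set N : Subgroup G := NoFF.Basic.V Zj C with hN
  have hNC : N ≤ C := D.NX.trans D.XC
  have hZC : Zj ≤ C := D.Zj_le.trans D.XC
  have hEC : E ≤ C := D.E_le_X.trans D.XC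
  have hAC : A ≤ C := (hA.trans (o2_le _)).trans inf_le_left
  have hnor : (E.subgroupOf C).Normal := normal_subgroupOf_of_le_normalizer D.CE
  let π : C →* C ⧸ E.subgroupOf C := QuotientGroup.mk' (E.subgroupOf C)
  have hπ : Function.Surjective π := QuotientGroup.mk'_surjective _
  have hone : ∀ x y : C, π x = π y ↔ (x : G) * (y : G)⁻¹ ∈ E := by
    intro x y
    rw [← mul_inv_eq_one, ← map_inv, ← map_mul, ← MonoidHom.mem_ker, QuotientGroup.ker_mk']
    exact Iff.rfl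
  have hcom : ∀ x y : C, π x * π y = π y * π x ↔ (x : G) * y * (x : G)⁻¹ * (y : G)⁻¹ ∈ E := by
    intro x y
    rw [← map_mul, ← map_mul, hone]
    have e : ((x * y : C) : G) * ((y * x : C) : G)⁻¹ = (x : G) * y * (x : G)⁻¹ * (y : G)⁻¹ := by
      push_cast; group
    rw [e]
  set Zb : Subgroup (C ⧸ E.subgroupOf C) := (Zj.subgroupOf C).map π with hZb
  set Tb : Subgroup (C ⧸ E.subgroupOf C) := (T.subgroupOf C).map π with hTb
  set Ab : Subgroup (C ⧸ E.subgroupOf C) := (A.subgroupOf C).map π with hAb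
  -- `⟨Zb^C⟩`
  have hV : NoFF.Basic.V Zb (⊤ : Subgroup (C ⧸ E.subgroupOf C)) = ((N ⊔ E).subgroupOf C).map π := by
    apply le_antisymm
    · refine V_le_of ?_ ?_
      · exact map_mono fun z hz => mem_subgroupOf.2 (mem_sup_left ((le_V Zj C) (mem_subgroupOf.1 hz)))
      · refine le_norm_of fun g _ x hx => ?_
        obtain ⟨c, rfl⟩ := hπ g
        obtain ⟨y, hy, rfl⟩ := hx
        rw [← map_inv, ← map_mul, ← map_mul]
        exact mem_map_of_mem π (mem_subgroupOf.2 ((mem_normalizer_iff.1 (D.C_norm_NE c.2) _).1 (mem_subgroupOf.1 hy)))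
    · let U : Subgroup G := ((NoFF.Basic.V Zb (⊤ : Subgroup (C ⧸ E.subgroupOf C))).comap π).map C.subtype
      have hU : ∀ x : C, (x : G) ∈ U ↔ π x ∈ NoFF.Basic.V Zb (⊤ : Subgroup (C ⧸ E.subgroupOf C)) := by
        intro x
        constructor
        · rintro ⟨y, hy, hyx⟩
          rw [← (Subtype.ext hyx : y = x)]
          exact hy
        · exact fun hx => ⟨x, hx, rfl⟩
      have h1 : N ⊔ E ≤ U := by
        refine sup_le (V_le_of (fun z hz => ?_) (le_norm_of fun c hc x hx => ?_)) fun e he => ?_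
        · exact (hU ⟨z, hZC hz⟩).2 (le_V _ _ (mem_map_of_mem π (mem_subgroupOf.2 hz)))
        · obtain ⟨y, hy, rfl⟩ := hx
          have h2 := (mem_normalizer_iff.1 (le_normalizer_V Zb (⊤ : Subgroup (C ⧸ E.subgroupOf C))
            (mem_top (π ⟨c, hc⟩))) (π y)).1 hy
          rw [← map_inv, ← map_mul, ← map_mul] at h2
          exact (hU (⟨c, hc⟩ * y * ⟨c, hc⟩⁻¹)).2 h2
        · refine (hU ⟨e, hEC he⟩).2 ?_
          have h2 : π ⟨e, hEC he⟩ = 1 := by
            rw [← map_one π, hone]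
            simpa using he
          rw [h2]
          exact one_mem _
      rintro _ ⟨y, hy, rfl⟩
      exact (hU y).1 (h1 (mem_subgroupOf.1 hy))
  -- centralisers
  have hcZ : centralizer (Zb : Set (C ⧸ E.subgroupOf C)) = ((C ⊓ centralizer (Zj : Set G)).subgroupOf C).map π := by
    apply le_antisymm
    · intro g hg
      obtain ⟨c, rfl⟩ := hπ g
      refine mem_map_of_mem π (mem_subgroupOf.2 ⟨c.2, mem_centralizer_iff.2 fun z hz => ?_⟩)
      have h1 := mem_centralizer_iff.1 hg (π ⟨z, hZC hz⟩) (mem_map_of_mem π (mem_subgroupOf.2 hz))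
      have h2 := (hcom c ⟨z, hZC hz⟩).1 h1.symm
      exact (eq_mul_of_mul_inv_eq (D.sep c c.2 z hz h2)).symm
    · rintro _ ⟨c, hc, rfl⟩
      rw [mem_centralizer_iff]
      rintro _ ⟨z, hz, rfl⟩
      rw [← map_mul, ← map_mul]
      exact congrArg π (Subtype.ext (mem_centralizer_iff.1 (mem_subgroupOf.1 hc).2 z (mem_subgroupOf.1 hz)))
  have key := FlagNO.flag_no hML (H := (⊤ : Subgroup (C ⧸ E.subgroupOf C))) (Z := Zb) (T := Tb) (B := Ab)
    ((D.two.comap_of_injective C.subtype C.subtype_injective).map π) le_top (by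
      rw [relIndex_top_right]
      exact fun h2 => syl_not_dvd D.syl (h2.trans (index_map_dvd _ hπ))) (by
      rw [hcZ]
      exact map_mono fun t ht => mem_subgroupOf.2 ⟨t.2, D.TZ (mem_subgroupOf.1 ht)⟩)
    (ML.Final.sec_KG.sub _ (ML.Final.sec_KG.quo C D.KC _) ⊤) (by
      rw [hV]
      rintro _ ⟨x, hx, rfl⟩
      have h1 : x ^ 2 = 1 := Subtype.ext (D.sqX x (D.NE_le_X (mem_subgroupOf.1 hx)))
      rw [← map_pow, h1, map_one]) (by
      rw [top_inf_eq, hcZ]
      have h1 : Ab ≤ ((o2 (C ⊓ centralizer (Zj : Set G))).subgroupOf C).map π :=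
        map_mono fun a ha => mem_subgroupOf.2 (hA (mem_subgroupOf.1 ha))
      refine h1.trans (le_o2 (map_mono fun a ha => mem_subgroupOf.2 (o2_le _ (mem_subgroupOf.1 ha)))
        (((o2_isPGroup _).comap_of_injective C.subtype C.subtype_injective).map π) ?_)
      refine (map_mono ?_).trans (le_normalizer_map π)
      intro c hc
      rw [mem_normalizer_iff]
      intro x
      exact mem_normalizer_iff.1 (le_normalizer_o2 _ (mem_subgroupOf.1 hc)) (x : G)) (by
      rintro _ ⟨x, hx, rfl⟩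
      have h1 : x ^ 2 = 1 := Subtype.ext (hA2 x (mem_subgroupOf.1 hx))
      rw [← map_pow, h1, map_one])
  -- translate
  have e1 : (centralizer (N : Set G)).relIndex A ≤
      (centralizer (NoFF.Basic.V Zb (⊤ : Subgroup (C ⧸ E.subgroupOf C)) : Set (C ⧸ E.subgroupOf C))).relIndex Ab := by
    rw [hAb, ← relIndex_comap, ← relIndex_subgroupOf hAC]
    rw [← inf_relIndex_left (A.subgroupOf C)
      ((centralizer (NoFF.Basic.V Zb (⊤ : Subgroup (C ⧸ E.subgroupOf C)) : Set (C ⧸ E.subgroupOf C))).comap π)]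
    refine relIndex_anti fun c hc => ?_
    refine mem_subgroupOf.2 (D.cent_of_mod (L := C) le_rfl c.2 fun l hl m hm => ?_)
    have h1 : l * m * l⁻¹ ∈ N := Z_le_V hl (mem_conj.2 (by
      have e : l⁻¹ * (l * m * l⁻¹) * l = m := by group
      rwa [e]))
    have h2 : π ⟨l * m * l⁻¹, hNC h1⟩ ∈ NoFF.Basic.V Zb (⊤ : Subgroup (C ⧸ E.subgroupOf C)) := by
      rw [hV]
      exact mem_map_of_mem π (mem_subgroupOf.2 (mem_sup_left h1))
    have h3 := mem_centralizer_iff.1 (mem_comap.1 hc.2) _ h2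
    exact (hcom c ⟨l * m * l⁻¹, hNC h1⟩).1 h3.symm
  have e2 : (centralizer (Ab : Set (C ⧸ E.subgroupOf C))).relIndex
      (NoFF.Basic.V Zb (⊤ : Subgroup (C ⧸ E.subgroupOf C))) = (D.tN (A : Set G)).relIndex (N ⊔ E) := by
    rw [hV, ← relIndex_comap, ← relIndex_subgroupOf (sup_le hNC hEC), ← inf_relIndex_right,
      ← inf_relIndex_right ((D.tN (A : Set G)).subgroupOf C)]
    congr 1
    ext x
    constructor
    · rintro ⟨h1, h2⟩
      refine ⟨mem_subgroupOf.2 ⟨mem_subgroupOf.1 h2, fun a ha => ?_⟩, h2⟩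
      have h3 := mem_centralizer_iff.1 (mem_comap.1 h1) (π ⟨a, hAC ha⟩) (mem_map_of_mem π (mem_subgroupOf.2 ha))
      exact (hcom ⟨a, hAC ha⟩ x).1 h3
    · rintro ⟨h1, h2⟩
      refine ⟨mem_comap.2 (mem_centralizer_iff.2 ?_), h2⟩
      rintro _ ⟨a, ha, rfl⟩
      exact (hcom a x).2 ((mem_subgroupOf.1 h1).2 a (mem_subgroupOf.1 ha))
  exact (e1.trans key).trans e2.le

/-- **the input of THEOREM KL*(q)** -/
theorem preL (hML : ML.Final.MLK.{u, u}) {K : Subgroup G} (hKC : K ≤ C) (hKE : K ≤ centralizer (E : Set G))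
    (hCK : C ≤ normalizer (K : Set G)) (hKX : ∀ k ∈ K, ∀ x ∈ X, k * x * k⁻¹ * x⁻¹ ∈ NoFF.Basic.V Zj C ⊔ E)
    (hNK : NoFF.Basic.V Zj C ≤ NoFF.Basic.V Zj (K ⊔ T)) :
    ∃ (C' M : Type u) (_ : Group C') (_ : Finite C') (_ : Group M) (_ : Finite M) (_ : MulDistribMulAction C' M)
      (T' A' : Subgroup C') (Z' Y' : Subgroup M), PreL T' A' Z' Y' := by
  set N : Subgroup G := NoFF.Basic.V Zj C with hNdef
  set H : Subgroup G := K ⊔ T with hHdef
  set NE : Subgroup G := N ⊔ E with hNE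
  have hTC := D.TC
  have hHC : H ≤ C := sup_le hKC hTC
  have hTH : T ≤ H := le_sup_right
  have hKH : K ≤ H := le_sup_left
  have hHK : H ≤ normalizer (K : Set G) := hHC.trans hCK
  have hSH : Syl T H := syl_of_le D.syl hTH hHC
  have hBT : B ≤ T := D.BO.trans (o2_le_syl (syl_of_le D.syl (le_inf hTC D.TZ) inf_le_left))
  have hBH : B ≤ H := hBT.trans hTH
  have hBC : B ≤ C := hBH.trans hHC
  have hX : H ≤ normalizer (NE : Set G) := hHC.trans D.C_norm_NE
  have hY : H ≤ normalizer (E : Set G) := hHC.trans D.CE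
  have hXY : NE ≤ normalizer (E : Set G) := D.NE_le_X.trans D.X_norm_E
  have hEsq : ∀ e ∈ E, e ^ 2 = 1 := fun e he => D.sqX e (D.E_le_X he)
  -- the elements of odd order of `H`
  have hoddK : ∀ g : H, Odd (orderOf g) → (g : G) ∈ K := by
    intro g hg
    refine Cfsg.Agent.MinSimple.VModule.oddGen_le_of_sup (P := H) (K := K) (S := T) hHK le_rfl hTH hKH D.two ?_
    exact Cfsg.Agent.MinSimple.VModule.mem_oddGen g.2 (by rwa [orderOf_coe])
  have hNm : (E.subgroupOf NE).Normal := normal_subgroupOf_of_le_normalizer hXY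
  let _ := conjAct hX hY
  let mk : NE →* NE ⧸ E.subgroupOf NE := QuotientGroup.mk' (E.subgroupOf NE)
  have hmk : Function.Surjective mk := QuotientGroup.mk'_surjective _
  have hsm : ∀ (g : H) (x : NE) (hx : (g : G) * x * (g : G)⁻¹ ∈ NE), g • mk x = mk ⟨(g : G) * x * (g : G)⁻¹, hx⟩ :=
    fun _ _ _ => rfl
  have hmem : ∀ (g : H) (x : NE), (g : G) * x * (g : G)⁻¹ ∈ NE := fun g x =>
    (mem_normalizer_iff.1 (hX g.2) x).1 x.2
  have hone : ∀ x y : NE, mk x = mk y ↔ (x : G) * (y : G)⁻¹ ∈ E := by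
    intro x y
    rw [← mul_inv_eq_one, ← map_inv, ← map_mul, ← MonoidHom.mem_ker, QuotientGroup.ker_mk']
    exact Iff.rfl
  have hfix : ∀ (g : H) (x : NE), g • mk x = mk x ↔ (g : G) * x * (g : G)⁻¹ * (x : G)⁻¹ ∈ E := by
    intro g x
    rw [hsm g x (hmem g x), hone]
  have hZN : Zj ≤ NE := (le_V _ _).trans le_sup_left
  -- the vectors
  have hvec : ∀ w ∈ Vi, ∃ w0 ∈ X, w0 * w⁻¹ ∈ NE ∧ ∀ g ∈ K, g * w0 * g⁻¹ * w0⁻¹ ∈ E := by
    intro w hw
    exact exists_fix_sec (C := K) (X := X) (Y := E) (N := NE) (T := T ⊓ K) (hKC.trans D.CX) (hKC.trans D.CE) D.X_norm_E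
      le_sup_right (fun x hx => by
        have h1 := D.sqX x hx
        rw [pow_two] at h1
        rw [h1]
        exact one_mem _)
      (syl_not_dvd (syl_inf' hSH hKH hHK)) (D.VX hw) (fun t ht => D.root t ht.1 (hKE ht.2) w hw)
      fun g hg => hKX g hg w (D.VX hw)
  -- `Z'`, `Y'`
  let Z' : Subgroup (NE ⧸ E.subgroupOf NE) := (Zj.subgroupOf NE).map mk
  let YS : Set (NE ⧸ E.subgroupOf NE) := {m | ∃ w w0, ∃ (_ : w ∈ Vi) (_ : w0 ∈ X)
    (_ : ∀ g ∈ K, g * w0 * g⁻¹ * w0⁻¹ ∈ E) (h : w0 * w⁻¹ ∈ NE), m = mk ⟨w0 * w⁻¹, h⟩}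
  let Y' : Subgroup (NE ⧸ E.subgroupOf NE) := closure YS
  have hYfix : ∀ g : H, (g : G) ∈ K → (∀ w ∈ Vi, (g : G) * w * (g : G)⁻¹ * w⁻¹ ∈ E) → ∀ y ∈ Y', g • y = y := by
    intro g hgK hg y hy
    have h1 : Y' ≤ cv (NE ⧸ E.subgroupOf NE) ({g} : Set H) := by
      change closure YS ≤ _
      rw [closure_le]
      rintro _ ⟨w, w0, hw, hw0, hw0K, hh, rfl⟩ a ha
      rw [Set.mem_singleton_iff.1 ha, hfix]
      have h2 : w ∈ D.tX g := D.mem_tX.2 ⟨D.VX hw, hg w hw⟩
      have h3 : w0 ∈ D.tX g := D.mem_tX.2 ⟨hw0, hw0K g hgK⟩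
      exact (D.mem_tX.1 (mul_mem h3 (inv_mem h2))).2
    exact h1 hy g rfl
  have hYfix2 : ∀ g : H, (g : G) ∈ K → (∀ y ∈ Y', g • y = y) → ∀ w ∈ Vi, (g : G) * w * (g : G)⁻¹ * w⁻¹ ∈ E := by
    intro g hgK hg w hw
    obtain ⟨w0, hw0, hw1, hw2⟩ := hvec w hw
    have h1 := hg (mk ⟨w0 * w⁻¹, hw1⟩) (subset_closure ⟨w, w0, hw, hw0, hw2, hw1, rfl⟩)
    rw [hfix] at h1
    have h2 : w0 * w⁻¹ ∈ D.tX g := D.mem_tX.2 ⟨D.NE_le_X hw1, h1⟩
    have h3 : w0 ∈ D.tX g := D.mem_tX.2 ⟨hw0, hw2 g hgK⟩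
    have h4 : w ∈ D.tX g := by
      have e : w = (w0 * w⁻¹)⁻¹ * w0 := by group
      rw [e]
      exact mul_mem (inv_mem h2) h3
    exact (D.mem_tX.1 h4).2
  have hYT : ∀ g : H, (g : G) ∈ T → ∀ y ∈ Y', g • y ∈ Y' := by
    intro g hgT y hy
    have h1 : Y' ≤ Y'.comap (MulDistribMulAction.toMonoidHom (NE ⧸ E.subgroupOf NE) g) := by
      change closure YS ≤ _
      rw [closure_le]
      rintro _ ⟨w, w0, hw, hw0, hw0K, hh, rfl⟩
      change g • mk ⟨w0 * w⁻¹, hh⟩ ∈ Y'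
      have hgC : (g : G) ∈ C := hHC g.2
      have h2 : (g : G) * w * (g : G)⁻¹ ∈ Vi := (mem_normalizer_iff.1 (D.TV hgT) w).1 hw
      have h3 : (g : G) * w0 * (g : G)⁻¹ ∈ X := (mem_normalizer_iff.1 (D.CX hgC) w0).1 hw0
      have e : (g : G) * (w0 * w⁻¹) * (g : G)⁻¹ = ((g : G) * w0 * (g : G)⁻¹) * ((g : G) * w * (g : G)⁻¹)⁻¹ := by group
      have h4 : ((g : G) * w0 * (g : G)⁻¹) * ((g : G) * w * (g : G)⁻¹)⁻¹ ∈ NE := by
        rw [← e]
        exact hmem g ⟨w0 * w⁻¹, hh⟩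
      rw [hsm g _ (hmem g _)]
      refine subset_closure ⟨(g : G) * w * (g : G)⁻¹, (g : G) * w0 * (g : G)⁻¹, h2, h3, fun k hk => ?_, h4, ?_⟩
      · have h5 : (g : G)⁻¹ * k * (g : G) ∈ K := by
          have h6 := (mem_normalizer_iff.1 (hCK (inv_mem hgC)) k).1 hk
          rwa [inv_inv] at h6
        have h7 := D.conj_E hgC (hw0K _ h5)
        have e2 : k * ((g : G) * w0 * (g : G)⁻¹) * k⁻¹ * ((g : G) * w0 * (g : G)⁻¹)⁻¹ =
          (g : G) * ((g : G)⁻¹ * k * (g : G) * w0 * ((g : G)⁻¹ * k * (g : G))⁻¹ * w0⁻¹) * (g : G)⁻¹ := by group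
        rw [e2]
        exact h7
      · exact congrArg mk (Subtype.ext e)
    exact h1 hy
  have hnT : ∀ g : H, g ∈ normalizer ((T.subgroupOf H : Subgroup H) : Set H) → (g : G) ∈ normalizer (T : Set G) := by
    intro g hg
    rw [mem_normalizer_iff]
    intro t
    constructor
    · intro ht
      exact (mem_normalizer_iff.1 hg ⟨t, hTH ht⟩).1 ht
    · intro ht
      have h1 : (g : G)⁻¹ * ((g : G) * t * (g : G)⁻¹) * (g : G)⁻¹⁻¹ ∈ T :=
        (mem_normalizer_iff.1 (inv_mem hg) ⟨(g : G) * t * (g : G)⁻¹, hTH ht⟩).1 ht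
      have e : (g : G)⁻¹ * ((g : G) * t * (g : G)⁻¹) * (g : G)⁻¹⁻¹ = t := by group
      rwa [e] at h1
  -- the kernel
  have hfxt : fxr H (⊤ : Subgroup (NE ⧸ E.subgroupOf NE)) = (centralizer (N : Set G)).subgroupOf H := by
    ext c
    rw [mem_subgroupOf]
    constructor
    · intro h
      refine D.cent_of_mod (L := C) le_rfl (hHC c.2) fun l hl m hmm => ?_
      have h1 : l * m * l⁻¹ ∈ NE := mem_sup_left (Z_le_V hl (mem_conj.2 (by
        have e : l⁻¹ * (l * m * l⁻¹) * l = m := by group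
        rwa [e])))
      exact (hfix c ⟨_, h1⟩).1 (h _ (mem_top _))
    · intro h m _
      obtain ⟨x, rfl⟩ := hmk m
      rw [hfix]
      have h1 : NE ≤ D.tX (c : G) := by
        refine sup_le (fun y hy => D.mem_tX.2 ⟨D.NX hy, ?_⟩) fun y hy => D.mem_tX.2 ⟨D.E_le_X hy, ?_⟩
        · rw [← mem_centralizer_iff.1 h y hy, mul_inv_cancel_right, mul_inv_cancel]
          exact one_mem _
        · exact mul_mem (D.conj_E (hHC c.2) hy) (inv_mem hy)
      exact (D.mem_tX.1 (h1 x.2)).2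
  have hcv : ∀ S : Subgroup H, (cv (NE ⧸ E.subgroupOf NE) (S : Set H)).index =
      (D.tN ((S.map H.subtype : Subgroup G) : Set G)).relIndex NE := by
    intro S
    rw [← index_comap_of_surjective _ hmk]
    change _ = ((D.tN ((S.map H.subtype : Subgroup G) : Set G)).subgroupOf NE).index
    congr 1
    ext x
    rw [mem_subgroupOf, mem_comap]
    constructor
    · intro h
      refine ⟨x.2, ?_⟩
      rintro _ ⟨s, hs, rfl⟩
      exact (hfix s x).1 (h s hs)
    · rintro ⟨-, h⟩ s hs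
      exact (hfix s x).2 (h s ⟨s, hs, rfl⟩)
  refine ⟨H, NE ⧸ E.subgroupOf NE, inferInstance, inferInstance, inferInstance, inferInstance, inferInstance,
    T.subgroupOf H, B.subgroupOf H, Z', Y', ?_⟩
  refine ⟨?_, ?_, ?_, ?_, ?_, ?_, ?_, ?_, ?_, ?_, ?_, ?_, ?_, ?_, ?_, kgroup_mono D.KC hHC⟩
  · intro m
    obtain ⟨x, rfl⟩ := hmk m
    rw [← map_mul, ← map_one mk, hone]
    have h1 := D.sqX x (D.NE_le_X x.2)
    rw [pow_two] at h1
    simp [h1]
  · exact D.two.comap_of_injective H.subtype H.subtype_injective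
  · exact syl_not_dvd hSH
  · rintro _ ⟨z, hz, rfl⟩ t ht
    rw [hfix, ← mem_centralizer_iff.1 (D.TZ (mem_subgroupOf.1 ht)) z (mem_subgroupOf.1 hz),
      mul_inv_cancel_right, mul_inv_cancel]
    exact one_mem _
  · rintro g hg _ ⟨z, hz, rfl⟩
    rw [hsm g z (hmem g z)]
    exact mem_map_of_mem mk (mem_subgroupOf.2 ((mem_normalizer_iff.1 (D.nT ⟨hHC g.2, hnT g hg⟩).1 _).1
      (mem_subgroupOf.1 hz)))
  · exact fun t ht w hw => hYT t (mem_subgroupOf.1 ht) w hw
  · intro g hg hgo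
    have hgK := hoddK g hgo
    refine hYfix g hgK fun w hw => ?_
    have hgV := (D.nT ⟨hHC g.2, hnT g hg⟩).2
    exact D.dis (mem_inf.2 ⟨mul_mem ((mem_normalizer_iff.1 hgV w).1 hw) (inv_mem hw), hKX g hgK w (D.VX hw)⟩)
  · intro P hP
    have hR := Plug.minPar_map hTH hP
    have hRC : P.map H.subtype ≤ C := (map_subtype_le P).trans hHC
    by_cases hRm : P.map H.subtype ≤ centralizer (Zj : Set G)
    · left
      rintro _ ⟨z, hz, rfl⟩ p hp
      have h1 : (z : G) * (p : G) = p * z :=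
        mem_centralizer_iff.1 (hRm (mem_map_of_mem H.subtype hp)) z (mem_subgroupOf.1 hz)
      rw [hfix, ← h1, mul_inv_cancel_right, mul_inv_cancel]
      exact one_mem _
    · right
      intro g hg hgo
      have hgK := hoddK g hgo
      have hgV : (g : G) ∈ normalizer (Vi : Set G) := D.uni _ hR hRC hRm (mem_map_of_mem H.subtype hg)
      refine hYfix g hgK fun w hw => ?_
      exact D.dis (mem_inf.2 ⟨mul_mem ((mem_normalizer_iff.1 hgV w).1 hw) (inv_mem hw), hKX g hgK w (D.VX hw)⟩)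
  · intro a ha
    apply Subtype.ext
    have h := D.sqB a (mem_subgroupOf.1 ha)
    rw [pow_two] at h
    exact h
  · refine Plug.sub_o2 (S := C ⊓ centralizer (Zj : Set G)) (fun c => ?_) D.BO
    constructor
    · intro h
      refine ⟨hHC c.2, mem_centralizer_iff.2 fun z hz => ?_⟩
      have h1 := (hfix c ⟨z, hZN hz⟩).1 (h _ (mem_map_of_mem mk (mem_subgroupOf.2 hz)))
      exact (eq_mul_of_mul_inv_eq (D.sep c (hHC c.2) z hz h1)).symm
    · rintro h _ ⟨z, hz, rfl⟩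
      rw [hfix, ← mem_centralizer_iff.1 h.2 z (mem_subgroupOf.1 hz), mul_inv_cancel_right, mul_inv_cancel]
      exact one_mem _
  · -- `B ≤ O₂(C_H(Y) T)`
    set F : Subgroup H := fxr H Y' ⊔ T.subgroupOf H with hF
    have hTF : T.subgroupOf H ≤ F := le_sup_right
    have hT2 : IsPGroup 2 (T.subgroupOf H) := D.two.comap_of_injective H.subtype H.subtype_injective
    have hTY : T.subgroupOf H ≤ normalizer (fxr H Y' : Set H) := by
      refine le_norm_of fun t ht g hg y hy => ?_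
      have h1 := hYT t⁻¹ (inv_mem (mem_subgroupOf.1 ht)) y hy
      rw [mul_smul, mul_smul, hg _ h1, smul_inv_smul]
    have hFn : F ≤ normalizer (fxr H Y' : Set H) := sup_le le_normalizer hTY
    have hF2 : ¬ 2 ∣ (T.subgroupOf H).relIndex F := fun h2 =>
      syl_not_dvd hSH (h2.trans (relIndex_dvd_index_of_le hTF))
    have hFH : F ≤ (centralizer (Vi : Set G) ⊔ T).subgroupOf H := by
      rw [← Star.Core.oddGen_sup hTF hF2]
      refine sup_le ?_ fun t ht => mem_subgroupOf.2 (mem_sup_right (mem_subgroupOf.1 ht))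
      rw [oddGen_def, closure_le]
      rintro g ⟨hgF, hgo⟩
      have hgY : g ∈ fxr H Y' := Cfsg.Agent.MinSimple.VModule.oddGen_le_of_sup (P := F) (K := fxr H Y')
        (S := T.subgroupOf H) hFn le_rfl hTF le_sup_left hT2 (Cfsg.Agent.MinSimple.VModule.mem_oddGen hgF hgo)
      have hgK := hoddK g hgo
      refine mem_subgroupOf.2 (mem_sup_left (mem_centralizer_iff.2 fun w hw => ?_))
      exact comm_of_odd hEsq (hKE hgK) (by rwa [orderOf_coe]) (hYfix2 g hgK hgY w hw)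
    set O : Subgroup H := (o2 (centralizer (Vi : Set G) ⊔ T)).subgroupOf H with hO
    have h1 : O ⊓ F ≤ o2 F := by
      refine le_o2 inf_le_right
        (((o2_isPGroup _).comap_of_injective H.subtype H.subtype_injective).to_le inf_le_left) ?_
      refine le_norm_of fun f hf q hq => ⟨?_, F.mul_mem (F.mul_mem hf hq.2) (F.inv_mem hf)⟩
      exact mem_subgroupOf.2 ((mem_normalizer_iff.1 (le_normalizer_o2 _ (mem_subgroupOf.1 (hFH hf))) _).1
        (mem_subgroupOf.1 hq.1))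
    refine le_trans (le_inf ?_ ?_) h1
    · exact fun b hb => mem_subgroupOf.2 (D.BV (mem_subgroupOf.1 hb))
    · exact le_trans (fun b hb => mem_subgroupOf.2 (hBT (mem_subgroupOf.1 hb))) hTF
  · intro a ha hc m
    have h1 : (a : G) ∈ centralizer (N : Set G) := by
      refine centralizer_le hNK ?_
      refine D.cent_of_mod hHC (hHC a.2) fun l hl z hz => ?_
      have h2 := hc ⟨l, hl⟩ (mk ⟨z, hZN hz⟩) (mem_map_of_mem mk (mem_subgroupOf.2 hz))
      rw [hsm ⟨l, hl⟩ _ (hmem _ _), hfix] at h2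
      exact h2
    have h3 : a ∈ fxr H (⊤ : Subgroup (NE ⧸ E.subgroupOf NE)) := by
      rw [hfxt]
      exact mem_subgroupOf.2 h1
    exact h3 m (mem_top _)
  · by_contra hc
    push Not at hc
    apply D.mv
    intro b hb
    have h3 : (⟨b, hBH hb⟩ : H) ∈ fxr H (⊤ : Subgroup (NE ⧸ E.subgroupOf NE)) := fun m _ =>
      hc ⟨b, hBH hb⟩ (mem_subgroupOf.2 hb) m
    rw [hfxt] at h3
    exact mem_subgroupOf.1 h3
  · intro S hS
    have hSB : S.map H.subtype ≤ B := by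
      rintro _ ⟨a, ha, rfl⟩
      exact mem_subgroupOf.1 (hS ha)
    have e1 : (fxr H (⊤ : Subgroup (NE ⧸ E.subgroupOf NE))).relIndex S =
        (centralizer (N : Set G)).relIndex (S.map H.subtype) := by
      rw [hfxt, subgroupOf, relIndex_comap]
    rw [e1, hcv]
    exact D.no_E hML (hSB.trans D.BO) fun b hb => D.sqB b (hSB hb)
  · have e : (B.subgroupOf H).map H.subtype = B := by
      rw [subgroupOf_map_subtype, inf_eq_left.2 hBH]
    rw [hcv, hfxt, relIndex_subgroupOf hBH, e]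
    exact (D.le_E hBC).trans D.ex

/-- **THEOREM G***, the machine -/
theorem false_of (hML : ML.Final.MLK.{u, u}) (hE : ML.Ex.Two.Ext.{u, u}) {K : Subgroup G} (hKC : K ≤ C)
    (hKE : K ≤ centralizer (E : Set G)) (hCK : C ≤ normalizer (K : Set G))
    (hKX : ∀ k ∈ K, ∀ x ∈ X, k * x * k⁻¹ * x⁻¹ ∈ NoFF.Basic.V Zj C ⊔ E)
    (hNK : NoFF.Basic.V Zj C ≤ NoFF.Basic.V Zj (K ⊔ T)) : False := by
  obtain ⟨C', M, _, _, _, _, _, T', A', Z', Y', hP⟩ := D.preL hML hKC hKE hCK hKX hNK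
  obtain ⟨H, _, _, _, T'', A'', hI⟩ := hP.inp
  exact hI.false_of hML hE

/-- `K = C_{C_C(E)}(X / N E)` -/
def KK : Subgroup G where
  carrier := {g | g ∈ C ⊓ centralizer (E : Set G) ∧ ∀ x ∈ X, g * x * g⁻¹ * x⁻¹ ∈ NoFF.Basic.V Zj C ⊔ E}
  one_mem' := ⟨one_mem _, fun x _ => by simp⟩
  mul_mem' := by
    rintro a b ⟨ha, ha'⟩ ⟨hb, hb'⟩
    refine ⟨mul_mem ha hb, fun x hx => ?_⟩
    have e : a * b * x * (a * b)⁻¹ * x⁻¹ = (a * (b * x * b⁻¹ * x⁻¹) * a⁻¹) * (a * x * a⁻¹ * x⁻¹) := by group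
    rw [e]
    exact mul_mem ((mem_normalizer_iff.1 (D.C_norm_NE ha.1) _).1 (hb' x hx)) (ha' x hx)
  inv_mem' := by
    rintro a ⟨ha, ha'⟩
    refine ⟨inv_mem ha, fun x hx => ?_⟩
    have e : a⁻¹ * x * a⁻¹⁻¹ * x⁻¹ = a⁻¹ * (a * x * a⁻¹ * x⁻¹)⁻¹ * a⁻¹⁻¹ := by group
    rw [e]
    exact (mem_normalizer_iff.1 (D.C_norm_NE (inv_mem ha.1)) _).1 (inv_mem (ha' x hx))

theorem KK_le : D.KK ≤ C := fun _ h => h.1.1

theorem KK_cent : D.KK ≤ centralizer (E : Set G) := fun _ h => h.1.2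

theorem C_norm_KK : C ≤ normalizer (D.KK : Set G) := by
  refine le_norm_of fun c hc g hg => ?_
  refine ⟨⟨C.mul_mem (C.mul_mem hc hg.1.1) (C.inv_mem hc), (mem_normalizer_iff.1 (norm_cent D.CE hc) g).1 hg.1.2⟩,
    fun x hx => ?_⟩
  have e : c * g * c⁻¹ * x * (c * g * c⁻¹)⁻¹ * x⁻¹ = c * (g * (c⁻¹ * x * c⁻¹⁻¹) * g⁻¹ * (c⁻¹ * x * c⁻¹⁻¹)⁻¹) * c⁻¹ := by group
  rw [e]
  exact (mem_normalizer_iff.1 (D.C_norm_NE hc) _).1
    (hg.2 _ ((mem_normalizer_iff.1 (D.CX (inv_mem hc)) x).1 hx))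

/-- **(G1)** with LEMMA 0 as a hypothesis -/
theorem g1 (hML : ML.Final.MLK.{u, u}) (hE : ML.Ex.Two.Ext.{u, u})
    (hL : ∀ K A : Subgroup G, K ≤ C → C ≤ normalizer (K : Set G) → A ≤ K → IsPGroup 2 A →
      ¬ A ≤ centralizer (NoFF.Basic.V Zj C : Set G) → NoFF.Basic.V Zj C ≤ NoFF.Basic.V Zj (K ⊔ T))
    {A : Subgroup G} (hAC : A ≤ C) (hA : A ≤ centralizer (E : Set G)) (hA2 : IsPGroup 2 A)
    (h : ∀ a ∈ A, ∀ x ∈ X, a * x * a⁻¹ * x⁻¹ ∈ NoFF.Basic.V Zj C ⊔ E) : A ≤ centralizer (NoFF.Basic.V Zj C : Set G) := by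
  by_contra hm
  exact D.false_of hML hE D.KK_le D.KK_cent D.C_norm_KK (fun k hk => hk.2)
    (hL D.KK A D.KK_le D.C_norm_KK (fun a ha => ⟨⟨hAC ha, hA ha⟩, h a ha⟩) hA2 hm)

end GSt

end Cfsg.Agent.Omega.KL.GLine

end

-- merged: Cfsg.Agent.Mrg.Omega.KL.GLine.Lem0
section

/-!
# LEMMA 0 for lines (helper918 #24444, helper45): an invariant subgroup of `C_G(Z i)` which moves `N_i` moves all of it

`LFr S V Z l`, `j = i + 1`: `K` normal in `C_i = C_G(Z i)`, a 2-subgroup `A ≤ K` moves `N_i`, every `S`-minimal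
`R ≤ C_i` which moves `l j` fuses `V j` into `Z j`.  Then `N_i = ⟨Z j ^ (K S)⟩`.
-/

set_option autoImplicit false
set_option linter.unusedSectionVars false
set_option linter.unusedVariables false
set_option linter.unreachableTactic false
set_option linter.unusedTactic false

namespace Cfsg.Agent.Omega.KL.TwoZ.Line

open Subgroup Cfsg Cfsg.Agent.Omega.MinPar
open Cfsg.Agent.ZN (o2 zc)
open Cfsg.Agent.Omega.OM.KTwo (ne_add_one eq_add_one add_one_add_one le_normalizer_V le_V exists_mul_of_mem_sup)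
open Cfsg.Agent.MinSimple.MinParabolic (IsMinPar)
open Cfsg.Agent.Omega.NoFF.Basic (conj_conj mem_conj conj_le_iff comm_symm comm_mono Z_le_V V_le)
open Cfsg.Agent.Omega.NOThreeL.Pair (conj_eq_of_mem conj_le_normalizer)
open Cfsg.Agent.ZN.ChoiceSit (Syl exists_syl syl_conj o2_le_syl syl_not_dvd)
open Cfsg.Agent.MinSimple.VModule (mem_zc zc_le normalizer_le_normalizer_zc le_o2
  o2_isPGroup o2_le zc_le_centralizer le_centralizer_zc le_normalizer_o2)
open Cfsg.Agent.Omega.TC.LemZ (card_eq le_norm_of norm_cent norm_inf)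
open Cfsg.Agent.Omega.KL.TwoZ (CC QQ NH NN V_le_of norm_V norm_o2_of sq_conj sq_V)
open Cfsg.Agent.Omega.OM
open scoped Pointwise

universe u

variable {G : Type u} [Group G]

/-- an element of a 2-group which normalises `N ≠ 1` fixes an element of `N#` -/
theorem exists_fix_elem [Finite G] {T N : Subgroup G} (hT : IsPGroup 2 T) (hN : N ≤ T) {t : G} (ht : t ∈ T)
    (htN : t ∈ normalizer (N : Set G)) (hne : N ≠ ⊥) : ∃ x ∈ N, x ≠ 1 ∧ t * x = x * t := by
  have : Fact (Nat.Prime 2) := ⟨Nat.prime_two⟩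
  set X : Subgroup G := zpowers t ⊔ N with hX
  have hXT : X ≤ T := sup_le ((zpowers_le).2 ht) hN
  have hXN : X ≤ normalizer (N : Set G) := sup_le ((zpowers_le).2 htN) le_normalizer
  have hX2 : IsPGroup 2 X := hT.to_le hXT
  have hnil : Group.IsNilpotent X := hX2.isNilpotent
  have hn : (N.subgroupOf X).Normal := normal_subgroupOf_of_le_normalizer hXN
  have h1 : N.subgroupOf X ≠ ⊥ := by
    intro h
    rw [subgroupOf_eq_bot, disjoint_iff, inf_eq_left.2 le_sup_right] at h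
    exact hne h
  have h2 := Lib.NormalAbelian.normal_inf_center_ne_bot _ h1
  obtain ⟨x, hx, hx1⟩ := (Subgroup.ne_bot_iff_exists_ne_one.1 h2).imp fun a ha => (⟨a.2, ha⟩ : _ ∧ _)
  obtain ⟨x, hx'⟩ := x
  refine ⟨x, hx.1, fun h => hx1 (Subtype.ext (Subtype.ext h)), ?_⟩
  have := mem_center_iff.1 hx.2 ⟨t, le_sup_left (a := zpowers t) (mem_zpowers t)⟩
  exact congrArg Subtype.val this

namespace LFr

variable [Finite G] {S : Sylow 2 G} {V Z l : Fin 2 → Subgroup G} (D : LFr S V Z l)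

include D

theorem V_le_S (i : Fin 2) : V i ≤ (S : Subgroup G) := (D.VQ i).trans (D.Q_le_S i)

/-- a minimal parabolic of `C_G(Z i)` which moves `l (i+1)` normalises the blocks -/
theorem par_V {i j : Fin 2} {R : Subgroup G} (hR : IsMinPar (S : Subgroup G) R) (hRC : R ≤ CC Z i)
    (h : ¬ R ≤ normalizer (l j : Set G)) (k : Fin 2) : R ≤ normalizer (V k : Set G) := by
  have hc : ¬ R ≤ centralizer (zc (S : Subgroup G) : Set G) := fun hc => h (hc.trans (D.perm j))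
  obtain ⟨z, hz, hz1⟩ := D.exists_ne i
  have hRz : R ≤ centralizer ({z} : Set G) := hRC.trans (centralizer_le (Set.singleton_subset_iff.2 hz))
  first
    | exact (D.uni R hR (D.o2_ne hz hz1 hR.le hRz) hc).1 k
    | exact (D.uni R hR hc).1 k
    | exact (D.uni R hR (D.o2_ne hz hz1 hR.le hRz) hc).1 k
    | exact (D.uni i z hz hz1 R hR hRz hc).1 k

theorem nS_conf {i : Fin 2} {n : G} (hn : n ∈ CC Z i) (hnS : n ∈ normalizer ((S : Subgroup G) : Set G)) :
    n ∈ conf V l i := by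
  obtain ⟨z, hz, hz1⟩ := D.exists_ne i
  refine D.conf_of (D.nS' hnS (D.Zl i hz) hz1 (j := i) ?_)
  have h1 : n * z * n⁻¹ = z := by
    rw [← mem_centralizer_iff.1 hn z hz, mul_inv_cancel_right]
  rw [h1]
  exact D.ZV i hz

/-- the point through `v ∈ V j#` -/
theorem exists_point (i : Fin 2) {v : G} (hv : v ∈ V (i + 1)) :
    ∃ h ∈ CC Z i, h ∈ normalizer (V (i + 1) : Set G) ∧ h * v * h⁻¹ ∈ Z (i + 1) := by
  obtain ⟨h, hc, hV, hZ⟩ := D.trV (i + 1) v hv
  refine ⟨h, ?_, hV, hZ⟩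
  have e : V (i + 1 + 1) = V i := by rw [PT.add2]
  rw [e] at hc
  exact centralizer_le (D.ZV i) hc

/-- an element of `S` which normalises all the conjugates of `l j` in `V j` centralises `V j` -/
theorem cent_of_points {i : Fin 2} {t : G} (htS : t ∈ (S : Subgroup G))
    (ht : ∀ c ∈ CC Z i, t ∈ normalizer ((MulAut.conj c • l (i + 1) : Subgroup G) : Set G)) :
    t ∈ centralizer (l (i + 1) : Set G) := by
  -- points
  have hpt : ∀ v ∈ V (i + 1), v ∉ l (i + 1) → ∃ p : Subgroup G, v ∈ p ∧ p ≤ V (i + 1) ∧ t ∈ normalizer (p : Set G) ∧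
      ∀ x ∈ p, x ∈ l (i + 1) → x = 1 := by
    intro v hv hvl
    obtain ⟨h, hC, hV, hZ⟩ := D.exists_point i hv
    have h1 : v ∈ MulAut.conj h⁻¹ • l (i + 1) := by
      rw [mem_conj, inv_inv]
      exact D.Zl _ hZ
    refine ⟨MulAut.conj h⁻¹ • l (i + 1), h1, ?_, ht _ (inv_mem hC), ?_⟩
    · have h2 : MulAut.conj h⁻¹ • V (i + 1) = V (i + 1) := conj_eq_of_mem (inv_mem hV)
      rw [← h2]
      exact conj_le_iff.2 (D.lV _)
    · intro x hx hxl
      by_contra hx1
      have h2 : MulAut.conj h • l (i + 1) = l (i + 1) := by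
        refine D.fuse_eq hxl hx1 ?_
        rw [mem_conj, inv_inv] at hx
        exact hx
      have h3 : MulAut.conj h⁻¹ • l (i + 1) = l (i + 1) := inv_conj h2
      rw [h3] at h1
      exact hvl h1
  -- a point outside `l j` with a fixed vector
  obtain ⟨v, hv, hvl⟩ : ∃ v ∈ V (i + 1), v ∉ l (i + 1) := by
    by_contra hc
    push Not at hc
    have h1 := card_le_of_le (show V (i + 1) ≤ l (i + 1) from hc)
    have h2 : 1 < Nat.card (l (i + 1)) := by
      rw [Subgroup.one_lt_card_iff_ne_bot]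
      exact fun e => D.ne (i + 1) (le_bot_iff.1 (e ▸ D.Zl (i + 1)))
    rw [D.cardV (i + 1)] at h1
    nlinarith
  obtain ⟨p, hvp, hpV, htp, hpl⟩ := hpt v hv hvl
  have hpne : p ≠ ⊥ := by
    rintro rfl
    rw [mem_bot] at hvp
    exact hvl (hvp ▸ one_mem _)
  obtain ⟨w, hwp, hw1, htw⟩ := exists_fix_elem D.S2 (hpV.trans (D.V_le_S _)) htS htp hpne
  have hwV : w ∈ V (i + 1) := hpV hwp
  have hwl : w ∉ l (i + 1) := fun h => hw1 (hpl w hwp h)
  refine mem_centralizer_iff.2 fun u hu => ?_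
  have huV : u ∈ V (i + 1) := D.lV _ hu
  have huwl : u * w ∉ l (i + 1) := fun h => hwl (((l (i + 1)).mul_mem_cancel_left hu).1 h)
  obtain ⟨p2, huw, -, htp2, hpl2⟩ := hpt (u * w) ((V (i + 1)).mul_mem huV hwV) huwl
  have htl : t ∈ normalizer (l (i + 1) : Set G) := D.Sl _ htS
  have h1 : t * u * t⁻¹ ∈ l (i + 1) := (mem_normalizer_iff.1 htl u).1 hu
  have h2 : t * (u * w) * t⁻¹ * (u * w)⁻¹ = t * u * t⁻¹ * u⁻¹ := by
    have e : t * w * t⁻¹ = w := by rw [htw, mul_inv_cancel_right]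
    calc t * (u * w) * t⁻¹ * (u * w)⁻¹ = (t * u * t⁻¹) * (t * w * t⁻¹) * w⁻¹ * u⁻¹ := by group
      _ = t * u * t⁻¹ * u⁻¹ := by rw [e]; group
  have h3 : t * u * t⁻¹ * u⁻¹ = 1 := by
    refine hpl2 _ ?_ ((l (i + 1)).mul_mem h1 ((l (i + 1)).inv_mem hu))
    rw [← h2]
    exact p2.mul_mem ((mem_normalizer_iff.1 htp2 _).1 huw) (p2.inv_mem huw)
  calc u * t = (t * u * t⁻¹ * u⁻¹)⁻¹ * (t * u) := by group
    _ = t * u := by rw [h3]; group

/-- **LEMMA 0 for lines** -/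
theorem lem0 {i : Fin 2} (trR : ∀ R : Subgroup G, IsMinPar (S : Subgroup G) R → R ≤ CC Z i →
      ¬ R ≤ normalizer (l (i + 1) : Set G) → ∀ v ∈ V (i + 1), ∃ r ∈ R, r * v * r⁻¹ ∈ Z (i + 1)) {K A : Subgroup G}
    (hK : K ≤ CC Z i) (hn : CC Z i ≤ normalizer (K : Set G)) (hAK : A ≤ K) (hA : IsPGroup 2 A)
    (hm : ¬ A ≤ centralizer (NN Z i : Set G)) : NN Z i ≤ NH Z i (K ⊔ (S : Subgroup G)) := by
  set H : Subgroup G := K ⊔ (S : Subgroup G) with hH
  have hHC : H ≤ CC Z i := sup_le hK (D.S_le_C i)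
  have hKn : H ≤ normalizer (K : Set G) := hHC.trans hn
  by_cases hR : ∃ R : Subgroup G, IsMinPar (S : Subgroup G) R ∧ R ≤ H ∧ ¬ R ≤ normalizer (l (i + 1) : Set G)
  · -- (b)
    obtain ⟨R, hR1, hR2, hR3⟩ := hR
    have htr := trR R hR1 (hR2.trans hHC) hR3
    have hC : CC Z i ≤ K ⊔ (CC Z i ⊓ normalizer (l (i + 1) : Set G)) := by
      have hHK : H ≤ K ⊔ (CC Z i ⊓ normalizer (l (i + 1) : Set G)) :=
        sup_le le_sup_left ((le_inf (D.S_le_C i) (D.Sl _)).trans le_sup_right)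
      refine MinSimple.MinParabolic.le_of_forall (D.S_le_C i) ?_ fun R' hR' hR'C => ?_
      · rintro n ⟨hn1, hn2⟩
        exact le_sup_right (a := K) (mem_inf.2 ⟨hn1, (D.nS_conf hn1 hn2).1.1.2⟩)
      · by_cases h1 : R' ≤ normalizer (l (i + 1) : Set G)
        · exact (le_inf hR'C h1).trans le_sup_right
        · intro r' hr'
          obtain ⟨m, hm1, hm2⟩ := D.exists_ne (i + 1)
          have h2 : r' * m * r'⁻¹ ∈ V (i + 1) :=
            (mem_normalizer_iff.1 (D.par_V hR' hR'C h1 (i + 1) hr') m).1 (D.ZV _ hm1)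
          obtain ⟨r, hr, h3⟩ := htr _ h2
          have h4 : MulAut.conj (r * r') • l (i + 1) = l (i + 1) := by
            refine D.fuse_eq (D.Zl _ hm1) hm2 ?_
            have e : (r * r') * m * (r * r')⁻¹ = r * (r' * m * r'⁻¹) * r⁻¹ := by group
            rw [e]
            exact D.Zl _ h3
          have h5 : r * r' ∈ CC Z i ⊓ normalizer (l (i + 1) : Set G) :=
            ⟨(CC Z i).mul_mem (hHC (hR2 hr)) (hR'C hr'), mem_norm_iff.2 h4⟩
          have e : r' = r⁻¹ * (r * r') := by group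
          rw [e]
          exact mul_mem (hHK (inv_mem (hR2 hr))) (le_sup_right (a := K) h5)
    -- `l j ≤ ⟨Z j ^ H⟩`
    have hl : l (i + 1) ≤ NH Z i H := by
      intro v hv
      obtain ⟨r, hr, h1⟩ := htr v (D.lV _ hv)
      have h2 := FlagNO.conj_mem_V (inv_mem (hR2 hr)) h1
      have e : r⁻¹ * (r * v * r⁻¹) * r⁻¹⁻¹ = v := by group
      rwa [e] at h2
    refine FlagNO.V_le_elem fun c hc z hz => ?_
    obtain ⟨k, hk, m, ⟨hm1, hm2⟩, rfl⟩ := exists_mul_of_mem_sup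
      ((inf_le_left : CC Z i ⊓ normalizer (l (i + 1) : Set G) ≤ CC Z i).trans hn) (hC hc)
    have h1 : m * z * m⁻¹ ∈ l (i + 1) := (mem_normalizer_iff.1 hm2 z).1 (D.Zl _ hz)
    have h2 := (mem_normalizer_iff.1 (le_normalizer_V (Z (i + 1)) H (le_sup_left (a := K) hk)) _).1 (hl h1)
    have e : k * m * z * (k * m)⁻¹ = k * (m * z * m⁻¹) * k⁻¹ := by group
    rw [e]
    exact h2
  · -- (a)
    push Not at hR
    exfalso
    have hHl : H ≤ normalizer (l (i + 1) : Set G) := by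
      refine MinSimple.MinParabolic.le_of_forall (le_sup_right : (S : Subgroup G) ≤ H) ?_ fun R hR1 hR2 => hR R hR1 hR2
      rintro n ⟨hn1, hn2⟩
      exact (D.nS_conf (hHC hn1) hn2).1.1.2
    have hcl : ∀ t ∈ (S : Subgroup G) ⊓ K, t ∈ centralizer (l (i + 1) : Set G) := by
      rintro t ⟨htS, htK⟩
      refine D.cent_of_points htS fun c hc => ?_
      have h1 : c⁻¹ * t * c ∈ K := by
        have := (mem_normalizer_iff.1 (hn (inv_mem hc)) t).1 htK
        rwa [inv_inv] at this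
      have h2 : MulAut.conj (c⁻¹ * t * c) • l (i + 1) = l (i + 1) :=
        conj_eq_of_mem (hHl (le_sup_left (a := K) h1))
      rw [mem_norm_iff, conj_conj]
      have e : t * c = c * (c⁻¹ * t * c) := by group
      rw [e, ← conj_conj, h2]
    -- every 2-subgroup of `K` centralises `l j`
    have hA' : ∀ B : Subgroup G, B ≤ K → IsPGroup 2 B → B ≤ centralizer (l (i + 1) : Set G) := by
      intro B hB hB2
      obtain ⟨R, hR1, hBR⟩ := exists_syl hB2 (hB.trans (le_sup_left : K ≤ H))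
      obtain ⟨x, hx, hxR⟩ := syl_conj hR1 (D.syl (le_sup_right : (S : Subgroup G) ≤ H))
      intro b hb
      have h1 : x * b * x⁻¹ ∈ (S : Subgroup G) := by
        rw [← hxR]
        exact mem_map_of_mem _ (hBR hb)
      have h2 : x * b * x⁻¹ ∈ K := (mem_normalizer_iff.1 (hKn hx) b).1 (hB hb)
      have h3 := hcl _ ⟨h1, h2⟩
      have h4 := (mem_normalizer_iff.1 (norm_cent (A := H) hHl (inv_mem hx)) _).1 h3
      have e : x⁻¹ * (x * b * x⁻¹) * x⁻¹⁻¹ = b := by group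
      rwa [e] at h4
    apply hm
    refine comm_symm (FlagNO.V_le_elem fun c hc z hz => ?_)
    rw [mem_centralizer_iff]
    intro a ha
    have h1 : MulAut.conj c⁻¹ • A ≤ centralizer (l (i + 1) : Set G) := by
      refine hA' _ ?_ (hA.map _)
      have h2 : MulAut.conj c⁻¹ • K = K := conj_eq_of_mem (hn (inv_mem hc))
      rw [← h2]
      exact conj_le_iff.2 hAK
    have h2 : c⁻¹ * a * c ∈ MulAut.conj c⁻¹ • A := by
      rw [mem_conj]
      have e : c⁻¹⁻¹ * (c⁻¹ * a * c) * c⁻¹ = a := by group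
      rw [e]
      exact ha
    have h3 := mem_centralizer_iff.1 (h1 h2) z (D.Zl _ hz)
    calc a * (c * z * c⁻¹) = c * ((c⁻¹ * a * c) * z) * c⁻¹ := by group
      _ = c * (z * (c⁻¹ * a * c)) * c⁻¹ := by rw [h3]
      _ = c * z * c⁻¹ * a := by group

end LFr

end Cfsg.Agent.Omega.KL.TwoZ.Line

end

-- merged: Cfsg.Agent.Mrg.Omega.KL.GLine.LFG
section

/-!
# (G1) over the lines (bb #24444 (C), (F4)): `LFr` ⇒ `PT.ThmC2 l (PT.XW l V)`

* `LFr.sep` : (0.2) modulo the line; **`LFr.gst`** : 853's frame `LFr` gives `GSt`;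
* `LFr.dis_of` : `V i ∩ N_i l i = l i` from the tori, `V i ≰ N_i` and an element of `C_S(l i)` which moves `V i`;
* **`LFr.g1`**, **`LFr.thmC2`** : (G1) over the lines.
-/

set_option autoImplicit false
set_option linter.unusedSectionVars false

namespace Cfsg.Agent.Omega.KL.TwoZ.Line

open Subgroup Cfsg Cfsg.Agent.Omega.MinPar
open Cfsg.Agent.ZN (o2 zc)
open Cfsg.Agent.Omega.OM.KTwo (ne_add_one eq_add_one add_one_add_one le_normalizer_V le_V exists_mul_of_mem_sup)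
open Cfsg.Agent.MinSimple.MinParabolic (IsMinPar)
open Cfsg.Agent.Omega.NoFF.Basic (conj_conj mem_conj conj_le_iff comm_symm comm_mono Z_le_V V_le conj_le_centralizer)
open Cfsg.Agent.Omega.NOThreeL.Pair (conj_eq_of_mem conj_le_normalizer)
open Cfsg.Agent.ZN.ChoiceSit (Syl exists_syl syl_conj o2_le_syl syl_not_dvd)
open Cfsg.Agent.MinSimple.VModule (mem_zc zc_le le_o2 o2_isPGroup o2_le zc_le_centralizer le_centralizer_zc
  le_normalizer_o2)
open Cfsg.Agent.Omega.TC.LemZ (card_eq le_norm_of norm_cent norm_inf)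
open Cfsg.Agent.Omega.KL.TwoZ (CC V_le_of norm_V)
open Cfsg.Agent.Omega.KL.GLine (GSt)
open Cfsg.Agent.Omega.OM
open scoped Pointwise

universe u

variable {G : Type u} [Group G]

namespace LFr

variable [Finite G] {S : Sylow 2 G} {V Z l : Fin 2 → Subgroup G} (D : LFr S V Z l)

include D

theorem mem_l01 {i : Fin 2} {a b : G} (ha : a ∈ l i) (hb : b ∈ l (i + 1)) : a * b ∈ l 0 ⊔ l 1 := by
  rcases Fin.exists_fin_two.1 ⟨i, rfl⟩ with e | e
  · subst e; exact mul_mem (mem_sup_left ha) (mem_sup_right hb)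
  · subst e; exact mul_mem (mem_sup_right ha) (mem_sup_left hb)

/-- **(0.2) modulo the line** -/
theorem sepl (i : Fin 2) : ∀ c ∈ CC Z i, ∀ m ∈ Z (i + 1), c * m * c⁻¹ * m⁻¹ ∈ l i → c * m * c⁻¹ = m := by
  intro c hc m hm h
  set e := c * m * c⁻¹ * m⁻¹ with he
  have hx : c * m * c⁻¹ = e * m := by rw [he]; group
  have h1 : c * m * c⁻¹ ∈ MulAut.conj c • l (i + 1) := conj_mem (D.Zl _ hm)
  have h2 : c * m * c⁻¹ ∈ l 0 ⊔ l 1 := by
    rw [hx]
    exact D.mem_l01 h (D.Zl _ hm)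
  have h3 : c * m * c⁻¹ ∈ l 0 ∨ c * m * c⁻¹ ∈ l 1 := D.fus2 _ ⟨i + 1, c, rfl⟩ _ h1 h2
  have h4 : c * m * c⁻¹ ∈ l i ∨ c * m * c⁻¹ ∈ l (i + 1) := by
    rcases Fin.exists_fin_two.1 ⟨i, rfl⟩ with e | e
    · subst e; exact h3
    · subst e; exact h3.symm
  rcases h4 with h4 | h4
  · have h5 : m ∈ l i := by
      have h6 := mul_mem (inv_mem h) h4
      rw [hx, inv_mul_cancel_left] at h6
      exact h6
    have h7 : m = 1 := D.dis' (ne_add_one i) (D.lV i h5) (D.ZV _ hm)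
    rw [h7]; group
  · have h5 : e ∈ l (i + 1) := by
      have h6 := mul_mem h4 (inv_mem (D.Zl _ hm))
      rw [hx, mul_inv_cancel_right] at h6
      exact h6
    have h7 : e = 1 := D.dis' (ne_add_one i) (D.lV i h) (D.lV _ h5)
    rw [hx, h7, one_mul]

theorem XW_conj_eq {i : Fin 2} {g : G} (hg : g ∈ normalizer (l i : Set G)) :
    MulAut.conj g • PT.XW l V (l i) = PT.XW l V (l i) := by
  rw [← PT.XW_conj, conj_eq_of_mem hg]

theorem V_le_XW (i : Fin 2) : V i ≤ PT.XW l V (l i) :=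
  le_trans (le_iSup (fun x : {x : Subgroup G // PT.LnOn l V (l i) x} => (x : Subgroup G)) ⟨V i, PT.lnOn l V i⟩)
    le_sup_right

theorem TN_le_XW (i : Fin 2) : TwoZ.NN Z i ≤ PT.XW l V (l i) := by
  rw [← D.NN_eq i]
  exact le_sup_left

theorem XW_le_S (i : Fin 2) : PT.XW l V (l i) ≤ (S : Subgroup G) := (D.xw_le i).trans (D.PQ_le_S i)

/-- **the one-sided frame** -/
theorem gst {i : Fin 2} {B : Subgroup G} (hK : IsKGroup (CC Z i)) (dis : V i ⊓ (TwoZ.NN Z i ⊔ l i) ≤ l i)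
    (sqB : ∀ b ∈ B, b ^ 2 = 1) (BO : B ≤ o2 (CC Z i ⊓ CC Z (i + 1))) (BV : B ≤ o2 (TwoZ.HH (S : Subgroup G) V i))
    (ex : (centralizer (B : Set G)).relIndex (TwoZ.NN Z i) ≤ (centralizer (TwoZ.NN Z i : Set G)).relIndex B)
    (mv : ¬ B ≤ centralizer (TwoZ.NN Z i : Set G)) :
    GSt (CC Z i) (S : Subgroup G) (V i) (l i) (Z (i + 1)) (PT.XW l V (l i)) B where
  syl := D.syl (D.S_le_C i)
  KC := hK
  CE := D.C_le_N i
  CX := by
    intro c hc
    exact mem_norm_iff.2 (D.XW_conj_eq (D.C_le_N i hc))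
  XC := (D.XW_le_S i).trans (D.S_le_C i)
  sqX := (NO3S.EThree.ExactA.eab_iff.1 (D.xw_eab i)).2
  EV := D.lV i
  VX := D.V_le_XW i
  NX := D.TN_le_XW i
  VC := centralizer_le (D.ZV i)
  TZ := D.S_le_C (i + 1)
  TV := D.nV i
  root := by
    intro t ht htl w hw
    have h1 := inv_mem (D.root i w hw t ht htl)
    have e : (w * t * w⁻¹ * t⁻¹)⁻¹ = t * w * t⁻¹ * w⁻¹ := by group
    rwa [e] at h1
  nT := by
    rintro n ⟨hn, hnS⟩
    have h1 := D.nS_conf (mem_inf.1 ⟨hn, hnS⟩).1 hnS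
    refine ⟨?_, h1.1.2⟩
    have key : ∀ m ∈ CC Z i ⊓ normalizer ((S : Subgroup G) : Set G), ∀ z ∈ Z (i + 1), m * z * m⁻¹ ∈ Z (i + 1) := by
      rintro m ⟨hm, hmS⟩ z hz
      have h2 := D.nS_conf hm hmS
      refine D.lZ (i + 1) _ ((mem_normalizer_iff.1 h2.1.1.2 z).1 (D.Zl _ hz)) ?_
      rw [mem_centralizer_iff]
      intro s hs
      have h3 : m⁻¹ * s * m ∈ (S : Subgroup G) := by
        have h4 := (mem_normalizer_iff.1 (inv_mem hmS) s).1 hs
        rwa [inv_inv] at h4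
      have h5 := mem_centralizer_iff.1 (D.Z_cent_S (i + 1) hz) _ h3
      calc s * (m * z * m⁻¹) = m * ((m⁻¹ * s * m) * z) * m⁻¹ := by group
        _ = m * (z * (m⁻¹ * s * m)) * m⁻¹ := by rw [h5]
        _ = m * z * m⁻¹ * s := by group
    refine mem_normalizer_iff.2 fun z => ⟨key n ⟨hn, hnS⟩ z, fun hz => ?_⟩
    have h2 := key n⁻¹ (inv_mem (mem_inf.2 ⟨hn, hnS⟩)) _ hz
    have e : n⁻¹ * (n * z * n⁻¹) * n⁻¹⁻¹ = z := by group
    rwa [e] at h2
  uni := by
    intro R hR hRC hRm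
    by_cases h : R ≤ normalizer (l (i + 1) : Set G)
    · have hc : ¬ R ≤ centralizer (zc (S : Subgroup G) : Set G) := fun hc =>
        hRm (hc.trans (centralizer_le (D.Z_le_zc (i + 1))))
      obtain ⟨z, hz, hz1⟩ := D.exists_ne i
      have hRz : R ≤ centralizer ({z} : Set G) := hRC.trans (centralizer_le (Set.singleton_subset_iff.2 hz))
      first
        | exact (D.uni R hR (D.o2_ne hz hz1 hR.le hRz) hc).1 i
        | exact (D.uni R hR hc).1 i
        | exact (D.uni R hR (D.o2_ne hz hz1 hR.le hRz) hc).1 i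
        | exact (D.uni i z hz hz1 R hR hRz hc).1 i
    · exact D.par_V hR hRC h i
  sep := D.sepl i
  dis := dis
  sqB := sqB
  BO := BO
  BV := BV
  ex := ex
  mv := mv

/-- **(G1) over the lines** -/
theorem g1 (hML : ML.Final.MLK.{u, u}) (hE : ML.Ex.Two.Ext.{u, u}) {i : Fin 2} {B : Subgroup G}
    (hK : IsKGroup (CC Z i)) (dis : V i ⊓ (TwoZ.NN Z i ⊔ l i) ≤ l i)
    (trR : ∀ R : Subgroup G, IsMinPar (S : Subgroup G) R → R ≤ CC Z i →
      ¬ R ≤ normalizer (l (i + 1) : Set G) → ∀ v ∈ V (i + 1), ∃ r ∈ R, r * v * r⁻¹ ∈ Z (i + 1))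
    (sqB : ∀ b ∈ B, b ^ 2 = 1) (BO : B ≤ o2 (CC Z i ⊓ CC Z (i + 1))) (BV : B ≤ o2 (TwoZ.HH (S : Subgroup G) V i))
    (ex : (centralizer (B : Set G)).relIndex (TwoZ.NN Z i) ≤ (centralizer (TwoZ.NN Z i : Set G)).relIndex B)
    (mv : ¬ B ≤ centralizer (TwoZ.NN Z i : Set G)) {A : Subgroup G} (hA : A ≤ centralizer (l i : Set G))
    (hA2 : IsPGroup 2 A)
    (h : ∀ a ∈ A, ∀ x ∈ PT.XW l V (l i), a * x * a⁻¹ * x⁻¹ ∈ TwoZ.NN Z i ⊔ l i) :
    A ≤ centralizer (TwoZ.NN Z i : Set G) :=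
  (D.gst hK dis sqB BO BV ex mv).g1 hML hE
    (fun _ _ hKC hn hAK hA2 hm => D.lem0 trR hKC hn hAK hA2 hm) (hA.trans (D.cl_le i)) hA hA2 h

/-- **(G1) over the lines, points level** -/
theorem thmC2_of (hG : ∀ i, ∀ A : Subgroup G, A ≤ centralizer (l i : Set G) → IsPGroup 2 A →
    (∀ a ∈ A, ∀ x ∈ PT.XW l V (l i), a * x * a⁻¹ * x⁻¹ ∈ TwoZ.NN Z i ⊔ l i) → A ≤ centralizer (TwoZ.NN Z i : Set G)) :
    PT.ThmC2 l (PT.XW l V) := by
  rintro _ ⟨i, k, rfl⟩ B hB hBc hcom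
  have h1 : MulAut.conj k⁻¹ • B ≤ centralizer (l i : Set G) := by
    have h2 := conj_le_centralizer (g := k⁻¹) hBc
    rwa [conj_conj, inv_mul_cancel, map_one, one_smul] at h2
  have h3 := hG i (MulAut.conj k⁻¹ • B) h1 (hB.of_equiv (Subgroup.equivSMul (MulAut.conj k⁻¹) B)) ?_
  · have h4 := conj_le_centralizer (g := k) h3
    rwa [conj_conj, mul_inv_cancel, map_one, one_smul, ← D.NN_eq i, ← PT.NN_conj] at h4
  · intro a ha x hx
    rw [mem_conj, inv_inv] at ha
    have hx' : k * x * k⁻¹ ∈ PT.XW l V (MulAut.conj k • l i) := by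
      rw [PT.XW_conj]
      exact conj_mem hx
    have h5 := hcom _ hx' _ ha
    rw [PT.NN_conj, D.NN_eq i, mem_conj] at h5
    have e : k⁻¹ * (k * x * k⁻¹ * (k * a * k⁻¹) * (k * x * k⁻¹)⁻¹ * (k * a * k⁻¹)⁻¹) * k = (a * x * a⁻¹ * x⁻¹)⁻¹ := by
      group
    rw [e] at h5
    have h6 := inv_mem h5
    rw [inv_inv] at h6
    exact mem_sup_left h6

/-- **(G1) over the lines, points level**, from the exact groups of EX -/
theorem thmC2 (hML : ML.Final.MLK.{u, u}) (hE : ML.Ex.Two.Ext.{u, u}) (hK : ∀ i, IsKGroup (CC Z i))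
    (dis : ∀ i, V i ⊓ (TwoZ.NN Z i ⊔ l i) ≤ l i)
    (trR : ∀ i, ∀ R : Subgroup G, IsMinPar (S : Subgroup G) R → R ≤ CC Z i →
      ¬ R ≤ normalizer (l (i + 1) : Set G) → ∀ v ∈ V (i + 1), ∃ r ∈ R, r * v * r⁻¹ ∈ Z (i + 1))
    (hB : ∀ i, ∃ B : Subgroup G, (∀ b ∈ B, b ^ 2 = 1) ∧ B ≤ o2 (CC Z i ⊓ CC Z (i + 1)) ∧
      B ≤ o2 (TwoZ.HH (S : Subgroup G) V i) ∧
      (centralizer (B : Set G)).relIndex (TwoZ.NN Z i) ≤ (centralizer (TwoZ.NN Z i : Set G)).relIndex B ∧
      ¬ B ≤ centralizer (TwoZ.NN Z i : Set G)) : PT.ThmC2 l (PT.XW l V) :=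
  D.thmC2_of fun i A hA hA2 h => by
    obtain ⟨B, h1, h2, h3, h4, h5⟩ := hB i
    exact D.g1 hML hE (hK i) (dis i) (trR i) h1 h2 h3 h4 h5 hA hA2 h

/-- `V i ∩ N_i l i = l i` -/
theorem dis_of {i : Fin 2} (torZ : ∀ x ∈ l i, x ≠ 1 → ∀ y ∈ l i, y ≠ 1 → ∃ h : G, h ∈ centralizer (V (i + 1) : Set G) ∧
      MulAut.conj h • l i = l i ∧ h * x * h⁻¹ = y)
    (torU : ∀ x ∈ V i, x ∉ l i → ∀ y ∈ V i, y ∉ l i → ∃ h : G, h ∈ centralizer (V (i + 1) : Set G) ∧
      MulAut.conj h • l i = l i ∧ MulAut.conj h • V i = V i ∧ y⁻¹ * (h * x * h⁻¹) ∈ l i)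
    (hVN : ¬ V i ≤ TwoZ.NN Z i)
    (hmv : ∃ a ∈ (S : Subgroup G), a ∈ centralizer (l i : Set G) ∧ a ∉ centralizer (V i : Set G)) :
    V i ⊓ (TwoZ.NN Z i ⊔ l i) ≤ l i := by
  rintro x ⟨hxV, hxN⟩
  by_contra hxl
  apply hVN
  have hNn : normalizer (l i : Set G) ≤ normalizer (TwoZ.NN Z i : Set G) := by
    rw [← D.NN_eq i]
    exact D.HH_norm_NN i
  have hlN : l i ≤ normalizer (TwoZ.NN Z i : Set G) := le_normalizer.trans hNn
  -- all of `V i` lies in `N_i l i`
  have h1 : V i ≤ TwoZ.NN Z i ⊔ l i := by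
    intro y hy
    by_cases hyl : y ∈ l i
    · exact mem_sup_right hyl
    obtain ⟨h, -, hl, -, hyh⟩ := torU x hxV hxl y hy hyl
    obtain ⟨n, hn, e, he, rfl⟩ := exists_mul_of_mem_sup hlN hxN
    have hhl : h ∈ normalizer (l i : Set G) := mem_norm_iff.2 hl
    have h2 : h * (n * e) * h⁻¹ ∈ TwoZ.NN Z i ⊔ l i := by
      have e1 : h * (n * e) * h⁻¹ = (h * n * h⁻¹) * (h * e * h⁻¹) := by group
      rw [e1]
      exact mul_mem (mem_sup_left ((mem_normalizer_iff.1 (hNn hhl) n).1 hn))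
        (mem_sup_right ((mem_normalizer_iff.1 hhl e).1 he))
    have e2 : y = (h * (n * e) * h⁻¹) * (y⁻¹ * (h * (n * e) * h⁻¹))⁻¹ := by group
    rw [e2]
    exact mul_mem h2 (mem_sup_right (inv_mem hyh))
  -- an element of `l i ∩ N_i`
  obtain ⟨a, haS, hal, haV⟩ := hmv
  have haN : a ∈ normalizer (TwoZ.NN Z i : Set G) := hNn (centralizer_le_normalizer _ hal)
  have h2 : ∀ v ∈ V i, v * a * v⁻¹ * a⁻¹ ∈ TwoZ.NN Z i := by
    intro v hv
    obtain ⟨n, hn, e, he, rfl⟩ := exists_mul_of_mem_sup hlN (h1 hv)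
    have h3 : e * a = a * e := mem_centralizer_iff.1 hal e he
    have e1 : n * e * a * (n * e)⁻¹ * a⁻¹ = n * (e * a) * e⁻¹ * n⁻¹ * a⁻¹ := by group
    have e2 : n * (a * e) * e⁻¹ * n⁻¹ * a⁻¹ = n * (a * n⁻¹ * a⁻¹) := by group
    rw [e1, h3, e2]
    exact mul_mem hn ((mem_normalizer_iff.1 haN _).1 (inv_mem hn))
  have h3 : ∃ v ∈ V i, v * a * v⁻¹ * a⁻¹ ≠ 1 := by
    by_contra hc
    push Not at hc
    apply haV
    rw [mem_centralizer_iff]
    intro v hv
    have h4 := hc v hv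
    have e1 : v * a = (v * a * v⁻¹ * a⁻¹) * (a * v) := by group
    rw [e1, h4, one_mul]
  obtain ⟨v, hv, hv1⟩ := h3
  have hzl := D.root i v hv a haS hal
  have hzN := h2 v hv
  have h4 : l i ≤ TwoZ.NN Z i := by
    intro y hy
    by_cases hy1 : y = 1
    · rw [hy1]; exact one_mem _
    obtain ⟨h, -, hl, hhy⟩ := torZ _ hzl hv1 y hy hy1
    rw [← hhy]
    exact (mem_normalizer_iff.1 (hNn (mem_norm_iff.2 hl)) _).1 hzN
  exact h1.trans (sup_le le_rfl h4)

end LFr

end Cfsg.Agent.Omega.KL.TwoZ.Line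

end

-- merged: Cfsg.Agent.Mrg.Omega.KL.TwoZ.LFrEnd
section

/-!
# The end: two natural blocks WITH field automorphisms (helper918 #24444 (C)), over `LFrW`

`LFrW.false_of_g3` : (G1) over the lines (`LFr.thmC2`), (4) over the lines (`LFr.inter_natS`), (K3) (`LFr.k3`) and
TEXT W2 (`PTW.false`).
-/

set_option autoImplicit false
set_option linter.unusedSectionVars false

namespace Cfsg.Agent.Omega.KL.TwoZ.Line

open Subgroup Cfsg Cfsg.Agent.Omega.MinPar
open Cfsg.Agent.ZN (o2 zc)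
open Cfsg.Agent.Omega.NOThreeL.RRed (NatS)
open Cfsg.Agent.Omega.KL.TwoS (Mx)
open Cfsg.Agent.Omega.KL.TwoZ (CC)
open Cfsg.Agent.Omega.OM
open scoped Pointwise

universe u

variable {G : Type u} [Group G] [Finite G] {S : Sylow 2 G} {V Z l : Fin 2 → Subgroup G}

namespace LFrW

variable (D : LFrW S V Z l)
include D

/-- **two natural blocks with field automorphisms: contradiction** from (G1) and (G3) -/
theorem false_of_g3 (hML : ML.Final.MLK.{u, u}) (hK : ∀ i, IsKGroup (CC Z i))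
    (hN : ∀ i, ∃ (F : Type) (_ : Field F) (_ : Finite F) (_ : CharP F 2) (P : Subgroup G),
      Nonempty (NatS F (S : Subgroup G) P (V i) (V (i + 1)) (l i)))
    (g1 : PT.ThmC2 l (PT.XW l V))
    (hg3 : ∀ i, ∃ A : Subgroup G, Mx (o2 (centralizer (zc (S : Subgroup G) : Set G))) A ∧ A ≤ TwoZ.QQ Z i ∧
      ¬ A ≤ centralizer (V i : Set G)) : False :=
  D.false_of' hML hK g1 (D.toLFr.inter_natS hML hK hN hg3 fun i _ hB hB2 hBl he =>
    D.toLFr.k3 hML (hK i) hB hB2 (hBl i) he)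

end LFrW

end Cfsg.Agent.Omega.KL.TwoZ.Line

end

-- merged: Cfsg.Agent.Mrg.Omega.KL.TwoZ.LineBf
section

/-!
# Two natural blocks WITH field automorphisms: the field `bf` of `LFrW`

**`LFr.bf`** : `C_O(C_S(l 0 l 1))` has `Ω₁ = l 0 l 1`, from (G3) and the coordinates over minimal parabolics.

Step for `i` : `n` lies in `X = (⋂ {A ∈ 𝒜(O) | A ≤ Q_(i+1)}) ∩ C(C_S(V 0 V 1))`, a module for `P_i`; a member of `𝒜(O)` in
`Q_i` which moves `V i` gives `X = V i C_X(A)` (Thompson), so `[X, O²(P_i)] ≤ V i` and averaging over `O²(P_i) C_S(l 0 l 1)`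
gives `y ∈ l i` with `n y ∈ C(O²(P_i))`. The two steps leave `1`, as `C(O²(P_0), O²(P_1))` does not meet `Z 0 Z 1`.
-/

set_option autoImplicit false
set_option linter.unusedSectionVars false
set_option linter.unusedVariables false

namespace Cfsg.Agent.Omega.KL.TwoZ.Line

open Subgroup Cfsg Cfsg.Agent.Omega.MinPar
open Cfsg.Agent.ZN (o2 zc)
open Cfsg.Agent.Omega.OM.KTwo (ne_add_one eq_add_one add_one_add_one le_normalizer_V le_V exists_mul_of_mem_sup)
open Cfsg.Agent.MinSimple.MinParabolic (IsMinPar)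
open Cfsg.Agent.Omega.NoFF.Basic (conj_conj mem_conj conj_le_iff comm_symm)
open Cfsg.Agent.Omega.NOThreeL.Pair (conj_eq_of_mem)
open Cfsg.Agent.Omega.NOThreeL.RRed (NatS)
open Cfsg.Agent.ZN.ChoiceSit (Syl syl_not_dvd o2_le_syl)
open Cfsg.Agent.MinSimple.VModule (mem_zc zc_le o2_isPGroup o2_le le_o2 le_normalizer_o2 le_centralizer_zc oddGen
  le_normalizer_oddGen oddGen_le_of_sup)
open Cfsg.Agent.Omega.TC.LemZ (card_eq norm_cent norm_inf le_norm_of)
open Cfsg.Agent.Omega.KL.TwoS (Mx comm_of_sq)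
open Cfsg.Agent.Omega.KL.TwoZ (CC)
open Cfsg.Agent.Omega.OM
open scoped Pointwise

universe u

variable {G : Type u} [Group G]

namespace LineBf

/-- `T ∩ N` is a Sylow 2-subgroup of the normal subgroup `N`. -/
theorem not_dvd_inf [Finite G] {H T N : Subgroup G} (hTH : T ≤ H) (hTS : ¬ 2 ∣ T.relIndex H)
    (hNH : N ≤ H) (hN : H ≤ normalizer (N : Set G)) : ¬ 2 ∣ (T ⊓ N).relIndex N := by
  rw [inf_comm]
  have hn : (N.subgroupOf H).Normal := normal_subgroupOf_of_le_normalizer hN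
  have h1 : N.relIndex (N ⊔ T) = N.relIndex T := by
    have h := Subgroup.relIndex_sup_left (K := N.subgroupOf H) (H := T.subgroupOf H)
    rw [← Subgroup.subgroupOf_sup hNH hTH, Subgroup.relIndex_subgroupOf (sup_le hNH hTH),
      Subgroup.relIndex_subgroupOf hTH] at h
    exact h
  have h2 := Subgroup.relIndex_mul_relIndex (N ⊓ T) N (N ⊔ T) inf_le_left le_sup_left
  have h3 := Subgroup.relIndex_mul_relIndex (N ⊓ T) T (N ⊔ T) inf_le_right le_sup_right
  have h4 : (N ⊓ T).relIndex T = N.relIndex T := Subgroup.inf_relIndex_right N T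
  rw [h1] at h2
  rw [h4, ← h2, mul_comm] at h3
  have h5 : T.relIndex (N ⊔ T) = (N ⊓ T).relIndex N :=
    Nat.eq_of_mul_eq_mul_right (Nat.pos_of_ne_zero (Subgroup.index_ne_zero_of_finite
      (H := N.subgroupOf T))) h3
  intro h
  have h6 := Subgroup.relIndex_mul_relIndex T (N ⊔ T) H le_sup_right (sup_le hNH hTH)
  exact hTS (h6 ▸ (h5 ▸ h : 2 ∣ T.relIndex (N ⊔ T)).mul_right _)

/-- `{g ∈ P | [X, g] ≤ V}` -/
def LL (P X V : Subgroup G) (hV : P ≤ normalizer (V : Set G)) : Subgroup G where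
  carrier := {g | g ∈ P ∧ ∀ x ∈ X, x⁻¹ * g * x * g⁻¹ ∈ V}
  one_mem' := ⟨one_mem _, fun x _ => by
    have e : x⁻¹ * 1 * x * 1⁻¹ = 1 := by group
    rw [e]
    exact one_mem _⟩
  mul_mem' := by
    rintro g h ⟨hg, hgx⟩ ⟨hh, hhx⟩
    refine ⟨mul_mem hg hh, fun x hx => ?_⟩
    have e : x⁻¹ * (g * h) * x * (g * h)⁻¹ = (x⁻¹ * g * x * g⁻¹) * (g * (x⁻¹ * h * x * h⁻¹) * g⁻¹) := by group
    rw [e]
    exact mul_mem (hgx x hx) ((mem_normalizer_iff.1 (hV hg) _).1 (hhx x hx))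
  inv_mem' := by
    rintro g ⟨hg, hgx⟩
    refine ⟨inv_mem hg, fun x hx => ?_⟩
    have e : x⁻¹ * g⁻¹ * x * g⁻¹⁻¹ = g⁻¹ * (x⁻¹ * g * x * g⁻¹)⁻¹ * g⁻¹⁻¹ := by group
    rw [e]
    exact (mem_normalizer_iff.1 (inv_mem (hV hg)) _).1 (inv_mem (hgx x hx))

theorem LL_norm {P X V : Subgroup G} (hV : P ≤ normalizer (V : Set G)) (hX : P ≤ normalizer (X : Set G)) :
    P ≤ normalizer (LL P X V hV : Set G) := by
  refine le_norm_of ?_
  rintro h hh g ⟨hg, hgx⟩
  refine ⟨mul_mem (mul_mem hh hg) (inv_mem hh), fun x hx => ?_⟩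
  have h1 : h⁻¹ * x * h ∈ X := by
    have := (mem_normalizer_iff.1 (inv_mem (hX hh)) x).1 hx
    rwa [inv_inv] at this
  have e : x⁻¹ * (h * g * h⁻¹) * x * (h * g * h⁻¹)⁻¹ =
      h * ((h⁻¹ * x * h)⁻¹ * g * (h⁻¹ * x * h) * g⁻¹) * h⁻¹ := by group
  rw [e]
  exact (mem_normalizer_iff.1 (hV hh) _).1 (hgx _ h1)

end LineBf

namespace LFr

variable [Finite G] {S : Sylow 2 G} {V Z l : Fin 2 → Subgroup G} (D : LFr S V Z l)
include D

section one

variable {i : Fin 2} {F : Type} [Field F] [Finite F] [CharP F 2] {P : Subgroup G}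
  (N : NatS F (S : Subgroup G) P (V i) (V (i + 1)) (l i))
include N

omit D [Finite F] [CharP F 2] in
theorem natP_le {X : Subgroup G} (h1 : (S : Subgroup G) ≤ X) (h2 : oddGen P ≤ X) : P ≤ X := by
  intro g hg
  obtain ⟨s, hs, h, hh, rfl⟩ := N.exists_odd hg
  exact mul_mem (h1 hs) (h2 hh)

omit [Finite F] [CharP F 2] in
/-- `O₂(P)` centralises `V i` -/
theorem natP_o2 : o2 P ≤ centralizer (V i : Set G) := by
  obtain ⟨z, hz, hz1⟩ := D.exists_ne i
  have hzS := D.Z_cent_S i hz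
  have hoS : o2 P ≤ (S : Subgroup G) := o2_le_syl (D.syl N.SP)
  intro a ha
  refine mem_centralizer_iff.2 fun v hv => ?_
  by_cases hv1 : v = 1
  · rw [hv1, one_mul, mul_one]
  · obtain ⟨h, hh, he⟩ := N.trans hv hv1 (D.ZV i hz) hz1 hzS
    have h1 : h * a * h⁻¹ ∈ o2 P := (mem_normalizer_iff.1 (le_normalizer_o2 _ (N.oddGen_le hh)) a).1 ha
    have h2 := mem_centralizer_iff.1 hzS _ (hoS h1)
    rw [← he] at h2
    have e1 : v * a = h⁻¹ * ((h * v * h⁻¹) * (h * a * h⁻¹)) * h := by group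
    have e2 : a * v = h⁻¹ * ((h * a * h⁻¹) * (h * v * h⁻¹)) * h := by group
    rw [e1, e2, h2]

/-- **one step** -/
theorem bf_step (hP : IsMinPar (S : Subgroup G) P)
    (hAl : ∀ A, Mx (o2 (centralizer (zc (S : Subgroup G) : Set G))) A → ∀ i, A ≤ centralizer (l i : Set G))
    (hj : ∃ A : Subgroup G, Mx (o2 (centralizer (zc (S : Subgroup G) : Set G))) A ∧ A ≤ TwoZ.QQ Z (i + 1))
    (hi : ∃ A : Subgroup G, Mx (o2 (centralizer (zc (S : Subgroup G) : Set G))) A ∧ A ≤ TwoZ.QQ Z i ∧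
      ¬ A ≤ centralizer (V i : Set G))
    {n : G} (hn : n ∈ o2 (centralizer (zc (S : Subgroup G) : Set G))) (hn2 : n ^ 2 = 1)
    (hb : ∀ b ∈ BB S l, b * n = n * b) :
    ∃ y ∈ l i, n * y ∈ o2 (centralizer (zc (S : Subgroup G) : Set G)) ∧ (n * y) ^ 2 = 1 ∧
      (∀ b ∈ BB S l, b * (n * y) = (n * y) * b) ∧ ∀ g ∈ oddGen P, g * (n * y) = (n * y) * g := by
  set O := o2 (centralizer (zc (S : Subgroup G) : Set G)) with hO
  have hfact : Fact (Nat.Prime 2) := ⟨Nat.prime_two⟩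
  have hsyl : Syl (S : Subgroup G) P := D.syl N.SP
  obtain ⟨A, hA, hAQ, hAm⟩ := hi
  obtain ⟨A', hA', hAQ'⟩ := hj
  have hOS : O ≤ (S : Subgroup G) := D.O_le_S
  have hmxB : ∀ B, Mx O B → B ≤ BB S l := fun B hB =>
    le_inf (hB.le.trans hOS) (le_inf (hAl B hB 0) (hAl B hB 1))
  -- `n` lies in all members of `𝒜(O)`
  have hnA : ∀ B, Mx O B → n ∈ B := by
    intro B hB
    have h1 : zpowers n ≤ B := by
      refine hB.le_of_comm (zpowers_le.2 hn) ?_ (zpowers_le.2 ?_)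
      · rintro _ ⟨k, rfl⟩
        show (n ^ k) ^ 2 = 1
        rw [← zpow_natCast, ← zpow_mul, mul_comm, zpow_mul, zpow_natCast, hn2, one_zpow]
      · exact mem_centralizer_iff.2 fun b hb' => hb b (hmxB B hB hb')
    exact h1 (mem_zpowers n)
  have hPC : P ≤ CC Z (i + 1) := natP_le N (D.S_le_C _) (N.odd_le.trans (centralizer_le (D.ZV _)))
  have hPV' : P ≤ normalizer (V (i + 1) : Set G) :=
    natP_le N (D.nV _) (N.odd_le.trans (centralizer_le_normalizer _))
  have hPl' : P ≤ normalizer (l (i + 1) : Set G) :=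
    natP_le N (D.Sl _) (N.odd_le.trans ((centralizer_le (D.lV _)).trans (centralizer_le_normalizer _)))
  -- `E`
  set E : Subgroup G := sInf {B | Mx O B ∧ B ≤ TwoZ.QQ Z (i + 1)} with hE
  have hEA : E ≤ A' := sInf_le ⟨hA', hAQ'⟩
  have hEn : CC Z (i + 1) ≤ normalizer (E : Set G) := by
    refine le_norm_of fun c hc x hx => ?_
    rw [hE, mem_sInf]
    rintro B ⟨hB, hBQ⟩
    have h1 : MulAut.conj c⁻¹ • B ≤ TwoZ.QQ Z (i + 1) := by
      have h2 : MulAut.conj c⁻¹ • TwoZ.QQ Z (i + 1) = TwoZ.QQ Z (i + 1) :=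
        conj_eq_of_mem (le_normalizer_o2 _ (inv_mem hc))
      rw [← h2]
      exact conj_le_iff.2 hBQ
    have h3 := mem_sInf.1 (show x ∈ sInf {B | Mx O B ∧ B ≤ TwoZ.QQ Z (i + 1)} from hx) _
      ⟨hB.conj (h1.trans (D.qq_le_O _)), h1⟩
    rwa [mem_conj, inv_inv] at h3
  have hVi : V i ≤ TwoZ.NN Z (i + 1) := by
    have h1 : V (i + 1 + 1) ≤ TwoZ.NN Z (i + 1) := D.VN (i + 1)
    rwa [PT.add2] at h1
  have hVE : V i ≤ E := by
    refine le_sInf ?_
    rintro B ⟨hB, hBQ⟩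
    refine hB.le_of_comm ((D.VQ i).trans (D.qq_le_O i)) (D.sqV i) ?_
    exact comm_symm ((hBQ.trans (D.Q_cent_TN (i + 1))).trans (centralizer_le hVi))
  -- `C_S(V 0 V 1)` is normal in `P`
  set U : Subgroup G := V i ⊔ V (i + 1) with hU
  have hPU : P ≤ normalizer (U : Set G) := by
    refine le_norm_of fun g hg x hx => ?_
    have h1 : MulAut.conj g • U = U := by
      rw [hU, Subgroup.smul_sup, conj_eq_of_mem (N.nV hg), conj_eq_of_mem (hPV' hg)]
    rw [← h1]
    exact conj_mem hx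
  obtain ⟨z, hz, hz1⟩ := D.exists_ne i
  have hPz : ¬ P ≤ centralizer ({z} : Set G) := N.mvs (D.ZV i hz) hz1
  set Q : Subgroup G := (S : Subgroup G) ⊓ centralizer (U : Set G) with hQ
  have hPQ : P ≤ normalizer (Q : Set G) := by
    refine LE.nrm_of hP hPU fun h => hPz (h.trans (sup_le ?_ ?_))
    · refine inf_le_right.trans (centralizer_le ?_)
      exact Set.singleton_subset_iff.2 (le_sup_left (a := V i) (D.ZV i hz))
    · exact (D.S_le_C i).trans (centralizer_le (Set.singleton_subset_iff.2 hz))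
  have hQB : Q ≤ BB S l := by
    refine le_inf inf_le_left (le_inf ?_ ?_)
    all_goals refine inf_le_right.trans (centralizer_le ?_)
    all_goals rcases PT.eq_or i 0 with e | e
    all_goals rcases PT.eq_or i 1 with e' | e'
    all_goals first
      | exact ((e ▸ D.lV i : l 0 ≤ V i)).trans le_sup_left
      | exact ((e ▸ D.lV (i + 1) : l 0 ≤ V (i + 1))).trans le_sup_right
      | exact ((e' ▸ D.lV i : l 1 ≤ V i)).trans le_sup_left
      | exact ((e' ▸ D.lV (i + 1) : l 1 ≤ V (i + 1))).trans le_sup_right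
  -- the module `X`
  set X : Subgroup G := E ⊓ centralizer (Q : Set G) with hX
  have hPX : P ≤ normalizer (X : Set G) := norm_inf (hPC.trans hEn) (norm_cent hPQ)
  have hXsq : ∀ x ∈ X, x ^ 2 = 1 := fun x hx => hA'.sq x (hEA hx.1)
  have hXO : X ≤ O := (inf_le_left.trans hEA).trans hA'.le
  have hnX : n ∈ X := by
    refine ⟨?_, mem_centralizer_iff.2 fun b hb' => hb b (hQB hb')⟩
    rw [hE]
    exact mem_sInf.2 fun B hB => hnA B hB.1
  have hVX : V i ≤ X := le_inf hVE (comm_symm (inf_le_right.trans (centralizer_le (show V i ≤ U from le_sup_left))))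
  have hXc : X ≤ centralizer (X : Set G) := comm_of_sq hXsq
  -- Thompson
  have hAV' : A ≤ centralizer (V (i + 1) : Set G) := hAQ.trans ((D.Q_cent_TN i).trans (centralizer_le (D.VN i)))
  have hAS : A ≤ (S : Subgroup G) := hA.le.trans hOS
  have hAQs : A ⊓ centralizer (V i : Set G) ≤ Q := by
    refine le_inf (inf_le_left.trans hAS) ?_
    intro a ha
    have h1 : V i ⊔ V (i + 1) ≤ centralizer ({a} : Set G) := sup_le
      (fun v hv => mem_centralizer_singleton_iff.2 (mem_centralizer_iff.1 ha.2 v hv))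
      (fun v hv => mem_centralizer_singleton_iff.2 (mem_centralizer_iff.1 (hAV' ha.1) v hv))
    exact mem_centralizer_iff.2 fun v hv => mem_centralizer_singleton_iff.1 (h1 hv)
  have hrel : (centralizer (A : Set G)).relIndex X ≤ (centralizer (A : Set G)).relIndex (V i) := by
    have h1 := hA.thom hXO hXsq
    have h2 : (centralizer (X : Set G)).relIndex A ≤ (centralizer (V i : Set G)).relIndex A := by
      rw [← inf_relIndex_right (centralizer (V i : Set G)) A]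
      refine TwoS.relIndex_anti ?_
      rw [inf_comm]
      exact hAQs.trans (comm_symm inf_le_right)
    have h3 : (centralizer (V i : Set G)).relIndex A = Nat.card (l i) := by
      have c1 := (D.exists_gen hA (hAl A hA i) hAm).2
      rw [card_eq A (centralizer (V i : Set G)), mul_comm] at c1
      exact Nat.eq_of_mul_eq_mul_right Nat.card_pos c1
    have h4 : (centralizer (A : Set G)).relIndex (V i) = Nat.card (l i) := by
      have hfix : V i ⊓ centralizer (A : Set G) = l i := by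
        apply le_antisymm
        · rintro x ⟨hx, hxA⟩
          by_contra hxl
          exact hAm fun a ha => D.reg i a (hAS ha) (hAl A hA i ha) x hx hxl (mem_centralizer_iff.1 hxA a ha)
        · exact le_inf (D.lV i) (comm_symm (hAl A hA i))
      have c1 := card_eq (V i) (centralizer (A : Set G))
      rw [hfix, D.cardV i] at c1
      exact (Nat.eq_of_mul_eq_mul_left Nat.card_pos c1).symm
    rw [h4, ← h3]
    exact h1.trans h2
  have hsup := TwoS.sup_of_relIndex_le hVX hXc hrel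
  have hXA : ∀ x ∈ X, ∀ a ∈ A, x⁻¹ * a * x * a⁻¹ ∈ V i := by
    intro x hx a ha
    obtain ⟨v, hv, c, hc, rfl⟩ := exists_mul_of_mem_sup
      ((inf_le_left.trans (hXc.trans (centralizer_le hVX))).trans (centralizer_le_normalizer _)) (hsup hx)
    have h1 : a * c * a⁻¹ = c := by
      rw [mem_centralizer_iff.1 hc.2 a ha, mul_inv_cancel_right]
    have h2 : a * v * a⁻¹ ∈ V i := (mem_normalizer_iff.1 (D.nV i (hAS ha)) v).1 hv
    have h3 : v⁻¹ * (a * v * a⁻¹) ∈ V i := mul_mem (inv_mem hv) h2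
    have h4 : c⁻¹ * (v⁻¹ * (a * v * a⁻¹)) * c = v⁻¹ * (a * v * a⁻¹) := by
      have := mem_centralizer_iff.1 (hXc hc.1) _ (hVX h3)
      rw [mul_assoc, this, inv_mul_cancel_left]
    have e : (v * c)⁻¹ * a * (v * c) * a⁻¹ = c⁻¹ * (v⁻¹ * (a * v * a⁻¹)) * (a * c * a⁻¹) := by group
    rw [e, h1, h4]
    exact h3
  -- `[X, O²(P)] ≤ V i`
  have hno2 : ¬ A ≤ o2 P := fun h => hAm (h.trans (natP_o2 D N))
  have hodd : oddGen P ≤ LineBf.LL P X (V i) N.nV := by
    have hLP : LineBf.LL P X (V i) N.nV ≤ P := fun g hg => hg.1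
    have hLn := LineBf.LL_norm (V := V i) N.nV hPX
    have hAL : A ≤ LineBf.LL P X (V i) N.nV := fun a ha => ⟨N.SP (hAS ha), fun x hx => hXA x hx a ha⟩
    rcases hP.sup_eq_or_inf_le S.2 (syl_not_dvd hsyl) hLP hLn with h | h
    · exact oddGen_le_of_sup hLn h.ge N.SP hLP S.2
    · exact absurd ((le_inf hAS hAL).trans h) hno2
  -- the group `M = O²(P) C_S(l 0 l 1)`
  have hAE : A ≤ N.E := fun a ha => N.cl_le_E (hAS ha) (hAl A hA i ha)
  have hoddE : oddGen P ≤ N.E := by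
    rcases hP.sup_eq_or_inf_le S.2 (syl_not_dvd hsyl) N.E_le N.E_norm with h | h
    · exact oddGen_le_of_sup N.E_norm h.ge N.SP N.E_le S.2
    · exact absurd ((le_inf hAS hAE).trans h) hno2
  set M : Subgroup G := N.E ⊓ centralizer (l (i + 1) : Set G) with hM
  have hMP : M ≤ P := inf_le_left.trans N.E_le
  have hMn : P ≤ normalizer (M : Set G) := norm_inf N.E_norm (norm_cent hPl')
  have hBi : ∀ b, b ∈ BB S l ↔ b ∈ (S : Subgroup G) ∧ b ∈ centralizer (l i : Set G) ∧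
      b ∈ centralizer (l (i + 1) : Set G) := by
    intro b
    constructor
    · intro h
      exact ⟨h.1, BB_le S l i h, BB_le S l (i + 1) h⟩
    · rintro ⟨h1, h2, h3⟩
      have key : ∀ k, b ∈ centralizer (l k : Set G) := fun k => by
        rcases PT.eq_or i k with rfl | rfl
        · exact h2
        · exact h3
      exact ⟨h1, key 0, key 1⟩
  have hBM : BB S l = (S : Subgroup G) ⊓ M := by
    ext b
    rw [hBi]
    constructor
    · rintro ⟨h1, h2, h3⟩
      exact ⟨h1, N.cl_le_E h1 h2, h3⟩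
    · rintro ⟨h1, h2, h3⟩
      exact ⟨h1, N.E_cl h1 h2, h3⟩
  have hBodd : Odd ((BB S l).relIndex M) := by
    rw [hBM, ← Nat.not_even_iff_odd, even_iff_two_dvd]
    exact LineBf.not_dvd_inf N.SP (syl_not_dvd hsyl) hMP hMn
  have hoddM : oddGen P ≤ M := le_inf hoddE (N.odd_le.trans (centralizer_le (D.lV _)))
  have hcM : ∀ m ∈ M, n⁻¹ * m * n * m⁻¹ ∈ V i := by
    intro m hm
    obtain ⟨s, hs, h, hh, rfl⟩ := N.exists_odd (hMP hm)
    have hsB : s ∈ BB S l := by
      rw [hBM]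
      refine ⟨hs, ?_⟩
      have := mul_mem hm (inv_mem (hoddM hh))
      rwa [mul_inv_cancel_right] at this
    have h1 := (hodd hh).2 n hnX
    have h2 : n⁻¹ * s = s * n⁻¹ := by
      have h3 := hb s hsB
      rw [inv_mul_eq_iff_eq_mul, ← mul_assoc, ← h3, mul_inv_cancel_right]
    have e : n⁻¹ * (s * h) * n * (s * h)⁻¹ = (n⁻¹ * s) * h * n * h⁻¹ * s⁻¹ := by group
    have e2 : s * n⁻¹ * h * n * h⁻¹ * s⁻¹ = s * (n⁻¹ * h * n * h⁻¹) * s⁻¹ := by group
    rw [e, h2, e2]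
    exact (mem_normalizer_iff.1 (D.nV i hs) _).1 h1
  obtain ⟨y, hy, hyM⟩ := BTwo.Avg.avg (X := M) (P := BB S l) (Y := V i) (D := ⊥) (c := n)
    (by rw [hBM]; exact inf_le_right) hBodd bot_le
    (fun x hx y hy => (mem_normalizer_iff.1 (N.nV (hMP hx)) y).1 hy)
    (fun x hx y hy => by rw [mem_bot] at hy ⊢; rw [hy]; group)
    (fun x hx y hy => by rw [mem_bot] at hy ⊢; rw [hy]; group)
    (fun y hy => by rw [mem_bot, ← pow_two]; exact D.sqV i y hy) hcM
    (fun x hx => by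
      rw [mem_bot, mul_assoc n⁻¹ x n, hb x hx, inv_mul_cancel_left, mul_inv_cancel])
  have hcom : ∀ m ∈ M, m * (n * y) = (n * y) * m := by
    intro m hm
    have h1 := hyM m hm
    rw [mem_bot, mul_inv_eq_one, mul_assoc, inv_mul_eq_iff_eq_mul] at h1
    exact h1
  have hBM' : BB S l ≤ M := by rw [hBM]; exact inf_le_right
  have hyl : y ∈ l i := by
    by_contra hyl
    refine hAm fun a ha => ?_
    have haB : a ∈ BB S l := hmxB A hA ha
    refine D.reg i a (hAS ha) (hAl A hA i ha) y hy hyl ?_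
    have h1 := hcom a (hBM' haB)
    have h2 := hb a haB
    have h3 : n * (a * y) = n * (y * a) := by
      rw [← mul_assoc, ← h2, mul_assoc, h1, mul_assoc]
    exact mul_left_cancel h3
  have hnyX : n * y ∈ X := mul_mem hnX (hVX hy)
  exact ⟨y, hyl, hXO hnyX, hXsq _ hnyX, fun b hb' => hcom b (hBM' hb'), fun g hg => hcom g (hoddM hg)⟩

end one

/-- **`C_O(C_S(l 0 l 1))` has `Ω₁ = l 0 l 1`** -/
theorem bf (hN : ∀ i, ∃ (F : Type) (_ : Field F) (_ : Finite F) (_ : CharP F 2) (P : Subgroup G)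
      (_ : NatS F (S : Subgroup G) P (V i) (V (i + 1)) (l i)), IsMinPar (S : Subgroup G) P)
    (hg3 : ∀ i, ∃ A : Subgroup G, Mx (o2 (centralizer (zc (S : Subgroup G) : Set G))) A ∧ A ≤ TwoZ.QQ Z i ∧
      ¬ A ≤ centralizer (V i : Set G)) :
    ∀ n ∈ o2 (centralizer (zc (S : Subgroup G) : Set G)), n ^ 2 = 1 → (∀ b ∈ BB S l, b * n = n * b) →
      n ∈ l 0 ⊔ l 1 := by
  intro n hn hn2 hb
  have hfact : Fact (Nat.Prime 2) := ⟨Nat.prime_two⟩
  have hAl : ∀ A, Mx (o2 (centralizer (zc (S : Subgroup G) : Set G))) A → ∀ i, A ≤ centralizer (l i : Set G) :=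
    fun A hA i => D.mx_le_cl hA i
  have hj : ∀ j, ∃ A : Subgroup G, Mx (o2 (centralizer (zc (S : Subgroup G) : Set G))) A ∧ A ≤ TwoZ.QQ Z j :=
    fun j => by
      obtain ⟨A, h1, h2, -⟩ := hg3 j
      exact ⟨A, h1, h2⟩
  obtain ⟨F0, _, _, _, P0, N0, hP0⟩ := hN 0
  obtain ⟨F1, _, _, _, P1, N1, hP1⟩ := hN 1
  obtain ⟨y0, hy0, hn0, hn02, hb0, ho0⟩ := D.bf_step N0 hP0 hAl (hj _) (hg3 0) hn hn2 hb
  obtain ⟨y1, hy1, hn1, hn12, hb1, ho1⟩ := D.bf_step N1 hP1 hAl (hj _) (hg3 1) hn0 hn02 hb0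
  set O := o2 (centralizer (zc (S : Subgroup G) : Set G)) with hO
  set T : Subgroup G := O ⊓ (centralizer (oddGen P0 : Set G) ⊓ centralizer (oddGen P1 : Set G)) with hT
  have hmem : n * y0 * y1 ∈ T := by
    refine ⟨hn1, mem_centralizer_iff.2 fun g hg => ?_, mem_centralizer_iff.2 fun g hg => ho1 g hg⟩
    have h1 := ho0 g hg
    have h2 : y1 * g = g * y1 := mem_centralizer_iff.1 (N0.odd_le hg) y1 (D.lV 1 hy1)
    rw [← mul_assoc, h1, mul_assoc, ← h2, ← mul_assoc]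
  have hTbot : T = ⊥ := by
    by_contra hne
    have hT2 : IsPGroup 2 T := (o2_isPGroup _).to_le inf_le_left
    have hSn : (S : Subgroup G) ≤ normalizer (T : Set G) := by
      refine norm_inf ((le_centralizer_zc _).trans (le_normalizer_o2 _)) (norm_inf ?_ ?_)
      · exact norm_cent (N0.SP.trans (le_normalizer_oddGen P0))
      · exact norm_cent (N1.SP.trans (le_normalizer_oddGen P1))
    have h1 := PLocal.OffenderStep.inf_centralizer_ne_bot T (S : Subgroup G) hT2 S.isPGroup' hSn hne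
    have h2 : 2 ∣ Nat.card (T ⊓ centralizer ((S : Subgroup G) : Set G) : Subgroup G) := by
      obtain ⟨k, hk⟩ := IsPGroup.iff_card.1 (hT2.to_le (inf_le_left (b := centralizer ((S : Subgroup G) : Set G))))
      rw [hk]
      refine dvd_pow_self 2 ?_
      rintro rfl
      rw [pow_zero] at hk
      exact h1 (Subgroup.eq_bot_of_card_eq _ hk)
    obtain ⟨⟨z, hzT, hzS⟩, hzo⟩ := exists_prime_orderOf_dvd_card' 2 h2
    have hz2 : z ^ 2 = 1 := by
      have h3 := pow_orderOf_eq_one (⟨z, hzT, hzS⟩ : (T ⊓ centralizer ((S : Subgroup G) : Set G) : Subgroup G))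
      rw [hzo] at h3
      exact congrArg Subtype.val h3
    have hz1 : z ≠ 1 := by
      rintro rfl
      have h3 : orderOf (1 : (T ⊓ centralizer ((S : Subgroup G) : Set G) : Subgroup G)) = 2 := hzo
      rw [orderOf_one] at h3
      omega
    have hzc : z ∈ zc (S : Subgroup G) := mem_zc.2 ⟨D.O_le_S hzT.1, fun s hs => mem_centralizer_iff.1 hzS s hs, hz2⟩
    rw [D.zT] at hzc
    obtain ⟨u, hu, v, hv, rfl⟩ := exists_mul_of_mem_sup (F := Z 0) (N := Z 1)
      ((((D.ZV 1).trans (comm_symm D.com)).trans (centralizer_le (D.ZV 0))).trans (centralizer_le_normalizer _)) hzc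
    have hu1 : u = 1 := by
      by_contra hu1
      refine N0.mvs (D.ZV 0 hu) hu1 (natP_le N0 ?_ ?_)
      · exact (D.S_le_C 0).trans (centralizer_le (Set.singleton_subset_iff.2 hu))
      · intro g hg
        rw [mem_centralizer_singleton_iff]
        have h3 := mem_centralizer_iff.1 hzT.2.1 g hg
        have h4 : v * g = g * v := mem_centralizer_iff.1 (N0.odd_le hg) v (D.ZV 1 hv)
        have h5 : (g * u) * v = (u * g) * v := by
          rw [mul_assoc, h3, mul_assoc, h4, mul_assoc]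
        exact mul_right_cancel h5
    have hv1 : v = 1 := by
      by_contra hv1
      refine N1.mvs (D.ZV 1 hv) hv1 (natP_le N1 ?_ ?_)
      · exact (D.S_le_C 1).trans (centralizer_le (Set.singleton_subset_iff.2 hv))
      · intro g hg
        rw [mem_centralizer_singleton_iff]
        have h3 := mem_centralizer_iff.1 hzT.2.2 g hg
        rw [hu1, one_mul] at h3
        exact h3
    exact hz1 (by rw [hu1, hv1, one_mul])
  rw [hTbot, mem_bot, mul_assoc, mul_eq_one_iff_eq_inv] at hmem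
  rw [hmem]
  exact inv_mem (mul_mem (le_sup_left (a := l 0) (b := l 1) hy0) (le_sup_right (a := l 0) (b := l 1) hy1))

end LFr

end Cfsg.Agent.Omega.KL.TwoZ.Line

end

-- merged: Cfsg.Agent.Mrg.Omega.KL.TwoM.Inp
section

/-!
# From `Out` to the input of LEMMA MOV (helper192 #24831, `StarM.InpM`)

* **`Fr.preM`** : `Out T V Z i X B` gives `StarM.PreM` for `C_i` acting on `X` with `Y = V i`, `Y' = V (i+1)`, `Z = Z (i+1)`;
* **`Fr.inpM`**, **`Fr.out_false`**; **`Fr.ex_false`** : with `StarM.NoInpM` only 'not `Fail`, `V i ≰ N_i`, `J(O)` moves `V i`,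
  both `i`' is left: K2's, fields, any number of blocks.
-/

set_option autoImplicit false
set_option linter.unusedSectionVars false

namespace Cfsg.Agent.Omega.KL.TwoM

open Subgroup Cfsg Cfsg.Agent.Omega.MinPar
open Cfsg.Agent.ZN (o2 zc)
open Cfsg.Agent.ClassTwoFusion.Quad Cfsg.Agent.Omega.ML.MinFrame
open Cfsg.Agent.Omega.OM.KTwo (ne_add_one eq_add_one add_one_add_one le_normalizer_V le_V exists_mul_of_mem_sup)
open Cfsg.Agent.MinSimple.MinParabolic (IsMinPar)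
open Cfsg.Agent.Omega.NoFF.Basic (conj_conj mem_conj conj_le_iff comm_symm comm_mono Z_le_V V_le)
open Cfsg.Agent.ZN.ChoiceSit (Syl exists_syl syl_conj o2_le_syl syl_not_dvd)
open Cfsg.Agent.MinSimple.VModule (mem_zc zc_le normalizer_le_normalizer_zc le_o2
  o2_isPGroup o2_le zc_le_centralizer le_centralizer_zc le_normalizer_o2)
open Cfsg.Agent.Omega.TC.LemZ (card_eq le_norm_of norm_cent norm_inf)
open Cfsg.Agent.Omega.KL.StarM (PreM InpM NoInpM)
open Cfsg.Agent.Omega.KL.TwoS (Mx relIndex_anti relIndex_mono)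
open Cfsg.Agent.Omega.KL.TwoZ (CC QQ NH NN WW UU HH Fail actX)
open scoped Pointwise

universe u

namespace Fr

variable {G : Type u} [Group G] [Finite G] {T : Subgroup G} {V Z : Fin 2 → Subgroup G}

theorem preM (hML : ML.Final.MLK.{u, u}) (D : Fr T V Z) {i : Fin 2} {X B : Subgroup G} (hK : IsKGroup (CC Z i))
    (O : Out T V Z i X B) :
    letI := actX O.CX
    PreM (T.subgroupOf (CC Z i)) (B.subgroupOf (CC Z i)) ((Z (i + 1)).subgroupOf X) ((V i).subgroupOf X)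
      ((V (i + 1)).subgroupOf X) := by
  let := actX O.CX
  change PreM (T.subgroupOf (CC Z i)) (B.subgroupOf (CC Z i)) ((Z (i + 1)).subgroupOf X) ((V i).subgroupOf X)
      ((V (i + 1)).subgroupOf X)
  have hBC : B ≤ CC Z i := O.BO.trans (D.O_le_T.trans (D.T_le_C i))
  have hZN : Z (i + 1) ≤ NN Z i := le_V _ _
  have hZX : Z (i + 1) ≤ X := hZN.trans O.NX
  have hsm : ∀ (c : CC Z i) (m : X), ((c • m : X) : G) = c * m * (c : G)⁻¹ := fun _ _ => rfl
  have hfix : ∀ (c : CC Z i) (m : X), c • m = m ↔ (m : G) * c = c * m := by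
    intro c m
    rw [Subtype.ext_iff, hsm, mul_inv_eq_iff_eq_mul, eq_comm]
  have hnrm : ∀ (Y : Subgroup G) (c : CC Z i), (c : G) ∈ normalizer (Y : Set G) → ∀ m ∈ Y.subgroupOf X,
      c • m ∈ Y.subgroupOf X := by
    intro Y c hc m hm
    refine mem_subgroupOf.2 ?_
    rw [hsm]
    exact (mem_normalizer_iff.1 hc _).1 (mem_subgroupOf.1 hm)
  have hfxr : ∀ Y : Subgroup G, Y ≤ X → fxr (CC Z i) (Y.subgroupOf X) = (centralizer (Y : Set G)).subgroupOf (CC Z i) := by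
    intro Y hY
    ext c
    rw [mem_subgroupOf, mem_centralizer_iff]
    constructor
    · intro h y hy
      exact (hfix c ⟨y, hY hy⟩).1 (h _ (mem_subgroupOf.2 hy))
    · intro h y hy
      exact (hfix c y).2 (h _ (mem_subgroupOf.1 hy))
  have hfxt : fxr (CC Z i) (⊤ : Subgroup X) = (centralizer (X : Set G)).subgroupOf (CC Z i) := by
    rw [← hfxr X le_rfl, subgroupOf_self]
  have hnT : ∀ g : CC Z i, g ∈ normalizer ((T.subgroupOf (CC Z i) : Subgroup (CC Z i)) : Set (CC Z i)) →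
      (g : G) ∈ CC Z i ⊓ normalizer (T : Set G) := by
    intro g hg
    refine mem_inf.2 ⟨g.2, ?_⟩
    rw [mem_normalizer_iff]
    intro t
    constructor
    · intro ht
      exact (mem_normalizer_iff.1 hg ⟨t, D.T_le_C i ht⟩).1 ht
    · intro ht
      have h1 : (g : G)⁻¹ * ((g : G) * t * (g : G)⁻¹) * (g : G)⁻¹⁻¹ ∈ T :=
        (mem_normalizer_iff.1 (inv_mem hg) ⟨(g : G) * t * (g : G)⁻¹, D.T_le_C i ht⟩).1 ht
      have e : (g : G)⁻¹ * ((g : G) * t * (g : G)⁻¹) * (g : G)⁻¹⁻¹ = t := by group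
      rwa [e] at h1
  have hcv : ∀ A : Subgroup (CC Z i), (cv X (A : Set (CC Z i))).index =
      (centralizer ((A.map (CC Z i).subtype : Subgroup G) : Set G)).relIndex X := by
    intro A
    change _ = ((centralizer ((A.map (CC Z i).subtype : Subgroup G) : Set G)).subgroupOf X).index
    congr 1
    ext m
    rw [mem_subgroupOf, mem_centralizer_iff]
    constructor
    · rintro hm _ ⟨a, ha, rfl⟩
      exact ((hfix a m).1 (hm a ha)).symm
    · intro hm a ha
      exact (hfix a m).2 (hm a ⟨a, ha, rfl⟩).symm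
  have hVX : V (i + 1) ≤ X := (D.V_le_N i).trans O.NX
  refine ⟨?_, ?_, ?_, ?_, ?_, ?_, ?_, ?_, ?_, ?_, ?_, ?_, ?_, ?_, ?_, ?_, ?_, ?_, hK⟩
  · intro m
    apply Subtype.ext
    have h := O.sqX m m.2
    rw [pow_two] at h
    exact h
  · exact D.T_isPGroup.comap_of_injective (CC Z i).subtype (CC Z i).subtype_injective
  · exact syl_not_dvd (D.syl i)
  · intro z hz t ht
    rw [hfix]
    exact mem_centralizer_iff.1 (D.T_le_C (i + 1) (mem_subgroupOf.1 ht)) z (mem_subgroupOf.1 hz)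
  · exact fun g hg => hnrm _ g (D.nT i (hnT g hg)).1.1
  · exact fun g hg => hnrm _ g (D.nT i (hnT g hg)).1.2
  · exact fun g hg => hnrm _ g (D.nT i (hnT g hg)).2
  · exact fun z hz => mem_subgroupOf.2 (D.ZV (i + 1) (mem_subgroupOf.1 hz))
  · rw [eq_bot_iff]
    rintro z ⟨hz, hz2⟩
    rw [mem_bot]
    exact Subtype.ext (D.disV i z (mem_subgroupOf.1 hz) (mem_subgroupOf.1 hz2))
  · intro w hw hwT g
    rw [hfix]
    have h1 : (w : G) ∈ centralizer (T : Set G) := by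
      rw [mem_centralizer_iff]
      intro t ht
      exact ((hfix ⟨t, D.T_le_C i ht⟩ w).1 (hwT _ (mem_subgroupOf.2 ht))).symm
    exact mem_centralizer_iff.1 g.2 w (D.cV i w (mem_subgroupOf.1 hw) h1)
  · intro P hP
    have hR := Plug.minPar_map (D.T_le_C i) hP
    have hRC : P.map (CC Z i).subtype ≤ CC Z i := map_subtype_le P
    by_cases hRm : P.map (CC Z i).subtype ≤ CC Z (i + 1)
    · left
      intro z hz p hp
      rw [hfix]
      exact mem_centralizer_iff.1 (hRm (mem_map_of_mem (CC Z i).subtype hp)) z (mem_subgroupOf.1 hz)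
    · right
      have h1 := D.uni (i + 1) i (ne_add_one i).symm _ hR hRC hRm
      exact ⟨fun p hp => hnrm _ p (h1 i (mem_map_of_mem (CC Z i).subtype hp)),
        fun p hp => hnrm _ p (h1 (i + 1) (mem_map_of_mem (CC Z i).subtype hp))⟩
  · intro a ha
    apply Subtype.ext
    have h := O.sqB a (mem_subgroupOf.1 ha)
    rw [pow_two] at h
    exact h
  · refine Plug.sub_o2 (S := centralizer (zc T : Set G)) (fun c => ?_) O.BO
    rw [hfxr _ hZX, mem_subgroupOf]
    constructor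
    · exact fun h => D.mem_D c.2 h
    · exact fun h => D.cent_zc_le (i + 1) h
  · refine Plug.sub_o2 (S := centralizer (V i : Set G)) (fun c => ?_)
      ((le_inf O.BH O.BV).trans (FlagNO.o2_inf_sub le_sup_left))
    rw [hfxr (V i) O.VX, mem_subgroupOf]
  · intro a ha hc m
    have h1 : (a : G) ∈ centralizer (NN Z i : Set G) := by
      have h2 : NN Z i ≤ centralizer ({(a : G)} : Set G) := by
        refine V_le fun c hc' z hz => ?_
        rw [mem_conj] at hz
        rw [mem_centralizer_singleton_iff]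
        have h3 := hc ⟨c, hc'⟩ ⟨c⁻¹ * z * c, hZX hz⟩ (mem_subgroupOf.2 hz)
        rw [hfix] at h3
        have e : (((⟨c, hc'⟩ : CC Z i) • (⟨c⁻¹ * z * c, hZX hz⟩ : X) : X) : G) = z := by
          rw [hsm]
          change c * (c⁻¹ * z * c) * c⁻¹ = z
          group
        rw [e] at h3
        exact h3
      rw [mem_centralizer_iff]
      exact fun x hx => mem_centralizer_singleton_iff.1 (h2 hx)
    rw [hfix]
    exact mem_centralizer_iff.1 (O.ker ⟨mem_subgroupOf.1 ha, h1⟩) m m.2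
  · by_contra hc
    push Not at hc
    apply O.mv
    intro b hb
    rw [mem_centralizer_iff]
    intro x hx
    have h1 := hc ⟨b, hBC hb⟩ (mem_subgroupOf.2 hb) ⟨x, O.NX hx⟩
    exact (hfix _ _).1 h1
  · intro A hA
    have hAB : A.map (CC Z i).subtype ≤ B := by
      rintro _ ⟨a, ha, rfl⟩
      exact mem_subgroupOf.1 (hA ha)
    have h1 := D.no_N hML hK (hAB.trans O.BO) (fun b hb => O.sqB b (hAB hb))
    have e1 : (fxr (CC Z i) (⊤ : Subgroup X)).relIndex A =
        (centralizer (X : Set G)).relIndex (A.map (CC Z i).subtype) := by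
      rw [hfxt, subgroupOf, relIndex_comap]
    rw [e1, hcv]
    have h2 : (centralizer (X : Set G)).relIndex (A.map (CC Z i).subtype) ≤
        (centralizer (NN Z i : Set G)).relIndex (A.map (CC Z i).subtype) := by
      rw [← inf_relIndex_left (A.map (CC Z i).subtype) (centralizer (NN Z i : Set G)),
        ← inf_relIndex_left (A.map (CC Z i).subtype) (centralizer (X : Set G))]
      exact relIndex_anti (le_inf inf_le_left ((inf_le_inf_right _ hAB).trans O.ker))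
    exact h2.trans (h1.trans (relIndex_mono O.NX))
  · rw [hcv, hfxt, relIndex_subgroupOf hBC]
    have e : (B.subgroupOf (CC Z i)).map (CC Z i).subtype = B := by
      rw [subgroupOf_map_subtype, inf_eq_left.2 hBC]
    rw [e]
    exact O.ex.trans (relIndex_anti (centralizer_le O.NX))

/-- **the input of LEMMA MOV** -/
theorem inpM (hML : ML.Final.MLK.{u, u}) (D : Fr T V Z) {i : Fin 2} {X B : Subgroup G} (hK : IsKGroup (CC Z i))
    (O : Out T V Z i X B) :
    ∃ (H M : Type u) (_ : Group H) (_ : Finite H) (_ : Group M) (_ : Finite M) (_ : MulDistribMulAction H M)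
      (T' A' : Subgroup H) (Z' Y₁ Y₂ : Subgroup M), InpM T' A' Z' Y₁ Y₂ := by
  let := actX O.CX
  obtain ⟨H, _, _, _, T', A', h⟩ := (D.preM hML hK O).inp
  exact ⟨H, X, inferInstance, inferInstance, inferInstance, inferInstance, inferInstance, T', A', _, _, _, h⟩

/-- **EX + LEMMA MOV** -/
theorem out_false (hML : ML.Final.MLK.{u, u}) (hN : NoInpM.{u, u}) (D : Fr T V Z) {i : Fin 2}
    {X B : Subgroup G} (hK : IsKGroup (CC Z i)) (O : Out T V Z i X B) : False := by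
  obtain ⟨H, M, _, _, _, _, _, T', A', Z', Y₁, Y₂, h⟩ := D.inpM hML hK O
  exact hN H M T' A' Z' Y₁ Y₂ h

/-- **only 'not FAIL, `V i ≰ N_i`, `J(O)` moves `V i`, on both sides' is left** -/
theorem ex_false (hML : ML.Final.MLK.{u, u}) (hN : NoInpM.{u, u}) (D : Fr T V Z)
    (hK : ∀ i, IsKGroup (CC Z i)) : ∀ i, ¬ Fail T V Z i ∧ ¬ V i ≤ NN Z i ∧
      ∃ A : Subgroup G, Mx (o2 (centralizer (zc T : Set G))) A ∧ ¬ A ≤ centralizer (V i : Set G) := by
  rcases D.ex hML hK with ⟨i, X, B, O⟩ | h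
  · exact (D.out_false hML hN (hK i) O).elim
  · exact h

end Fr

end Cfsg.Agent.Omega.KL.TwoM

end

-- merged: Cfsg.Agent.Mrg.Omega.KL.GLine.ToM
section

/-!
# Two natural blocks with field automorphisms: the exact group, (G1), (G3), LEMMA 0 over `LFr`

* `TwoM.Fr.g2M`, `g_conjM`, **`g3M`** : (G2), (G3) from (G1) for maximal groups;
* `LFr.exists_B` : the exact group `B = C_A(U_i)`; `LFr.exists_mxV`, `LFr.not_V_le`;
* `LFr.tr_irr` : a minimal parabolic `R ≤ C_i` which moves the line `l (i+1)` is transitive on the lines in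
  `V (i+1)`, and `V (i+1) ≤ ⟨Z (i+1) ^ R⟩`; **`LFr.lem0F`** : LEMMA 0;
* **`LFr.thmC2F`** : (G1) over the lines; **`LFr.g3F`** : (G3); **`LFrW.dead`**.
-/

set_option autoImplicit false
set_option linter.unusedSectionVars false
set_option linter.unusedVariables false
set_option linter.unreachableTactic false
set_option linter.unusedTactic false

namespace Cfsg.Agent.Omega.KL.TwoM

open Subgroup Cfsg Cfsg.Agent.Omega.MinPar
open Cfsg.Agent.ZN (o2 zc)
open Cfsg.Agent.Omega.OM.KTwo (ne_add_one eq_add_one add_one_add_one le_normalizer_V le_V exists_mul_of_mem_sup)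
open Cfsg.Agent.Omega.NoFF.Basic (conj_conj mem_conj conj_le_iff comm_symm comm_mono Z_le_V V_le)
open Cfsg.Agent.Omega.NOThreeL.Pair (conj_eq_of_mem conj_le_normalizer)
open Cfsg.Agent.Omega.NoFF.ThmJFam (card_sup_inf card_conj conj_cent conj_inf)
open Cfsg.Agent.MinSimple.VModule (mem_zc zc_le normalizer_le_normalizer_zc le_o2
  o2_isPGroup o2_le zc_le_centralizer le_centralizer_zc le_normalizer_o2)
open Cfsg.Agent.Omega.TC.LemZ (card_eq le_norm_of norm_cent norm_inf)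
open Cfsg.Agent.Omega.KL.TwoS (Mx comm_of_sq sq_sup relIndex_le_of_sup sup_of_relIndex_le relIndex_pos relIndex_mono
  relIndex_anti relIndex_split)
open Cfsg.Agent.Omega.KL.TwoZ (CC QQ NH NN WW UU HH GOneM comm_le_of_sup)
open scoped Pointwise

universe u

variable {G : Type u} [Group G]

namespace Fr

variable [Finite G] {T : Subgroup G} {V Z : Fin 2 → Subgroup G}

/-- **(G2)** `A` maximal in `O` moves `N_i` : `C_A(N_i)` moves `W_i` -/
theorem g2M (D : Fr T V Z) (hML : ML.Final.MLK.{u, u}) {i : Fin 2} (hK : IsKGroup (CC Z i)) (hG : GOneM T V Z i)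
    {A : Subgroup G} (hA : Mx (o2 (centralizer (zc T : Set G))) A) (hm : ¬ A ≤ centralizer (NN Z i : Set G)) :
    ¬ A ⊓ centralizer (NN Z i : Set G) ≤ centralizer (WW V Z i : Set G) := by
  intro hc0
  apply hm
  obtain ⟨h1, h2, h3, -⟩ := D.X_facts i
  have hc : A ⊓ centralizer (NN Z i : Set G) ≤ centralizer ((WW V Z i ⊔ NN Z i : Subgroup G) : Set G) :=
    comm_symm (sup_le (comm_symm hc0) (comm_symm inf_le_right))
  have hXc : WW V Z i ⊔ NN Z i ≤ centralizer ((WW V Z i ⊔ NN Z i : Subgroup G) : Set G) := comm_of_sq h2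
  have h7 : (centralizer (A : Set G)).relIndex (WW V Z i ⊔ NN Z i) ≤ (centralizer (A : Set G)).relIndex (NN Z i) := by
    refine (hA.thom (h1.trans (D.Q_le_O i)) h2).trans ?_
    rw [← (D.mx hML hK hA).1]
    have e1 : (A ⊓ centralizer (NN Z i : Set G)).relIndex A = (centralizer (NN Z i : Set G)).relIndex A :=
      inf_relIndex_left _ _
    rw [← e1]
    exact relIndex_anti hc
  have h8 := sup_of_relIndex_le le_sup_right hXc h7
  have hAC : A ≤ CC Z i := (hA.le.trans D.O_le_T).trans (D.T_le_C i)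
  refine hG A hA fun a ha x hx => ?_
  have hNX : NN Z i ≤ WW V Z i ⊔ NN Z i := le_sup_right
  exact comm_le_of_sup (N := NN Z i) (hAC.trans (le_normalizer_V (Z (i + 1)) (CC Z i))) h8
    ((hXc.trans (centralizer_le hNX)).trans (centralizer_le_normalizer _)) a ha x hx

/-- `A` maximal in `O` moves `N_i` : some maximal `A' ≤ Q_i` moves `V i` -/
theorem g_conjM (D : Fr T V Z) (hML : ML.Final.MLK.{u, u}) {i : Fin 2} (hK : IsKGroup (CC Z i)) (hG : GOneM T V Z i)
    {A : Subgroup G} (hA : Mx (o2 (centralizer (zc T : Set G))) A) (hm : ¬ A ≤ centralizer (NN Z i : Set G)) :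
    ∃ B : Subgroup G, Mx (o2 (centralizer (zc T : Set G))) B ∧ B ≤ QQ Z i ∧ ¬ B ≤ centralizer (V i : Set G) := by
  by_contra hcon
  push Not at hcon
  apply D.g2M hML hK hG hA hm
  obtain ⟨-, h1, h2⟩ := D.mx hML hK hA
  have h3 : WW V Z i ≤ centralizer ((A ⊓ centralizer (NN Z i : Set G) ⊔ NN Z i : Subgroup G) : Set G) := by
    refine V_le fun c hc => ?_
    have e1 : MulAut.conj c⁻¹ • QQ Z i = QQ Z i := conj_eq_of_mem (le_normalizer_o2 _ (inv_mem hc))
    have h4 : MulAut.conj c⁻¹ • (A ⊓ centralizer (NN Z i : Set G) ⊔ NN Z i) ≤ QQ Z i := by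
      rw [← e1]; exact conj_le_iff.2 h2
    have h5 := comm_symm (hcon _ (h1.conj (h4.trans (D.Q_le_O i))) h4)
    have h6 : MulAut.conj c • V i ≤ MulAut.conj c • centralizer
        ((MulAut.conj c⁻¹ • (A ⊓ centralizer (NN Z i : Set G) ⊔ NN Z i) : Subgroup G) : Set G) := conj_le_iff.2 h5
    rwa [conj_cent, conj_conj, mul_inv_cancel, map_one, one_smul] at h6
  exact le_sup_left.trans (comm_symm h3)

/-- (nonlocality) some maximal `A` moves `N_0` or `N_1` -/
theorem exists_move_N (D : Fr T V Z) : ∃ (i : Fin 2) (A : Subgroup G), Mx (o2 (centralizer (zc T : Set G))) A ∧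
    ¬ A ≤ centralizer (NN Z i : Set G) := by
  by_contra hcon
  push Not at hcon
  have hQ : ∀ i A, Mx (o2 (centralizer (zc T : Set G))) A → A ≤ QQ Z i := fun i A hA =>
    (le_inf hA.le (hcon i A hA)).trans (D.O_inf_le i)
  set J : Subgroup G := ⨆ A : {A : Subgroup G // Mx (o2 (centralizer (zc T : Set G))) A}, (A : Subgroup G) with hJ
  have hJO : J ≤ o2 (centralizer (zc T : Set G)) := iSup_le fun A => A.2.le
  have hinv : ∀ (i : Fin 2), CC Z i ≤ normalizer (J : Set G) := by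
    intro i
    refine le_norm_of fun g hg x hx => ?_
    have h2 : J ≤ MulAut.conj g⁻¹ • J := by
      refine iSup_le fun A => ?_
      have e1 : MulAut.conj g • QQ Z i = QQ Z i := conj_eq_of_mem (le_normalizer_o2 _ hg)
      have hAg : MulAut.conj g • (A : Subgroup G) ≤ QQ Z i := by rw [← e1]; exact conj_le_iff.2 (hQ i _ A.2)
      have h3 : MulAut.conj g • (A : Subgroup G) ≤ J :=
        le_iSup (fun A : {A : Subgroup G // Mx (o2 (centralizer (zc T : Set G))) A} => (A : Subgroup G))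
          ⟨_, A.2.conj (hAg.trans (D.Q_le_O i))⟩
      have h4 : MulAut.conj g⁻¹ • (MulAut.conj g • (A : Subgroup G)) ≤ MulAut.conj g⁻¹ • J := conj_le_iff.2 h3
      rwa [conj_conj, inv_mul_cancel, map_one, one_smul] at h4
    have h5 := h2 hx
    rw [mem_conj, inv_inv] at h5
    exact h5
  have hJ1 : J = ⊥ := D.nonloc' (i := 0) ((o2_isPGroup _).to_le hJO) (hinv 0) (hinv (0 + 1))
  obtain ⟨A, hA⟩ := Mx.exists_mx (o2 (centralizer (zc T : Set G)))
  have h6 : A ≤ J := le_iSup (fun A : {A : Subgroup G // Mx (o2 (centralizer (zc T : Set G))) A} => (A : Subgroup G))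
    ⟨A, hA⟩
  have h7 : NN Z 0 ≤ A := hA.le_of_comm (D.N_le_O 0) (D.N_sq 0) (comm_symm (hcon 0 A hA))
  have h8 := (le_V (Z (0 + 1)) (CC Z 0)).trans (h7.trans h6)
  rw [hJ1] at h8
  exact D.ne (0 + 1) (le_bot_iff.1 h8)

/-- a group which moves `V i` moves `N_{i+1}` -/
theorem move_N_of_V (D : Fr T V Z) {i : Fin 2} {A : Subgroup G} (hm : ¬ A ≤ centralizer (V i : Set G)) :
    ¬ A ≤ centralizer (NN Z (i + 1) : Set G) := by
  intro h
  apply hm
  have h1 := D.V_le_N (i + 1)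
  rw [add_one_add_one] at h1
  exact h.trans (centralizer_le h1)

/-- **(G3)** for both `i` some maximal `A ≤ Q_i` moves `V i` -/
theorem g3M (D : Fr T V Z) (hML : ML.Final.MLK.{u, u}) (hK : ∀ i, IsKGroup (CC Z i)) (hG : ∀ i, GOneM T V Z i)
    (i : Fin 2) :
    ∃ A : Subgroup G, Mx (o2 (centralizer (zc T : Set G))) A ∧ A ≤ QQ Z i ∧ ¬ A ≤ centralizer (V i : Set G) := by
  obtain ⟨j, A, hA, hm⟩ := D.exists_move_N
  obtain ⟨B, hB, hBQ, hBm⟩ := D.g_conjM hML (hK j) (hG j) hA hm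
  by_cases hij : i = j
  · subst hij; exact ⟨B, hB, hBQ, hBm⟩
  · obtain rfl : i = j + 1 := eq_add_one (Ne.symm hij)
    exact D.g_conjM hML (hK (j + 1)) (hG (j + 1)) hB (D.move_N_of_V hBm)

end Fr

end Cfsg.Agent.Omega.KL.TwoM

namespace Cfsg.Agent.Omega.KL.TwoZ.Line

open Subgroup Cfsg Cfsg.Agent.Omega.MinPar
open Cfsg.Agent.ZN (o2 zc)
open Cfsg.Agent.Omega.OM.KTwo (ne_add_one eq_add_one add_one_add_one le_normalizer_V le_V exists_mul_of_mem_sup)
open Cfsg.Agent.MinSimple.MinParabolic (IsMinPar)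
open Cfsg.Agent.Omega.NoFF.Basic (conj_conj mem_conj conj_le_iff comm_symm comm_mono Z_le_V V_le)
open Cfsg.Agent.Omega.NOThreeL.Pair (conj_eq_of_mem conj_le_normalizer)
open Cfsg.Agent.ZN.ChoiceSit (Syl exists_syl syl_conj o2_le_syl syl_not_dvd)
open Cfsg.Agent.MinSimple.VModule (mem_zc zc_le normalizer_le_normalizer_zc le_o2
  o2_isPGroup o2_le zc_le_centralizer le_centralizer_zc le_normalizer_o2)
open Cfsg.Agent.Omega.TC.LemZ (card_eq le_norm_of norm_cent norm_inf)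
open Cfsg.Agent.Omega.KL.TwoZ (CC QQ NH NN WW UU HH XX V_le_of norm_V norm_o2_of sq_conj sq_V GOneM)
open Cfsg.Agent.Omega.KL.TwoS (Mx comm_of_sq)
open Cfsg.Agent.Omega.KL.StarM (NoInpM)
open Cfsg.Agent.Omega.OM
open scoped Pointwise

universe u

variable {G : Type u} [Group G]

namespace LFr

variable [Finite G] {S : Sylow 2 G} {V Z l : Fin 2 → Subgroup G} (D : LFr S V Z l)

include D

/-- **the exact group** -/
theorem exists_B (hML : ML.Final.MLK.{u, u}) (hN : NoInpM.{u, u}) (hK : ∀ i, IsKGroup (CC Z i)) (i : Fin 2) :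
    ∃ B : Subgroup G, (∀ b ∈ B, b ^ 2 = 1) ∧ B ≤ o2 (CC Z i ⊓ CC Z (i + 1)) ∧
      B ≤ o2 (HH (S : Subgroup G) V i) ∧
      (centralizer (B : Set G)).relIndex (NN Z i) ≤ (centralizer (NN Z i : Set G)).relIndex B ∧
      ¬ B ≤ centralizer (NN Z i : Set G) := by
  obtain ⟨hF, -, -⟩ := D.frM.ex_false hML hN hK i
  unfold TwoZ.Fail at hF
  push Not at hF
  obtain ⟨A, hA, -, hm⟩ := hF
  obtain ⟨h5, h6, -⟩ := D.frM.ex_U hML (hK i) hA
  refine ⟨A ⊓ centralizer (UU V Z i : Set G), fun b hb => hA.sq b hb.1, ?_, h5, h6.ge, hm⟩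
  have h7 : (CC Z i ⊓ CC Z (i + 1) : Subgroup G) = centralizer (zc (S : Subgroup G) : Set G) := D.CC_inf_eq i
  rw [h7]
  exact inf_le_left.trans hA.le

/-- some maximal `A ≤ O` moves `V i` -/
theorem exists_mxV (hML : ML.Final.MLK.{u, u}) (hN : NoInpM.{u, u}) (hK : ∀ i, IsKGroup (CC Z i)) (i : Fin 2) :
    ∃ A : Subgroup G, Mx (o2 (centralizer (zc (S : Subgroup G) : Set G))) A ∧ ¬ A ≤ centralizer (V i : Set G) :=
  (D.frM.ex_false hML hN hK i).2.2

/-- `V i ≰ N_i` -/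
theorem not_V_le (hML : ML.Final.MLK.{u, u}) (hN : NoInpM.{u, u}) (hK : ∀ i, IsKGroup (CC Z i)) (i : Fin 2) :
    ¬ V i ≤ NN Z i :=
  (D.frM.ex_false hML hN hK i).2.1

/-! ### The lines in `V j` -/

/-- the line through `v ∈ V i` -/
theorem line_of (i : Fin 2) {v : G} (hv : v ∈ V i) : ∃ h ∈ normalizer (V i : Set G),
    MulAut.conj h • l i ≤ V i ∧ v ∈ MulAut.conj h • l i := by
  obtain ⟨h, -, hV, hZ⟩ := D.trV i v hv
  refine ⟨h⁻¹, inv_mem hV, ?_, ?_⟩
  · have h1 : MulAut.conj h⁻¹ • V i = V i := conj_eq_of_mem (inv_mem hV)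
    rw [← h1]
    exact conj_le_iff.2 (D.lV i)
  · rw [mem_conj, inv_inv]
    exact D.Zl i hZ

/-- two conjugates of `l i` with a common element `≠ 1` are equal -/
theorem line_eq {i : Fin 2} {g h x : G} (hx1 : x ≠ 1) (hg : x ∈ MulAut.conj g • l i)
    (hh : x ∈ MulAut.conj h • l i) : MulAut.conj g • l i = MulAut.conj h • l i := by
  have h1 : MulAut.conj (h⁻¹ * g) • l i = l i := by
    rw [mem_conj] at hg hh
    refine D.fuse_eq hg (fun e => hx1 ?_) ?_
    · have e1 : x = g * (g⁻¹ * x * g) * g⁻¹ := by group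
      rw [e1, e]; group
    · have e1 : (h⁻¹ * g) * (g⁻¹ * x * g) * (h⁻¹ * g)⁻¹ = h⁻¹ * x * h := by group
      rw [e1]; exact hh
  have h2 : MulAut.conj h • (MulAut.conj (h⁻¹ * g) • l i) = MulAut.conj h • l i := by rw [h1]
  rwa [conj_conj, mul_inv_cancel_left] at h2

/-- two different lines in `V i` generate `V i` -/
theorem line_sup {i : Fin 2} {g : G} (hg : MulAut.conj g • l i ≤ V i) (hne : MulAut.conj g • l i ≠ l i) :
    V i ≤ MulAut.conj g • l i ⊔ l i := by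
  have hdis : MulAut.conj g • l i ⊓ l i = ⊥ := by
    rw [eq_bot_iff]
    rintro x ⟨hx, hx'⟩
    by_contra hx1
    apply hne
    have h1 := D.line_eq (i := i) (g := g) (h := 1) (x := x) (fun e => hx1 (mem_bot.2 e)) hx
      (by rw [map_one, one_smul]; exact hx')
    rwa [map_one, one_smul] at h1
  have hcom : MulAut.conj g • l i ≤ centralizer (l i : Set G) :=
    hg.trans ((TwoS.comm_of_sq (D.sqV i)).trans (centralizer_le (D.lV i)))
  have h1 := NoFF.ThmJFam.card_sup_inf hcom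
  have hsup : MulAut.conj g • l i ⊔ l i ≤ V i := sup_le hg (D.lV i)
  rw [hdis, Subgroup.card_bot, mul_one, NoFF.ThmJFam.card_conj, ← D.cardV i] at h1
  exact (Subgroup.eq_of_le_of_card_ge hsup h1.ge).ge

/-- `R ≥ S` normalises `V i` and moves `l i`, `A` maximal in `O` moves `V i` : `R` is transitive on the lines in `V i`,
`V i ≤ ⟨Z i ^ R⟩` -/
theorem tr_irr {i : Fin 2} {A R : Subgroup G} (hA : Mx (o2 (centralizer (zc (S : Subgroup G) : Set G))) A)
    (hAl : A ≤ centralizer (l i : Set G)) (hm : ¬ A ≤ centralizer (V i : Set G)) (hSR : (S : Subgroup G) ≤ R)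
    (hRV : R ≤ normalizer (V i : Set G)) (hRl : ¬ R ≤ normalizer (l i : Set G)) :
    (∀ v ∈ V i, ∃ r ∈ R, r * v * r⁻¹ ∈ l i) ∧ V i ≤ NoFF.Basic.V (Z i) R := by
  have hAS : A ≤ (S : Subgroup G) := hA.le.trans D.O_le_S
  have hsqc : V i ≤ centralizer (V i : Set G) := TwoS.comm_of_sq (D.sqV i)
  -- for `v ∉ l i`, `l i = {[a, v]}`
  have hgen : ∀ v ∈ V i, v ∉ l i → ∀ e ∈ l i, ∃ a ∈ A, a * v * a⁻¹ * v⁻¹ = e := by
    intro v hv hvl
    obtain ⟨-, hcard⟩ := D.exists_gen hA hAl hm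
    have hroot : ∀ a ∈ A, a * v * a⁻¹ * v⁻¹ ∈ l i := by
      intro a ha
      have h1 := inv_mem (D.root i v hv a (hAS ha) (hAl ha))
      have e : (v * a * v⁻¹ * a⁻¹)⁻¹ = a * v * a⁻¹ * v⁻¹ := by group
      rwa [e] at h1
    set C : Subgroup A := (centralizer (V i : Set G)).subgroupOf A with hC
    let g : A ⧸ C → l i := fun q => ⟨(q.out : A) * v * ((q.out : A) : G)⁻¹ * v⁻¹, hroot _ (q.out : A).2⟩
    have hg : Function.Injective g := by
      intro q q' h
      have h2 : (q.out : A) * v * ((q.out : A) : G)⁻¹ * v⁻¹ = (q'.out : A) * v * ((q'.out : A) : G)⁻¹ * v⁻¹ :=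
        congrArg Subtype.val h
      have h3 : (q.out : A) * v * ((q.out : A) : G)⁻¹ = (q'.out : A) * v * ((q'.out : A) : G)⁻¹ := mul_right_cancel h2
      have h4 : (((q.out : A) : G)⁻¹ * (q'.out : A)) ∈ centralizer (V i : Set G) := by
        refine D.reg i _ (mul_mem (inv_mem (hAS (q.out : A).2)) (hAS (q'.out : A).2))
          (mul_mem (inv_mem (hAl (q.out : A).2)) (hAl (q'.out : A).2)) v hv hvl ?_
        calc ((q.out : A) : G)⁻¹ * (q'.out : A) * v
            = ((q.out : A) : G)⁻¹ * ((q'.out : A) * v * ((q'.out : A) : G)⁻¹) * (q'.out : A) := by group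
          _ = ((q.out : A) : G)⁻¹ * ((q.out : A) * v * ((q.out : A) : G)⁻¹) * (q'.out : A) := by rw [h3]
          _ = v * (((q.out : A) : G)⁻¹ * (q'.out : A)) := by group
      rw [← Quotient.out_eq' q, ← Quotient.out_eq' q']
      exact QuotientGroup.eq.2 (mem_subgroupOf.2 h4)
    have hcA : Nat.card (A ⧸ C) = Nat.card (l i) := by
      have h1 : Nat.card (A ⧸ C) = (centralizer (V i : Set G)).relIndex A := rfl
      have h2 := card_eq A (centralizer (V i : Set G))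
      rw [hcard, mul_comm] at h2
      rw [h1]
      exact (Nat.eq_of_mul_eq_mul_left Nat.card_pos h2).symm
    have hbij : Function.Bijective g := hg.bijective_of_nat_card_le hcA.ge
    intro e he
    obtain ⟨q, hq⟩ := hbij.2 ⟨e, he⟩
    exact ⟨(q.out : A), (q.out : A).2, congrArg Subtype.val hq⟩
  -- a line `l i ^ r ≠ l i`
  obtain ⟨r, hr, hrl⟩ := SetLike.not_le_iff_exists.1 hRl
  have hrne : MulAut.conj r • l i ≠ l i := fun h => hrl (mem_norm_iff.2 h)
  have hrV : MulAut.conj r • l i ≤ V i := by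
    have h1 : MulAut.conj r • V i = V i := conj_eq_of_mem (hRV hr)
    rw [← h1]
    exact conj_le_iff.2 (D.lV i)
  constructor
  · intro v hv
    by_cases hvl : v ∈ l i
    · exact ⟨1, one_mem _, by simpa using hvl⟩
    -- `v = u e`, `u ∈ l i ^ r`, `e ∈ l i`
    obtain ⟨u, hu, e, he, rfl⟩ := exists_mul_of_mem_sup
      (((D.lV i).trans (hsqc.trans (centralizer_le hrV))).trans (centralizer_le_normalizer _)) (D.line_sup hrV hrne hv)
    have hul : u ∉ l i := fun h => hvl (mul_mem h he)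
    obtain ⟨a, ha, hae⟩ := hgen u (hrV hu) hul e he
    have h1 : a * u * a⁻¹ = u * e := by
      have h2 : a * u * a⁻¹ = e * u := by rw [← hae]; group
      rw [h2]
      exact mem_centralizer_iff.1 (hsqc (hrV hu)) e (D.lV i he)
    refine ⟨(a * r)⁻¹, inv_mem (mul_mem (hSR (hAS ha)) hr), ?_⟩
    rw [mem_conj] at hu
    have e2 : (a * r)⁻¹ * (u * e) * (a * r)⁻¹⁻¹ = r⁻¹ * u * r := by rw [← h1]; group
    rw [e2]
    exact hu
  · obtain ⟨z, hz, hz1⟩ := D.exists_ne i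
    have hZR : Z i ≤ NoFF.Basic.V (Z i) R := le_V _ _
    have hW : R ≤ normalizer (NoFF.Basic.V (Z i) R : Set G) := le_normalizer_V _ _
    have hw : r * z * r⁻¹ ∈ NoFF.Basic.V (Z i) R := (mem_normalizer_iff.1 (hW hr) z).1 (hZR hz)
    have hwr : r * z * r⁻¹ ∈ MulAut.conj r • l i := conj_mem (D.Zl i hz)
    have hw1 : r * z * r⁻¹ ≠ 1 := fun e => hz1 (conj_eq_one_iff.1 e)
    have hwl : r * z * r⁻¹ ∉ l i := by
      intro h
      apply hrne
      have h1 := D.line_eq (i := i) (g := r) (h := 1) hw1 hwr (by rw [map_one, one_smul]; exact h)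
      rwa [map_one, one_smul] at h1
    have hl : l i ≤ NoFF.Basic.V (Z i) R := by
      intro e he
      obtain ⟨a, ha, rfl⟩ := hgen _ (hrV hwr) hwl e he
      exact mul_mem ((mem_normalizer_iff.1 (hW (hSR (hAS ha))) _).1 hw) (inv_mem hw)
    refine (D.line_sup hrV hrne).trans (sup_le ?_ hl)
    have h1 : MulAut.conj r • NoFF.Basic.V (Z i) R = NoFF.Basic.V (Z i) R := conj_eq_of_mem (hW hr)
    rw [← h1]
    exact conj_le_iff.2 hl

/-- **LEMMA 0 for lines**, from a maximal `A ≤ O` which moves `V (i+1)` -/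
theorem lem0F {i : Fin 2} {A₀ : Subgroup G} (hA₀ : Mx (o2 (centralizer (zc (S : Subgroup G) : Set G))) A₀)
    (hAl : A₀ ≤ centralizer (l (i + 1) : Set G)) (hm₀ : ¬ A₀ ≤ centralizer (V (i + 1) : Set G)) {K A : Subgroup G}
    (hK : K ≤ CC Z i) (hn : CC Z i ≤ normalizer (K : Set G)) (hAK : A ≤ K) (hA : IsPGroup 2 A)
    (hm : ¬ A ≤ centralizer (NN Z i : Set G)) : NN Z i ≤ NH Z i (K ⊔ (S : Subgroup G)) := by
  set H : Subgroup G := K ⊔ (S : Subgroup G) with hH
  have hHC : H ≤ CC Z i := sup_le hK (D.S_le_C i)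
  have hKn : H ≤ normalizer (K : Set G) := hHC.trans hn
  by_cases hR : ∃ R : Subgroup G, IsMinPar (S : Subgroup G) R ∧ R ≤ H ∧ ¬ R ≤ normalizer (l (i + 1) : Set G)
  · -- (b)
    obtain ⟨R, hR1, hR2, hR3⟩ := hR
    obtain ⟨htr, hirr⟩ := D.tr_irr hA₀ hAl hm₀ hR1.le (D.par_V hR1 (hR2.trans hHC) hR3 (i + 1)) hR3
    have hC : CC Z i ≤ K ⊔ (CC Z i ⊓ normalizer (l (i + 1) : Set G)) := by
      have hHK : H ≤ K ⊔ (CC Z i ⊓ normalizer (l (i + 1) : Set G)) :=
        sup_le le_sup_left ((le_inf (D.S_le_C i) (D.Sl _)).trans le_sup_right)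
      refine MinSimple.MinParabolic.le_of_forall (D.S_le_C i) ?_ fun R' hR' hR'C => ?_
      · rintro n ⟨hn1, hn2⟩
        exact le_sup_right (a := K) (mem_inf.2 ⟨hn1, (D.nS_conf hn1 hn2).1.1.2⟩)
      · by_cases h1 : R' ≤ normalizer (l (i + 1) : Set G)
        · exact (le_inf hR'C h1).trans le_sup_right
        · intro r' hr'
          obtain ⟨m, hm1, hm2⟩ := D.exists_ne (i + 1)
          have h2 : r' * m * r'⁻¹ ∈ V (i + 1) :=
            (mem_normalizer_iff.1 (D.par_V hR' hR'C h1 (i + 1) hr') m).1 (D.ZV _ hm1)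
          obtain ⟨r, hr, h3⟩ := htr _ h2
          have h4 : MulAut.conj (r * r') • l (i + 1) = l (i + 1) := by
            refine D.fuse_eq (D.Zl _ hm1) hm2 ?_
            have e : (r * r') * m * (r * r')⁻¹ = r * (r' * m * r'⁻¹) * r⁻¹ := by group
            rw [e]
            exact h3
          have h5 : r * r' ∈ CC Z i ⊓ normalizer (l (i + 1) : Set G) :=
            ⟨(CC Z i).mul_mem (hHC (hR2 hr)) (hR'C hr'), mem_norm_iff.2 h4⟩
          have e : r' = r⁻¹ * (r * r') := by group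
          rw [e]
          exact mul_mem (hHK (inv_mem (hR2 hr))) (le_sup_right (a := K) h5)
    -- `l j ≤ ⟨Z j ^ H⟩`
    have hl : l (i + 1) ≤ NH Z i H := by
      refine ((D.lV _).trans hirr).trans (V_le fun c hc => ?_)
      exact Z_le_V (hR2 hc)
    refine FlagNO.V_le_elem fun c hc z hz => ?_
    obtain ⟨k, hk, m, ⟨hm1, hm2⟩, rfl⟩ := exists_mul_of_mem_sup
      ((inf_le_left : CC Z i ⊓ normalizer (l (i + 1) : Set G) ≤ CC Z i).trans hn) (hC hc)
    have h1 : m * z * m⁻¹ ∈ l (i + 1) := (mem_normalizer_iff.1 hm2 z).1 (D.Zl _ hz)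
    have h2 := (mem_normalizer_iff.1 (le_normalizer_V (Z (i + 1)) H (le_sup_left (a := K) hk)) _).1 (hl h1)
    have e : k * m * z * (k * m)⁻¹ = k * (m * z * m⁻¹) * k⁻¹ := by group
    rw [e]
    exact h2
  · -- (a)
    push Not at hR
    exfalso
    have hHl : H ≤ normalizer (l (i + 1) : Set G) := by
      refine MinSimple.MinParabolic.le_of_forall (le_sup_right : (S : Subgroup G) ≤ H) ?_ fun R hR1 hR2 => hR R hR1 hR2
      rintro n ⟨hn1, hn2⟩
      exact (D.nS_conf (hHC hn1) hn2).1.1.2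
    have hcl : ∀ t ∈ (S : Subgroup G) ⊓ K, t ∈ centralizer (l (i + 1) : Set G) := by
      rintro t ⟨htS, htK⟩
      refine D.cent_of_points htS fun c hc => ?_
      have h1 : c⁻¹ * t * c ∈ K := by
        have := (mem_normalizer_iff.1 (hn (inv_mem hc)) t).1 htK
        rwa [inv_inv] at this
      have h2 : MulAut.conj (c⁻¹ * t * c) • l (i + 1) = l (i + 1) :=
        conj_eq_of_mem (hHl (le_sup_left (a := K) h1))
      rw [mem_norm_iff, conj_conj]
      have e : t * c = c * (c⁻¹ * t * c) := by group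
      rw [e, ← conj_conj, h2]
    -- every 2-subgroup of `K` centralises `l j`
    have hA' : ∀ B : Subgroup G, B ≤ K → IsPGroup 2 B → B ≤ centralizer (l (i + 1) : Set G) := by
      intro B hB hB2
      obtain ⟨R, hR1, hBR⟩ := exists_syl hB2 (hB.trans (le_sup_left : K ≤ H))
      obtain ⟨x, hx, hxR⟩ := syl_conj hR1 (D.syl (le_sup_right : (S : Subgroup G) ≤ H))
      intro b hb
      have h1 : x * b * x⁻¹ ∈ (S : Subgroup G) := by
        rw [← hxR]
        exact mem_map_of_mem _ (hBR hb)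
      have h2 : x * b * x⁻¹ ∈ K := (mem_normalizer_iff.1 (hKn hx) b).1 (hB hb)
      have h3 := hcl _ ⟨h1, h2⟩
      have h4 := (mem_normalizer_iff.1 (norm_cent (A := H) hHl (inv_mem hx)) _).1 h3
      have e : x⁻¹ * (x * b * x⁻¹) * x⁻¹⁻¹ = b := by group
      rwa [e] at h4
    apply hm
    refine comm_symm (FlagNO.V_le_elem fun c hc z hz => ?_)
    rw [mem_centralizer_iff]
    intro a ha
    have h1 : MulAut.conj c⁻¹ • A ≤ centralizer (l (i + 1) : Set G) := by
      refine hA' _ ?_ (hA.map _)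
      have h2 : MulAut.conj c⁻¹ • K = K := conj_eq_of_mem (hn (inv_mem hc))
      rw [← h2]
      exact conj_le_iff.2 hAK
    have h2 : c⁻¹ * a * c ∈ MulAut.conj c⁻¹ • A := by
      rw [mem_conj]
      have e : c⁻¹⁻¹ * (c⁻¹ * a * c) * c⁻¹ = a := by group
      rw [e]
      exact ha
    have h3 := mem_centralizer_iff.1 (h1 h2) z (D.Zl _ hz)
    calc a * (c * z * c⁻¹) = c * ((c⁻¹ * a * c) * z) * c⁻¹ := by group
      _ = c * (z * (c⁻¹ * a * c)) * c⁻¹ := by rw [h3]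
      _ = c * z * c⁻¹ * a := by group

/-- **(G1) over the lines** -/
theorem thmC2F (hML : ML.Final.MLK.{u, u}) (hE : ML.Ex.Two.Ext.{u, u}) (hN : NoInpM.{u, u}) (hK : ∀ i, IsKGroup (CC Z i))
    (torZ : ∀ i, ∀ x ∈ l i, x ≠ 1 → ∀ y ∈ l i, y ≠ 1 → ∃ h : G, h ∈ centralizer (V (i + 1) : Set G) ∧
      MulAut.conj h • l i = l i ∧ h * x * h⁻¹ = y)
    (torU : ∀ i, ∀ x ∈ V i, x ∉ l i → ∀ y ∈ V i, y ∉ l i → ∃ h : G, h ∈ centralizer (V (i + 1) : Set G) ∧
      MulAut.conj h • l i = l i ∧ MulAut.conj h • V i = V i ∧ y⁻¹ * (h * x * h⁻¹) ∈ l i) :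
    PT.ThmC2 l (PT.XW l V) :=
  D.thmC2_of fun i A hA hA2 h => by
    obtain ⟨B, h1, h2, h3, h4, h5⟩ := D.exists_B hML hN hK i
    obtain ⟨A₀, hA₀, hm₀⟩ := D.exists_mxV hML hN hK i
    obtain ⟨A₁, hA₁, hm₁⟩ := D.exists_mxV hML hN hK (i + 1)
    have hdis : V i ⊓ (TwoZ.NN Z i ⊔ l i) ≤ l i := by
      refine D.dis_of (torZ i) (torU i) (D.not_V_le hML hN hK i) ?_
      obtain ⟨a, ha, ham⟩ := SetLike.not_le_iff_exists.1 hm₀
      exact ⟨a, (hA₀.le.trans D.O_le_S) ha, D.mx_le_cl hA₀ i ha, ham⟩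
    exact (D.gst (hK i) hdis h1 h2 h3 h4 h5).g1 hML hE
      (fun _ _ hKC hn hAK hA2 hm => D.lem0F hA₁ (D.mx_le_cl hA₁ _) hm₁ hKC hn hAK hA2 hm)
      (hA.trans (D.cl_le i)) hA hA2 h

/-- **(G3) over the lines** -/
theorem g3F (hML : ML.Final.MLK.{u, u}) (hK : ∀ i, IsKGroup (CC Z i)) (g1 : PT.ThmC2 l (PT.XW l V)) (i : Fin 2) :
    ∃ A : Subgroup G, Mx (o2 (centralizer (zc (S : Subgroup G) : Set G))) A ∧ A ≤ TwoZ.QQ Z i ∧
      ¬ A ≤ centralizer (V i : Set G) := by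
  refine D.frM.g3M hML hK (fun j A hA h => ?_) i
  have h1 := g1 (l j) ⟨j, 1, by rw [map_one, one_smul]⟩ A ((o2_isPGroup _).to_le hA.le) (D.mx_le_cl hA j) ?_
  · rwa [D.NN_eq j] at h1
  · intro x hx g hg
    rw [D.NN_eq j]
    have hx' : x ∈ WW V Z j ⊔ NN Z j := by
      have h2 := D.XW_le j hx
      rwa [sup_comm] at h2
    have h3 := inv_mem (h g hg x hx')
    have e : (g * x * g⁻¹ * x⁻¹)⁻¹ = x * g * x⁻¹ * g⁻¹ := by group
    rwa [e] at h3

end LFr

/-- **two natural blocks with field automorphisms: the end** -/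
theorem LFrW.dead [Finite G] {S : Sylow 2 G} {V Z l : Fin 2 → Subgroup G} (D : LFrW S V Z l)
    (hML : ML.Final.MLK.{u, u}) (hE : ML.Ex.Two.Ext.{u, u}) (hN : NoInpM.{u, u}) (hK : ∀ i, IsKGroup (CC Z i))
    (hP : ∀ i, ∃ P E, LE S V Z l i P E) : False := by
  have h1 := D.toLFr.thmC2F hML hE hN hK
    (fun i x hx hx1 y hy hy1 => by
      obtain ⟨h, a1, a2, -, a4⟩ := D.torZ i x hx hx1 y hy hy1
      exact ⟨h, a1, a2, a4⟩) D.torU
  refine D.false_of' hML hK h1 (D.toLFr.inter hML hK hP (fun A hA i => D.toLFr.mx_le_cl hA i)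
    (fun i => D.toLFr.g3F hML hK h1 i) ?_)
  intro i B hB hB2 hBl he
  exact D.toLFr.k3 hML (hK i) hB hB2 (hBl i) he

end Cfsg.Agent.Omega.KL.TwoZ.Line

end

-- merged: Cfsg.Agent.Mrg.Omega.NOThreeL.RRed.WLeftFldEnd
section

section


/-!
# NO-3L, box R: the socket `WideTree.WLeftFld` (two natural blocks, field automorphisms; #24444 (C), #24700; plug
helper19)

* `src_of` : 916's `WLF.Src` from `WideTree.Src`; `kgroup` : `C_G(Z_i)` is a `K`-group;
* **`dead`** : 916's frame `LFr` + 410's (G1) `LFr.thmC2F`, (G3) `LFr.g3F` + 916's `LFr.bf` + 401's `LFrW.false_of_g3`;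
* **`wLeftFld`** : `WLeftFld K B`.
-/

set_option autoImplicit false
set_option linter.unusedSectionVars false

namespace Cfsg.Agent.Omega.NOThreeL.RRed.WLF

open Subgroup Cfsg Cfsg.Agent.ZN Cfsg.Agent.Omega.MinPar Cfsg.Agent.Omega.Frame Cfsg.Agent.Omega.FrameNOFF
open Cfsg.Agent.Omega.FrameFF
open Cfsg.Agent.Omega.NOThreeL.Merge (MZ)
open Cfsg.Agent.Omega.NOThreeL.RTree (RB)
open Cfsg.Agent.Omega.NOThreeL.RRed.GlueSig
open Cfsg.Agent.Omega.NOThreeL.RRed.InstZ (ZZ Spl)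
open Cfsg.Agent.Omega.NOThreeL.RRed.WideTree
open Cfsg.Agent.Omega.NOThreeL.RRed.WLeft
open scoped Pointwise

universe u

variable {G : Type u} [Group G]

/-- 916's `Src` -/
theorem src_of {S : Subgroup G} {W l : Fin 2 → Subgroup G} {q : Fin 2 → ℕ}
    (s : WideTree.Src S (fun i : ULift.{u} (Fin 2) => W i.down) (fun i => l i.down) (fun i => q i.down)) :
    Src S W l where
  act P hP := by
    obtain ⟨F, iF, iF', iF2, k, hk, M, h, hD, hb⟩ := s.act P hP
    refine ⟨F, iF, iF', iF2, k, hk, M, h, hD, fun j => ?_⟩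
    obtain ⟨b, h1, h2, -⟩ := hb j
    exact ⟨b.down, h1, h2⟩

variable [Finite G] {S : Sylow 2 G} {W l : Fin 2 → Subgroup G}

/-- `C_G(Z_i)` is a `K`-group -/
theorem kgroup (h : RB S) (s : Spl S W) (i : Fin 2) :
    IsKGroup (centralizer (ZZ (S : Subgroup G) W i : Set G)) := by
  have := h.ctx.simple
  exact h.ctx.kproper _ ((s.isLong h i).loc.ne_top S h.ctx.not_isPGroup)

/-- **two natural blocks with fields: contradiction** -/
theorem dead (hML : ML.Final.MLK.{u, u}) (hE : ML.Ex.Two.Ext.{u, u}) (hN : KL.StarM.NoInpM.{u, u}) (hW : Wide S)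
    (hm : MvAct (S : Subgroup G)) (C : CM (S : Subgroup G) (fun i : ULift.{u} (Fin 2) => W i.down))
    (s : Src (S : Subgroup G) W l)
    (hcl : ∀ c ∈ centralizer (zc (S : Subgroup G) : Set G), ∀ i, c ∈ normalizer (l i : Set G)) : False := by
  have D := lfr_of hW C s hm hcl
  have hK : ∀ i, IsKGroup (KL.TwoZ.CC (ZZ (S : Subgroup G) W) i) := fun i => kgroup hW.toRB (spl_of hW C s hm) i
  have hn : ∀ i, ∃ (F : Type) (_ : Field F) (_ : Finite F) (_ : CharP F 2) (P : Subgroup G)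
      (_ : NatS F (S : Subgroup G) P (W i) (W (i + 1)) (l i)), MinSimple.MinParabolic.IsMinPar (S : Subgroup G) P := by
    intro i
    obtain ⟨F, iF, iF', iF2, P, -, n, hP, -, -⟩ := exists_nat hW C s hm i
    exact ⟨F, iF, iF', iF2, P, n, hP.1.toIsMinPar⟩
  have hn' : ∀ i, ∃ (F : Type) (_ : Field F) (_ : Finite F) (_ : CharP F 2) (P : Subgroup G),
      Nonempty (NatS F (S : Subgroup G) P (W i) (W (i + 1)) (l i)) := by
    intro i
    obtain ⟨F, iF, iF', iF2, P, n, -⟩ := hn i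
    exact ⟨F, iF, iF', iF2, P, ⟨n⟩⟩
  have g1 : KL.TwoZ.Line.LFr S W (ZZ (S : Subgroup G) W) l → OM.PT.ThmC2 l (OM.PT.XW l W) := fun D =>
    D.thmC2F hML hE hN hK
      (fun i x hx hx1 y hy hy1 => by
        obtain ⟨F, _, _, _, P, ⟨N⟩⟩ := hn' i
        obtain ⟨h, a1, a2, -, a4⟩ :=
          InstL.torZ_of_natS N ((D.VQ i).trans (D.Q_le_S i)) (D.sqV i) x hx hx1 y hy hy1
        exact ⟨h, a1, a2, a4⟩)
      (fun i => by
        obtain ⟨F, _, _, _, P, ⟨N⟩⟩ := hn' i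
        exact InstL.torU_of_natS N ((D.VQ i).trans (D.Q_le_S i)) (D.sqV i))
  have g3 := fun i => D.g3F hML hK (g1 D) i
  exact (InstL.lfrw_of D hn' (D.bf hn g3)).false_of_g3 hML hK hn' (g1 D) g3

/-- **two natural blocks, fields** -/
theorem wLeftFld (hML : ML.Final.MLK.{u, u}) (hE : ML.Ex.Two.Ext.{u, u}) (hN : KL.StarM.NoInpM.{u, u})
    (K : Cls.{u}) (B : Fr.{u}) : WLeftFld K B := by
  intro G _ _ _ S _ hW hm W C _ E D l q _ s _ hcl _
  exact (dead hML hE hN hW hm C (src_of s) hcl).elim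

end Cfsg.Agent.Omega.NOThreeL.RRed.WLF

end

section


/-!
# Box R, classes: the vectors of true full support satisfy `WideTree.FS` (#26368)

* `HBad S N O` : `BadG` for the vectors `z ∈ zc S` of full support in an invariant set of blocks (#26668, helper63; #27325);
* `fs_of` : `FS` for one invariant set `J` of blocks (`nS` as hypothesis);
* **`exists_fs`** : class modules `W k = ⨆_{cls b = k} N b`, `Dec`, `Orbs`, `HBad` give, for every class `i` of at least two,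
  `z`, `e` of true full support in the class `i` resp. in all other classes with `FS S (W i) (Co W i) z`,
  `FS S (Co W i) (W i) e`;
* `exists_fs_left` : with `Left S W` : some `A ∈ 𝒜(O₂(C(z) ∩ C(e)))` moves `W i`, for vectors of true full support.
-/

set_option autoImplicit false
set_option linter.unusedSectionVars false

namespace Cfsg.Agent.Omega.NOThreeL.RRed.FullSup

open Subgroup Cfsg Cfsg.Agent.ZN
open Cfsg.Agent.Omega.NOThreeL.Merge (MZ)
open Cfsg.Agent.Omega.NOThreeL.RTree (RB)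
open Cfsg.Agent.Omega.NOThreeL.RRed.Blk
open Cfsg.Agent.Omega.NOThreeL.RRed.WideTree (NatBlk NBs CM FS BadG QQ Left Fits)
open Cfsg.Agent.Omega.NOThreeL.RZ.TwoC.DecE (Orbs PP)

open scoped Pointwise

universe u v w

section

variable {G : Type u} [Group G] [Finite G] {S : Sylow 2 G} {ι κ : Type u} [Finite ι] {N E : ι → Subgroup G}
  {O : ι → Set G} {W : κ → Subgroup G} {cls : ι → κ}

/-- `bad` for the vectors of full support in an invariant set of blocks -/
def HBad (S : Subgroup G) (N : ι → Subgroup G) (O : ι → Set G) : Prop :=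
  ∀ J : Set ι, InvJ (MZ S) N J → ∀ z ∈ FSup N ⊥ O J, z ∈ zc S → ∀ R B : Subgroup G, R = (⨆ b : J, N b) →
    B = (⨆ b : {b // b ∉ J}, N b) →
    BadG (centralizer ({z} : Set G) ⊓ QQ S R B (S ⊓ centralizer (B : Set G))) (S ⊓ centralizer (B : Set G)) R

theorem compl_eq {J : Set ι} : (⨆ b : {b // b ∉ Jᶜ}, N b) = ⨆ b : J, N b := by
  apply le_antisymm
  · exact iSup_le fun b => le_iSup (fun b : J => N b) ⟨b.1, not_not.1 b.2⟩
  · exact iSup_le fun b => le_iSup (fun b : {b // b ∉ Jᶜ} => N b) ⟨b.1, fun h => h b.2⟩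

/-- a class has a block -/
theorem exists_blk (hne : ∀ i, W i ≠ ⊥) (hW : ∀ k, W k = ⨆ b : {b // cls b = k}, N b) (k : κ) : ∃ b, cls b = k := by
  by_contra hcon
  push Not at hcon
  apply hne k
  rw [hW, eq_bot_iff]
  exact iSup_le fun b => absurd b.2 (hcon b.1)

/-- **`FS` for an invariant set of blocks** -/
theorem fs_of (h : Dec (S : Subgroup G) (MZ (S : Subgroup G)) (Wd (S : Subgroup G)) N E ⊥)
    (o : Orbs (MZ (S : Subgroup G)) N E O) (hb : HBad (S : Subgroup G) N O) {J : Set ι}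
    (hJ : InvJ (MZ (S : Subgroup G)) N J) {R B : Subgroup G} (hR : R = ⨆ b : J, N b)
    (hB : B = ⨆ b : {b // b ∉ J}, N b) {z : G} (hz : z ∈ FSup N ⊥ O J) (hzm : z ∈ R ⊓ zc (S : Subgroup G))
    (hz1 : z ≠ 1) (hn : centralizer ({z} : Set G) ⊓ normalizer ((S : Subgroup G) : Set G) ≤
      normalizer (R : Set G) ⊓ normalizer (B : Set G)) : FS (S : Subgroup G) R B z where
  mem := hzm
  ne := hz1
  fact := by
    have h1 := fact_of h o hJ hz
    rwa [← hB] at h1
  nS := hn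
  bad := hb J hJ z hz hzm.2 R B hR hB

/-- **`FS` for the vectors of true full support** -/
theorem exists_fs (hB : RB S) (hCM : CM (S : Subgroup G) W)
    (h : Dec (S : Subgroup G) (MZ (S : Subgroup G)) (Wd (S : Subgroup G)) N E ⊥)
    (o : Orbs (MZ (S : Subgroup G)) N E O) (hW : ∀ k, W k = ⨆ b : {b // cls b = k}, N b)
    (hb : HBad (S : Subgroup G) N O) (i : κ) (hi : ∃ j, j ≠ i) :
    ∃ z ∈ FSup N ⊥ O {b | cls b = i}, ∃ e ∈ FSup N ⊥ O {b | cls b = i}ᶜ,
      FS (S : Subgroup G) (W i) (WideTree.Co W i) z ∧ FS (S : Subgroup G) (WideTree.Co W i) (W i) e := by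
  have hJ := inv_cls h hW hCM.inv i
  obtain ⟨b₀, hb₀⟩ := exists_blk hCM.ne hW i
  obtain ⟨j, hj⟩ := hi
  obtain ⟨b₁, hb₁⟩ := exists_blk hCM.ne hW j
  have hWi : W i = ⨆ b : ({b | cls b = i} : Set ι), N b := W_eq hW i
  have hOt : WideTree.Co W i = ⨆ b : {b // b ∉ ({b | cls b = i} : Set ι)}, N b := coW_eq hW i
  have hOt' : WideTree.Co W i = ⨆ b : ({b | cls b = i}ᶜ : Set ι), N b := hOt
  have hWi' : W i = ⨆ b : {b // b ∉ ({b | cls b = i}ᶜ : Set ι)}, N b := by rw [compl_eq, hWi]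
  obtain ⟨z, hz, hzm, hz1⟩ := exists_full hB h o hJ ⟨b₀, hb₀⟩
  obtain ⟨e, he, hem, he1⟩ := exists_full hB h o hJ.compl ⟨b₁, fun h1 => hj (by rw [← hb₁]; exact h1)⟩
  rw [← hOt'] at hem
  have hzm' : z ∈ W i ⊓ zc (S : Subgroup G) := by rw [hWi]; exact hzm
  have hf : ∀ k, k ≠ i → e ∉ ⨆ m : {m // m ≠ k}, W m := by
    intro k hk
    obtain ⟨b, hb⟩ := exists_blk hCM.ne hW k
    subst hb
    exact not_mem_of_fsup h o hW he (b := b) hk
  exact ⟨z, hz, e, he, fs_of h o hb hJ hWi hOt hz hzm' hz1 (nS_one hCM.ne hCM.ind hCM.nS hzm'.1 hz1),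
    fs_of h o hb hJ.compl hOt' hWi' he hem he1 (nS_co hCM.ne hCM.ind hCM.nS hem.1 hf)⟩

/-- **with `Left`** -/
theorem exists_fs_left (hB : RB S) (hCM : CM (S : Subgroup G) W) (hL : Left (S : Subgroup G) W)
    (h : Dec (S : Subgroup G) (MZ (S : Subgroup G)) (Wd (S : Subgroup G)) N E ⊥)
    (o : Orbs (MZ (S : Subgroup G)) N E O) (hW : ∀ k, W k = ⨆ b : {b // cls b = k}, N b)
    (hb : HBad (S : Subgroup G) N O) (i : κ) (hi : ∃ j, j ≠ i) :
    ∃ z ∈ FSup N ⊥ O {b | cls b = i}, ∃ e ∈ FSup N ⊥ O {b | cls b = i}ᶜ,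
      FS (S : Subgroup G) (W i) (WideTree.Co W i) z ∧ FS (S : Subgroup G) (WideTree.Co W i) (W i) e ∧
      ∃ A : Subgroup G, KL.TwoS.Mx (o2 (centralizer ({z} : Set G) ⊓ centralizer ({e} : Set G))) A ∧
        ¬ A ≤ centralizer (W i : Set G) := by
  obtain ⟨z, hz, e, he, h1, h2⟩ := exists_fs hB hCM h o hW hb i hi
  exact ⟨z, hz, e, he, h1, h2, hL i z e h1 h2⟩

end

end Cfsg.Agent.Omega.NOThreeL.RRed.FullSup

end

end
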