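import Cfsg.Agent.Mrg.Omega.NOThreeL.RZ.TwoC.EndV
import Cfsg.Agent.Mrg.Omega.NOThreeL.RZ.TwoC.AbP
import Cfsg.Agent.Mrg.Omega.TC.No
import Cfsg.Agent.Mrg.Omega.NOThreeL.RRed.WideTree
import Cfsg.Agent.Mrg.Omega.NOThreeL.RRed.Base
import Cfsg.Agent.Mrg.Omega.NOThreeL.FFB.Rp2
import Cfsg.Agent.Mrg.Omega.NOThreeL.RWide.Typ
import Cfsg.Agent.Mrg.Omega.ML.LieTwF4

-- merged: Cfsg.Agent.Mrg.Omega.NOThreeL.RZ.TwoC.PairV
section

/-!
# [K], [H], [I3] (bb #25865, #25809, #26298): two complementary classes `R`, `B` of `V*`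

`V* = R × B`, `z ∈ R ∩ Z`, `e ∈ B ∩ Z` with `Y = C_Y(B) C_Y(z) = C_Y(R) C_Y(e)`.

* `PairV S R B z e` : the data;  `PairV.frV` : `FrV S R B ⟨z⟩ e`, if every `A ∈ AA(O₂(C(z) ∩ C(e)))` centralises `R`;
* **`PairV.false_of`** : then a contradiction (with `BadG` on both sides).
-/

set_option autoImplicit false
set_option linter.unusedSectionVars false

namespace Cfsg.Agent.Omega.NOThreeL.RZ.TwoC

open Subgroup Cfsg
open Cfsg.Agent.ZN (o2 zc zl jj)
open Cfsg.Agent.ZN.ChoiceBase hiding mem_zc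
open Cfsg.Agent.Omega.ML.Final (MLK)
open Cfsg.Agent.Omega.MinPar Cfsg.Agent.Omega.Frame Cfsg.Agent.Omega.FrameNOFF
open Cfsg.Agent.Omega.NOThreeL.Star (YS le_YS S_le_YS zl_mono)
open Cfsg.Agent.Omega.NO3S.EThree.ExactA (eab_iff)
open Cfsg.Agent.Omega.NoFF.Basic (V)
open Cfsg.Agent.MinSimple.VModule (le_normalizer_o2 o2_isPGroup o2_le le_o2)
open Cfsg.Agent.Omega.NO3b.EndX (RedP)
open Cfsg.Agent.Omega.KL.TwoS (Mx)
open scoped Pointwise

universe u

variable {G : Type u} [Group G]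

/-- **two complementary classes** -/
structure PairV [Finite G] (S : Sylow 2 G) (R B : Subgroup G) (z e : G) : Prop where
  ctx : Ctx G
  full : Full (S : Subgroup G)
  vc : zl (S : Subgroup G) (YS S) ≤ centralizer (zl (S : Subgroup G) (YS S) : Set G)
  vs : ∀ v ∈ zl (S : Subgroup G) (YS S), v ^ 2 = 1
  nR : YS (S : Subgroup G) ≤ normalizer (R : Set G)
  nB : YS (S : Subgroup G) ≤ normalizer (B : Set G)
  sE : centralizer ({e} : Set G) ⊓ normalizer ((S : Subgroup G) : Set G) ≤ normalizer (R : Set G) ⊓ normalizer (B : Set G)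
  sZ : centralizer ({z} : Set G) ⊓ normalizer ((S : Subgroup G) : Set G) ≤ normalizer (R : Set G) ⊓ normalizer (B : Set G)
  gR : R ≤ V (R ⊓ zc (S : Subgroup G)) (YS (S : Subgroup G))
  gB : B ≤ V (B ⊓ zc (S : Subgroup G)) (YS (S : Subgroup G))
  sup : zl (S : Subgroup G) (YS S) ≤ R ⊔ B
  spl : B ⊓ R = ⊥
  zR : z ∈ R
  zZ : z ∈ zc (S : Subgroup G)
  z1 : z ≠ 1
  eB : e ∈ B
  eZ : e ∈ zc (S : Subgroup G)
  e1 : e ≠ 1
  trZ : YS (S : Subgroup G) ≤ (YS (S : Subgroup G) ⊓ centralizer (B : Set G)) ⊔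
    (YS (S : Subgroup G) ⊓ centralizer ({z} : Set G))
  trE : YS (S : Subgroup G) ≤ (YS (S : Subgroup G) ⊓ centralizer (R : Set G)) ⊔
    (YS (S : Subgroup G) ⊓ centralizer ({e} : Set G))

theorem cent_zp (z : G) : centralizer (zpowers z : Set G) = centralizer ({z} : Set G) := by
  refine le_antisymm (centralizer_le (Set.singleton_subset_iff.2 (mem_zpowers z))) fun g hg => ?_
  rw [mem_centralizer_iff]
  rintro _ ⟨n, rfl⟩
  have h1 : Commute g z := mem_centralizer_singleton_iff.1 hg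
  exact (h1.zpow_right n).eq.symm

/-- `V U K` is monotone in `U` -/
theorem v_mono {A B K : Subgroup G} (h : A ≤ B) : V A K ≤ V B K :=
  iSup_mono fun k => (Subgroup.pointwise_smul_le_pointwise_smul_iff (a := MulAut.conj (k : G))).2 h

namespace PairV

variable [Finite G] {S : Sylow 2 G} {R B : Subgroup G} {z e : G} (h : PairV S R B z e)
include h

theorem low : zl (S : Subgroup G) (YS S) ≤ o2 (CZ (S : Subgroup G)) :=
  h.sup.trans (sup_le (LowP.lowR h.ctx.char2 h.nR h.gR h.eZ h.e1 h.trE)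
    (LowP.lowR h.ctx.char2 h.nB h.gB h.zZ h.z1 h.trZ))

theorem frV (hA : ∀ A, Mx (o2 (centralizer ({z} : Set G) ⊓ centralizer ({e} : Set G))) A →
    A ≤ centralizer (R : Set G)) : FrV S R B (zpowers z) e where
  ctx := h.ctx
  full := h.full
  nR := h.nR
  nB := h.nB
  sE := h.sE
  sZ := by
    rw [cent_zp]
    exact h.sZ
  RV := by
    rw [← v_eq]
    exact h.gR.trans (v_mono inf_le_right)
  BV := by
    rw [← v_eq]
    exact h.gB.trans (v_mono inf_le_right)
  Z0R := by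
    rw [zpowers_le]
    exact ⟨h.zR, h.zZ⟩
  ne := by
    rw [Ne, zpowers_eq_bot]
    exact h.z1
  hA := by
    intro A hA' hAz
    have hC1 : CZ (S : Subgroup G) ≤ centralizer ({z} : Set G) ⊓ centralizer ({e} : Set G) :=
      le_inf (centralizer_le (Set.singleton_subset_iff.2 h.zZ)) (centralizer_le (Set.singleton_subset_iff.2 h.eZ))
    have h1 : o2 (centralizer ({z} : Set G) ⊓ centralizer ({e} : Set G)) ≤ o2 (CZ (S : Subgroup G)) :=
      o2_le_o2 S (le_CZ S) hC1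
    have h2 : A ≤ o2 (centralizer ({z} : Set G) ⊓ centralizer ({e} : Set G)) := by
      rw [cent_zp] at hAz
      exact hAz.trans (o2_le_o2 S ((le_CZ S).trans hC1) inf_le_left)
    exact hA A ⟨h2, (eab_iff.1 hA'.1).2, fun B hB hB2 =>
      hA'.2.2 B (eab_iff.2 ⟨KL.TwoS.comm_of_sq hB2, hB2⟩) (hB.trans h1)⟩
  low := h.low
  vc := h.vc
  vs := h.vs
  eZ := h.eZ
  eB := h.eB
  e1 := h.e1
  tr := h.trE
  spl := h.spl

/-- **two complementary classes, `R` centralised by `AA(O₂(C(z) ∩ C(e)))`** -/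
theorem false_of (hA : ∀ A, Mx (o2 (centralizer ({z} : Set G) ⊓ centralizer ({e} : Set G))) A →
      A ≤ centralizer (R : Set G)) (hM : MLK.{u, u}) (hR : RedP.{u, u}) (hE : ML.Ex.Two.Ext.{u, u})
    (b1 : BadG (centralizer ({e} : Set G) ⊓ QQ (S : Subgroup G) R B ((S : Subgroup G) ⊓ centralizer (R : Set G)))
      ((S : Subgroup G) ⊓ centralizer (R : Set G)) B)
    (b2 : BadG (centralizer ({z} : Set G) ⊓ QQ (S : Subgroup G) R B ((S : Subgroup G) ⊓ centralizer (B : Set G)))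
      ((S : Subgroup G) ⊓ centralizer (B : Set G)) R) : False := by
  refine (h.frV hA).false_of hM hR hE b1 (Or.inr ?_)
  rw [cent_zp]
  exact b2

end PairV

end Cfsg.Agent.Omega.NOThreeL.RZ.TwoC

end

-- merged: Cfsg.Agent.Mrg.Omega.NOThreeL.RRed.WRunA
section

section


/-!
# Box R, at least two classes (bb #25865, #25809, #26298): `PairV` from the class modules

* `CM.conj_co` : `n ∈ N(S) ∩ N(W i)` normalises `∏_{j ≠ i} W j`;
* `CM.nrm_of_fix` : `n ∈ N(S)` which fixes a vector `≠ 1` of `W i` normalises `W i`;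
* **`CM.pairV`** : `PairV S (W i) (∏_{j ≠ i} W j) z e`.
-/

set_option autoImplicit false
set_option linter.unusedSectionVars false

namespace Cfsg.Agent.Omega.NOThreeL.RRed.WideTree

open Subgroup Cfsg Cfsg.Agent.ZN Cfsg.Agent.Omega.MinPar Cfsg.Agent.Omega.Frame Cfsg.Agent.Omega.FrameNOFF
open Cfsg.Agent.Omega.NOThreeL.RTree
open Cfsg.Agent.Omega.NOThreeL.Merge (MZ)
open Cfsg.Agent.Omega.NOThreeL.Star (YS)
open Cfsg.Agent.Omega.NOThreeL.RZ.TwoC (PairV v_mono)
open Cfsg.Agent.Omega.NoFF.Basic (V)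
open scoped Pointwise

universe u v

section

variable {G : Type u} [Group G] {ι : Type u}

theorem conj_sup {n : G} {W : ι → Subgroup G} (i : ι) :
    MulAut.conj n • (⨆ j : {j // j ≠ i}, W j : Subgroup G) = ⨆ j : {j // j ≠ i}, MulAut.conj n • W j := by
  change (⨆ j : {j // j ≠ i}, W j : Subgroup G).map (MulAut.conj n).toMonoidHom = _
  rw [Subgroup.map_iSup]
  rfl

theorem nrm_iff {n : G} {X : Subgroup G} : n ∈ normalizer (X : Set G) ↔ MulAut.conj n • X = X := by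
  constructor
  · intro hn
    ext x
    rw [NoFF.Basic.mem_conj]
    have h1 := mem_normalizer_iff.1 hn (n⁻¹ * x * n)
    rw [h1]
    have e : n * (n⁻¹ * x * n) * n⁻¹ = x := by group
    rw [e]
  · intro hn
    rw [mem_normalizer_iff]
    intro x
    have h1 : n * x * n⁻¹ ∈ MulAut.conj n • X ↔ x ∈ X := by
      rw [NoFF.Basic.mem_conj]
      have e : n⁻¹ * (n * x * n⁻¹) * n = x := by group
      rw [e]
    rw [hn] at h1
    exact h1.symm

variable [Finite G] {S : Sylow 2 G} {W : ι → Subgroup G}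

/-- two classes which meet are equal -/
theorem CM.eq_of (h : CM (S : Subgroup G) W) {i j : ι} {x : G} (hi : x ∈ W i) (hj : x ∈ W j) (h1 : x ≠ 1) : j = i := by
  by_contra hc
  apply h1
  have h2 : x ∈ W i ⊓ (⨆ j : {j // j ≠ i}, W j) := ⟨hi, (le_iSup (fun j : {j // j ≠ i} => W j) ⟨j, hc⟩) hj⟩
  rw [h.ind i] at h2
  exact mem_bot.1 h2

/-- `n ∈ N(S)` which fixes a vector `≠ 1` of `W i` normalises `W i` -/
theorem CM.nrm_of_fix (h : CM (S : Subgroup G) W) {i : ι} {n z : G} (hn : n ∈ normalizer ((S : Subgroup G) : Set G))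
    (hz : z ∈ W i) (z1 : z ≠ 1) (hc : n * z = z * n) : n ∈ normalizer (W i : Set G) := by
  obtain ⟨j, hj⟩ := h.nS n hn i
  have h1 : z ∈ W j := by
    rw [← hj, NoFF.Basic.mem_conj]
    have e : n⁻¹ * z * n = z := by rw [mul_assoc, ← hc, inv_mul_cancel_left]
    rw [e]
    exact hz
  rw [h.eq_of hz h1 z1] at hj
  exact nrm_iff.2 hj

/-- then it normalises the product of the other classes -/
theorem CM.conj_co (h : CM (S : Subgroup G) W) {i : ι} {n : G} (hn : n ∈ normalizer ((S : Subgroup G) : Set G))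
    (hi : n ∈ normalizer (W i : Set G)) : n ∈ normalizer ((⨆ j : {j // j ≠ i}, W j : Subgroup G) : Set G) := by
  have key : ∀ n ∈ normalizer ((S : Subgroup G) : Set G), n ∈ normalizer (W i : Set G) →
      MulAut.conj n • (⨆ j : {j // j ≠ i}, W j : Subgroup G) ≤ ⨆ j : {j // j ≠ i}, W j := by
    intro n hn hi
    rw [conj_sup]
    refine iSup_le fun j => ?_
    obtain ⟨k, hk⟩ := h.nS n hn j
    rw [hk]
    refine le_iSup (fun j : {j // j ≠ i} => W j) ⟨k, fun hki => j.2 ?_⟩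
    have h1 : W j = W i := by
      have h2 : MulAut.conj n • W j = MulAut.conj n • W i := by rw [hk, hki, nrm_iff.1 hi]
      have h3 := congrArg (fun X => MulAut.conj n⁻¹ • X) h2
      simpa [smul_smul, ← map_mul] using h3
    obtain ⟨w, hw, w1⟩ := (W j).bot_or_exists_ne_one.resolve_left (h.ne j)
    exact h.eq_of (h1 ▸ hw) hw w1
  rw [nrm_iff]
  refine le_antisymm (key n hn hi) ?_
  have h1 := key n⁻¹ (inv_mem hn) (inv_mem hi)
  have h2 := (Subgroup.pointwise_smul_le_pointwise_smul_iff (a := MulAut.conj n)).2 h1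
  simpa [smul_smul, ← map_mul] using h2

/-- `W i ≤ ⟨(W i ∩ Z)^Y⟩` -/
theorem CM.gen_zc (B : RB S) (h : CM (S : Subgroup G) W) (i : ι) :
    W i ≤ V (W i ⊓ zc (S : Subgroup G)) (MZ (S : Subgroup G)) := by
  have hW : W i ≤ Wd (S : Subgroup G) := by
    rw [← h.sup]
    exact le_iSup W i
  obtain ⟨z, hz, z1, hzW⟩ := FFB.exists_zc (hW.trans (WS B)) (fun d hd => by rw [pow_two]; exact wsq B d (hW hd))
    ((SM B).trans (h.inv i)) (h.ne i)
  refine fun w hw => h.zero i _ le_rfl (fun h0 => z1 ?_) w hw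
  have h2 : z ∈ W i ⊓ zc (S : Subgroup G) := ⟨hzW, hz⟩
  rw [h0] at h2
  exact mem_bot.1 h2

/-- **`PairV` from the class modules** -/
theorem CM.pairV (B : RB S) (h : CM (S : Subgroup G) W) (i : ι) {z e : G}
    (zR : z ∈ W i) (zZ : z ∈ zc (S : Subgroup G)) (z1 : z ≠ 1)
    (eB : e ∈ (⨆ j : {j // j ≠ i}, W j : Subgroup G)) (eZ : e ∈ zc (S : Subgroup G)) (e1 : e ≠ 1)
    (trZ : MZ (S : Subgroup G) ≤ (MZ (S : Subgroup G) ⊓ centralizer ((⨆ j : {j // j ≠ i}, W j : Subgroup G) : Set G)) ⊔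
      (MZ (S : Subgroup G) ⊓ centralizer ({z} : Set G)))
    (trE : MZ (S : Subgroup G) ≤ (MZ (S : Subgroup G) ⊓ centralizer (W i : Set G)) ⊔
      (MZ (S : Subgroup G) ⊓ centralizer ({e} : Set G)))
    (nE : centralizer ({e} : Set G) ⊓ normalizer ((S : Subgroup G) : Set G) ≤ normalizer (W i : Set G)) :
    PairV S (W i) (⨆ j : {j // j ≠ i}, W j) z e where
  ctx := B.ctx
  full := B.full
  vc := Wd_abel B
  vs := fun v hv => by rw [pow_two]; exact wsq B v hv
  nR := h.inv i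
  nB := by
    refine fun g hg => nrm_iff.2 ?_
    rw [conj_sup]
    exact iSup_congr fun j => nrm_iff.1 (h.inv j hg)
  sE := fun n hn => ⟨nE hn, h.conj_co hn.2 (nE hn)⟩
  sZ := fun n hn => by
    have h1 := h.nrm_of_fix hn.2 zR z1 (mem_centralizer_singleton_iff.1 hn.1)
    exact ⟨h1, h.conj_co hn.2 h1⟩
  gR := h.gen_zc B i
  gB := iSup_le fun j => (h.gen_zc B j).trans
    (v_mono (inf_le_inf_right _ (le_iSup (fun j : {j // j ≠ i} => W j) j)))
  sup := by
    change Wd (S : Subgroup G) ≤ _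
    rw [← h.sup]
    refine iSup_le fun j => ?_
    by_cases hj : j = i
    · rw [hj]
      exact le_sup_left
    · exact (le_iSup (fun j : {j // j ≠ i} => W j) ⟨j, hj⟩).trans le_sup_right
  spl := by rw [inf_comm]; exact h.ind i
  zR := zR
  zZ := zZ
  z1 := z1
  eB := eB
  eZ := eZ
  e1 := e1
  trZ := trZ
  trE := trE

end

end Cfsg.Agent.Omega.NOThreeL.RRed.WideTree

end

section


/-!
# NO-3L, box R: `⟨C_G(l a : a ≠ b) : b⟩` is nonlocal as soon as `C_G(Z)` permutes the lines (#25652, case (ii))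

* `nloc` (abstract): lines `l b` in an abelian 2-group, groups `E b` centralising the other lines,
  `M₀ ≤ ⟨E b⟩ Stab(lines)`, `C_G(Z)` permutes the lines ⟹ no 2-group `U ≠ 1` is normalised by all
  `Y_b = C_G(l a : a ≠ b)`  [`G₁ = ⟨Y_b⟩` is normalised by `⟨M₀, C⟩`; `1 ≠ C_U(∏ l b) ≤ O₂(G₁)`];
* `perm_l` : over `NBs`: `n ∈ M₀ ∩ N(S ∩ ⟨E b⟩)` permutes the lines (only `ln`, `root`, `sylow`; `A₇` on `2⁴` allowed);
* **`g1_nloc`**, **`nonLocF_of`** (any set of classes), **`nonLoc_of`** (two classes).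
-/

set_option autoImplicit false
set_option linter.unusedSectionVars false

namespace Cfsg.Agent.Omega.NOThreeL.RRed.GOne

open Subgroup Cfsg Cfsg.Agent.ZN Cfsg.Agent.Omega.MinPar Cfsg.Agent.Omega.Frame Cfsg.Agent.Omega.FrameNOFF
open Cfsg.Agent.Omega.Node.NO3L Cfsg.Agent.Omega.NOThreeL.Basic Cfsg.Agent.Omega.NOThreeL.RTree
open Cfsg.Agent.Omega.NOThreeL.Merge (MZ nonLoc_MZ)
open Cfsg.Agent.Omega.NOThreeL.RRed.WideTree
open Cfsg.Agent.Omega.NOThreeL.RWide (YY YY_le_cent le_YY)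

open scoped Pointwise

universe u v w

section abs

variable {G : Type u} [Group G] {ι : Type v} {l E : ι → Subgroup G}

theorem mem_norm [Finite G] {g : G} {K : Subgroup G} (h : MulAut.conj g • K ≤ K) : g ∈ normalizer (K : Set G) := by
  have h1 : MulAut.conj g • K = K := by
    refine Subgroup.eq_of_le_of_card_ge h ?_
    exact (Nat.card_congr (Subgroup.equivSMul (MulAut.conj g) K).toEquiv).le
  rw [mem_normalizer_iff]
  intro x
  exact Blk.conj_smul h1

/-- `g` permutes the lines ⟹ `g` permutes the `Y_b` -/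
theorem smul_YY [Finite ι] (hinj : Function.Injective l) {g : G} (h : ∀ b, ∃ c, MulAut.conj g • l b = l c) (b : ι) :
    ∃ c, MulAut.conj g • YY l b ≤ YY l c := by
  choose σ hσ using h
  have hσi : Function.Injective σ := by
    intro a b hab
    have h1 : MulAut.conj g • l a = MulAut.conj g • l b := by rw [hσ, hσ, hab]
    exact hinj (smul_left_cancel _ h1)
  have hσs : Function.Surjective σ := Finite.surjective_of_injective hσi
  refine ⟨σ b, le_YY fun d hd => ?_⟩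
  obtain ⟨a, rfl⟩ := hσs d
  have hab : a ≠ b := fun e => hd (by rw [e])
  rintro y ⟨k, hk, rfl⟩
  rw [mem_centralizer_iff]
  intro x hx
  have hx' : x ∈ l (σ a) := hx
  rw [← hσ a] at hx'
  obtain ⟨w, hw, rfl⟩ := hx'
  have h1 := mem_centralizer_iff.1 (YY_le_cent hab hk) w hw
  change (g * w * g⁻¹) * (g * k * g⁻¹) = (g * k * g⁻¹) * (g * w * g⁻¹)
  calc (g * w * g⁻¹) * (g * k * g⁻¹) = g * (w * k) * g⁻¹ := by group
    _ = g * (k * w) * g⁻¹ := by rw [h1]
    _ = _ := by group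

theorem smul_iSup_YY [Finite G] [Finite ι] (hinj : Function.Injective l) {g : G}
    (h : ∀ b, ∃ c, MulAut.conj g • l b = l c) : g ∈ normalizer ((⨆ b, YY l b : Subgroup G) : Set G) := by
  refine mem_norm ?_
  rw [show MulAut.conj g • (⨆ b, YY l b) = ⨆ b, MulAut.conj g • YY l b from Subgroup.map_iSup _ _]
  refine iSup_le fun b => ?_
  obtain ⟨c, hc⟩ := smul_YY hinj h b
  exact hc.trans (le_iSup (fun b => YY l b) c)

/-- **The normality line**, abstract form. -/
theorem nloc [Finite G] {S : Sylow 2 G} (hG : Ctx G) (hF : Full (S : Subgroup G)) [Finite ι] [Nonempty ι]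
    {X : Subgroup G} (hl : ∀ b, l b ≤ X) (hX2 : IsPGroup 2 X) (hX : X ≤ centralizer (X : Set G))
    (hinj : Function.Injective l) (hE : ∀ b c, c ≠ b → E b ≤ centralizer (l c : Set G))
    (hM : ∀ g ∈ MZ (S : Subgroup G), ∃ k ∈ (⨆ b, E b : Subgroup G), ∀ b, ∃ c, MulAut.conj (k * g) • l b = l c)
    (hC : ∀ g ∈ CZ (S : Subgroup G), ∀ b, ∃ c, MulAut.conj g • l b = l c)
    (U : Subgroup G) (hU : IsPGroup 2 U) (hN : ∀ b, YY l b ≤ normalizer (U : Set G)) : U = ⊥ := by
  by_contra hU1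
  have hfact : Fact (Nat.Prime 2) := ⟨Nat.prime_two⟩
  set G1 : Subgroup G := ⨆ b, YY l b with hG1
  have hEG : (⨆ b, E b : Subgroup G) ≤ G1 := iSup_le fun b => (le_YY (hE b)).trans (le_iSup (fun b => YY l b) b)
  have hMn : MZ (S : Subgroup G) ≤ normalizer (G1 : Set G) := by
    intro g hg
    obtain ⟨k, hk, h1⟩ := hM g hg
    have h2 := smul_iSup_YY hinj h1
    have e : g = k⁻¹ * (k * g) := by group
    rw [e]
    exact mul_mem (inv_mem (le_normalizer (hEG hk))) h2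
  have hCn : CZ (S : Subgroup G) ≤ normalizer (G1 : Set G) := fun g hg => smul_iSup_YY hinj (hC g hg)
  have hGU : G1 ≤ normalizer (U : Set G) := iSup_le hN
  have b₀ : ι := Classical.arbitrary ι
  have hlc : ∀ a, (⨆ b, l b : Subgroup G) ≤ centralizer (l a : Set G) := fun a =>
    ((iSup_le hl).trans hX).trans (centralizer_le (hl a))
  have hLY : (⨆ b, l b : Subgroup G) ≤ YY l b₀ := le_YY fun a _ => hlc a
  have h3 : U ⊓ centralizer ((⨆ b, l b : Subgroup G) : Set G) ≠ ⊥ :=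
    Cfsg.Agent.PLocal.OffenderStep.inf_centralizer_ne_bot U (⨆ b, l b) hU (hX2.to_le (iSup_le hl))
      (hLY.trans (hN b₀)) hU1
  have h4 : centralizer ((⨆ b, l b : Subgroup G) : Set G) ≤ G1 :=
    (le_YY fun a _ => centralizer_le (le_iSup l a)).trans (le_iSup (fun b => YY l b) b₀)
  have h5 : U ⊓ G1 ≠ ⊥ := fun e => h3 (by
    rw [eq_bot_iff, ← e]
    exact inf_le_inf_left _ h4)
  have h6 : U ⊓ G1 ≤ o2 G1 := by
    refine Cfsg.Agent.MinSimple.VModule.le_o2 inf_le_right (hU.to_le inf_le_left) ?_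
    intro g hg
    rw [mem_normalizer_iff]
    intro x
    rw [mem_inf, mem_inf]
    exact and_congr (mem_normalizer_iff.1 (hGU hg) x) (mem_normalizer_iff.1 (le_normalizer hg) x)
  have h7 : o2 G1 = ⊥ := nonLoc_MZ hG hF _ (Cfsg.Agent.MinSimple.VModule.o2_isPGroup G1)
    (hMn.trans (Cfsg.Agent.Omega.ML.GMod.normalizer_le_normalizer_o2 G1))
    (hCn.trans (Cfsg.Agent.Omega.ML.GMod.normalizer_le_normalizer_o2 G1))
  exact h5 (le_bot_iff.1 (h7 ▸ h6))

end abs

section nbs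

variable {G : Type u} [Group G] {S : Subgroup G}

theorem natblk_one {D N l : Subgroup G} {F : Type} [Field F] {e : G → Fin 2 → F} (h : NatBlk S D N l F e) :
    e 1 = 0 := by
  have h1 := h.mul 1 (one_mem _) 1 (one_mem _)
  rw [mul_one] at h1
  exact left_eq_add.1 h1

theorem natblk_inv {D N l : Subgroup G} {F : Type} [Field F] {e : G → Fin 2 → F} (h : NatBlk S D N l F e) {v : G}
    (hv : v ∈ N) : e v⁻¹ = - e v := by
  have h1 := h.mul v hv v⁻¹ (inv_mem hv)
  rw [mul_inv_cancel, natblk_one h] at h1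
  exact (neg_eq_of_add_eq_zero_right h1.symm).symm

theorem natblk_inj {D N l : Subgroup G} {F : Type} [Field F] {e : G → Fin 2 → F} (h : NatBlk S D N l F e) {v w : G}
    (hv : v ∈ N) (hw : w ∈ N) (hvw : e v = e w) : v = w := by
  have h1 := h.mul v hv w⁻¹ (inv_mem hw)
  rw [natblk_inv h hw, hvw, add_neg_cancel] at h1
  exact mul_inv_eq_one.1 (h.inj _ (mul_mem hv (inv_mem hw)) h1)

theorem natblk_l_le {D N l : Subgroup G} {F : Type} [Field F] {e : G → Fin 2 → F} (h : NatBlk S D N l F e) :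
    l ≤ N := fun v hv => ((h.line v).1 hv).1

theorem natblk_card {D N l : Subgroup G} {F : Type} [Field F] [Finite F] {e : G → Fin 2 → F}
    (h : NatBlk S D N l F e) : Nat.card l = Nat.card F := by
  refine Nat.card_congr (Equiv.ofBijective (fun v : l => e v 0) ⟨?_, ?_⟩)
  · intro v w hvw
    refine Subtype.ext (natblk_inj h (natblk_l_le h v.2) (natblk_l_le h w.2) ?_)
    funext i
    fin_cases i
    · exact hvw
    · exact ((h.line v).1 v.2).2.trans ((h.line w).1 w.2).2.symm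
  · intro c
    obtain ⟨v, hv, hc⟩ := h.sur ![c, 0]
    exact ⟨⟨v, (h.line v).2 ⟨hv, by rw [hc]; rfl⟩⟩, by show e v 0 = c; rw [hc]; rfl⟩

/-- `[w, s] ∈ l` for a root element `s` -/
theorem natblk_comm {D N l : Subgroup G} {F : Type} [Field F] {e : G → Fin 2 → F} (h : NatBlk S D N l F e)
    {s w : G} {c : F} (hs : ∀ v ∈ N, e (s * v * s⁻¹) = ![e v 0 + c * e v 1, e v 1])
    (hsN : s * w * s⁻¹ ∈ N) (hw : w ∈ N) :
    s * w * s⁻¹ * w⁻¹ ∈ l ∧ e (s * w * s⁻¹ * w⁻¹) = ![c * e w 1, 0] := by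
  have h1 : e (s * w * s⁻¹ * w⁻¹) = ![c * e w 1, 0] := by
    rw [h.mul _ hsN _ (inv_mem hw), natblk_inv h hw, hs w hw]
    funext i
    fin_cases i
    · simp
    · simp
  refine ⟨(h.line _).2 ⟨mul_mem hsN (inv_mem hw), ?_⟩, h1⟩
  rw [h1]
  rfl

variable {ι : Type u} {N E D l : ι → Subgroup G} {q : ι → ℕ}

theorem l_le (h : NBs S N E D l q) (b : ι) : l b ≤ N b := by
  obtain ⟨F, _, _, _, e, _, nb⟩ := h.nat b
  exact natblk_l_le nb

theorem card_l (h : NBs S N E D l q) (b : ι) : Nat.card (l b) = q b := by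
  obtain ⟨F, _, _, _, e, hq, nb⟩ := h.nat b
  rw [natblk_card nb, hq]

theorem l_ne (h : NBs S N E D l q) (b : ι) : l b ≠ ⊥ := by
  obtain ⟨F, _, _, _, e, hq, nb⟩ := h.nat b
  intro hb
  have h1 := natblk_card nb
  rw [hb, Subgroup.card_bot] at h1
  exact (Finite.one_lt_card (α := F)).ne h1

theorem l_side (h : NBs S N E D l q) {b c : ι} (hbc : l b ≤ N c) : b = c := by
  by_contra hne
  apply l_ne h b
  have h4 : N c ⊓ Blk.Co N ⊥ c = ⊥ := h.dec.ind c
  rw [eq_bot_iff, ← h4]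
  exact le_inf hbc ((l_le h b).trans (h.dec.N_le_Co hne))

theorem l_inj (h : NBs S N E D l q) : Function.Injective l := fun b c e =>
  l_side h (by rw [e]; exact l_le h c)

theorem norm_E (h : NBs S N E D l q) [Finite G] : MZ S ≤ normalizer ((⨆ b, E b : Subgroup G) : Set G) := by
  intro g hg
  refine mem_norm ?_
  rw [show MulAut.conj g • (⨆ b, E b) = ⨆ b, MulAut.conj g • E b from Subgroup.map_iSup _ _]
  refine iSup_le fun b => ?_
  obtain ⟨c, _, hc⟩ := h.dec.perm g hg b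
  rw [hc]
  exact le_iSup E c

/-- an element of `S` which normalises `N c` normalises `l c` -/
theorem norm_l (h : NBs S N E D l q) {t : G} (htS : t ∈ S) {c : ι} (htN : t ∈ normalizer (N c : Set G)) {v : G}
    (hv : v ∈ l c) : t * v * t⁻¹ ∈ l c := by
  obtain ⟨d, hd⟩ := h.ln t htS c
  have h1 : l d ≤ N c := by
    rw [← hd]
    rintro y ⟨x, hx, rfl⟩
    exact (mem_normalizer_iff.1 htN x).1 (l_le h c hx)
  have h2 := l_side h h1
  rw [h2] at hd
  exact (Blk.conj_smul hd).1 hv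

/-- **`n ∈ M₀` normalising `S ∩ ⟨E b⟩` permutes the lines.** -/
theorem perm_l (h : NBs S N E D l q) [Finite G] {n : G} (hn : n ∈ MZ S)
    (hnS : n ∈ normalizer ((S ⊓ ⨆ b, E b : Subgroup G) : Set G)) (b : ι) :
    ∃ c, MulAut.conj n • l b = l c := by
  obtain ⟨c, h1, h2⟩ := h.dec.perm n hn b
  obtain ⟨c', h3, h4⟩ := h.perm n hn b
  have h5 : c' = c := h.dec.Ninj (by rw [← h3, h1])
  rw [h5] at h4
  refine ⟨c, ?_⟩
  have hcard : Nat.card (MulAut.conj n • l b : Subgroup G) = q b := by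
    rw [← card_l h b]
    exact (Nat.card_congr (Subgroup.equivSMul (MulAut.conj n) (l b)).toEquiv).symm
  suffices hle : l c ≤ MulAut.conj n • l b by
    exact (Subgroup.eq_of_le_of_card_ge hle (by rw [hcard, card_l h c, h4])).symm
  intro v hv
  by_contra hvn
  obtain ⟨F, _, _, _, e, hq, nb⟩ := h.nat b
  have hvN : v ∈ MulAut.conj n • N b := by rw [h1]; exact l_le h c hv
  obtain ⟨w, hw, hwv⟩ := hvN
  have hwv' : n * w * n⁻¹ = v := hwv
  have hw1 : e w 1 ≠ 0 := fun h6 => hvn ⟨w, (nb.line w).2 ⟨hw, h6⟩, hwv⟩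
  choose s hs hsr using nb.sylow
  have hsE : ∀ x, s x ∈ E b := fun x => h.DE b (hs x).2
  have hsN : ∀ x, s x * w * (s x)⁻¹ ∈ N b := fun x => (mem_normalizer_iff.1 (h.dec.EN b (hsE x)) w).1 hw
  have hcm := fun x => natblk_comm nb (hsr x) (hsN x) hw
  have ht : ∀ x, n * s x * n⁻¹ ∈ S ∧ n * s x * n⁻¹ ∈ E c := by
    intro x
    refine ⟨?_, (Blk.conj_smul h2).1 (hsE x)⟩
    have h6 : s x ∈ (S ⊓ ⨆ b, E b : Subgroup G) := ⟨(hs x).1, (le_iSup E b) (hsE x)⟩
    exact ((mem_normalizer_iff.1 hnS (s x)).1 h6).1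
  have hf : ∀ x, n * (s x * w * (s x)⁻¹ * w⁻¹) * n⁻¹ ∈ (l c ⊓ MulAut.conj n • l b : Subgroup G) := by
    intro x
    refine mem_inf.2 ⟨?_, ⟨_, (hcm x).1, rfl⟩⟩
    have e1 : n * (s x * w * (s x)⁻¹ * w⁻¹) * n⁻¹ =
        (n * s x * n⁻¹) * (n * w * n⁻¹) * (n * s x * n⁻¹)⁻¹ * (n * w * n⁻¹)⁻¹ := by group
    rw [e1, hwv']
    exact mul_mem (norm_l h (ht x).1 (h.dec.EN c (ht x).2) hv) (inv_mem hv)
  have hfi : Function.Injective fun x => (⟨_, hf x⟩ : (l c ⊓ MulAut.conj n • l b : Subgroup G)) := by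
    intro x y hxy
    have h6 : n * (s x * w * (s x)⁻¹ * w⁻¹) * n⁻¹ = n * (s y * w * (s y)⁻¹ * w⁻¹) * n⁻¹ := congrArg Subtype.val hxy
    have h7 : s x * w * (s x)⁻¹ * w⁻¹ = s y * w * (s y)⁻¹ * w⁻¹ := by
      have h8 := congrArg (fun z => n⁻¹ * z * n) h6
      simpa [mul_assoc] using h8
    have h8 := (hcm x).2
    rw [h7, (hcm y).2] at h8
    have h9 := congrFun h8 0
    simp only [Matrix.cons_val_zero] at h9
    exact (mul_right_cancel₀ hw1 h9).symm
  have h10 := Nat.card_le_card_of_injective _ hfi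
  have h11 : (l c ⊓ MulAut.conj n • l b : Subgroup G) < l c := by
    refine lt_of_le_of_ne inf_le_left fun h12 => hvn ?_
    have h13 : v ∈ (l c ⊓ MulAut.conj n • l b : Subgroup G) := by rw [h12]; exact hv
    exact h13.2
  have h12 := Set.ncard_lt_ncard (show ((l c ⊓ MulAut.conj n • l b : Subgroup G) : Set G) ⊂ (l c : Set G) from h11)
    (Set.toFinite _)
  rw [← Nat.card_coe_set_eq, ← Nat.card_coe_set_eq] at h12
  have h13 : Nat.card (l c) = q c := card_l h c
  have h14 : Nat.card ((l c ⊓ MulAut.conj n • l b : Subgroup G) : Set G) < Nat.card (l c) := h12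
  rw [h13, h4, ← hq] at h14
  exact absurd h10 (not_le.2 h14)

theorem nonempty_ι {S : Sylow 2 G} [Finite G] (hG : Ctx G) (h : NBs (S : Subgroup G) N E D l q) : Nonempty ι := by
  by_contra hι
  rw [not_nonempty_iff] at hι
  have h1 := h.dec.sup
  rw [iSup_of_empty, bot_sup_eq] at h1
  refine MinSimple.Basic.zc_ne_bot S.isPGroup' (hG.sylow_ne_bot S) (le_bot_iff.1 ?_)
  rw [h1]
  exact zc_le_Wd _

/-- **`⟨C_G(l a : a ≠ b) : b⟩` is nonlocal** if `C_G(Z)` permutes the lines. -/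
theorem g1_nloc [Finite G] {S : Sylow 2 G} (hR : RB S) [Finite ι] (h : NBs (S : Subgroup G) N E D l q)
    (hC : ∀ g ∈ centralizer (zc (S : Subgroup G) : Set G), ∀ b, ∃ c, MulAut.conj g • l b = l c)
    (U : Subgroup G) (hU : IsPGroup 2 U) (hN : ∀ b, YY l b ≤ normalizer (U : Set G)) : U = ⊥ := by
  have := nonempty_ι hR.ctx h
  refine nloc hR.ctx hR.full (E := E) (X := Wd (S : Subgroup G)) (fun b => (l_le h b).trans (h.dec.NU b))
    (S.isPGroup'.to_le (WS hR)) (Wd_abel hR) (l_inj h)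
    (fun b c hcb => (h.dec.EC b c (Ne.symm hcb)).trans (centralizer_le (l_le h c))) ?_ hC U hU hN
  intro g hg
  obtain ⟨k, hk, n, hn, e⟩ := Cfsg.Agent.Omega.ML.GMod.exists_frattini (SM hR) S.isPGroup'
    (MinSimple.Basic.not_dvd_relIndex S (SM hR)) (norm_E h) hg
  refine ⟨k⁻¹, inv_mem hk, fun b => ?_⟩
  have e1 : k⁻¹ * g = n := by rw [e]; group
  rw [e1]
  exact perm_l h hn.1 hn.2 b

/-- `Z ∩ ∏_{b ∈ T} N b ≤ ∏_{b ∈ T} l b` -/
theorem mem_lines (h : NBs S N E D l q) (T : Finset ι) : ∀ x ∈ (⨆ b ∈ T, N b : Subgroup G),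
    (∀ b, ∀ s ∈ S ⊓ D b, s * x * s⁻¹ = x) → x ∈ (⨆ b ∈ T, l b : Subgroup G) := by
  classical
  induction T using Finset.induction_on with
  | empty => intro x hx _; simpa using hx
  | insert b T hb ih =>
    intro x hx hs
    have hle : (⨆ c ∈ T, N c) ≤ Wd S := iSup₂_le fun c _ => h.dec.NU c
    rw [Finset.iSup_insert] at hx ⊢
    obtain ⟨n, hn, y, hy, e⟩ := Blk.mem_sup_of (h.dec.nor (h.dec.NU b) hle) hx
    have hDc : ∀ a c, a ≠ c → ∀ s ∈ S ⊓ D a, ∀ z ∈ N c, s * z * s⁻¹ = z := fun a c hac s hs' z hz =>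
      Blk.cent (h.dec.EC a c hac (h.DE a hs'.2)) hz
    have hyb : ∀ s ∈ S ⊓ D b, s * y * s⁻¹ = y := by
      intro s hs'
      have h1 : s ∈ centralizer ((⨆ c ∈ T, N c : Subgroup G) : Set G) := by
        have h2 : (⨆ c ∈ T, N c : Subgroup G) ≤ centralizer ((zpowers s : Subgroup G) : Set G) := by
          refine iSup₂_le fun c hc => ?_
          rw [le_centralizer_iff, zpowers_le]
          exact h.dec.EC b c (fun e => hb (e ▸ hc)) (h.DE b hs'.2)
        exact (le_centralizer_iff.1 h2) (mem_zpowers s)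
      exact Blk.cent h1 hy
    have hnb : ∀ s ∈ S ⊓ D b, s * n * s⁻¹ = n := by
      intro s hs'
      have h1 := hs b s hs'
      have e1 : s * x * s⁻¹ = (s * n * s⁻¹) * (s * y * s⁻¹) := by rw [e]; group
      rw [e1, hyb s hs', e] at h1
      exact mul_right_cancel h1
    have hnl : n ∈ l b := by
      obtain ⟨F, _, _, _, ev, _, nb⟩ := h.nat b
      obtain ⟨s, hs1, hs2⟩ := nb.sylow 1
      have h1 := hs2 n hn
      rw [hnb s hs1] at h1
      have h2 := congrFun h1 0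
      simp only [Matrix.cons_val_zero, one_mul] at h2
      exact (nb.line n).2 ⟨hn, left_eq_add.1 h2⟩
    have hyl : y ∈ (⨆ c ∈ T, l c : Subgroup G) := by
      refine ih y hy fun a s hs' => ?_
      by_cases hab : a = b
      · rw [hab] at hs'; exact hyb s hs'
      · have h1 := hs a s hs'
        have e1 : s * x * s⁻¹ = (s * n * s⁻¹) * (s * y * s⁻¹) := by rw [e]; group
        rw [e1, hDc a b hab s hs' n hn, e] at h1
        exact mul_left_cancel h1
    rw [e]
    exact mul_mem ((le_sup_left : l b ≤ _) hnl) ((le_sup_right : (⨆ c ∈ T, l c : Subgroup G) ≤ _) hyl)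

variable {κ : Type w} {W : κ → Subgroup G} {side : ι → κ}

/-- `W i ∩ Z ≤ ∏_{side b = i} l b` -/
theorem zs_le (h : NBs S N E D l q) [Finite ι] (hW : ∀ i, W i = ⨆ b : {b // side b = i}, N b) (i : κ) :
    W i ⊓ zc S ≤ ⨆ b : {b // side b = i}, l b := by
  classical
  have := Fintype.ofFinite ι
  intro x hx
  have h1 : (⨆ b : {b // side b = i}, N b) = ⨆ b ∈ Finset.univ.filter (fun b => side b = i), N b := by
    rw [iSup_subtype]
    refine iSup_congr fun b => ?_
    simp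
  have h2 : (⨆ b : {b // side b = i}, l b) = ⨆ b ∈ Finset.univ.filter (fun b => side b = i), l b := by
    rw [iSup_subtype]
    refine iSup_congr fun b => ?_
    simp
  rw [h2]
  refine mem_lines h _ x ?_ fun b s hs => ?_
  · rw [← h1, ← hW i]
    exact hx.1
  · have h3 := (mem_zc.1 hx.2).2.1 s hs.1
    rw [h3]; group

/-- **`⟨C_G(Z_j : j ≠ i) : i⟩` is nonlocal** (any set of classes; 181's `NonLocF`). -/
theorem nonLocF_of [Finite G] {S : Sylow 2 G} (hR : RB S) [Finite ι] (h : NBs (S : Subgroup G) N E D l q)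
    (hW : ∀ i, W i = ⨆ b : {b // side b = i}, N b)
    (hC : ∀ g ∈ centralizer (zc (S : Subgroup G) : Set G), ∀ b, ∃ c, MulAut.conj g • l b = l c)
    (U : Subgroup G) (hU : IsPGroup 2 U)
    (hN : ∀ j, YY (fun i => W i ⊓ zc (S : Subgroup G)) j ≤ normalizer (U : Set G)) : U = ⊥ := by
  refine g1_nloc hR h hC U hU fun b => le_trans ?_ (hN (side b))
  refine le_YY fun i hi => ?_
  refine le_trans ?_ (centralizer_le (zs_le h hW i))
  rw [← le_centralizer_iff]
  refine iSup_le fun a => ?_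
  rw [le_centralizer_iff]
  refine YY_le_cent fun hab => hi ?_
  rw [← a.2, hab]

/-- **two classes : `C_G(Z_0)`, `C_G(Z_1)` is a nonlocal pair.** -/
theorem nonLoc_of [Finite G] {S : Sylow 2 G} (hR : RB S) [Finite ι] (h : NBs (S : Subgroup G) N E D l q)
    {W : Fin 2 → Subgroup G} {side : ι → Fin 2} (hW : Fits N W side) (hC : PermL (S : Subgroup G) l side) :
    NonLoc (centralizer ((W 0 ⊓ zc (S : Subgroup G) : Subgroup G) : Set G))
      (centralizer ((W 1 ⊓ zc (S : Subgroup G) : Subgroup G) : Set G)) := by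
  intro U hU h0 h1
  refine nonLocF_of hR h hW (fun g hg b => ?_) U hU fun j => ?_
  · obtain ⟨c, _, hc⟩ := hC g hg b
    exact ⟨c, hc⟩
  · fin_cases j
    · exact (YY_le_cent (Z := fun i => W i ⊓ zc (S : Subgroup G)) (j := (0 : Fin 2)) (l := 1) (by decide)).trans h1
    · exact (YY_le_cent (Z := fun i => W i ⊓ zc (S : Subgroup G)) (j := (1 : Fin 2)) (l := 0) (by decide)).trans h0

end nbs

end Cfsg.Agent.Omega.NOThreeL.RRed.GOne

end

section


/-!
# NO-3L, box R: the normaliser of `SL₂(F)` acts semilinearly on a natural block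

* `semi_abs` : an additive bijection of `F²` which normalises the set of maps `SL₂(F)` is semilinear (`F` finite,
  `|F| = 2` allowed) [it normalises the ring `M₂(F)` generated by `SL₂(F)`, so its centre];
* `natblk_semi` : `s ∈ N(N) ∩ N(D)` is semilinear on the natural block `N` of `D`;
* **`natblk_semi'`** : if moreover `s ∈ N(l)`: `e (s v s⁻¹) = ![a σ(e v 0) + b σ(e v 1), d σ(e v 1)]` (655's `semi`).
-/

set_option autoImplicit false
set_option linter.unusedSectionVars false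

namespace Cfsg.Agent.Omega.NOThreeL.RRed.Semi

open Subgroup Cfsg Cfsg.Agent.Omega.NOThreeL.RRed.WideTree Cfsg.Agent.Omega.NOThreeL.RRed.GOne
open Matrix

section abs

variable {F : Type*} [Field F]

/-- every matrix is transported, given the elements of `SL₂(F)` -/
theorem all_matrix (g : (Fin 2 → F) → (Fin 2 → F)) (hadd : ∀ x y, g (x + y) = g x + g y)
    (H : ∀ M : Matrix.SpecialLinearGroup (Fin 2) F, ∃ M' : Matrix.SpecialLinearGroup (Fin 2) F,
      ∀ x, g (M.1 *ᵥ x) = M'.1 *ᵥ g x) :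
    ∀ M : Matrix (Fin 2) (Fin 2) F, ∃ M' : Matrix (Fin 2) (Fin 2) F, ∀ x, g (M *ᵥ x) = M' *ᵥ g x := by
  have hneg : ∀ x, g (-x) = - g x := by
    intro x
    have h0 : g 0 = 0 := by
      have h1 := hadd 0 0
      rw [add_zero] at h1
      exact left_eq_add.1 h1
    have h2 := hadd x (-x)
    rw [add_neg_cancel, h0] at h2
    exact (neg_eq_of_add_eq_zero_right h2.symm).symm
  let P : Matrix (Fin 2) (Fin 2) F → Prop := fun M => ∃ M' : Matrix (Fin 2) (Fin 2) F, ∀ x, g (M *ᵥ x) = M' *ᵥ g x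
  have hA : ∀ M N, P M → P N → P (M + N) := by
    rintro M N ⟨M', hM⟩ ⟨N', hN⟩
    exact ⟨M' + N', fun x => by rw [add_mulVec, hadd, hM, hN, add_mulVec]⟩
  have hS : ∀ M N, P M → P N → P (M - N) := by
    rintro M N ⟨M', hM⟩ ⟨N', hN⟩
    exact ⟨M' - N', fun x => by rw [sub_mulVec, sub_eq_add_neg, hadd, hneg, hM, hN, sub_mulVec, sub_eq_add_neg]⟩
  have hP : ∀ M N, P M → P N → P (M * N) := by
    rintro M N ⟨M', hM⟩ ⟨N', hN⟩
    exact ⟨M' * N', fun x => by rw [← mulVec_mulVec, hM, hN, mulVec_mulVec]⟩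
  have hSL : ∀ M : Matrix.SpecialLinearGroup (Fin 2) F, P M.1 := fun M => by
    obtain ⟨M', hM⟩ := H M
    exact ⟨M'.1, hM⟩
  have h1 : P 1 := ⟨1, fun x => by rw [one_mulVec, one_mulVec]⟩
  have h01 : ∀ c : F, P !![0, c; 0, 0] := by
    intro c
    have h2 := hS _ _ (hSL ⟨!![1, c; 0, 1], by simp [det_fin_two]⟩) h1
    have e : (!![1, c; 0, 1] : Matrix (Fin 2) (Fin 2) F) - 1 = !![0, c; 0, 0] := by
      ext i j
      fin_cases i <;> fin_cases j <;> simp
    rwa [show ((⟨!![1, c; 0, 1], by simp [det_fin_two]⟩ : Matrix.SpecialLinearGroup (Fin 2) F).1 - 1) =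
      !![0, c; 0, 0] from e] at h2
  have h10 : ∀ c : F, P !![0, 0; c, 0] := by
    intro c
    have h2 := hS _ _ (hSL ⟨!![1, 0; c, 1], by simp [det_fin_two]⟩) h1
    have e : (!![1, 0; c, 1] : Matrix (Fin 2) (Fin 2) F) - 1 = !![0, 0; c, 0] := by
      ext i j
      fin_cases i <;> fin_cases j <;> simp
    rwa [show ((⟨!![1, 0; c, 1], by simp [det_fin_two]⟩ : Matrix.SpecialLinearGroup (Fin 2) F).1 - 1) =
      !![0, 0; c, 0] from e] at h2
  have h00 : ∀ c : F, P !![c, 0; 0, 0] := by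
    intro c
    have h2 := hP _ _ (h01 c) (h10 1)
    have e : (!![0, c; 0, 0] : Matrix (Fin 2) (Fin 2) F) * !![0, 0; 1, 0] = !![c, 0; 0, 0] := by
      ext i j
      fin_cases i <;> fin_cases j <;> simp [Matrix.mul_apply]
    rwa [e] at h2
  have h11 : ∀ c : F, P !![0, 0; 0, c] := by
    intro c
    have h2 := hP _ _ (h10 1) (h01 c)
    have e : (!![0, 0; 1, 0] : Matrix (Fin 2) (Fin 2) F) * !![0, c; 0, 0] = !![0, 0; 0, c] := by
      ext i j
      fin_cases i <;> fin_cases j <;> simp [Matrix.mul_apply]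
    rwa [e] at h2
  intro M
  have e : M = (!![M 0 0, 0; 0, 0] + !![0, M 0 1; 0, 0]) + (!![0, 0; M 1 0, 0] + !![0, 0; 0, M 1 1]) := by
    ext i j
    fin_cases i <;> fin_cases j <;> simp
  rw [e]
  exact hA _ _ (hA _ _ (h00 _) (h01 _)) (hA _ _ (h10 _) (h11 _))

/-- **An additive bijection of `F²` which normalises `SL₂(F)` is semilinear.** -/
theorem semi_abs [Finite F] (g : (Fin 2 → F) → (Fin 2 → F)) (hadd : ∀ x y, g (x + y) = g x + g y)
    (hbij : Function.Bijective g)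
    (H : ∀ M : Matrix.SpecialLinearGroup (Fin 2) F, ∃ M' : Matrix.SpecialLinearGroup (Fin 2) F,
      ∀ x, g (M.1 *ᵥ x) = M'.1 *ᵥ g x) :
    ∃ σ : F ≃+* F, ∀ x i, g x i = σ (x 0) * g ![1, 0] i + σ (x 1) * g ![0, 1] i := by
  classical
  choose φ hφ using all_matrix g hadd H
  have hφi : Function.Injective φ := by
    intro M N hMN
    have h1 : ∀ x, M *ᵥ x = N *ᵥ x := fun x => hbij.1 (by rw [hφ, hφ, hMN])
    exact Matrix.mulVec_injective (funext h1)
  have hφs : Function.Surjective φ := Finite.surjective_of_injective hφi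
  have hsc : ∀ c : F, ∃ d : F, ∀ x, g (c • x) = d • g x := by
    intro c
    have h1 : ∀ N : Matrix (Fin 2) (Fin 2) F, φ (c • 1) * N = N * φ (c • 1) := by
      intro N
      obtain ⟨M, rfl⟩ := hφs N
      refine Matrix.mulVec_injective (funext fun y => ?_)
      obtain ⟨x, rfl⟩ := hbij.2 y
      show (φ (c • 1) * φ M) *ᵥ g x = (φ M * φ (c • 1)) *ᵥ g x
      rw [← mulVec_mulVec, ← mulVec_mulVec, ← hφ, ← hφ, ← hφ, ← hφ]
      congr 1
      rw [mulVec_mulVec, mulVec_mulVec]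
      congr 1
      rw [Matrix.smul_mul, Matrix.one_mul, Matrix.mul_smul, Matrix.mul_one]
    have h2 : φ (c • 1) ∈ Set.range (Matrix.scalar (Fin 2)) :=
      Matrix.mem_range_scalar_of_commute_single fun i j _ => (h1 _).symm
    obtain ⟨d, hd⟩ := h2
    refine ⟨d, fun x => ?_⟩
    have h3 := hφ (c • 1) x
    rw [smul_mulVec, one_mulVec, ← hd] at h3
    rw [h3]
    ext i
    simp [Matrix.scalar_apply, Matrix.mulVec_diagonal]
  choose σ hσ using hsc
  have h0 : g 0 = 0 := by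
    have h1 := hadd 0 0
    rw [add_zero] at h1
    exact left_eq_add.1 h1
  have hne : g ![1, 0] ≠ 0 := by
    intro h1
    have h2 : (![1, 0] : Fin 2 → F) = 0 := hbij.1 (by rw [h1, h0])
    exact one_ne_zero (congrFun h2 0)
  have hcan : ∀ c d : F, c • g ![1, 0] = d • g ![1, 0] → c = d := fun c d h1 => smul_left_injective F hne h1
  have hs1 : σ 1 = 1 := hcan _ _ (by rw [← hσ, one_smul, one_smul])
  have hsm : ∀ c d, σ (c * d) = σ c * σ d := fun c d => hcan _ _ (by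
    rw [← hσ, mul_smul, hσ, hσ, ← mul_smul])
  have hsa : ∀ c d, σ (c + d) = σ c + σ d := fun c d => hcan _ _ (by
    rw [← hσ, add_smul, hadd, hσ, hσ, ← add_smul])
  have hs0 : σ 0 = 0 := hcan _ _ (by rw [← hσ, zero_smul, zero_smul, h0])
  let τ : F →+* F := { toFun := σ, map_one' := hs1, map_mul' := hsm, map_zero' := hs0, map_add' := hsa }
  have hτ : Function.Bijective τ := ⟨τ.injective, Finite.surjective_of_injective τ.injective⟩
  refine ⟨RingEquiv.ofBijective τ hτ, fun x i => ?_⟩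
  have e : x = x 0 • ![1, 0] + x 1 • ![0, 1] := by
    ext j
    fin_cases j <;> simp
  have h3 : g x = σ (x 0) • g ![1, 0] + σ (x 1) • g ![0, 1] := by
    conv_lhs => rw [e]
    rw [hadd, hσ, hσ]
  rw [h3]
  rfl

end abs

section blk

universe u

variable {G : Type u} [Group G] {S D N l : Subgroup G} {F : Type} [Field F] [Finite F] {e : G → Fin 2 → F}

/-- `s ∈ N(N) ∩ N(D)` is semilinear on the natural block. -/
theorem natblk_semi (h : NatBlk S D N l F e) {s : G} (hs : s ∈ normalizer (N : Set G))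
    (hD : ∀ d ∈ D, s * d * s⁻¹ ∈ D) (hDN : D ≤ normalizer (N : Set G)) :
    ∃ (σ : F ≃+* F) (A : Fin 2 → Fin 2 → F), ∀ v ∈ N, ∀ i,
      e (s * v * s⁻¹) i = σ (e v 0) * A 0 i + σ (e v 1) * A 1 i := by
  choose w hwN hwe using h.sur
  have hwv : ∀ v ∈ N, w (e v) = v := fun v hv => natblk_inj h (hwN _) hv (hwe _)
  have hN : ∀ v ∈ N, s * v * s⁻¹ ∈ N := fun v hv => (mem_normalizer_iff.1 hs v).1 hv
  let g : (Fin 2 → F) → (Fin 2 → F) := fun x => e (s * w x * s⁻¹)
  have hg : ∀ v ∈ N, g (e v) = e (s * v * s⁻¹) := fun v hv => by show e (s * w (e v) * s⁻¹) = _; rw [hwv v hv]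
  have hadd : ∀ x y, g (x + y) = g x + g y := by
    intro x y
    have h1 : x + y = e (w x * w y) := by rw [h.mul _ (hwN x) _ (hwN y), hwe, hwe]
    rw [h1, hg _ (mul_mem (hwN x) (hwN y))]
    have e1 : s * (w x * w y) * s⁻¹ = (s * w x * s⁻¹) * (s * w y * s⁻¹) := by group
    rw [e1, h.mul _ (hN _ (hwN x)) _ (hN _ (hwN y))]
  have hinj : Function.Injective g := by
    intro x y hxy
    have h1 := natblk_inj h (hN _ (hwN x)) (hN _ (hwN y)) hxy
    have h2 : w x = w y := by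
      have h3 := congrArg (fun z => s⁻¹ * z * s) h1
      simpa [mul_assoc] using h3
    rw [← hwe x, ← hwe y, h2]
  have hbij : Function.Bijective g := ⟨hinj, Finite.surjective_of_injective hinj⟩
  obtain ⟨σ, hσ⟩ := semi_abs g hadd hbij (by
    intro M
    obtain ⟨d, hd, hdM⟩ := h.full M
    obtain ⟨M', hM'⟩ := h.act _ (hD d hd)
    refine ⟨M', fun x => ?_⟩
    have h1 : M.1 *ᵥ x = e (d * w x * d⁻¹) := by rw [hdM _ (hwN x), hwe]
    have h2 : d * w x * d⁻¹ ∈ N := (mem_normalizer_iff.1 (hDN hd) _).1 (hwN x)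
    rw [h1, hg _ h2]
    have e1 : s * (d * w x * d⁻¹) * s⁻¹ = (s * d * s⁻¹) * (s * w x * s⁻¹) * (s * d * s⁻¹)⁻¹ := by group
    rw [e1, hM' _ (hN _ (hwN x))])
  refine ⟨σ, ![g ![1, 0], g ![0, 1]], fun v hv i => ?_⟩
  rw [← hg v hv, hσ]
  rfl

/-- **655's `semi`.** -/
theorem natblk_semi' (h : NatBlk S D N l F e) {s : G} (hs : s ∈ normalizer (N : Set G))
    (hD : ∀ d ∈ D, s * d * s⁻¹ ∈ D) (hDN : D ≤ normalizer (N : Set G)) (hl : ∀ v ∈ l, s * v * s⁻¹ ∈ l) :
    ∃ (σ : F ≃+* F) (a b d : F), ∀ v ∈ N,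
      e (s * v * s⁻¹) = ![a * σ (e v 0) + b * σ (e v 1), d * σ (e v 1)] := by
  obtain ⟨σ, A, hA⟩ := natblk_semi h hs hD hDN
  have h1 : A 0 1 = 0 := by
    obtain ⟨v, hv, hv1⟩ := h.sur ![1, 0]
    have hvl : v ∈ l := (h.line v).2 ⟨hv, by rw [hv1]; rfl⟩
    have h2 := ((h.line _).1 (hl v hvl)).2
    rw [hA v hv, hv1] at h2
    simpa using h2
  refine ⟨σ, A 0 0, A 1 0, A 1 1, fun v hv => ?_⟩
  funext i
  rw [hA v hv]
  fin_cases i
  · simp [mul_comm]
  · simp [mul_comm, h1]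

end blk

end Cfsg.Agent.Omega.NOThreeL.RRed.Semi

end

end
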