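import Cfsg.Agent.Mrg.Omega.NOThreeL.RRed.LeftPair
import Cfsg.Agent.Mrg.Omega.NOThreeL.RRed.WLeftFldEnd
import Mathlib
import Cfsg.Agent.Mrg.Omega.NOThreeL.RRed.ClassInst
import Cfsg.Agent.Mrg.Omega.NOThreeL.RRed.Blk.AsmMv
import Cfsg.Agent.Mrg.Omega.NOThreeL.RRed.WRunA
import Cfsg.Agent.Omega.NOThreeL.RWide.TBlk

-- merged: Cfsg.Agent.Mrg.Omega.NOThreeL.RRed.LeftAll
section

section


/-!
# WideTree v5, socket `LeftAll` (#25809 (2), #26343, #26368), helper863

`Left` ⟹ `𝒜(O₂(C_G(Z)))` moves every block: `z, e` vectors of full support of the class `i` and of the other classes,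
`D' = C_G(z) ∩ C_G(e)`; some `A ∈ 𝒜(O₂(D'))` moves `W i`; `M₀ ∩ D'` is transitive on the blocks of class `i`;
`𝒜(O₂(D')) ⊆ 𝒜(O₂(C_G(Z)))` (`D'` is long).
-/

set_option autoImplicit false
set_option linter.unusedSectionVars false

namespace Cfsg.Agent.Omega.NOThreeL.RRed.LeftAllOf

open Subgroup Cfsg Cfsg.Agent.Omega.MinPar Cfsg.Agent.Omega.Frame Cfsg.Agent.Omega.FrameNOFF
open Cfsg.Agent.ZN (zc zl o2 le_normalizer_o2)
open Cfsg.Agent.Omega.ML.Final (MLK)
open Cfsg.Agent.Omega.NoFF.Basic (comm_symm)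
open Cfsg.Agent.Omega.NOThreeL.Merge (MZ)
open Cfsg.Agent.Omega.Node.NO3L Cfsg.Agent.Omega.NOThreeL.RTree Cfsg.Agent.Omega.NOThreeL.RTreeF
open Cfsg.Agent.Omega.NOThreeL.RRed.GlueSig
open Cfsg.Agent.Omega.NOThreeL.RRed.Blk
open Cfsg.Agent.Omega.NOThreeL.RRed.WideTree
open Cfsg.Agent.Omega.NOThreeL.RRed.FullSup
open Cfsg.Agent.Omega.NOThreeL.RRed.LeftPair
open Cfsg.Agent.Omega.NOThreeL.RZ.TwoC.DecE (Orbs)
open scoped Pointwise

universe u v w

variable {G : Type u} [Group G] [Finite G] {S : Sylow 2 G}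

/-- **Every block of the class `i` is moved by a member of `𝒜(O₂(C_G(Z)))`.** -/
theorem move_of (ml : MLK.{u, u}) (hR : RB S) {κ : Type u} {W : κ → Subgroup G} (hCM : CM (S : Subgroup G) W)
    {ι : Type v} [Finite ι] {N E : ι → Subgroup G} {O : ι → Set G} {cls : ι → κ}
    (h : Dec (S : Subgroup G) (MZ (S : Subgroup G)) (Wd (S : Subgroup G)) N E ⊥)
    (o : Orbs (MZ (S : Subgroup G)) N E O) (hW : ∀ k, W k = ⨆ b : {b // cls b = k}, N b) {i : κ} {z e : G}
    (hz : z ∈ FSup N ⊥ O {b | cls b = i}) (he : e ∈ FSup N ⊥ O {b | cls b = i}ᶜ)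
    (zz : z ∈ zc (S : Subgroup G)) (ez : e ∈ zc (S : Subgroup G)) (z1 : z ≠ 1) {A : Subgroup G}
    (hA : KL.TwoS.Mx (o2 (centralizer ({z} : Set G) ⊓ centralizer ({e} : Set G))) A)
    (mv : ¬ A ≤ centralizer (W i : Set G)) {b : ι} (hb : cls b = i) :
    ∃ A : Subgroup G, KL.TwoS.Mx (o2 (centralizer (zc (S : Subgroup G) : Set G))) A ∧ ¬ A ≤ centralizer (N b : Set G) := by
  have hJ := inv_cls h hW hCM.inv i
  obtain ⟨c, hc⟩ : ∃ c : {c // cls c = i}, ¬ A ≤ centralizer (N c : Set G) := by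
    by_contra hcon
    push Not at hcon
    refine mv ?_
    rw [hW]
    exact comm_symm (iSup_le fun c => comm_symm (hcon c))
  have horb : ∃ y ∈ MZ (S : Subgroup G), MulAut.conj y • N c = N b := by
    refine orb_of_irr h {b | cls b = i} (fun X hX hn hne => ?_)
      (fun g hg b c hbc hb => hJ g hg b hb c hbc) c.2 hb
    have h1 := hCM.irr i X (by rw [hW]; exact hX) hn hne
    rw [hW] at h1
    exact h1
  obtain ⟨k, hk, hkb⟩ := tr_of h o hJ hz he horb
  have hkD : k ∈ centralizer ({z} : Set G) ⊓ centralizer ({e} : Set G) := mem_inf.2 ⟨hk.1.2, hk.2⟩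
  refine ⟨MulAut.conj k • A, mx_long ml hR.ctx (isLong_pair zz ez z1) (hA.conj ?_), fun h1 => hc ?_⟩
  · rintro _ ⟨a, ha, rfl⟩
    exact conj_of (le_normalizer_o2 _ hkD) (hA.le ha)
  · intro a ha
    rw [mem_centralizer_iff]
    intro n hn
    have h2 : k * a * k⁻¹ ∈ MulAut.conj k • A := (conj_smul rfl).1 ha
    have h3 : k * n * k⁻¹ ∈ N b := by
      rw [← hkb]
      exact (conj_smul rfl).1 hn
    have h4 := mem_centralizer_iff.1 (h1 h2) _ h3
    have e1 : k * n * k⁻¹ * (k * a * k⁻¹) = k * (n * a) * k⁻¹ := by group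
    have e2 : k * a * k⁻¹ * (k * n * k⁻¹) = k * (a * n) * k⁻¹ := by group
    rw [e1, e2] at h4
    exact mul_left_cancel (mul_right_cancel h4)

/-- `𝒜(O)` moves every block, over any block data with `HBad` -/
theorem allB_of (ml : MLK.{u, u}) (hR : RB S) {κ : Type u} {W : κ → Subgroup G} (hCM : CM (S : Subgroup G) W)
    (hij : ∃ i j : κ, i ≠ j) (hL : Left (S : Subgroup G) W) {ι : Type u} [Finite ι] {N E : ι → Subgroup G}
    {O : ι → Set G} {cls : ι → κ}
    (h : Dec (S : Subgroup G) (MZ (S : Subgroup G)) (Wd (S : Subgroup G)) N E ⊥)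
    (o : Orbs (MZ (S : Subgroup G)) N E O) (hW : ∀ k, W k = ⨆ b : {b // cls b = k}, N b)
    (hb : HBad (S : Subgroup G) N O) : AllB (S : Subgroup G) N := by
  intro b
  have hi : ∃ j, j ≠ cls b := by
    obtain ⟨i, j, hij⟩ := hij
    by_cases hi : i = cls b
    · exact ⟨j, fun e => hij (by rw [hi, e])⟩
    · exact ⟨i, hi⟩
  obtain ⟨z, hz, e, he, h1, h2, A, hA, mv⟩ := exists_fs_left hR hCM hL h o hW hb (cls b) hi
  exact move_of ml hR hCM h o hW hz he h1.mem.2 h2.mem.2 h1.ne hA mv rfl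

/-- **socket `LeftAll` of WideTree v5**, from `bad` for natural blocks -/
theorem leftAll_of (ml : MLK.{u, u}) (B : Fr.{u})
    (hb : ∀ (G : Type u) [Group G] [Finite G] (S : Sylow 2 G), B G S → Wide S →
      ∀ (κ : Type u) [Finite κ] (N E D l : κ → Subgroup G) (q : κ → ℕ), NBs (S : Subgroup G) N E D l q →
        Src (S : Subgroup G) N l q → HBad (S : Subgroup G) N (fun b => {x | x ∈ N b ∧ x ≠ 1})) :
    LeftAll B := by
  intro G _ _ S hB hW _ ι _ W hCM hij hL κ _ N E D l q side hN hsrc hfit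
  exact allB_of ml hW.toRB hCM hij hL hN.dec (nbs_orbs hN) (fun k => hfit k) (hb G S hB hW κ N E D l q hN hsrc)

end Cfsg.Agent.Omega.NOThreeL.RRed.LeftAllOf

end

section


/-!
# LEMMA E in coordinates (#24934, #27311 (3)), helper863

`N ≅ F²` (`e`), `A` acts on `N` as the full root group `up β`; `d` of odd order normalises `N`, `A^d` acts by root
elements, `d` fixes some `z ≠ 1` in `N` which `A` centralises, and `[a, d]` commutes with `[d, w]` for `a ∈ A`, `w ∈ N`: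
then `d` centralises `N`.
-/

set_option autoImplicit false

namespace Cfsg.Agent.Omega.NOThreeL.RRed.LemmaE

open Subgroup

universe u

variable {G : Type u} [Group G] {F : Type} [Field F]

/-- `a` acts on `N` as `up β` -/
def Up (N : Subgroup G) (e : G → Fin 2 → F) (a : G) (β : F) : Prop :=
  ∀ v ∈ N, e (a * v * a⁻¹) = ![e v 0 + β * e v 1, e v 1]

variable {N : Subgroup G} {e : G → Fin 2 → F} (mul : ∀ v ∈ N, ∀ w ∈ N, e (v * w) = e v + e w)
  (inj : ∀ v ∈ N, e v = 0 → v = 1)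

include mul in
theorem e_one : e 1 = 0 := by
  have h := mul 1 (one_mem _) 1 (one_mem _)
  rw [mul_one] at h
  exact left_eq_add.1 h

include mul in
theorem e_inv {v : G} (hv : v ∈ N) : e v⁻¹ = - e v := by
  have h := mul v hv v⁻¹ (inv_mem hv)
  rw [mul_inv_cancel, e_one mul] at h
  exact (neg_eq_of_add_eq_zero_right h.symm).symm

include mul inj in
theorem e_inj {v w : G} (hv : v ∈ N) (hw : w ∈ N) (h : e v = e w) : v = w := by
  have h1 := inj (v * w⁻¹) (mul_mem hv (inv_mem hw)) (by rw [mul v hv _ (inv_mem hw), e_inv mul hw, h, add_neg_cancel])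
  exact mul_inv_eq_one.1 h1

include mul in
theorem e_pow {v : G} (hv : v ∈ N) (n : ℕ) : e (v ^ n) = n • e v := by
  induction n with
  | zero => rw [pow_zero, zero_smul, e_one mul]
  | succ n ih => rw [pow_succ, mul _ (pow_mem hv n) _ hv, ih, succ_nsmul]

/-- **LEMMA E.** -/
theorem mem_cent [CharP F 2] [Finite G] (mul : ∀ v ∈ N, ∀ w ∈ N, e (v * w) = e v + e w)
    (inj : ∀ v ∈ N, e v = 0 → v = 1) (sur : ∀ x, ∃ v ∈ N, e v = x) {A : Subgroup G}
    (AN : A ≤ normalizer (N : Set G)) (all : ∀ β, ∃ a ∈ A, Up N e a β) {d : G} (dN : d ∈ normalizer (N : Set G))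
    (act' : ∀ a ∈ A, ∃ β, Up N e (d * a * d⁻¹) β) (hodd : Odd (orderOf d)) {z : G} (hz : z ∈ N) (hz1 : z ≠ 1)
    (dz : d * z * d⁻¹ = z) (zA : ∀ a ∈ A, a * z * a⁻¹ = z)
    (comm : ∀ a ∈ A, ∀ w ∈ N, (a * d * a⁻¹ * d⁻¹) * (d * w * d⁻¹ * w⁻¹) =
      (d * w * d⁻¹ * w⁻¹) * (a * d * a⁻¹ * d⁻¹)) : d ∈ centralizer (N : Set G) := by
  classical
  have dn : ∀ v ∈ N, d * v * d⁻¹ ∈ N := fun v hv => (mem_normalizer_iff.1 dN v).1 hv
  have an : ∀ a ∈ A, ∀ v ∈ N, a * v * a⁻¹ ∈ N := fun a ha v hv => (mem_normalizer_iff.1 (AN ha) v).1 hv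
  -- (ii) the line is `d`-invariant
  have hl : ∀ v ∈ N, e v 1 = 0 → e (d * v * d⁻¹) 1 = 0 := by
    intro v hv h0
    obtain ⟨a, ha, hup⟩ := all 1
    obtain ⟨β, hβ⟩ := act' a ha
    have hβ0 : β ≠ 0 := by
      rintro rfl
      obtain ⟨w, hw, hw'⟩ := sur ![0, 1]
      have h1 := hβ _ (dn w hw)
      rw [zero_mul, add_zero] at h1
      have h2 : e (d * a * d⁻¹ * (d * w * d⁻¹) * (d * a * d⁻¹)⁻¹) = e (d * w * d⁻¹) := by
        rw [h1]; funext i; fin_cases i <;> rfl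
      have e1 : d * a * d⁻¹ * (d * w * d⁻¹) * (d * a * d⁻¹)⁻¹ = d * (a * w * a⁻¹) * d⁻¹ := by group
      rw [e1] at h2
      have h3 := e_inj mul inj (dn _ (an a ha w hw)) (dn w hw) h2
      have h4 : a * w * a⁻¹ = w := mul_left_cancel (mul_right_cancel h3)
      have h5 := congrFun (hup w hw) 0
      rw [h4, hw'] at h5
      simp at h5
    have h1 : a * v * a⁻¹ = v := by
      refine e_inj mul inj (an a ha v hv) hv ?_
      rw [hup v hv, h0]
      funext i
      fin_cases i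
      · simp
      · simpa using h0.symm
    have h2 := congrFun (hβ _ (dn v hv)) 0
    have e1 : d * a * d⁻¹ * (d * v * d⁻¹) * (d * a * d⁻¹)⁻¹ = d * (a * v * a⁻¹) * d⁻¹ := by group
    rw [e1, h1] at h2
    have h3 : β * e (d * v * d⁻¹) 1 = 0 := by
      have h4 : e (d * v * d⁻¹) 0 = e (d * v * d⁻¹) 0 + β * e (d * v * d⁻¹) 1 := h2
      exact (left_eq_add.1 h4)
    exact (mul_eq_zero.1 h3).resolve_left hβ0
  choose s hsN hs using sur
  set mu : F → F := fun x => e (d * s ![0, x] * d⁻¹) 1 with hmu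
  set la : F → F := fun x => e (d * s ![x, 0] * d⁻¹) 0 with hla
  have hla' : ∀ v ∈ N, e v 1 = 0 → e (d * v * d⁻¹) 0 = la (e v 0) := by
    intro v hv h0
    have h1 : v = s ![e v 0, 0] := by
      refine e_inj mul inj hv (hsN _) ?_
      rw [hs]
      funext i
      fin_cases i
      · rfl
      · exact h0
    rw [hla]
    show e (d * v * d⁻¹) 0 = e (d * s ![e v 0, 0] * d⁻¹) 0
    rw [← h1]
  have hmu' : ∀ v ∈ N, e (d * v * d⁻¹) 1 = mu (e v 1) := by
    intro v hv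
    have h1 : v = s ![e v 0, 0] * s ![0, e v 1] := by
      refine e_inj mul inj hv (mul_mem (hsN _) (hsN _)) ?_
      rw [mul _ (hsN _) _ (hsN _), hs, hs]
      funext i
      fin_cases i <;> simp
    have h2 : d * v * d⁻¹ = (d * s ![e v 0, 0] * d⁻¹) * (d * s ![0, e v 1] * d⁻¹) := by
      conv_lhs => rw [h1]
      group
    rw [h2, mul _ (dn _ (hsN _)) _ (dn _ (hsN _)), Pi.add_apply, hl _ (hsN _) (by rw [hs]; rfl), zero_add]
  -- (iv)
  have rel : ∀ β, ∃ β', (∀ x, la (β * x) = β' * mu x) ∧ ∀ x, (β - β') * (mu x - x) = 0 := by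
    intro β
    obtain ⟨a, ha, hup⟩ := all β
    obtain ⟨β', hβ'⟩ := act' a ha
    refine ⟨β', fun x => ?_, fun x => ?_⟩
    · set v := s ![0, x] with hv
      have hvN : v ∈ N := hsN _
      have hv0 : e v 0 = 0 := by rw [hv, hs]; rfl
      have hv1 : e v 1 = x := by rw [hv, hs]; rfl
      set n := a * v * a⁻¹ * v⁻¹ with hn
      have hnN : n ∈ N := mul_mem (an a ha v hvN) (inv_mem hvN)
      have hen : e n = ![β * x, 0] := by
        rw [hn, mul _ (an a ha v hvN) _ (inv_mem hvN), e_inv mul hvN, hup v hvN]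
        funext i
        fin_cases i
        · simp [hv1]
        · simp
      have h1 := hβ' _ (dn v hvN)
      have e1 : d * a * d⁻¹ * (d * v * d⁻¹) * (d * a * d⁻¹)⁻¹ = (d * n * d⁻¹) * (d * v * d⁻¹) := by
        rw [hn]; group
      rw [e1, mul _ (dn _ hnN) _ (dn _ hvN)] at h1
      have h2 := congrFun h1 0
      have h3 : e (d * n * d⁻¹) 0 + e (d * v * d⁻¹) 0 = e (d * v * d⁻¹) 0 + β' * e (d * v * d⁻¹) 1 := h2
      rw [hla' n hnN (by rw [hen]; rfl), hmu' v hvN, hen, hv1, add_comm] at h3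
      exact add_left_cancel h3
    · set w := s ![0, x] with hw
      have hwN : w ∈ N := hsN _
      have hw1 : e w 1 = x := by rw [hw, hs]; rfl
      set y := d * w * d⁻¹ * w⁻¹ with hy
      have hyN : y ∈ N := mul_mem (dn w hwN) (inv_mem hwN)
      have hy1 : e y 1 = mu x - x := by
        rw [hy, mul _ (dn w hwN) _ (inv_mem hwN), e_inv mul hwN, Pi.add_apply, hmu' w hwN, Pi.neg_apply, hw1]
        ring
      have hc := comm a ha w hwN
      rw [← hy] at hc
      set y' := a⁻¹ * y * a with hy'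
      have hy'N : y' ∈ N := by
        have := an a⁻¹ (inv_mem ha) y hyN
        rwa [inv_inv] at this
      have h1 : a * y' * a⁻¹ = y := by rw [hy']; group
      have h2 : d * a * d⁻¹ * y' * (d * a * d⁻¹)⁻¹ = y := by
        have h3 : (a * d * a⁻¹ * d⁻¹) * y * (a * d * a⁻¹ * d⁻¹)⁻¹ = y := by rw [hc]; group
        have h4 : d * a⁻¹ * d⁻¹ * y * (d * a * d⁻¹) = y' := by
          have e2 : (a * d * a⁻¹ * d⁻¹) * y * (a * d * a⁻¹ * d⁻¹)⁻¹ = a * (d * a⁻¹ * d⁻¹ * y * (d * a * d⁻¹)) * a⁻¹ := by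
            group
          rw [e2] at h3
          calc d * a⁻¹ * d⁻¹ * y * (d * a * d⁻¹) = a⁻¹ * (a * (d * a⁻¹ * d⁻¹ * y * (d * a * d⁻¹)) * a⁻¹) * a := by
                group
            _ = a⁻¹ * y * a := by rw [h3]
        rw [← h4]
        group
      have h5 := hup y' hy'N
      have h6 := hβ' y' hy'N
      rw [h1] at h5
      rw [h2, h5] at h6
      have h7 := congrFun h6 0
      have h8 : e y' 0 + β * e y' 1 = e y' 0 + β' * e y' 1 := h7
      have h9 : e y' 1 = mu x - x := by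
        have h10 := congrFun h5 1
        rw [← hy1]
        exact h10.symm
      rw [h9] at h8
      have h11 := add_left_cancel h8
      rw [sub_mul, h11, sub_self]
  -- `z`
  have hz1' : e z 1 = 0 := by
    obtain ⟨a, ha, hup⟩ := all 1
    have h1 := congrFun (hup z hz) 0
    rw [zA a ha] at h1
    have h2 : e z 0 = e z 0 + 1 * e z 1 := h1
    rw [one_mul] at h2
    exact left_eq_add.1 h2
  have hz0 : e z 0 ≠ 0 := fun h0 => hz1 (inj z hz (by funext i; fin_cases i; exacts [h0, hz1']))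
  have hlz : la (e z 0) = e z 0 := by rw [← hla' z hz hz1', dz]
  set ζ := e z 0 with hζ
  -- (vi)
  have hmuid : ∀ x, mu x = x := by
    by_contra hcon
    push Not at hcon
    obtain ⟨x, hx⟩ := hcon
    have hb : ∀ β y, la (β * y) = β * mu y := fun β y => by
      obtain ⟨β', h1, h2⟩ := rel β
      have h3 := (mul_eq_zero.1 (h2 x)).resolve_right (sub_ne_zero.2 hx)
      rw [h1, sub_eq_zero.1 h3]
    have h1 : mu 1 = 1 := by
      have h2 := hb ζ 1
      rw [mul_one, hlz] at h2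
      exact mul_left_cancel₀ hz0 (by rw [← h2, mul_one])
    have h2 : ∀ β, la β = β := fun β => by
      have := hb β 1
      rwa [mul_one, h1, mul_one] at this
    have h3 := hb 1 x
    rw [one_mul, one_mul, h2] at h3
    exact hx h3.symm
  have hlaid : ∀ x, la x = x := by
    intro x
    obtain ⟨β', h1, -⟩ := rel ζ
    have h2 := h1 1
    rw [mul_one, hlz, hmuid, mul_one] at h2
    have h3 := h1 (ζ⁻¹ * x)
    rw [mul_inv_cancel_left₀ hz0, hmuid, ← h2, mul_inv_cancel_left₀ hz0] at h3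
    exact h3
  -- (vii)
  rw [mem_centralizer_iff]
  intro w hw
  set n := d * w * d⁻¹ * w⁻¹ with hn
  have hnN : n ∈ N := mul_mem (dn w hw) (inv_mem hw)
  have hn1 : e n 1 = 0 := by
    rw [hn, mul _ (dn w hw) _ (inv_mem hw), e_inv mul hw, Pi.add_apply, hmu' w hw, hmuid, Pi.neg_apply, add_neg_cancel]
  have hdn : d * n * d⁻¹ = n := by
    refine e_inj mul inj (dn n hnN) hnN ?_
    funext i
    fin_cases i
    · show e (d * n * d⁻¹) 0 = e n 0
      rw [hla' n hnN hn1, hlaid]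
    · show e (d * n * d⁻¹) 1 = e n 1
      rw [hmu' n hnN, hmuid]
  have hpow : ∀ k : ℕ, d ^ k * w * (d ^ k)⁻¹ = n ^ k * w := by
    intro k
    induction k with
    | zero => simp
    | succ k ih =>
      have h1 : d ^ (k + 1) * w * (d ^ (k + 1))⁻¹ = d * (d ^ k * w * (d ^ k)⁻¹) * d⁻¹ := by
        rw [pow_succ']; group
      have h2 : d * (n ^ k) * d⁻¹ = n ^ k := by
        rw [← conj_pow, hdn]
      have h3 : d * w * d⁻¹ = n * w := by rw [hn]; group
      calc d ^ (k + 1) * w * (d ^ (k + 1))⁻¹ = d * (n ^ k * w) * d⁻¹ := by rw [h1, ih]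
        _ = (d * n ^ k * d⁻¹) * (d * w * d⁻¹) := by group
        _ = n ^ (k + 1) * w := by rw [h2, h3, pow_succ]; exact (mul_assoc _ _ _).symm
  have h1 := hpow (orderOf d)
  rw [pow_orderOf_eq_one, one_mul, inv_one, mul_one] at h1
  have h2 : n ^ orderOf d = 1 := (right_eq_mul.1 h1)
  have h3 : e n = 0 := by
    have h4 := e_pow mul hnN (orderOf d)
    rw [h2, e_one mul] at h4
    obtain ⟨m, hm⟩ := hodd
    rw [hm] at h4
    funext i
    have h5 := congrFun h4 i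
    rw [Pi.zero_apply, Pi.smul_apply, nsmul_eq_mul, Nat.cast_add, Nat.cast_mul, Nat.cast_ofNat,
      CharTwo.two_eq_zero, zero_mul, zero_add, Nat.cast_one, one_mul] at h5
    rw [← h5, Pi.zero_apply]
  have h6 := inj n hnN h3
  rw [hn, mul_inv_eq_one, mul_inv_eq_iff_eq_mul] at h6
  exact h6.symm

end Cfsg.Agent.Omega.NOThreeL.RRed.LemmaE

end

end

-- merged: Cfsg.Agent.Mrg.Omega.NOThreeL.RRed.HBadNat
section

section


/-!
# Box R: `bad` for natural blocks (#26668, #27311), helper314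

* `At S N A e` : `A ≤ S` is a minimal exact offender of `V*` with `[V*, A] ≤ N` which acts on the natural block `N`
  (coordinates `e`) as the full root group, and every minimal exact offender in `S` which moves `N` acts on `N` by root
  elements; `exists_at` : from `Src.mov`;
* `at_of` : for a block of an active natural `P` with trivial radical;
* `At.cent` : one block, abstract `Dec`;
* `perm_of` : `⟨M₀, N_G(S)⟩` permutes the blocks;
* **`bad_nat`** : `BadG` for every set `J` of blocks and every `z ∈ Z` with non-trivial components in the blocks of `J`;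
* **`hBad_nat`** : `HBad S N {N b - 1}`.
-/

set_option autoImplicit false
set_option linter.unusedSectionVars false

namespace Cfsg.Agent.Omega.NOThreeL.RRed.HBadNat

open Subgroup Cfsg Cfsg.Agent.ZN Cfsg.Agent.ZN.ChoiceBase Cfsg.Agent.Omega.MinPar
open Cfsg.Agent.Omega.FFThm Cfsg.Agent.Lib.SL2Mat
open Cfsg.Agent.Omega.FrameFF (cv)
open Cfsg.Agent.Omega.NO3S.ThmB Cfsg.Agent.Omega.NO3S.KeyRad
open Cfsg.Agent.Omega.NOThreeL.RRed.NS hiding rt
open Cfsg.Agent.Omega.NOThreeL.RRed.WideTree (Act MvAct NBs Src BadG QQ)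
open Cfsg.Agent.Omega.NOThreeL.RTree (RB)
open Cfsg.Agent.Omega.NOThreeL.Merge (MZ le_MZ isLoc_MZ)
open Cfsg.Agent.Omega.NOThreeL.RRed.Blk (Dec IsC Co conj_of conj_smul FSup InvJ)
open Cfsg.Agent.Omega.NOThreeL.RRed.LemmaE (Up)
open scoped Pointwise

universe u v

variable {G : Type u} [Group G]

/-- `A` is the root group of the natural block `N`. -/
structure At (S N A : Subgroup G) {F : Type} [Field F] (e : G → Fin 2 → F) : Prop where
  AS : A ≤ S
  mx : Mx (Wd S) A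
  mul : ∀ v ∈ N, ∀ w ∈ N, e (v * w) = e v + e w
  inj : ∀ v ∈ N, e v = 0 → v = 1
  sur : ∀ x, ∃ v ∈ N, e v = x
  AN : A ≤ normalizer (N : Set G)
  all : ∀ β, ∃ a ∈ A, Up N e a β
  com : ∀ a ∈ A, ∀ v ∈ Wd S, a * v * a⁻¹ * v⁻¹ ∈ N
  oth : ∀ A' ≤ S, Mx (Wd S) A' → ¬ A' ≤ centralizer (N : Set G) → ∀ a ∈ A', ∃ β, Up N e a β

variable [Finite G] {S : Sylow 2 G} {ι : Type u} {N E D l : ι → Subgroup G} {q : ι → ℕ}

/-- **the root group of a block of an active `P`** -/
theorem at_of (B : RB S) {P : Subgroup G} (a : Act (S : Subgroup G) P) {F : Type} [Field F] [Finite F] [CharP F 2]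
    {k : ℕ} {M : NatKM F (S : Subgroup G) P (zl (S : Subgroup G) P) (cv (S : Subgroup G) P) k} (h : Nb M)
    (hD : ∀ i, DD M i = ⊥) (j : Fin k) :
    ∃ A : Subgroup G, At (S : Subgroup G) (blk M j) A (fun v => M.e v j) := by
  obtain ⟨A₀, hA₀⟩ := Blk.AsmMv.EP_ne B a
  have hP := a.1
  have hL := isLoc_MZ B.ctx B.full B.data.noff
  have hPL : P ≤ MZ (S : Subgroup G) := le_MZ hP
  have hPU := par_le_norm hP
  have hU2 := elem_Wd B
  have hVU : zl (S : Subgroup G) P ≤ Wd (S : Subgroup G) := Star.zl_mono _ hPL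
  have no := Blk.AsmMv.no_of B a
  have t₀ : Tt (Wd (S : Subgroup G)) A₀ := tt_of_mx hA₀.1.2 no (hA₀.1.1.trans hL.le)
  obtain ⟨i, O₀⟩ := t₀.one h hU2 hVU hA₀.1.1 hA₀.2
  obtain ⟨s, hsS, hAS, t, O⟩ := exists_cj h hU2 hVU hPU hA₀.1.1 t₀ O₀ j
  have hmx : Mx (Wd (S : Subgroup G)) (ChoiceBase.cj s A₀) := CI.mx_conj hA₀.1.2 (hPU (hP.le hsS))
  have hBV := blk_le h j
  have hup : ∀ x ∈ P, ∀ β, ActsSL M.e (zl (S : Subgroup G) P) (cv (S : Subgroup G) P) x (sg j (up β)) →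
      Up (blk M j) (fun v => M.e v j) x β := by
    intro x _ β hx v hv
    show M.e (x * v * x⁻¹) j = ![M.e v j 0 + β * M.e v j 1, M.e v j 1]
    rw [hx.1 v (hBV hv) j, sg_self]
    exact vec_eq (by rw [ap_up_0]; rfl) (by rw [ap_up_1]; rfl)
  have hcj : ∀ x ∈ ChoiceBase.cj s A₀, ∀ v ∈ blk M j, x * v * x⁻¹ ∈ blk M j := by
    intro x hx v hv
    obtain ⟨β, hβ⟩ := O.act x hx
    have h1 := mem_blk (h.SP' (hAS hx)) hβ (hBV hv)
    have e1 : x * v * x⁻¹ = x * v * x⁻¹ * v⁻¹ * v := by group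
    rw [e1]
    exact mul_mem h1 hv
  exact ⟨ChoiceBase.cj s A₀,
    { AS := hAS
      mx := hmx
      mul := fun v hv w hw => by
        show M.e (v * w) j = M.e v j + M.e w j
        rw [M.mul v (hBV hv) w (hBV hw)]; rfl
      inj := fun v hv h0 => by
        have h1 : v ∈ DD M j := (mem_DD h hv).2 h0
        rw [hD j] at h1
        exact mem_bot.1 h1
      sur := fun x => exists_blk_e h j x
      AN := fun x hx => mem_normalizer_iff.2 fun v => ⟨fun hv => hcj x hx v hv, fun hv => by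
        have h1 := hcj x⁻¹ (inv_mem hx) _ hv
        have e1 : x⁻¹ * (x * v * x⁻¹) * x⁻¹⁻¹ = v := by group
        rwa [e1] at h1⟩
      all := fun β => by
        obtain ⟨x, hx, hxa⟩ := O.all β
        exact ⟨x, hx, hup x (h.SP' (hAS hx)) β hxa⟩
      com := fun x hx v hv => by
        obtain ⟨y, hy, -, c, -, hxc, rfl⟩ := O.full v hv
        obtain ⟨β, hβ⟩ := O.act x hx
        have h1 := mem_blk (h.SP' (hAS hx)) hβ hy
        have e1 : x * (y * c) * x⁻¹ * (y * c)⁻¹ = x * y * x⁻¹ * y⁻¹ := by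
          calc x * (y * c) * x⁻¹ * (y * c)⁻¹ = x * y * x⁻¹ * (x * c) * x⁻¹ * c⁻¹ * y⁻¹ := by group
            _ = x * y * x⁻¹ * (c * x) * x⁻¹ * c⁻¹ * y⁻¹ := by rw [hxc x hx]
            _ = x * y * x⁻¹ * y⁻¹ := by group
        rw [e1]
        exact h1
      oth := fun A' hA' hm hn x hx => by
        have t' : Tt (Wd (S : Subgroup G)) A' := tt_of_mx hm no (hA'.trans hL.le)
        have hne : ¬ A' ≤ centralizer (zl (S : Subgroup G) P : Set G) := fun h1 =>
          hn (h1.trans (centralizer_le hBV))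
        obtain ⟨i', O'⟩ := t'.one h hU2 hVU hA' hne
        have hi : i' = j := by
          by_contra hij
          refine hn fun y hy => mem_centralizer_iff.2 fun v hv => ?_
          obtain ⟨β, hβ⟩ := O'.act y hy
          exact (cent_sg h (h.SP' (hA' hy)) hβ (hBV hv) (e_blk h hij hv)).symm
        subst hi
        obtain ⟨β, hβ⟩ := O'.act x hx
        exact ⟨β, hup x (h.SP' (hA' hx)) β hβ⟩ }⟩

/-- **the root group of a block** -/
theorem exists_at (B : RB S) (hs : Src (S : Subgroup G) N l q) (b : ι) :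
    ∃ (F : Type) (_ : Field F) (_ : CharP F 2) (e : G → Fin 2 → F) (A : Subgroup G),
      At (S : Subgroup G) (N b) A e := by
  obtain ⟨P, a, F, i1, i2, i3, k, hk, M, h, hD, ⟨j, hN, -, -⟩, -⟩ := hs.mov b
  obtain ⟨A, hA⟩ := at_of B a h hD j
  exact ⟨F, i1, i3, _, A, by rw [hN]; exact hA⟩

namespace At

variable {κ : Type v} {N E : κ → Subgroup G} {b : κ} {A : Subgroup G} {F : Type} [Field F] {e : G → Fin 2 → F}
  (t : At (S : Subgroup G) (N b) A e) (h : Dec (S : Subgroup G) (MZ (S : Subgroup G)) (Wd (S : Subgroup G)) N E ⊥)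
include t h

/-- the other blocks are centralised -/
theorem cent_oth {c : κ} (hc : c ≠ b) : A ≤ centralizer (N c : Set G) := by
  intro a ha
  rw [mem_centralizer_iff]
  intro x hx
  have haL : a ∈ MZ (S : Subgroup G) := h.SL (t.AS ha)
  obtain ⟨c', hc', -⟩ := h.perm a haL c
  have hy : a * x * a⁻¹ ∈ N c' := (conj_smul hc').1 hx
  have hyb : a * x * a⁻¹ * x⁻¹ ∈ N b := t.com a ha x (h.NU c hx)
  have key : a * x * a⁻¹ = x := by
    by_cases hcc : c' = c
    · rw [hcc] at hy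
      have h1 : a * x * a⁻¹ * x⁻¹ ∈ N b ⊓ Co N ⊥ b :=
        mem_inf.2 ⟨hyb, h.N_le_Co hc (mul_mem hy (inv_mem hx))⟩
      rw [show N b ⊓ Co N ⊥ b = ⊥ from h.ind b, mem_bot] at h1
      exact mul_inv_eq_one.1 h1
    · have h1 : IsC N ⊥ c (a * x * a⁻¹) 1 := h.comp_ne hcc hy
      have h2 : IsC N ⊥ c (a * x * a⁻¹ * x⁻¹) 1 := h.comp_ne hc.symm hyb
      have h3 : IsC N ⊥ c x x := h.comp_self hx
      have h4 := h.comp_mul h2 h3
      have e1 : a * x * a⁻¹ * x⁻¹ * x = a * x * a⁻¹ := by group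
      rw [e1, one_mul] at h4
      have h5 : x = 1 := h.uniq h4 h1
      rw [h5]; group
  exact (mul_inv_eq_iff_eq_mul.1 key).symm

theorem cent_Co : A ≤ centralizer (Co N ⊥ b : Set G) := by
  intro a ha
  rw [mem_centralizer_iff]
  have h1 : Co N ⊥ b ≤ centralizer ({a} : Set G) := by
    unfold Co
    refine sup_le (iSup_le fun c x hx => ?_) bot_le
    rw [mem_centralizer_singleton_iff]
    exact mem_centralizer_iff.1 (t.cent_oth h c.2 ha) x hx
  exact fun x hx => mem_centralizer_singleton_iff.1 (h1 hx)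

/-- **one block**: `d` of odd order permutes the blocks, `[[T, d], [N b, d]] = 1`, `d` fixes `z ∈ Z` with a non-trivial
component in `N b`: then `d` centralises `N b`. -/
theorem cent {d : G} (p1 : ∀ b, ∃ c, MulAut.conj d • N b = N c) (p2 : ∀ b, ∃ c, MulAut.conj d⁻¹ • N b = N c)
    (hdW : d ∈ normalizer (Wd (S : Subgroup G) : Set G)) {T : Subgroup G} (hTS : T ≤ (S : Subgroup G)) (hAT : A ≤ T)
    (hdT : d ∈ normalizer (T : Set G)) (hodd : Odd (orderOf d))
    (hcom : ∀ j ∈ T, ∀ w ∈ N b,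
      (j * d * j⁻¹ * d⁻¹) * (d * w * d⁻¹ * w⁻¹) = (d * w * d⁻¹ * w⁻¹) * (j * d * j⁻¹ * d⁻¹))
    {z : G} (hdz : d * z = z * d) (hzc : z ∈ zc (S : Subgroup G))
    (hz : ∃ n ∈ {x | x ∈ N b ∧ x ≠ 1}, IsC N ⊥ b z n) [CharP F 2] : d ∈ centralizer (N b : Set G) := by
  -- `d` normalises `N b`
  have hdb : MulAut.conj d • N b = N b := by
    obtain ⟨c, hc⟩ := p1 b
    by_cases hcb : c = b
    · rw [hc, hcb]
    exfalso
    obtain ⟨a, ha, hup⟩ := t.all 1
    obtain ⟨w, hw, hwe⟩ := t.sur ![0, 1]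
    -- `d a⁻¹ d⁻¹` centralises `N b`
    have hcd : ∀ x ∈ N b, (d * a⁻¹ * d⁻¹) * x * (d * a⁻¹ * d⁻¹)⁻¹ = x := by
      intro x hx
      obtain ⟨b', hb'⟩ := p2 b
      have hb'b : b' ≠ b := by
        intro h3
        rw [h3] at hb'
        apply hcb
        have h4 : MulAut.conj d • N b = N b := by
          conv_lhs => rw [← hb']
          rw [← mul_smul, ← map_mul, mul_inv_cancel, map_one, one_smul]
        exact h.Ninj (by rw [← hc, h4])
      have h1 : d⁻¹ * x * d ∈ N b' := by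
        have := (conj_smul hb').1 hx
        rwa [inv_inv] at this
      have h2 := mem_centralizer_iff.1 (t.cent_oth h hb'b (inv_mem ha)) _ h1
      calc (d * a⁻¹ * d⁻¹) * x * (d * a⁻¹ * d⁻¹)⁻¹ = d * (a⁻¹ * (d⁻¹ * x * d)) * a * d⁻¹ := by group
        _ = d * ((d⁻¹ * x * d) * a⁻¹) * a * d⁻¹ := by rw [h2]
        _ = x := by group
    set y := d * w * d⁻¹ with hy
    have hyc : y ∈ N c := (conj_smul hc).1 hw
    have hyn : (d * a⁻¹ * d⁻¹) * y * (d * a⁻¹ * d⁻¹)⁻¹ ∈ N c := by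
      have h1 : a⁻¹ * w * a⁻¹⁻¹ ∈ N b := conj_of (t.AN (inv_mem ha)) hw
      have h2 := (conj_smul hc).1 h1
      have e1 : (d * a⁻¹ * d⁻¹) * y * (d * a⁻¹ * d⁻¹)⁻¹ = d * (a⁻¹ * w * a⁻¹⁻¹) * d⁻¹ := by rw [hy]; group
      rw [e1]
      exact h2
    set y' := (d * a⁻¹ * d⁻¹) * y * (d * a⁻¹ * d⁻¹)⁻¹ with hy'
    have hay : a * y' * a⁻¹ = y' := Blk.cent (t.cent_oth h hcb ha) hyn
    have h1 := hcom a (hAT ha) w hw
    have h2 : (a * d * a⁻¹ * d⁻¹) * (y * w⁻¹) * (a * d * a⁻¹ * d⁻¹)⁻¹ = y * w⁻¹ := by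
      rw [hy, h1]; group
    have h3 : (a * d * a⁻¹ * d⁻¹) * (y * w⁻¹) * (a * d * a⁻¹ * d⁻¹)⁻¹ = y' * (a * w⁻¹ * a⁻¹) := by
      have h4 := hcd w⁻¹ (inv_mem hw)
      calc (a * d * a⁻¹ * d⁻¹) * (y * w⁻¹) * (a * d * a⁻¹ * d⁻¹)⁻¹
          = a * (((d * a⁻¹ * d⁻¹) * y * (d * a⁻¹ * d⁻¹)⁻¹) *
              ((d * a⁻¹ * d⁻¹) * w⁻¹ * (d * a⁻¹ * d⁻¹)⁻¹)) * a⁻¹ := by group
        _ = a * (y' * w⁻¹) * a⁻¹ := by rw [h4]
        _ = (a * y' * a⁻¹) * (a * w⁻¹ * a⁻¹) := by group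
        _ = y' * (a * w⁻¹ * a⁻¹) := by rw [hay]
    have haw : a * w⁻¹ * a⁻¹ ∈ N b := conj_of (t.AN ha) (inv_mem hw)
    have h5 : IsC N ⊥ b (y' * (a * w⁻¹ * a⁻¹)) (1 * (a * w⁻¹ * a⁻¹)) :=
      h.comp_mul (h.comp_ne hcb hyn) (h.comp_self haw)
    have h6 : IsC N ⊥ b (y * w⁻¹) (1 * w⁻¹) := h.comp_mul (h.comp_ne hcb hyc) (h.comp_self (inv_mem hw))
    rw [← h3, h2] at h5
    have h7 : a * w⁻¹ * a⁻¹ = w⁻¹ := by
      have := h.uniq h5 h6
      rwa [one_mul, one_mul] at this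
    have h8 : a * w * a⁻¹ = w := by
      have e1 : a * w * a⁻¹ = (a * w⁻¹ * a⁻¹)⁻¹ := by group
      rw [e1, h7, inv_inv]
    have h9 := congrFun (hup w hw) 0
    rw [h8, hwe] at h9
    simp at h9
  have hdN : d ∈ normalizer (N b : Set G) := by
    rw [mem_normalizer_iff]
    exact fun x => conj_smul hdb
  -- the component of `z`
  obtain ⟨n, ⟨hnN, hn1⟩, hnc⟩ := hz
  have hdCo : ∀ x ∈ Co N ⊥ b, d * x * d⁻¹ ∈ Co N ⊥ b := by
    have h1 : Co N ⊥ b ≤ (Co N ⊥ b).comap (MulAut.conj d).toMonoidHom := by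
      conv_lhs => unfold Co
      refine sup_le (iSup_le fun c x hx => ?_) bot_le
      obtain ⟨c', hc'⟩ := p1 c.1
      have hne : c' ≠ b := by
        rintro rfl
        refine c.2 (h.Ninj (smul_left_cancel (MulAut.conj d) ?_))
        rw [hc', hdb]
      exact mem_comap.2 (h.N_le_Co hne ((conj_smul hc').1 hx))
    exact fun x hx => h1 hx
  have dz : d * z * d⁻¹ = z := by
    rw [mul_inv_eq_iff_eq_mul]
    exact hdz
  have dn : d * n * d⁻¹ = n := by
    refine h.uniq (b := b) (x := z) ?_ hnc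
    refine ⟨conj_of hdN hnN, ?_⟩
    have e1 : (d * n * d⁻¹)⁻¹ * z = d * (n⁻¹ * z) * d⁻¹ := by
      calc (d * n * d⁻¹)⁻¹ * z = (d * n * d⁻¹)⁻¹ * (d * z * d⁻¹) := by rw [dz]
        _ = d * (n⁻¹ * z) * d⁻¹ := by group
    rw [e1]
    exact hdCo _ hnc.2
  have nA : ∀ a ∈ A, a * n * a⁻¹ = n := by
    intro a ha
    have h1 : a * z = z * a := (ChoiceBase.mem_zc.1 hzc).2.2 a (t.AS ha)
    have h2 : a * (n⁻¹ * z) = n⁻¹ * z * a := (mem_centralizer_iff.1 (t.cent_Co h ha) _ hnc.2).symm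
    have h3 : a * n * a⁻¹ * (n⁻¹ * z) = z := by
      calc a * n * a⁻¹ * (n⁻¹ * z) = a * n * a⁻¹ * (n⁻¹ * z * a) * a⁻¹ := by group
        _ = a * n * a⁻¹ * (a * (n⁻¹ * z)) * a⁻¹ := by rw [h2]
        _ = (a * z) * a⁻¹ := by group
        _ = z := by rw [h1]; group
    have h4 : a * n * a⁻¹ = z * (n⁻¹ * z)⁻¹ := eq_mul_inv_of_mul_eq h3
    rw [h4]; group
  -- the conjugate of `A`
  have act' : ∀ a ∈ A, ∃ β, Up (N b) e (d * a * d⁻¹) β := by
    have h1 : ChoiceBase.cj d A ≤ T := by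
      intro x hx
      rw [ChoiceBase.mem_cj] at hx
      have h2 := conj_of hdT (hAT hx)
      have e1 : d * (d⁻¹ * x * d) * d⁻¹ = x := by group
      rwa [e1] at h2
    have h2 : Mx (Wd (S : Subgroup G)) (ChoiceBase.cj d A) := CI.mx_conj t.mx hdW
    have hmem : ∀ a ∈ A, d * a * d⁻¹ ∈ ChoiceBase.cj d A := by
      intro a ha
      rw [ChoiceBase.mem_cj]
      have e1 : d⁻¹ * (d * a * d⁻¹) * d = a := by group
      rwa [e1]
    have h3 : ¬ ChoiceBase.cj d A ≤ centralizer (N b : Set G) := by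
      intro h4
      obtain ⟨a, ha, hup⟩ := t.all 1
      obtain ⟨w, hw, hwe⟩ := t.sur ![0, 1]
      have h5 := Blk.cent (h4 (hmem a ha)) (conj_of hdN hw)
      have h6 : a * w * a⁻¹ = w := by
        have e1 : d * a * d⁻¹ * (d * w * d⁻¹) * (d * a * d⁻¹)⁻¹ = d * (a * w * a⁻¹) * d⁻¹ := by group
        rw [e1] at h5
        exact mul_left_cancel (mul_right_cancel h5)
      have h9 := congrFun (hup w hw) 0
      rw [h6, hwe] at h9
      simp at h9
    exact fun a ha => t.oth _ (h1.trans hTS) h2 h3 _ (hmem a ha)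
  exact LemmaE.mem_cent t.mul t.inj t.sur t.AN t.all hdN act' hodd hnN hn1 dn nA
    fun a ha w hw => hcom a (hAT ha) w hw

end At

/-- **`⟨M₀, N_G(S)⟩` permutes the blocks** -/
theorem perm_of (hn : NBs (S : Subgroup G) N E D l q) {d : G}
    (hd : d ∈ MZ (S : Subgroup G) ⊔ normalizer ((S : Subgroup G) : Set G)) (b : ι) :
    ∃ c, MulAut.conj d • N b = N c := by
  let K : Subgroup G :=
    { carrier := {g | (∀ b, ∃ c, MulAut.conj g • N b = N c) ∧ ∀ b, ∃ c, MulAut.conj g⁻¹ • N b = N c}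
      one_mem' := ⟨fun b => ⟨b, by rw [map_one, one_smul]⟩, fun b => ⟨b, by rw [inv_one, map_one, one_smul]⟩⟩
      mul_mem' := by
        rintro x y ⟨h1, h2⟩ ⟨h3, h4⟩
        refine ⟨fun b => ?_, fun b => ?_⟩
        · obtain ⟨c, hc⟩ := h3 b
          obtain ⟨c', hc'⟩ := h1 c
          exact ⟨c', by rw [map_mul, mul_smul, hc, hc']⟩
        · obtain ⟨c, hc⟩ := h2 b
          obtain ⟨c', hc'⟩ := h4 c
          exact ⟨c', by rw [mul_inv_rev, map_mul, mul_smul, hc, hc']⟩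
      inv_mem' := by
        rintro x ⟨h1, h2⟩
        exact ⟨h2, by rwa [inv_inv]⟩ }
  have hK : MZ (S : Subgroup G) ⊔ normalizer ((S : Subgroup G) : Set G) ≤ K := by
    refine sup_le (fun g hg => ⟨fun b => ?_, fun b => ?_⟩) fun g hg => ⟨fun b => ?_, fun b => ?_⟩
    · obtain ⟨c, hc, -⟩ := hn.perm g hg b
      exact ⟨c, hc⟩
    · obtain ⟨c, hc, -⟩ := hn.perm g⁻¹ (inv_mem hg) b
      exact ⟨c, hc⟩
    · obtain ⟨c, hc, -⟩ := hn.permN g hg b
      exact ⟨c, hc⟩
    · obtain ⟨c, hc, -⟩ := hn.permN g⁻¹ (inv_mem hg) b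
      exact ⟨c, hc⟩
  exact (hK hd).1 b

/-- **`bad` for natural blocks**, any set `J` of blocks, `z ∈ Z` -/
theorem bad_nat (B : RB S) (hn : NBs (S : Subgroup G) N E D l q) (hs : Src (S : Subgroup G) N l q) {J : Set ι}
    {z : G} (hz : z ∈ FSup N ⊥ (fun b => {x | x ∈ N b ∧ x ≠ 1}) J) (hzc : z ∈ zc (S : Subgroup G))
    {R C : Subgroup G} (hR : R = ⨆ b : J, N b) (hC : C = ⨆ b : {b // b ∉ J}, N b) :
    BadG (centralizer ({z} : Set G) ⊓ QQ (S : Subgroup G) R C ((S : Subgroup G) ⊓ centralizer (C : Set G)))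
      ((S : Subgroup G) ⊓ centralizer (C : Set G)) R := by
  intro d hd hodd hcom
  have h := hn.dec
  obtain ⟨hdz, hdQ⟩ := mem_inf.1 hd
  obtain ⟨hd1, hdT⟩ := mem_inf.1 hdQ
  obtain ⟨hd2, hdC⟩ := mem_inf.1 hd1
  obtain ⟨hdM, hdR⟩ := mem_inf.1 hd2
  have hdW : d ∈ normalizer (Wd (S : Subgroup G) : Set G) := by
    have hW : Wd (S : Subgroup G) = R ⊔ C := by
      rw [← h.sup, sup_bot_eq, hR, hC]
      apply le_antisymm
      · refine iSup_le fun b => ?_
        by_cases hb : b ∈ J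
        · exact (le_iSup (fun b : J => N b) ⟨b, hb⟩).trans le_sup_left
        · exact (le_iSup (fun b : {b // b ∉ J} => N b) ⟨b, hb⟩).trans le_sup_right
      · exact sup_le (iSup_le fun b => le_iSup N b.1) (iSup_le fun b => le_iSup N b.1)
    have hk : ∀ g ∈ normalizer (R : Set G) ⊓ normalizer (C : Set G), ∀ x ∈ R ⊔ C, g * x * g⁻¹ ∈ R ⊔ C := by
      intro g hg
      have h1 : R ⊔ C ≤ (R ⊔ C).comap (MulAut.conj g).toMonoidHom := by
        refine sup_le (fun x hx => ?_) fun x hx => ?_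
        · exact mem_comap.2 (le_sup_left (a := R) (b := C) (conj_of (mem_inf.1 hg).1 hx))
        · exact mem_comap.2 (le_sup_right (a := R) (b := C) (conj_of (mem_inf.1 hg).2 hx))
      exact fun x hx => h1 hx
    rw [hW, mem_normalizer_iff]
    refine fun x => ⟨hk d (mem_inf.2 ⟨hdR, hdC⟩) x, fun hx => ?_⟩
    have h1 := hk d⁻¹ (inv_mem (mem_inf.2 ⟨hdR, hdC⟩)) _ hx
    have e1 : d⁻¹ * (d * x * d⁻¹) * d⁻¹⁻¹ = x := by group
    rwa [e1] at h1
  -- one block
  have key : ∀ b ∈ J, d ∈ centralizer (N b : Set G) := by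
    intro b hb
    obtain ⟨F, i1, i2, e, A, t⟩ := exists_at B hs b
    have hNR : N b ≤ R := by rw [hR]; exact le_iSup (fun b : J => N b) ⟨b, hb⟩
    have hAC : A ≤ centralizer (C : Set G) := by
      intro a ha
      rw [mem_centralizer_iff]
      have h1 : C ≤ centralizer ({a} : Set G) := by
        rw [hC]
        refine iSup_le fun c x hx => ?_
        rw [mem_centralizer_singleton_iff]
        exact mem_centralizer_iff.1 (t.cent_oth h (c := c.1) (fun h2 => c.2 (by rw [h2]; exact hb)) ha) x hx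
      exact fun x hx => mem_centralizer_singleton_iff.1 (h1 hx)
    have hAT : A ≤ (S : Subgroup G) ⊓ centralizer (C : Set G) := le_inf t.AS hAC
    exact t.cent h (perm_of hn hdM) (perm_of hn (inv_mem hdM)) hdW inf_le_left hAT hdT hodd
      (fun a ha w hw => hcom a ha w (hNR hw)) (mem_centralizer_singleton_iff.1 hdz) hzc (hz.2 b hb)
  rw [mem_centralizer_iff]
  have h1 : R ≤ centralizer ({d} : Set G) := by
    rw [hR]
    refine iSup_le fun b x hx => ?_
    rw [mem_centralizer_singleton_iff]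
    exact mem_centralizer_iff.1 (key b.1 b.2) x hx
  exact fun x hx => mem_centralizer_singleton_iff.1 (h1 hx)

/-- **`HBad` for natural blocks** (field `hb` of `LeftAllOf.leftAll_of`) -/
theorem hBad_nat (B : RB S) (hn : NBs (S : Subgroup G) N E D l q) (hs : Src (S : Subgroup G) N l q) :
    FullSup.HBad (S : Subgroup G) N (fun b => {x | x ∈ N b ∧ x ≠ 1}) :=
  fun _ _ _ hz hzc _ _ hR hC => bad_nat B hn hs hz hzc hR hC

end Cfsg.Agent.Omega.NOThreeL.RRed.HBadNat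

end

section


/-!
# Box R: the socket `LeftAll` of WideTree v5 (helper863, helper314)
-/

set_option autoImplicit false

namespace Cfsg.Agent.Omega.NOThreeL.RRed.LeftAllOf

open Subgroup Cfsg
open Cfsg.Agent.Omega.ML.Final (MLK)
open Cfsg.Agent.Omega.Node.NO3L Cfsg.Agent.Omega.NOThreeL.RTree Cfsg.Agent.Omega.NOThreeL.RTreeF
open Cfsg.Agent.Omega.NOThreeL.RRed.GlueSig
open Cfsg.Agent.Omega.NOThreeL.RRed.WideTree

universe u

/-- **`𝒜(O)` moves every block** (socket `LeftAll`) -/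
theorem leftAll (ml : MLK.{u, u}) (B : Fr.{u}) : LeftAll B :=
  leftAll_of ml B fun _ _ _ _ _ hW _ _ _ _ _ _ _ hN hs => HBadNat.hBad_nat hW.toRB hN hs

end Cfsg.Agent.Omega.NOThreeL.RRed.LeftAllOf

end

section


/-!
# NO-3L, box R: the `NBs` data give 655's `TBlk.Bls` (field `semi` from v5's `sD`)

`sD : ∀ s ∈ S, ∀ b, ∃ c, s` transports `(N b, D b, l b)` to `(N c, D c, l c)` (field of `NBs`, v5).
* `nbs_semi` : the elements of `S ∩ N(N b)` are semilinear on `N b`;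
* **`nbs_bls`** : `Bls S (Wd S) N l E`; `nbs_blsD` : `Bls S (Wd S) N l D`.
-/

set_option autoImplicit false
set_option linter.unusedSectionVars false

namespace Cfsg.Agent.Omega.NOThreeL.RRed.SemiNB

open Subgroup Cfsg Cfsg.Agent.ZN.ChoiceBase Cfsg.Agent.Omega.NOThreeL.RRed.WideTree
  Cfsg.Agent.Omega.NOThreeL.RRed.GOne Cfsg.Agent.Omega.NOThreeL.RRed.Semi Cfsg.Agent.Omega.NOThreeL.RWide
open scoped Pointwise

universe u

variable {G : Type u} [Group G] {S : Subgroup G} {ι : Type u} {N E D l : ι → Subgroup G} {q : ι → ℕ}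

/-- `S` transports `(N b, D b, l b)` (v5's field `sD`) -/
abbrev SD (S : Subgroup G) (N D l : ι → Subgroup G) : Prop :=
  ∀ s ∈ S, ∀ b, ∃ c, MulAut.conj s • N b = N c ∧ MulAut.conj s • D b = D c ∧ MulAut.conj s • l b = l c

theorem smul_mem_conj {s v : G} {K L : Subgroup G} (e : MulAut.conj s • K = L) (hv : v ∈ K) : s * v * s⁻¹ ∈ L := by
  rw [← e]
  exact Subgroup.mem_map_of_mem (MulAut.conj s).toMonoidHom hv

theorem nbs_N_inj (h : NBs S N E D l q) {b c : ι} (e : N b = N c) : b = c := by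
  by_contra hbc
  have h1 := h.dec.ind b
  rw [sup_bot_eq] at h1
  have h2 : N b ≤ N b ⊓ ⨆ c : {c // c ≠ b}, N c := le_inf le_rfl (by
    rw [e]; exact le_iSup (fun c : {c // c ≠ b} => N c) ⟨c, fun e' => hbc e'.symm⟩)
  rw [h1] at h2
  exact h.dec.ne b (le_bot_iff.1 h2)

/-- `s ∈ S ∩ N(N b)` normalises `D b` and `l b` -/
theorem nbs_norm (h : NBs S N E D l q) (sD : SD S N D l) {b : ι} {s : G} (hs : s ∈ S)
    (hsN : s ∈ normalizer (N b : Set G)) : (∀ d ∈ D b, s * d * s⁻¹ ∈ D b) ∧ ∀ v ∈ l b, s * v * s⁻¹ ∈ l b := by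
  obtain ⟨c, h1, h2, h3⟩ := sD s hs b
  have h4 : MulAut.conj s • N b = N b := cj_eq_of_mem_normalizer hsN
  have h5 : c = b := nbs_N_inj h (by rw [← h1, h4])
  subst h5
  exact ⟨fun d hd => smul_mem_conj h2 hd, fun v hv => smul_mem_conj h3 hv⟩

/-- **655's `semi`** -/
theorem nbs_semi (h : NBs S N E D l q) (sD : SD S N D l) {b : ι} {F : Type} [Field F] [Finite F]
    {e : G → Fin 2 → F} (hn : NatBlk S (D b) (N b) (l b) F e) {s : G} (hs : s ∈ S)
    (hsN : s ∈ normalizer (N b : Set G)) : ∃ (σ : F ≃+* F) (a c d : F), ∀ v ∈ N b,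
      e (s * v * s⁻¹) = ![a * σ (e v 0) + c * σ (e v 1), d * σ (e v 1)] :=
  natblk_semi' hn hsN (nbs_norm h sD hs hsN).1 ((h.DE b).trans (h.dec.EN b)) (nbs_norm h sD hs hsN).2

theorem nbs_nbE (h : NBs S N E D l q) (sD : SD S N D l) {b : ι} {F : Type} [Field F] [Finite F]
    {e : G → Fin 2 → F} (hn : NatBlk S (D b) (N b) (l b) F e) : TBlk.NB S (E b) (N b) (l b) F e where
  mul := hn.mul
  inj := hn.inj
  sur := hn.sur
  line := hn.line
  full M := by
    obtain ⟨g, hg, h1⟩ := hn.full M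
    exact ⟨g, h.DE b hg, h1⟩
  root c := by
    obtain ⟨s, hs, h1⟩ := hn.sylow c
    exact ⟨s, ⟨hs.1, h.DE b hs.2⟩, h1⟩
  semi _ hs hsN := nbs_semi h sD hn hs hsN

theorem nbs_nbD (h : NBs S N E D l q) (sD : SD S N D l) {b : ι} {F : Type} [Field F] [Finite F]
    {e : G → Fin 2 → F} (hn : NatBlk S (D b) (N b) (l b) F e) : TBlk.NB S (D b) (N b) (l b) F e where
  mul := hn.mul
  inj := hn.inj
  sur := hn.sur
  line := hn.line
  full := hn.full
  root := hn.sylow
  semi _ hs hsN := nbs_semi h sD hn hs hsN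

/-- **The `NBs` data are `Bls` data, `E`-version** -/
theorem nbs_bls (h : NBs S N E D l q) (sD : SD S N D l) : TBlk.Bls S (Wd S) N l E where
  com v hv w hw := (mem_centralizer_iff.1 (h.dec.ab hv) w hw).symm
  sup := by
    have h1 := h.dec.sup
    rwa [sup_bot_eq] at h1
  ind b := by
    have h1 := h.dec.ind b
    rwa [sup_bot_eq] at h1
  EN := h.dec.EN
  EC := h.dec.EC
  nat b := by
    obtain ⟨F, i1, i2, i3, e, -, hn⟩ := h.nat b
    exact ⟨F, i1, i2, i3, e, nbs_nbE h sD hn⟩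
  perm s hs b := by
    obtain ⟨c, h1, -, h3⟩ := sD s hs b
    exact ⟨c, h1, h3⟩

/-- **The `NBs` data are `Bls` data, `D`-version** -/
theorem nbs_blsD (h : NBs S N E D l q) (sD : SD S N D l) : TBlk.Bls S (Wd S) N l D where
  com := (nbs_bls h sD).com
  sup := (nbs_bls h sD).sup
  ind := (nbs_bls h sD).ind
  EN b := (h.DE b).trans (h.dec.EN b)
  EC b c hbc := (h.DE b).trans (h.dec.EC b c hbc)
  nat b := by
    obtain ⟨F, i1, i2, i3, e, -, hn⟩ := h.nat b
    exact ⟨F, i1, i2, i3, e, nbs_nbD h sD hn⟩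
  perm := (nbs_bls h sD).perm

/-- **`NBs` ⟹ `Bls`** (v5) -/
theorem _root_.Cfsg.Agent.Omega.NOThreeL.RRed.WideTree.NBs.bls (h : NBs S N E D l q) : TBlk.Bls S (Wd S) N l E :=
  nbs_bls h h.sD

theorem _root_.Cfsg.Agent.Omega.NOThreeL.RRed.WideTree.NBs.blsD (h : NBs S N E D l q) : TBlk.Bls S (Wd S) N l D :=
  nbs_blsD h h.sD

/-- **655's `semi`** (v5) -/
theorem _root_.Cfsg.Agent.Omega.NOThreeL.RRed.WideTree.NBs.semi (h : NBs S N E D l q) {b : ι} {F : Type} [Field F]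
    [Finite F] {e : G → Fin 2 → F} (hn : NatBlk S (D b) (N b) (l b) F e) {s : G} (hs : s ∈ S)
    (hsN : s ∈ normalizer (N b : Set G)) : ∃ (σ : F ≃+* F) (a c d : F), ∀ v ∈ N b,
      e (s * v * s⁻¹) = ![a * σ (e v 0) + c * σ (e v 1), d * σ (e v 1)] := nbs_semi h h.sD hn hs hsN

end Cfsg.Agent.Omega.NOThreeL.RRed.SemiNB

end

end
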