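import Cfsg.Agent.Mrg.Omega.NOThreeL.RRed.WLeftFldEnd
import Cfsg.Agent.Mrg.Omega.NOThreeL.RRed.TvKindT
import Cfsg.Agent.Mrg.Omega.NOThreeL.RRed.TvTr
import Cfsg.Agent.Mrg.Omega.NOThreeL.RRed.Blk.AsmHn
import Cfsg.Agent.Mrg.Omega.NOThreeL.RRed.HBadNat
import Cfsg.Agent.Mrg.Omega.NOThreeL.RRed.WLeftBase
import Cfsg.Agent.Mrg.Omega.NOThreeL.RRed.Blk.AsmRR
import Cfsg.Agent.Mrg.Omega.NOThreeL.RRed.Blk.AsmInp
import Cfsg.Agent.Mrg.Omega.NOThreeL.RRed.Blk.FxVec
import Cfsg.Agent.Mrg.Omega.NOThreeL.RRed.EOneTr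

section


/-!
# Box R: `HBad` for natural blocks and blocks of letters, any mixture (#27311, #27325, #26668)

* `Kd S N b A` : `A ≤ S` moves `N b`, centralises the other blocks, and the conclusion of LEMMA E for `b`;
* `kd_nat` : natural blocks (from 863's `LemmaE.mem_cent`); `kd_let` : blocks of letters (from 556's `kind_full`);
* **`hBad_of`** : `Dec`, `Orbs`, `N_G(S)` permutes the `N b`, `∀ b, ∃ A, Kd S N b A` imply `HBad S N O`.
-/

set_option autoImplicit false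
set_option linter.unusedSectionVars false

namespace Cfsg.Agent.Omega.NOThreeL.RRed.HBadOf

open Subgroup Cfsg Cfsg.Agent.ZN
open Cfsg.Agent.Omega.NOThreeL.Merge (MZ)
open Cfsg.Agent.Omega.NOThreeL.RRed.Blk (Dec Co IsC FSup InvJ PermS mem_PermS conj_of conj_smul mem_sup_of)
open Cfsg.Agent.Omega.NOThreeL.RRed.WideTree (BadG QQ)
open Cfsg.Agent.Omega.NOThreeL.RRed.FullSup (HBad)
open Cfsg.Agent.Omega.NOThreeL.RRed.LemmaE (Up)
open Cfsg.Agent.Omega.NOThreeL.RRed.TvFin (Full)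
open Cfsg.Agent.Omega.NOThreeL.RZ.TwoC.DecE (Orbs)
open Cfsg.Agent.Omega.KL.TwoS (Rel Lett Mx)
open scoped Pointwise

universe u v

variable {G : Type u} [Group G] {ι : Type v}

/-- LEMMA E for the block `b` -/
structure Kd (S : Subgroup G) (N : ι → Subgroup G) (b : ι) (A : Subgroup G) : Prop where
  le : A ≤ S
  nor : A ≤ normalizer (N b : Set G)
  oth : ∀ c, c ≠ b → A ≤ centralizer (N c : Set G)
  mv : ¬ A ≤ centralizer (N b : Set G)
  kd : ∀ T ≤ S, A ≤ T → ∀ d : G, Odd (orderOf d) → d ∈ normalizer (N b : Set G) → d ∈ normalizer (Wd S : Set G) →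
    d ∈ normalizer (T : Set G) → (∃ z ∈ N b, z ≠ 1 ∧ (∀ a ∈ A, a * z * a⁻¹ = z) ∧ d * z * d⁻¹ = z) →
    (∀ a ∈ A, ∀ w ∈ N b, (a * d * a⁻¹ * d⁻¹) * (d * w * d⁻¹ * w⁻¹) = (d * w * d⁻¹ * w⁻¹) * (a * d * a⁻¹ * d⁻¹)) →
    d ∈ centralizer (N b : Set G)

/-- **natural blocks** -/
theorem kd_nat [Finite G] {S : Subgroup G} {N : ι → Subgroup G} {b : ι} {A : Subgroup G} {F : Type} [Field F] [CharP F 2]
    {e : G → Fin 2 → F} (mul : ∀ v ∈ N b, ∀ w ∈ N b, e (v * w) = e v + e w) (inj : ∀ v ∈ N b, e v = 0 → v = 1)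
    (sur : ∀ x, ∃ v ∈ N b, e v = x) (le : A ≤ S) (nor : A ≤ normalizer (N b : Set G))
    (oth : ∀ c, c ≠ b → A ≤ centralizer (N c : Set G)) (all : ∀ β, ∃ a ∈ A, Up (N b) e a β) (mx : Mx (Wd S) A)
    (rt : ∀ A' ≤ S, Mx (Wd S) A' → ¬ A' ≤ centralizer (N b : Set G) → ∀ a ∈ A', ∃ β, Up (N b) e a β) :
    Kd S N b A where
  le := le
  nor := nor
  oth := oth
  mv h := by
    obtain ⟨a, ha, hup⟩ := all 1
    obtain ⟨w, hw, hw'⟩ := sur ![0, 1]
    have h1 := congrFun (hup w hw) 0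
    rw [← mem_centralizer_iff.1 (h ha) w hw, mul_inv_cancel_right, hw'] at h1
    simp at h1
  kd := by
    rintro T hT hAT d hodd hN hV hdT ⟨z, hz, hz1, hzA, hzd⟩ hcomm
    refine LemmaE.mem_cent mul inj sur nor all hN ?_ hodd hz hz1 hzd hzA hcomm
    intro a ha
    have hmv : ¬ A ≤ centralizer (N b : Set G) := by
      intro h
      obtain ⟨a, ha, hup⟩ := all 1
      obtain ⟨w, hw, hw'⟩ := sur ![0, 1]
      have h1 := congrFun (hup w hw) 0
      rw [← mem_centralizer_iff.1 (h ha) w hw, mul_inv_cancel_right, hw'] at h1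
      simp at h1
    have hle : MulAut.conj d • A ≤ S := by
      rintro _ ⟨x, hx, rfl⟩
      exact hT (conj_of hdT (hAT hx))
    refine rt _ hle ?_ (fun h1 => hmv ?_) (d * a * d⁻¹) ⟨a, ha, rfl⟩
    · exact CI.mx_conj mx hV
    · intro x hx
      rw [mem_centralizer_iff]
      intro w hw
      have h2 := mem_centralizer_iff.1 (h1 ⟨x, hx, rfl⟩) _ (conj_of hN hw)
      have h3 : d * (w * x) * d⁻¹ = d * (x * w) * d⁻¹ := by
        calc d * (w * x) * d⁻¹ = (d * w * d⁻¹) * (d * x * d⁻¹) := by group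
          _ = (d * x * d⁻¹) * (d * w * d⁻¹) := h2
          _ = d * (x * w) * d⁻¹ := by group
      exact mul_left_cancel (mul_right_cancel h3)

/-! ### Letters -/

section letters

variable [Finite G] {S : Sylow 2 G} {M V : Subgroup G} {I : Type u} {N E : I → Subgroup G} {R₀ : Subgroup G}
  {Om : I → Type u} [∀ i, Fintype (Om i)] [∀ i, DecidableEq (Om i)] {phi : ∀ i, Finset (Om i) → G}
  (F : Full (S : Subgroup G) M V N E R₀ Om phi)
include F

/-- an element of `N_S(N b)` acts on `N b` as an element of `S ⊓ E b` -/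
theorem inner_S (b : I) {s : G} (hs : s ∈ S) (hn : s ∈ normalizer (N b : Set G)) :
    ∃ t ∈ (S : Subgroup G) ⊓ E b, s * t⁻¹ ∈ centralizer (N b : Set G) := by
  have L := TvTr.lett_norm F b
  obtain ⟨P, hP⟩ := TvKindT.exists_perm_syl (F.lett b) (F.three b) (T := (S : Subgroup G) ⊓ E b) inf_le_right
    (S.isPGroup'.to_le inf_le_left) (TvKindT.syl F.toDec b)
  have hT' : (S : Subgroup G) ⊓ normalizer (N b : Set G) ≤ M ⊓ normalizer (N b : Set G) :=
    inf_le_inf_right _ F.toDec.SL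
  obtain ⟨f, hf⟩ := Blk.exists_hom L (F.three b) hT'
  have h2 : IsPGroup 2 (PermS (phi b) ((S : Subgroup G) ⊓ normalizer (N b : Set G))) := by
    have h3 : PermS (phi b) ((S : Subgroup G) ⊓ normalizer (N b : Set G)) = f.range := by
      ext σ
      constructor
      · rintro ⟨k, hk, hr⟩
        exact ⟨⟨k, hk⟩, (L.unique (F.three b) hr (hf ⟨k, hk⟩)).symm⟩
      · rintro ⟨k, rfl⟩
        exact ⟨k, k.2, hf k⟩
    rw [h3]
    exact (S.isPGroup'.to_le inf_le_left : IsPGroup 2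
      ((S : Subgroup G) ⊓ normalizer (N b : Set G) : Subgroup G)).of_surjective f.rangeRestrict
        f.rangeRestrict_surjective
  have hle : (P : Subgroup (Equiv.Perm (Om b))) ≤ PermS (phi b) ((S : Subgroup G) ⊓ normalizer (N b : Set G)) := by
    rw [hP]
    rintro σ ⟨k, hk, hr⟩
    exact ⟨k, mem_inf.2 ⟨hk.1, F.toDec.EN b hk.2⟩, hr⟩
  have heq := P.is_maximal' h2 hle
  obtain ⟨σ, hσ⟩ := L.act s (hT' (mem_inf.2 ⟨hs, hn⟩))
  have hmem : σ ∈ PermS (phi b) ((S : Subgroup G) ⊓ E b) := by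
    rw [← hP]
    show σ ∈ (P : Subgroup (Equiv.Perm (Om b)))
    have h4 : σ ∈ PermS (phi b) ((S : Subgroup G) ⊓ normalizer (N b : Set G)) := ⟨s, mem_inf.2 ⟨hs, hn⟩, hσ⟩
    rw [heq] at h4
    exact h4
  obtain ⟨t, ht, hr⟩ := hmem
  refine ⟨t, ht, ?_⟩
  rw [mem_centralizer_iff]
  intro w hw
  have htn : t ∈ normalizer (N b : Set G) := F.toDec.EN b ht.2
  have h5 : t⁻¹ * w * t ∈ N b := by
    have := conj_of (inv_mem htn) hw
    rwa [inv_inv] at this
  have h6 := Blk.Rel.eq_of (F.lett b) hr hσ h5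
  have h7 : w = s * (t⁻¹ * w * t) * s⁻¹ := by
    rw [← h6]; group
  calc w * (s * t⁻¹) = (s * (t⁻¹ * w * t) * s⁻¹) * (s * t⁻¹) := by rw [← h7]
    _ = s * t⁻¹ * w := by group

/-- **blocks of letters** -/
theorem kd_full (b : I) {T : Subgroup G} (hT : T ≤ S) (hAT : (S : Subgroup G) ⊓ E b ≤ T) {d : G}
    (hodd : Odd (orderOf d)) (hN : d ∈ normalizer (N b : Set G)) (hdT : d ∈ normalizer (T : Set G)) :
    d ∈ centralizer (N b : Set G) := by
  refine TvKindT.kind_full F b hodd hN ?_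
  have hC : ∀ g ∈ normalizer (N b : Set G), ∀ x ∈ centralizer (N b : Set G), g * x * g⁻¹ ∈ centralizer (N b : Set G) := by
    intro g hg x hx
    rw [mem_centralizer_iff]
    intro w hw
    have h1 := conj_of (inv_mem hg) hw
    rw [inv_inv] at h1
    have h2 := mem_centralizer_iff.1 hx _ h1
    calc w * (g * x * g⁻¹) = g * (g⁻¹ * w * g * x) * g⁻¹ := by group
      _ = g * (x * (g⁻¹ * w * g)) * g⁻¹ := by rw [h2]
      _ = g * x * g⁻¹ * w := by group
  have key : ∀ g ∈ normalizer (N b : Set G), g ∈ normalizer (T : Set G) →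
      ∀ x ∈ ((S : Subgroup G) ⊓ E b) ⊔ centralizer (N b : Set G),
        g * x * g⁻¹ ∈ ((S : Subgroup G) ⊓ E b) ⊔ centralizer (N b : Set G) := by
    intro g hgN hgT x hx
    have hle : (S : Subgroup G) ⊓ E b ≤ normalizer ((centralizer (N b : Set G) : Subgroup G) : Set G) := by
      intro y hy
      have hyN := F.toDec.EN b hy.2
      rw [mem_normalizer_iff]
      refine fun w => ⟨fun hw => hC y hyN w hw, fun hw => ?_⟩
      have h1 := hC y⁻¹ (inv_mem hyN) _ hw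
      have e : y⁻¹ * (y * w * y⁻¹) * y⁻¹⁻¹ = w := by group
      rwa [e] at h1
    obtain ⟨s, hs, c, hc, rfl⟩ := mem_sup_of hle hx
    have h1 : g * s * g⁻¹ ∈ T := conj_of hgT (hAT hs)
    have h2 : g * s * g⁻¹ ∈ normalizer (N b : Set G) :=
      mul_mem (mul_mem hgN (F.toDec.EN b hs.2)) (inv_mem hgN)
    obtain ⟨t, ht, h3⟩ := inner_S F b (hT h1) h2
    have e1 : g * (s * c) * g⁻¹ = (g * s * g⁻¹ * t⁻¹) * t * (g * c * g⁻¹) := by group
    rw [e1]
    exact mul_mem (mul_mem (mem_sup_right h3) (mem_sup_left ht)) (mem_sup_right (hC g hgN c hc))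
  rw [mem_normalizer_iff]
  refine fun x => ⟨fun hx => key d hN hdT x hx, fun hx => ?_⟩
  have h1 := key d⁻¹ (inv_mem hN) (inv_mem hdT) _ hx
  have e : d⁻¹ * (d * x * d⁻¹) * d⁻¹⁻¹ = x := by group
  rwa [e] at h1

/-- **blocks of letters** in a family `N'` which contains `N b` -/
theorem kd_let {N' : ι → Subgroup G} {b' : ι} (b : I) (hb : N' b' = N b)
    (oth : ∀ c, c ≠ b' → E b ≤ centralizer (N' c : Set G)) : Kd (S : Subgroup G) N' b' ((S : Subgroup G) ⊓ E b) where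
  le := inf_le_left
  nor := by rw [hb]; exact inf_le_right.trans (F.toDec.EN b)
  oth c hc := inf_le_right.trans (oth c hc)
  mv := by rw [hb]; exact TvKindT.mv F b
  kd := by
    intro T hT hAT d hodd hN _ hdT _ _
    rw [hb] at hN ⊢
    exact kd_full F b hT hAT hodd hN hdT

end letters

/-! ### `HBad` -/

/-- the inverse permutes the blocks too -/
theorem perm_inv [Finite ι] {N : ι → Subgroup G} (hinj : ∀ b c, N b = N c → b = c) {x : G}
    (hx : ∀ b, ∃ c, MulAut.conj x • N b = N c) (b : ι) : ∃ c, MulAut.conj x • N c = N b := by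
  choose f hf using hx
  have h1 : Function.Injective f := by
    intro a c hac
    have h2 := hf a
    rw [hac, ← hf c] at h2
    exact hinj _ _ (smul_left_cancel _ h2)
  obtain ⟨c, hc⟩ := (Finite.injective_iff_surjective.1 h1) b
  exact ⟨c, by rw [hf, hc]⟩

/-- the elements of `G` which permute the blocks -/
def PG [Finite ι] (N : ι → Subgroup G) (hinj : ∀ b c, N b = N c → b = c) : Subgroup G where
  carrier := {x | ∀ b, ∃ c, MulAut.conj x • N b = N c}
  one_mem' b := ⟨b, by rw [map_one, one_smul]⟩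
  mul_mem' := by
    intro x y hx hy b
    obtain ⟨c, hc⟩ := hy b
    obtain ⟨d, hd⟩ := hx c
    exact ⟨d, by rw [map_mul, mul_smul, hc, hd]⟩
  inv_mem' := by
    intro x hx b
    obtain ⟨c, hc⟩ := perm_inv hinj hx b
    exact ⟨c, by rw [map_inv, ← hc, inv_smul_smul]⟩

/-- **`HBad` from LEMMA E for every block** -/
theorem hBad_of [Finite G] {ι : Type u} [Finite ι] {S : Subgroup G} {N E : ι → Subgroup G} {O : ι → Set G}
    (h : Dec S (MZ S) (Wd S) N E ⊥) (one : ∀ b, (1 : G) ∉ O b)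
    (permN : ∀ n ∈ normalizer (S : Set G), ∀ b, ∃ c, MulAut.conj n • N b = N c) (hk : ∀ b, ∃ A, Kd S N b A) :
    HBad S N O := by
  intro J hJ z hz hzS R B hR hB d hd hodd hcomm
  have hQ := hd.2
  have hdz : d * z * d⁻¹ = z := by
    rw [mem_centralizer_singleton_iff.1 hd.1, mul_inv_cancel_right]
  have hdR : d ∈ normalizer (R : Set G) := hQ.1.1.2
  have hdB : d ∈ normalizer (B : Set G) := hQ.1.2
  have hdT : d ∈ normalizer ((S ⊓ centralizer (B : Set G) : Subgroup G) : Set G) := hQ.2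
  have hinj : ∀ b c, N b = N c → b = c := fun b c => h.Ninj
  have hdP : ∀ b, ∃ c, MulAut.conj d • N b = N c := by
    have h1 : MZ S ⊔ normalizer (S : Set G) ≤ PG N hinj := by
      refine sup_le (fun x hx b => ?_) fun x hx b => permN x hx b
      obtain ⟨c, hc, -⟩ := h.perm x hx b
      exact ⟨c, hc⟩
    exact h1 hQ.1.1.1
  have hsupW : R ⊔ B = Wd S := by
    rw [hR, hB, ← h.sup, sup_bot_eq]
    apply le_antisymm
    · exact sup_le (iSup_le fun b => le_iSup N b.1) (iSup_le fun b => le_iSup N b.1)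
    · refine iSup_le fun b => ?_
      by_cases hb : b ∈ J
      · exact (le_iSup (fun b : J => N b) ⟨b, hb⟩).trans le_sup_left
      · exact (le_iSup (fun b : {b // b ∉ J} => N b) ⟨b, hb⟩).trans le_sup_right
  have hdW : d ∈ normalizer (Wd S : Set G) := by
    have key : ∀ g : G, g ∈ normalizer (R : Set G) → g ∈ normalizer (B : Set G) → ∀ x ∈ Wd S, g * x * g⁻¹ ∈ Wd S := by
      intro g hgR hgB x hx
      rw [← hsupW] at hx ⊢
      have hRW : R ≤ Wd S := hsupW ▸ le_sup_left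
      have hBW : B ≤ Wd S := hsupW ▸ le_sup_right
      obtain ⟨r, hr, s, hs, rfl⟩ := mem_sup_of (h.nor hRW hBW) hx
      have e1 : g * (r * s) * g⁻¹ = (g * r * g⁻¹) * (g * s * g⁻¹) := by group
      rw [e1]
      exact mul_mem (mem_sup_left (conj_of hgR hr)) (mem_sup_right (conj_of hgB hs))
    rw [mem_normalizer_iff]
    refine fun x => ⟨fun hx => key d hdR hdB x hx, fun hx => ?_⟩
    have h1 := key d⁻¹ (inv_mem hdR) (inv_mem hdB) _ hx
    have e : d⁻¹ * (d * x * d⁻¹) * d⁻¹⁻¹ = x := by group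
    rwa [e] at h1
  -- every block
  have hall : ∀ b ∈ J, d ∈ centralizer (N b : Set G) := by
    intro b hb
    obtain ⟨A, K⟩ := hk b
    have hNR : N b ≤ R := by
      rw [hR]; exact le_iSup (fun b : J => N b) ⟨b, hb⟩
    have hAT : A ≤ S ⊓ centralizer (B : Set G) := by
      refine le_inf K.le ?_
      rw [hB, le_centralizer_iff]
      refine iSup_le fun c => ?_
      rw [le_centralizer_iff]
      exact K.oth c.1 fun e => c.2 (e ▸ hb)
    obtain ⟨c, hc⟩ := hdP b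
    have hcb : c = b := by
      by_contra hcb
      apply K.mv
      intro a ha
      rw [mem_centralizer_iff]
      intro w hw
      -- `d A d⁻¹` centralises `N b`
      have h1 : ∀ a' ∈ A, ∀ v ∈ N b, (d * a' * d⁻¹) * v * (d * a' * d⁻¹)⁻¹ = v := by
        intro a' ha' v hv
        obtain ⟨c', hc'⟩ := perm_inv hinj hdP b
        have hne : c' ≠ b := by
          rintro rfl
          exact hcb (hinj _ _ (hc.symm.trans hc'))
        have hv' : d⁻¹ * v * d ∈ N c' := by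
          rw [conj_smul hc']
          have e : d * (d⁻¹ * v * d) * d⁻¹ = v := by group
          rwa [e]
        have h2 := mem_centralizer_iff.1 (K.oth c' hne ha') _ hv'
        calc (d * a' * d⁻¹) * v * (d * a' * d⁻¹)⁻¹ = d * (a' * (d⁻¹ * v * d)) * a'⁻¹ * d⁻¹ := by group
          _ = d * (d⁻¹ * v * d * a') * a'⁻¹ * d⁻¹ := by rw [h2]
          _ = v := by group
      have h3 := hcomm a (hAT ha) w (hNR hw)
      set y := d * w * d⁻¹ with hy
      have hyc : y ∈ N c := (conj_smul hc).1 hw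
      set y' := d * (a⁻¹ * w * a) * d⁻¹ with hy'
      have haw : a⁻¹ * w * a ∈ N b := by
        have := conj_of (inv_mem (K.nor ha)) hw
        rwa [inv_inv] at this
      have hy'c : y' ∈ N c := (conj_smul hc).1 haw
      have h4 := mem_centralizer_iff.1 (K.oth c hcb ha) _ hy'c
      -- `k (y w⁻¹) k⁻¹ = y' (a w⁻¹ a⁻¹)`
      have h5 : (a * d * a⁻¹ * d⁻¹) * (y * w⁻¹) * (a * d * a⁻¹ * d⁻¹)⁻¹ = y' * (a * w⁻¹ * a⁻¹) := by
        have h6 := h1 a⁻¹ (inv_mem ha) w⁻¹ (inv_mem hw)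
        calc (a * d * a⁻¹ * d⁻¹) * (y * w⁻¹) * (a * d * a⁻¹ * d⁻¹)⁻¹ =
            a * (d * (a⁻¹ * w * a) * d⁻¹) * ((d * a⁻¹ * d⁻¹) * w⁻¹ * (d * a⁻¹ * d⁻¹)⁻¹) * a⁻¹ := by
              rw [hy]; group
          _ = (a * y') * w⁻¹ * a⁻¹ := by rw [h6]
          _ = (y' * a) * w⁻¹ * a⁻¹ := by rw [← h4]
          _ = y' * (a * w⁻¹ * a⁻¹) := by group
      have h7 : (a * d * a⁻¹ * d⁻¹) * (y * w⁻¹) * (a * d * a⁻¹ * d⁻¹)⁻¹ = y * w⁻¹ := by
        rw [h3, mul_inv_cancel_right]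
      rw [h5] at h7
      have h8 : y⁻¹ * y' = w⁻¹ * (a * w * a⁻¹) := by
        have h9 : y' = y * w⁻¹ * (a * w⁻¹ * a⁻¹)⁻¹ := by rw [← h7]; group
        rw [h9]; group
      have h9 : y⁻¹ * y' ∈ N b ⊓ Co N ⊥ b := by
        refine mem_inf.2 ⟨?_, h.N_le_Co hcb (mul_mem (inv_mem hyc) hy'c)⟩
        rw [h8]
        exact mul_mem (inv_mem hw) (conj_of (K.nor ha) hw)
      rw [show N b ⊓ Co N ⊥ b = ⊥ from h.ind b, mem_bot, h8] at h9
      have h10 : a * w * a⁻¹ = w := (inv_mul_eq_one.1 h9).symm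
      exact (mul_inv_eq_iff_eq_mul.1 h10).symm
    rw [hcb] at hc
    have hdN : d ∈ normalizer (N b : Set G) := by
      rw [mem_normalizer_iff]
      exact fun x => conj_smul hc
    -- the component
    obtain ⟨n, hn, hnc⟩ := hz.2 b hb
    have hmap : ∀ x ∈ Co N ⊥ b, d * x * d⁻¹ ∈ Co N ⊥ b := by
      intro x hx
      have h1 : MulAut.conj d • Co N ⊥ b ≤ Co N ⊥ b := by
        unfold Co
        rw [sup_bot_eq, show MulAut.conj d • (⨆ c : {c // c ≠ b}, N c) = ⨆ c : {c // c ≠ b}, MulAut.conj d • N c from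
          Subgroup.map_iSup _ _]
        refine iSup_le fun c => ?_
        obtain ⟨e, he⟩ := hdP c
        rw [he]
        refine le_iSup (fun c : {c // c ≠ b} => N c) ⟨e, fun h1 => c.2 ?_⟩
        rw [h1, ← hc] at he
        exact hinj _ _ (smul_left_cancel _ he)
      exact h1 ((conj_smul rfl).1 hx)
    have hdn : d * n * d⁻¹ = n := by
      refine h.uniq (b := b) (x := z) ⟨conj_of hdN hnc.1, ?_⟩ hnc
      have h1 := hmap _ hnc.2
      have e1 : d * (n⁻¹ * z) * d⁻¹ = (d * n * d⁻¹)⁻¹ * (d * z * d⁻¹) := by group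
      rwa [e1, hdz] at h1
    have hAn : ∀ a ∈ A, a * n * a⁻¹ = n := by
      intro a ha
      have haM : a ∈ MZ S := h.SL (K.le ha)
      have haN : MulAut.conj a • N b = N b := TvTr.conj_eq (K.nor ha)
      have h1 := h.comp_conj haM haN hnc
      have h2 : a * z * a⁻¹ = z := by
        have h3 := (MinSimple.VModule.mem_zc.1 hzS).2.1 a (K.le ha)
        rw [h3, mul_inv_cancel_right]
      rw [h2] at h1
      exact h.uniq h1 hnc
    refine K.kd _ inf_le_left hAT d hodd hdN hdW hdT ⟨n, hnc.1, ?_, hAn, hdn⟩ fun a ha w hw =>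
      hcomm a (hAT ha) w (hNR hw)
    rintro rfl
    exact one b hn
  rw [hR]
  have h1 : (⨆ b : J, N b) ≤ centralizer ({d} : Set G) := iSup_le fun b x hx => by
    rw [mem_centralizer_singleton_iff]
    exact (mem_centralizer_iff.1 (hall b b.2) x hx)
  rw [mem_centralizer_iff]
  exact fun x hx => mem_centralizer_singleton_iff.1 (h1 hx)

end Cfsg.Agent.Omega.NOThreeL.RRed.HBadOf

end

section


/-!
# Box R: `Kd` for the blocks of an active natural `P`, helper314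

* **`kd_of_blk`** : `N b = blk M j` for an active `P` with trivial radical ⟹ `∃ A, Kd S N b A` (helper329's `hBad_of`).
-/

set_option autoImplicit false

namespace Cfsg.Agent.Omega.NOThreeL.RRed.HBadNat

open Subgroup Cfsg Cfsg.Agent.ZN
open Cfsg.Agent.Omega.FFThm
open Cfsg.Agent.Omega.FrameFF (cv)
open Cfsg.Agent.Omega.NO3S.ThmB (Nb)
open Cfsg.Agent.Omega.NO3S.KeyRad (blk)
open Cfsg.Agent.Omega.NOThreeL.RRed.WideTree (Act)
open Cfsg.Agent.Omega.NOThreeL.RRed.Blk (Dec)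
open Cfsg.Agent.Omega.NOThreeL.Merge (MZ)
open Cfsg.Agent.Omega.NOThreeL.RTree (RB)

universe u v

variable {G : Type u} [Group G] [Finite G] {S : Sylow 2 G}

/-- `Kd` from `At` -/
theorem At.kd {ι : Type v} {N E : ι → Subgroup G} {b : ι} {A : Subgroup G} {F : Type} [Field F] [CharP F 2]
    {e : G → Fin 2 → F} (t : At (S : Subgroup G) (N b) A e)
    (h : Dec (S : Subgroup G) (MZ (S : Subgroup G)) (Wd (S : Subgroup G)) N E ⊥) : HBadOf.Kd (S : Subgroup G) N b A :=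
  HBadOf.kd_nat t.mul t.inj t.sur t.AS t.AN (fun _ hc => t.cent_oth h hc) t.all t.mx t.oth

/-- **`Kd` for the blocks of an active natural `P`** -/
theorem kd_of_blk (B : RB S) {P : Subgroup G} (a : Act (S : Subgroup G) P) {F : Type} [Field F] [Finite F] [CharP F 2]
    {k : ℕ} {M : NatKM F (S : Subgroup G) P (zl (S : Subgroup G) P) (cv (S : Subgroup G) P) k} (h : Nb M)
    (hD : ∀ i, NS.DD M i = ⊥) (j : Fin k) {ι : Type v} {N E : ι → Subgroup G} {b : ι} (hb : N b = blk M j)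
    (hd : Dec (S : Subgroup G) (MZ (S : Subgroup G)) (Wd (S : Subgroup G)) N E ⊥) :
    ∃ A, HBadOf.Kd (S : Subgroup G) N b A := by
  obtain ⟨A, t⟩ := at_of B a h hD j
  rw [← hb] at t
  exact ⟨A, t.kd hd⟩

end Cfsg.Agent.Omega.NOThreeL.RRed.HBadNat

end

section


/-!
# WideAll, natural blocks with `q = 4`, `S` transitive on the blocks: void (any number of blocks)

The argument of `OneTwoFour` with "`S` transitive on the blocks" for "two blocks": `z ∈ Z` is determined by one component,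
so `l b` is the set of the `b`-components of `Z` (`|Z| ≥ 4`) and `S ⊓ N(N b)` centralises `l b`; `P ∈ P*(S)` with
`1 ≠ v ∈ C_Z(P)` (`RB.ex`): `P ⊓ N(N b)` fixes `v b`, so it centralises `l b` (`OneTwoFour.core`), and `P` centralises `Z`.

* `ext_of` : an element of `V*` without components is `1`;
* `cent_line` : `P ⊓ N(N b)` centralises `l b`;
* **`one_orb_four`** : `RB S`, `|Z| ≥ 4`, natural blocks with `q b = 4`, `S` transitive on the blocks: `False`.
-/

set_option autoImplicit false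
set_option linter.unusedSectionVars false

namespace Cfsg.Agent.Omega.NOThreeL.RRed.OneOrbFour

open Subgroup Cfsg Cfsg.Agent.ZN Cfsg.Agent.Omega.MinPar Cfsg.Agent.Omega.Frame Cfsg.Agent.Omega.FrameNOFF
open Cfsg.Agent.Omega.Node.NO3L Cfsg.Agent.Omega.NOThreeL.Basic Cfsg.Agent.Omega.NOThreeL.RTree
open Cfsg.Agent.Omega.NOThreeL.Merge (MZ)
open Cfsg.Agent.Omega.NOThreeL.RRed.WideTree
open Cfsg.Agent.Omega.NOThreeL.RRed.Blk
open Cfsg.Agent.Omega.NOThreeL.RRed.OneTwoFour (core conj_into smul_eq_iff)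
open scoped Pointwise

universe u

variable {G : Type u} [Group G] [Finite G] {S : Sylow 2 G} {ι : Type u} {N E D l : ι → Subgroup G} {q : ι → ℕ}

section orb

variable [Finite ι] (h : NBs (S : Subgroup G) N E D l q)
  (htr : ∀ b c, ∃ s ∈ (S : Subgroup G), MulAut.conj s • N b = N c)
include h

/-- an element of `V*` without components is `1` -/
theorem ext_of {x : G} (hx : x ∈ Wd (S : Subgroup G)) (h1 : ∀ b, IsC N ⊥ b x 1) : x = 1 := by
  have h3 := h.dec.mem_R hx h1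
  rwa [mem_bot] at h3

include htr

theorem eq_one_of {b : ι} {x : G} (hS : ∀ s ∈ (S : Subgroup G), s * x * s⁻¹ = x) (hx : x ∈ Wd (S : Subgroup G))
    (h1 : IsC N ⊥ b x 1) : x = 1 := by
  refine ext_of h hx fun c => ?_
  obtain ⟨s, hs, hsb⟩ := htr b c
  have h2 := h.dec.comp_conj (h.dec.SL hs) hsb h1
  rwa [hS s hs, mul_one, mul_inv_cancel] at h2

/-- `P ⊓ N(N b)` centralises the line `l b` if `P` fixes some `v ∈ Z`, `v ≠ 1`, `q b = 4`, `|Z| ≥ 4`. -/
theorem cent_line (B : RB S) {b : ι} (hq : q b = 4) (hZ : 4 ≤ Nat.card (zc (S : Subgroup G))) {P : Subgroup G}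
    (hP : IsParS (S : Subgroup G) P) {v : G} (hv : v ∈ zc (S : Subgroup G)) (hv1 : v ≠ 1)
    (hvP : ∀ g ∈ P, g * v * g⁻¹ = v) :
    (∀ z ∈ zc (S : Subgroup G), ∀ n, IsC N ⊥ b z n → n ∈ l b) ∧
      ∀ g ∈ P, MulAut.conj g • N b = N b → ∀ x ∈ l b, g * x = x * g := by
  classical
  have hSM : (S : Subgroup G) ≤ MZ (S : Subgroup G) := SM B
  have hPM : P ≤ MZ (S : Subgroup G) := le_MZ hP
  have hSP : (S : Subgroup G) ≤ P := hP.isLoc.le
  have hzS : ∀ z ∈ zc (S : Subgroup G), ∀ s ∈ (S : Subgroup G), s * z * s⁻¹ = z := fun z hz s hs => by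
    rw [(mem_zc.1 hz).2.1 s hs, mul_inv_cancel_right]
  obtain ⟨F, _, _, _, e, hF, hN⟩ := h.nat b
  have hEn : ∀ g ∈ D b, MulAut.conj g • N b = N b := fun g hg =>
    smul_eq_iff.2 (h.dec.EN b (h.DE b hg))
  have hnN : ∀ {g : G}, MulAut.conj g • N b = N b → ∀ x ∈ N b, g * x * g⁻¹ ∈ N b := fun hg x hx =>
    (conj_smul hg).1 hx
  have hchar : ∀ x : F, x + x = 0 := fun x => CharTwo.add_self_eq_zero x
  have he1 : e 1 = 0 := by
    have := hN.mul 1 (one_mem _) 1 (one_mem _)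
    rw [one_mul] at this
    exact left_eq_add.1 this
  have hN2 : ∀ x ∈ N b, x * x = 1 := fun x hx => hN.inj _ (mul_mem hx hx) (by
    rw [hN.mul x hx x hx]
    funext i
    exact hchar _)
  have hinv : ∀ x ∈ N b, x⁻¹ = x := fun x hx => inv_eq_of_mul_eq_one_right (hN2 x hx)
  have hein : ∀ x ∈ N b, ∀ y ∈ N b, e x = e y → x = y := fun x hx y hy hxy => by
    have h1 : x * y = 1 := hN.inj _ (mul_mem hx hy) (by
      rw [hN.mul x hx y hy, hxy]
      funext i
      exact hchar _)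
    rw [eq_comm, ← hinv x hx]
    exact (eq_inv_of_mul_eq_one_right h1)
  have hlN : l b ≤ N b := fun x hx => ((hN.line x).1 hx).1
  -- `|l b| = 4`
  have hcard : Nat.card (l b) = 4 := by
    rw [← hq, ← hF]
    refine Nat.card_congr (Equiv.ofBijective (fun x : l b => e (x : G) 0) ⟨?_, ?_⟩)
    · intro x y hxy
      obtain ⟨hx, hx1⟩ := (hN.line _).1 x.2
      obtain ⟨hy, hy1⟩ := (hN.line _).1 y.2
      refine Subtype.ext (hein _ hx _ hy ?_)
      funext i
      fin_cases i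
      · exact hxy
      · exact hx1.trans hy1.symm
    · intro a
      obtain ⟨x, hx, hxe⟩ := hN.sur ![a, 0]
      refine ⟨⟨x, (hN.line x).2 ⟨hx, by rw [hxe]; rfl⟩⟩, ?_⟩
      change e x 0 = a
      rw [hxe]; rfl
  -- commutators with the root elements
  have hcomm : ∀ s : G, MulAut.conj s • N b = N b → ∀ a : F,
      (∀ x ∈ N b, e (s * x * s⁻¹) = ![e x 0 + a * e x 1, e x 1]) → ∀ x ∈ N b,
      e (s * x * s⁻¹ * x⁻¹) = ![a * e x 1, 0] := by
    intro s hs a hsa x hx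
    rw [hinv x hx, hN.mul _ (hnN hs x hx) x hx, hsa x hx]
    funext i
    fin_cases i
    · change e x 0 + a * e x 1 + e x 0 = a * e x 1
      rw [add_comm (e x 0), add_assoc, hchar, add_zero]
    · change e x 1 + e x 1 = 0
      exact hchar _
  -- the `b`-components of `Z` are in `l b`
  have hcl : ∀ z ∈ zc (S : Subgroup G), ∀ n, IsC N ⊥ b z n → n ∈ l b := by
    intro z hz n hn
    obtain ⟨s, hs, hse⟩ := hN.sylow 1
    have h1 := h.dec.comp_conj (hSM hs.1) (hEn s hs.2) hn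
    rw [hzS z hz s hs.1] at h1
    have h2 := h.dec.uniq h1 hn
    refine (hN.line n).2 ⟨hn.1, ?_⟩
    have h3 := hse n hn.1
    rw [h2] at h3
    have h4 := congrFun h3 0
    change e n 0 = e n 0 + 1 * e n 1 at h4
    rw [one_mul] at h4
    exact left_eq_add.1 h4
  refine ⟨hcl, ?_⟩
  -- every element of `l b` is a component
  have hzW : ∀ z ∈ zc (S : Subgroup G), z ∈ Wd (S : Subgroup G) := fun z hz => zc_le_Wd _ hz
  have hsurj : ∀ n ∈ l b, ∃ z ∈ zc (S : Subgroup G), IsC N ⊥ b z n := by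
    choose f hf using fun z : zc (S : Subgroup G) => h.dec.ex_comp b (hzW z z.2)
    let φ : zc (S : Subgroup G) → l b := fun z => ⟨f z, hcl z z.2 _ (hf z)⟩
    have hφ : Function.Injective φ := by
      intro z z' hzz
      have h1 : f z = f z' := congrArg Subtype.val hzz
      have h2 := h.dec.comp_mul (h.dec.comp_inv (hf z)) (hf z')
      rw [h1, inv_mul_cancel] at h2
      have h3 : ((z : G))⁻¹ * (z' : G) = 1 :=
        eq_one_of h htr (hzS _ (mul_mem (inv_mem z.2) z'.2)) (hzW _ (mul_mem (inv_mem z.2) z'.2)) h2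
      exact Subtype.ext (inv_mul_eq_one.1 h3)
    have hb : Function.Bijective φ := hφ.bijective_of_nat_card_le (by rw [hcard]; exact hZ)
    intro n hn
    obtain ⟨z, hz⟩ := hb.2 ⟨n, hn⟩
    have h1 : f z = n := congrArg Subtype.val hz
    exact ⟨z, z.2, h1 ▸ hf z⟩
  -- `v b`
  obtain ⟨v₀, hv₀⟩ := h.dec.ex_comp b (hzW v hv)
  have hv01 : v₀ ≠ 1 := by
    rintro rfl
    exact hv1 (eq_one_of h htr (hzS v hv) (hzW v hv) hv₀)
  have key := core (T := (S : Subgroup G) ⊓ normalizer (N b : Set G)) (P₀ := P ⊓ normalizer (N b : Set G))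
    (N := N b) (l := l b) (R := (S : Subgroup G) ⊓ D b) (v₀ := v₀) (S.isPGroup'.to_le inf_le_left) ?_
    (inf_le_inf_right _ hSP) (fun g hg x hx => (mem_normalizer_iff.1 hg.2 x).1 hx) hN2 hlN hcard ?_
    (inf_le_inf_left _ ((h.DE b).trans (h.dec.EN b))) ?_ (hcl v hv _ hv₀) hv01 ?_
  · intro g hg hgn x hx
    exact key g ⟨hg, smul_eq_iff.1 hgn⟩ x hx
  · -- Sylow
    intro W hW hW2
    obtain ⟨p, hp, hpW⟩ := conj_into hSP (hW.trans inf_le_left) hW2
    obtain ⟨c, hpc, -⟩ := h.dec.perm p (hPM hp) b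
    obtain ⟨s, hs, hsc⟩ := htr c b
    have hgn : MulAut.conj (s * p) • N b = N b := by rw [map_mul, mul_smul, hpc, hsc]
    refine ⟨s * p, ⟨mul_mem (hSP hs) hp, smul_eq_iff.1 hgn⟩, fun w hw => mem_inf.2 ⟨?_, ?_⟩⟩
    · have e3 : s * p * w * (s * p)⁻¹ = s * (p * w * p⁻¹) * s⁻¹ := by group
      rw [e3]
      exact mul_mem (mul_mem hs (hpW w hw)) (inv_mem hs)
    · exact mul_mem (mul_mem (smul_eq_iff.1 hgn) (hW hw).2) (inv_mem (smul_eq_iff.1 hgn))
  · -- `T` centralises `l b`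
    intro t ht x hx
    obtain ⟨z, hz, hzx⟩ := hsurj x hx
    have h1 := h.dec.comp_conj (hSM ht.1) (smul_eq_iff.2 ht.2) hzx
    rw [hzS z hz t ht.1] at h1
    exact mul_inv_eq_iff_eq_mul.1 (h.dec.uniq h1 hzx)
  · -- the root group
    intro x hx hxl z hz
    have hx1 : e x 1 ≠ 0 := fun h0 => hxl ((hN.line x).2 ⟨hx, h0⟩)
    obtain ⟨hzN, hz1⟩ := (hN.line z).1 hz
    obtain ⟨s, hs, hse⟩ := hN.sylow (e z 0 / e x 1)
    refine ⟨s, hs, hein _ (mul_mem (hnN (hEn s hs.2) x hx) (inv_mem hx)) _ hzN ?_⟩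
    rw [hcomm s (hEn s hs.2) _ hse x hx]
    funext i
    fin_cases i
    · change e z 0 / e x 1 * e x 1 = e z 0
      exact div_mul_cancel₀ _ hx1
    · exact hz1.symm
  · intro g hg
    have h1 := h.dec.comp_conj (hPM hg.1) (smul_eq_iff.2 hg.2) hv₀
    rw [hvP g hg.1] at h1
    exact mul_inv_eq_iff_eq_mul.1 (h.dec.uniq h1 hv₀)

/-- **Natural blocks with `q = 4` and `S` transitive on the blocks are impossible** (any number of blocks). -/
theorem one_orb_four [Nonempty ι] (B : RB S) (hZ : 4 ≤ Nat.card (zc (S : Subgroup G))) (hq : ∀ b, q b = 4) : False := by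
  obtain ⟨P, hP, hne⟩ := B.ex
  obtain ⟨v, hv, hv1⟩ : ∃ v ∈ zc (S : Subgroup G) ⊓ centralizer (P : Set G), v ≠ 1 := by
    by_contra hcon
    push Not at hcon
    exact hne ((eq_bot_iff_forall _).2 hcon)
  have hvP : ∀ g ∈ P, g * v * g⁻¹ = v := fun g hg => by
    rw [mem_centralizer_iff.1 hv.2 g hg, mul_inv_cancel_right]
  have hcl := fun b => cent_line h htr B (hq b) hZ hP hv.1 hv1 hvP
  have hPM : P ≤ MZ (S : Subgroup G) := le_MZ hP
  have hSP : (S : Subgroup G) ≤ P := hP.isLoc.le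
  -- `P` centralises `Z`
  refine hP.not_zc ((le_trans ?_ (centralizer_le_normalizer _)))
  intro p hp
  rw [mem_centralizer_iff]
  intro z hz
  have hzW : z ∈ Wd (S : Subgroup G) := zc_le_Wd _ hz
  have key : z⁻¹ * (p * z * p⁻¹) = 1 := by
    refine ext_of h (mul_mem (inv_mem hzW) (nor p (hPM hp) z hzW)) fun c => ?_
    -- the `c`-component
    obtain ⟨n, hn⟩ := h.dec.ex_comp c hzW
    obtain ⟨b, hb, -⟩ := h.dec.perm p⁻¹ (inv_mem (hPM hp)) c
    have hb' : MulAut.conj p • N b = N c := by rw [← hb, map_inv, smul_inv_smul]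
    obtain ⟨s, hs, hsc⟩ := htr c b
    have hg : MulAut.conj (p * s) • N c = N c := by rw [map_mul, mul_smul, hsc, hb']
    have hgP : p * s ∈ P := mul_mem hp (hSP hs)
    have h1 := h.dec.comp_conj (hPM hgP) hg hn
    rw [(hcl c).2 _ hgP hg n ((hcl c).1 z hz n hn), mul_inv_cancel_right] at h1
    have h2 : p * s * z * (p * s)⁻¹ = p * z * p⁻¹ := by
      have h3 : s * z * s⁻¹ = z := by rw [(mem_zc.1 hz).2.1 s hs, mul_inv_cancel_right]
      calc p * s * z * (p * s)⁻¹ = p * (s * z * s⁻¹) * p⁻¹ := by group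
        _ = p * z * p⁻¹ := by rw [h3]
    rw [h2] at h1
    have h4 := h.dec.comp_mul (h.dec.comp_inv hn) h1
    rwa [inv_mul_cancel] at h4
  have key' : p * z * p⁻¹ = z := (inv_mul_eq_one.1 key).symm
  exact (mul_inv_eq_iff_eq_mul.1 key').symm

end orb

/-- The same over `Wide`. -/
theorem wide_orb_four [Finite ι] [Nonempty ι] (W : Wide S) (h : NBs (S : Subgroup G) N E D l (fun _ => 4))
    (htr : ∀ b c, ∃ s ∈ (S : Subgroup G), MulAut.conj s • N b = N c) : False :=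
  one_orb_four h htr W.toRB W.four_le fun _ => rfl

end Cfsg.Agent.Omega.NOThreeL.RRed.OneOrbFour

end

section


/-!
# Box R: LEMMA E data for the natural blocks of a mixed family (#27870 (B)), helper540

* `at_rrs` : for `D ∈ RRs` : `HBadNat.At S (un Q (NN D)) A e` with `im Q A = D`, `A ≤ C(un Q (CC D))`;
* **`nat_rrs`** : the same, unfolded.
-/

set_option autoImplicit false
set_option linter.unusedSectionVars false

namespace Cfsg.Agent.Omega.NOThreeL.RRed.HBadNatM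

open Subgroup Cfsg Cfsg.Agent.ZN Cfsg.Agent.Omega.MinPar
open Cfsg.Agent.Omega.FFThm (NatKM NoOverM)
open Cfsg.Agent.Omega.FrameFF (cv)
open Cfsg.Agent.Omega.NO3S.ThmB (Nb)
open Cfsg.Agent.Omega.NO3S.KeyRad (blk)
open Cfsg.Agent.Omega.NOThreeL.RSplit (Nrm)
open Cfsg.Agent.Omega.NOThreeL.RRed.NS (fxd brk mem_fxd un conj_eq_cj YY)
open Cfsg.Agent.Omega.NOThreeL.RRed.Blk.TypesNat (XH ph ph_smul XH_faith ph_eq ph_surj no_XH)
open Cfsg.Agent.Omega.NOThreeL.RRed.Blk.Asm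
open Cfsg.Agent.Omega.NOThreeL.RRed.Blk.AsmG (Inp RRs)
open Cfsg.Agent.Omega.NOThreeL.RRed.Blk.AsmInp (nrm_box inp_box no_of_act spl_of_mvAct td_RRs act_iff)
open Cfsg.Agent.Omega.NOThreeL.RRed.Blk.AsmOneBlk (EB rrs_sub nat_fam)
open Cfsg.Agent.Omega.NOThreeL.RRed.Blk.AsmCore (im EP KP im_cj mem_im ph_mem_im im_smul)
open Cfsg.Agent.Omega.NOThreeL.RRed.WideTree (Act MvAct)
open Cfsg.Agent.Omega.NOThreeL.RRed.HBadNat (At at_of)
open Cfsg.Agent.Omega.NOThreeL.RRed.LemmaE (Up)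
open Cfsg.Agent.Omega.NOThreeL.RTree (RB)
open Cfsg.Agent.Omega.NOThreeL.Merge (MZ le_MZ isLoc_MZ)
open scoped Pointwise

universe u

variable {G : Type u} [Group G] [Finite G] {S : Sylow 2 G}

/-- the full root group moves the block -/
theorem not_cent {N A : Subgroup G} {F : Type} [Field F] {e : G → Fin 2 → F} (t : At (S : Subgroup G) N A e) :
    ¬ A ≤ centralizer (N : Set G) := by
  intro h
  obtain ⟨a, ha, hup⟩ := t.all 1
  obtain ⟨w, hw, hw'⟩ := t.sur ![0, 1]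
  have h1 := congrFun (hup w hw) 0
  rw [← mem_centralizer_iff.1 (h ha) w hw, mul_inv_cancel_right, hw'] at h1
  simp at h1

/-- the centraliser of `un Q N` -/
theorem le_cent_un {Q : Nrm (MZ (S : Subgroup G)) (zl (S : Subgroup G) (MZ (S : Subgroup G)))} {A : Subgroup G}
    (hA : A ≤ MZ (S : Subgroup G)) {N : AddSubgroup Q.Mod} (h : ∀ x ∈ im Q A, ∀ m ∈ N, x • m = m) :
    A ≤ centralizer (un Q N : Set G) := by
  intro a ha
  rw [mem_centralizer_iff]
  rintro _ ⟨m, hm, rfl⟩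
  exact (mul_inv_eq_iff_eq_mul.1 ((im_smul Q).1 h a ha (hA ha) m hm)).symm

/-- **the root group of `D ∈ RRs`** -/
theorem at_rrs (B : RB S) (mv : MvAct (S : Subgroup G))
    (no : NoOverM (zl (S : Subgroup G) (MZ (S : Subgroup G))) (MZ (S : Subgroup G)))
    (Q : Nrm (MZ (S : Subgroup G)) (zl (S : Subgroup G) (MZ (S : Subgroup G)))) {D : Subgroup (XH Q)}
    (hD : D ∈ RRs S (MZ (S : Subgroup G)) Q) :
    ∃ (F : Type) (_ : Field F) (_ : CharP F 2) (e : G → Fin 2 → F) (A : Subgroup G),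
      im Q A = D ∧ A ≤ centralizer (un Q (CC (EB S Q) Q.Mod D) : Set G) ∧
        At (S : Subgroup G) (un Q (NN (EB S Q) Q.Mod D)) A e := by
  obtain ⟨hI, h4, hGB, hFam, -⟩ := nat_fam B mv no Q
  have hSL : (S : Subgroup G) ≤ MZ (S : Subgroup G) := (isLoc_MZ B.ctx B.full B.data.noff).le
  obtain ⟨P, a, F, i1, i2, i3, k, hk, M, h, h1, -, j, hN, -, -⟩ := Blk.AsmMv.mov_of B mv Q
    (FF := RRs S (MZ (S : Subgroup G)) Q) hI.es
    (fun P hP => hI.ac P hP.1 (le_MZ hP.1) ((act_iff B.ctx.char2 hP.1).1 hP)) hGB h4 hFam.sinv rrs_sub hD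
  obtain ⟨A, t⟩ := at_of B a h h1 j
  rw [← hN] at t
  have hAE : im Q A ∈ EB S Q := ⟨A, ⟨t.AS, t.mx⟩, rfl⟩
  have hAD : im Q A = D := by
    by_contra hne
    exact not_cent t (le_cent_un (t.AS.trans hSL) ((hGB D hD).oth _ hAE hne))
  exact ⟨F, i1, i3, _, A, hAD, le_cent_un (t.AS.trans hSL) fun x hx m hm => (hGB D hD).nb.C_le hm x (hAD ▸ hx), t⟩

/-- **the root group of `D ∈ RRs`**, unfolded -/
theorem nat_rrs (B : RB S) (mv : MvAct (S : Subgroup G))
    (no : NoOverM (zl (S : Subgroup G) (MZ (S : Subgroup G))) (MZ (S : Subgroup G)))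
    (Q : Nrm (MZ (S : Subgroup G)) (zl (S : Subgroup G) (MZ (S : Subgroup G)))) {D : Subgroup (XH Q)}
    (hD : D ∈ RRs S (MZ (S : Subgroup G)) Q) :
    ∃ (F : Type) (_ : Field F) (_ : CharP F 2) (e : G → Fin 2 → F),
      ∃ A ∈ Blk.AsmCore.EE (S : Subgroup G) (Wd (S : Subgroup G)), im Q A = D ∧
        (∀ v ∈ un Q (NN (EB S Q) Q.Mod D), ∀ w ∈ un Q (NN (EB S Q) Q.Mod D), e (v * w) = e v + e w) ∧
        (∀ v ∈ un Q (NN (EB S Q) Q.Mod D), e v = 0 → v = 1) ∧
        (∀ x, ∃ v ∈ un Q (NN (EB S Q) Q.Mod D), e v = x) ∧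
        A ≤ normalizer (un Q (NN (EB S Q) Q.Mod D) : Set G) ∧
        A ≤ centralizer (un Q (CC (EB S Q) Q.Mod D) : Set G) ∧
        (∀ β, ∃ a ∈ A, Up (un Q (NN (EB S Q) Q.Mod D)) e a β) ∧
        ∀ A' ∈ Blk.AsmCore.EE (S : Subgroup G) (Wd (S : Subgroup G)),
          ¬ A' ≤ centralizer (un Q (NN (EB S Q) Q.Mod D) : Set G) →
            ∀ a ∈ A', ∃ β, Up (un Q (NN (EB S Q) Q.Mod D)) e a β := by
  obtain ⟨F, i1, i3, e, A, h1, h2, t⟩ := at_rrs B mv no Q hD
  exact ⟨F, i1, i3, e, A, ⟨t.AS, t.mx⟩, h1, t.mul, t.inj, t.sur, t.AN, h2, t.all,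
    fun A' hA' hn => t.oth A' hA'.1 hA'.2 hn⟩

end Cfsg.Agent.Omega.NOThreeL.RRed.HBadNatM

end

section


/-!
# Box R: `HBadOf.Kd` for the natural blocks of a mixed family (#27311, #27870), helper540

* **`kd_rrs`** : `N' b = un Q (NN D)`, `N' c ≤ un Q (CC D)` for `c ≠ b` ⟹ `∃ A, Kd S N' b A`.
-/

set_option autoImplicit false
set_option linter.unusedSectionVars false

namespace Cfsg.Agent.Omega.NOThreeL.RRed.HBadNatM

open Subgroup Cfsg Cfsg.Agent.ZN Cfsg.Agent.Omega.MinPar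
open Cfsg.Agent.Omega.FFThm (NatKM NoOverM)
open Cfsg.Agent.Omega.NOThreeL.RSplit (Nrm)
open Cfsg.Agent.Omega.NOThreeL.RRed.NS (un)
open Cfsg.Agent.Omega.NOThreeL.RRed.Blk.TypesNat (XH)
open Cfsg.Agent.Omega.NOThreeL.RRed.Blk.Asm
open Cfsg.Agent.Omega.NOThreeL.RRed.Blk.AsmG (RRs)
open Cfsg.Agent.Omega.NOThreeL.RRed.Blk.AsmOneBlk (EB)
open Cfsg.Agent.Omega.NOThreeL.RRed.WideTree (Act MvAct)
open Cfsg.Agent.Omega.NOThreeL.RRed.HBadOf (Kd kd_nat)
open Cfsg.Agent.Omega.NOThreeL.RTree (RB)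
open Cfsg.Agent.Omega.NOThreeL.Merge (MZ)

universe u v

variable {G : Type u} [Group G] [Finite G] {S : Sylow 2 G} {ι : Type v}

/-- **LEMMA E for a natural block of a mixed family** -/
theorem kd_rrs (B : RB S) (mv : MvAct (S : Subgroup G))
    (no : NoOverM (zl (S : Subgroup G) (MZ (S : Subgroup G))) (MZ (S : Subgroup G)))
    (Q : Nrm (MZ (S : Subgroup G)) (zl (S : Subgroup G) (MZ (S : Subgroup G)))) {D : Subgroup (XH Q)}
    (hD : D ∈ RRs S (MZ (S : Subgroup G)) Q) {N' : ι → Subgroup G} {b : ι}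
    (hb : N' b = un Q (NN (EB S Q) Q.Mod D)) (oth : ∀ c, c ≠ b → N' c ≤ un Q (CC (EB S Q) Q.Mod D)) :
    ∃ A, Kd (S : Subgroup G) N' b A := by
  obtain ⟨F, i1, i3, e, A, -, h2, t⟩ := at_rrs B mv no Q hD
  rw [← hb] at t
  exact ⟨A, kd_nat t.mul t.inj t.sur t.AS t.AN (fun c hc => h2.trans (centralizer_le (oth c hc))) t.all t.mx t.oth⟩

end Cfsg.Agent.Omega.NOThreeL.RRed.HBadNatM

end

section


/-!
# NO-3L, box R: `E1S ⟹ MvAct`, first steps ((M4) of #27316)

`I : AsmG.Inp S L Q` (no `MvAct`), `EE` : the images of the atoms of `S` in `U = zl S L`.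

* **`mem_FFs`** : `D ∈ EE`, `|D| ≥ 4` ⟹ `D ∈ FFs EE (RRs S L Q)` (gallery with (T0));
* **`permC_of`** : the complements of the blocks are permuted by `X`;
* `exists_mv` : `E1S S`, `z ∈ Z#` : some atom `A ≤ S` moves `y⁻¹ z y`, `y ∈ Y`;
* **`comp_or`** : `z` has a component `≠ 0` in a natural block (`z ∉ CC D`), or some atom `A`, `|im Q A| ≤ 3`, moves a
  conjugate of `z`.
-/

set_option autoImplicit false
set_option linter.unusedSectionVars false

namespace Cfsg.Agent.Omega.NOThreeL.RRed.MvCov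

open Subgroup Cfsg Cfsg.Agent.ZN Cfsg.Agent.Omega.MinPar
open Cfsg.Agent.Omega.FFThm (NoOverM)
open Cfsg.Agent.Omega.NOThreeL.RSplit (Nrm)
open Cfsg.Agent.Omega.NOThreeL.Star (YS)
open Cfsg.Agent.Omega.NOThreeL.RRed.NS (fxd brk mem_fxd un val_mem_un smul_eq_iff)
open Cfsg.Agent.Omega.NOThreeL.RTree (RB)
open Cfsg.Agent.Omega.NOThreeL.Merge (MZ le_MZ isLoc_MZ)
open Cfsg.Agent.Omega.NOThreeL.RRed.EOne (E1 E1S)
open Cfsg.Agent.Omega.NOThreeL.RRed.Blk
open Cfsg.Agent.Omega.NOThreeL.RRed.Blk.TypesNat (XH ph ph_smul XH_faith ph_eq ph_surj)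
open Cfsg.Agent.Omega.NOThreeL.RRed.Blk.Asm (Es GB NB Fam FFs NN CC St Ac le_FFs conj_FFs mem_St le_St)
open Cfsg.Agent.Omega.NOThreeL.RRed.Blk.AsmCore (EP KP im ph_mem_im)
open Cfsg.Agent.Omega.NOThreeL.RRed.Blk.AsmG (Inp RRs Ps sSup_Ps inact)
open scoped Pointwise

universe u v

section abs

variable {X : Type u} {V : Type v} [Group X] [AddCommGroup V] [DistribMulAction X V] [Finite X] [Finite V]

/-- **the gallery** : `T ⊆ EE` is stable under the inactive `P` and `S`, and no member of `T` is in `EP` for an active `P`: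
`T` is `X`-invariant. -/
theorem gal (h2 : ∀ v : V, v + v = 0) (hf : ∀ x : X, (∀ v : V, x • v = v) → x = 1)
    (hno : TypesGam.NO X V) {S : Subgroup X} {EE : Set (Subgroup X)} (E : Es S EE V) {Ps : Set (Subgroup X)}
    (htop : sSup Ps = ⊤) {T : Set (Subgroup X)} (hT : T ⊆ EE) (hst : ∀ g ∈ St EE, ∀ D ∈ T, MulAut.conj g • D ∈ T)
    (hPs : ∀ P ∈ Ps, (∀ g ∈ P, ∀ A ∈ EE, MulAut.conj g • A ∈ EE) ∨
      ∃ K : Subgroup X, P ≤ K ⊔ S ∧ ∀ D ∈ T, ∀ a ∈ D, ∀ m ∈ brk V K, a • m = m) :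
    ∀ g : X, ∀ D ∈ T, MulAut.conj g • D ∈ T := by
  let H : Subgroup X :=
    { carrier := {g | ∀ D, D ∈ T ↔ MulAut.conj g • D ∈ T}
      mul_mem' := fun {a b} ha hb D => by rw [map_mul, mul_smul, ← ha, ← hb]
      one_mem' := fun D => by rw [map_one, one_smul]
      inv_mem' := fun {a} ha D => by
        rw [ha (MulAut.conj a⁻¹ • D), ← mul_smul, ← map_mul, mul_inv_cancel, map_one, one_smul] }
  have key : ∀ P : Subgroup X, (∀ g ∈ P, ∀ D ∈ T, MulAut.conj g • D ∈ T) → P ≤ H := by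
    intro P hP g hg D
    refine ⟨hP g hg D, fun hD => ?_⟩
    have h1 := hP g⁻¹ (P.inv_mem hg) _ hD
    rwa [← mul_smul, ← map_mul, inv_mul_cancel, map_one, one_smul] at h1
  have hS : S ≤ H := key S fun s hs D hD => hst s (le_St E.nS hs) D hD
  have htop' : H = ⊤ := by
    rw [eq_top_iff, ← htop]
    refine sSup_le fun P hP => ?_
    rcases hPs P hP with h | ⟨K, hK, hc⟩
    · exact key P fun g hg D hD => hst g (le_St h hg) D hD
    · refine hK.trans (sup_le (key K fun g hg D hD => ?_) hS)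
      rw [Uni.cj_of h2 hf hno E (hT hD) (hc D hD) hg]
      exact hD
  intro g D hD
  have h1 : g ∈ H := htop' ▸ Subgroup.mem_top g
  exact (h1 D).1 hD

end abs

variable {G : Type u} [Group G] [Finite G] {S : Sylow 2 G} {L : Subgroup G} {Q : Nrm L (zl (S : Subgroup G) L)}

/-- a subgroup all of whose conjugates are in `im Q S` is trivial -/
theorem eq_bot_of {D : Subgroup (XH Q)}
    (hD : ∀ g : XH Q, MulAut.conj g • D ≤ im Q (S : Subgroup G)) : D = ⊥ := by
  set W : AddSubgroup Q.Mod := fxd (normalClosure (D : Set (XH Q))) with hW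
  have hWi : ∀ g : XH Q, ∀ m ∈ W, g • m ∈ W := by
    intro g m hm x hx
    have h1 : g⁻¹ * x * g ∈ normalClosure (D : Set (XH Q)) := by
      have := (normalClosure_normal (s := (D : Set (XH Q)))).conj_mem x hx g⁻¹
      rwa [inv_inv] at this
    have h3 := hm _ h1
    rw [mul_smul, mul_smul, inv_smul_eq_iff] at h3
    exact h3
  have h1 : L ≤ normalizer (un Q W : Set G) := (AsmUn.inv_iff Q W).1 hWi
  have hle : normalClosure (D : Set (XH Q)) ≤ im Q (S : Subgroup G) := by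
    rw [normalClosure, closure_le]
    intro x hx
    obtain ⟨y, hy, hyx⟩ := Group.mem_conjugatesOfSet_iff.1 hx
    obtain ⟨g, rfl⟩ := isConj_iff.1 hyx
    exact hD g (NS.conj_mem' hy)
  have h3 : zc (S : Subgroup G) ≤ un Q W := by
    intro z hz
    have hzU : z ∈ zl (S : Subgroup G) L := MinSimple.VModule.zc_le_zl _ _ hz
    refine ⟨Q.of z hzU, fun x hx => ?_, rfl⟩
    obtain ⟨s, hs, rfl⟩ := hle hx
    rw [ph_smul, smul_eq_iff]
    have h5 := MinSimple.VModule.mem_zc.1 hz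
    have h6 : (s : G) * z = z * s := h5.2.1 s hs
    exact mul_inv_eq_iff_eq_mul.2 h6
  have h5 : zl (S : Subgroup G) L ≤ un Q W := MinSimple.VModule.zl_le h3 h1
  rw [eq_bot_iff]
  intro d hd
  rw [Subgroup.mem_bot]
  refine XH_faith Q d fun m => ?_
  have h6 : m ∈ W := (val_mem_un Q).1 (h5 (Q.val_mem m))
  exact h6 d (subset_normalClosure hd)

section inp

variable (I : Inp S L Q)
include I

/-- **`D ∈ EE`, `|D| ≥ 4` : `D` is a conjugate of a member of `RRs`.** -/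
theorem mem_FFs {D : Subgroup (XH Q)}
    (hD : D ∈ im Q '' AsmCore.EE (S : Subgroup G) (zl (S : Subgroup G) L)) (h4 : 4 ≤ Nat.card D) :
    D ∈ FFs (im Q '' AsmCore.EE (S : Subgroup G) (zl (S : Subgroup G) L)) (RRs S L Q) := by
  by_contra hcon
  have key := gal I.two I.hf I.hno I.es (sSup_Ps Q I.gen)
    (T := {D | D ∈ im Q '' AsmCore.EE (S : Subgroup G) (zl (S : Subgroup G) L) ∧ 4 ≤ Nat.card D ∧
      D ∉ FFs (im Q '' AsmCore.EE (S : Subgroup G) (zl (S : Subgroup G) L)) (RRs S L Q)}) (fun D hD => hD.1)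
    (fun g hg D hD => ⟨(mem_St.1 hg D).1 hD.1, by rw [Asm.conj_ne_bot]; exact hD.2.1, fun h5 => hD.2.2 (by
      have h6 := conj_FFs (inv_mem hg) h5
      rwa [← mul_smul, ← map_mul, inv_mul_cancel, map_one, one_smul] at h6)⟩)
    (by
      rintro _ ⟨P, hP, hPL, rfl⟩
      by_cases hne : (EP (S : Subgroup G) P (zl (S : Subgroup G) L)).Nonempty
      · have hac := I.ac P hP hPL hne
        refine Or.inr ⟨_, hac.gen, fun D hD => (hac.dich D hD.1).resolve_left fun h5 => hD.2.2 (le_FFs ?_)⟩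
        obtain ⟨A, hA, rfl⟩ := h5
        exact ⟨hD.2.1, P, hP, hPL, A, hA, rfl⟩
      · exact Or.inl (inact I.hc Q hP hne))
  have h0 : D = ⊥ := eq_bot_of fun g => by
    have h5 := (key g D ⟨hD, h4, hcon⟩).1
    exact I.es.le _ h5
  rw [h0, Subgroup.card_bot] at h4
  omega

/-- **The complements of the blocks are permuted.** -/
theorem permC_of (hL : IsLoc (S : Subgroup G) L) (spl : AsmInp.Spl S L) :
    ∀ g : XH Q, ∀ D ∈ FFs (im Q '' AsmCore.EE (S : Subgroup G) (zl (S : Subgroup G) L)) (RRs S L Q),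
      ∃ D' ∈ FFs (im Q '' AsmCore.EE (S : Subgroup G) (zl (S : Subgroup G) L)) (RRs S L Q),
        Nat.card D' = Nat.card D ∧ ∀ m, m ∈ CC (im Q '' AsmCore.EE (S : Subgroup G) (zl (S : Subgroup G) L)) Q.Mod D ↔
          g • m ∈ CC (im Q '' AsmCore.EE (S : Subgroup G) (zl (S : Subgroup G) L)) Q.Mod D' := by
  refine Asm.permC I.two I.hf I.hno I.es ?_ (sSup_Ps Q I.gen) ?_ (fun A hA => hA.1) ?_
  · rintro _ ⟨P, hP, hPL, rfl⟩
    by_cases hne : (EP (S : Subgroup G) P (zl (S : Subgroup G) L)).Nonempty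
    · refine Or.inr ⟨_, _, I.ac P hP hPL hne, ?_⟩
      rcases AsmInp.type_of I.hc hL I.no hP hPL hne with h2 | ⟨F, i1, i2, i3, k, hF, hk, ⟨M⟩⟩
      · rintro _ ⟨A, hA, rfl⟩ h4
        have := AsmSmall.card_small I.hc hL hP hPL I.no h2 Q hA
        omega
      · intro D hD h4 N C hNC
        obtain ⟨-, N', C', h1, -, -, -, h3, -⟩ :=
          AsmAct.typC_nat I.hc hL hP hPL I.no M (spl P hP hPL hne F k M hF) Q hF D hD
        rw [(hNC.uniq I.two I.hf I.hno h1 h4).2]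
        exact h3
    · exact Or.inl (inact I.hc Q hP hne)
  · rintro D ⟨-, P, -, -, A, hA, rfl⟩
    exact ⟨A, hA.1, rfl⟩
  · rintro D ⟨h4, P, hP, hPL, A, hA, rfl⟩
    exact (I.ac P hP hPL ⟨A, hA⟩).gb ⟨A, hA, rfl⟩ h4

end inp

/-! ### Box R -/

/-- some atom moves a conjugate of `z` -/
theorem exists_mv (he : E1S (S : Subgroup G)) {z : G} (hz : z ∈ zc (S : Subgroup G)) (hz1 : z ≠ 1) :
    ∃ A ∈ AsmCore.EE (S : Subgroup G) (Wd (S : Subgroup G)), ∃ y ∈ MZ (S : Subgroup G),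
      ¬ A ≤ centralizer ({y⁻¹ * z * y} : Set G) := by
  by_contra hcon
  push Not at hcon
  apply hz1
  have h1 : E1 (S : Subgroup G) ≤ centralizer ({z} : Set G) := by
    refine NoFF.Basic.V_le fun y hy => ?_
    rintro _ ⟨a, ha, rfl⟩
    have h2 : EOne.J1 (S : Subgroup G) ≤ centralizer ({y⁻¹ * z * y} : Set G) :=
      sSup_le fun A hA => hcon A hA y hy
    have h3 := mem_centralizer_singleton_iff.1 (h2 ha)
    have e : (MulAut.conj y • a : G) = y * a * y⁻¹ := rfl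
    change (MulAut.conj y • a : G) ∈ centralizer ({z} : Set G)
    rw [mem_centralizer_singleton_iff, e]
    calc y * a * y⁻¹ * z = y * (a * (y⁻¹ * z * y)) * y⁻¹ := by group
      _ = y * ((y⁻¹ * z * y) * a) * y⁻¹ := by rw [h3]
      _ = z * (y * a * y⁻¹) := by group
  have h2 : z ∈ zc (S : Subgroup G) ⊓ centralizer (E1 (S : Subgroup G) : Set G) :=
    ⟨hz, mem_centralizer_iff.2 fun e he' => (mem_centralizer_singleton_iff.1 (h1 he'))⟩
  rw [show zc (S : Subgroup G) ⊓ centralizer (E1 (S : Subgroup G) : Set G) = ⊥ from he] at h2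
  exact Subgroup.mem_bot.1 h2

variable {Q : Nrm (MZ (S : Subgroup G)) (zl (S : Subgroup G) (MZ (S : Subgroup G)))}

/-- **a natural component, or a transvection** -/
theorem comp_or (B : RB S) (he : E1S (S : Subgroup G)) (I : Inp S (MZ (S : Subgroup G)) Q)
    (spl : AsmInp.Spl S (MZ (S : Subgroup G))) {z : G} (hz : z ∈ zc (S : Subgroup G)) (hz1 : z ≠ 1) {m : Q.Mod}
    (hm : Q.val m = z) :
    (∃ D ∈ FFs (im Q '' AsmCore.EE (S : Subgroup G) (zl (S : Subgroup G) (MZ (S : Subgroup G)))) (RRs S (MZ (S : Subgroup G)) Q),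
      m ∉ CC (im Q '' AsmCore.EE (S : Subgroup G) (zl (S : Subgroup G) (MZ (S : Subgroup G)))) Q.Mod D) ∨
    ∃ A ∈ AsmCore.EE (S : Subgroup G) (zl (S : Subgroup G) (MZ (S : Subgroup G))), Nat.card (im Q A) < 4 ∧ ∃ y ∈ MZ (S : Subgroup G),
      ¬ A ≤ centralizer ({y⁻¹ * z * y} : Set G) := by
  obtain ⟨A, hA', y, hy, hmv⟩ := exists_mv he hz hz1
  have hA : A ∈ AsmCore.EE (S : Subgroup G) (zl (S : Subgroup G) (MZ (S : Subgroup G))) := hA'
  by_cases h4 : 4 ≤ Nat.card (im Q A)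
  swap
  · exact Or.inr ⟨A, hA, by omega, y, hy, hmv⟩
  left
  have hL := isLoc_MZ B.ctx B.full B.data.noff
  have hD : im Q A ∈ FFs (im Q '' AsmCore.EE (S : Subgroup G) (zl (S : Subgroup G) (MZ (S : Subgroup G)))) (RRs S (MZ (S : Subgroup G)) Q) :=
    mem_FFs I ⟨A, hA, rfl⟩ h4
  obtain ⟨D', hD', -, h5⟩ := permC_of I hL spl (ph Q ⟨y, hy⟩) _ hD
  refine ⟨D', hD', fun h6 => hmv ?_⟩
  have h7 := (h5 ((ph Q ⟨y, hy⟩)⁻¹ • m)).2 (by rw [smul_inv_smul]; exact h6)
  obtain ⟨-, -, hGB, -⟩ := I.main (RR := RRs S (MZ (S : Subgroup G)) Q) le_rfl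
  obtain ⟨F, i1, i2, e, f, up, lo, hB, hup, -⟩ := (hGB _ hD).nb.ex
  have h8 := Asm.C_le_fxd hB h7
  rw [hup] at h8
  intro a ha
  have h9 := h8 (ph Q ⟨a, hL.le (hA.1 ha)⟩) (ph_mem_im Q ha)
  have e1 : Q.val ((ph Q ⟨y, hy⟩)⁻¹ • m) = y⁻¹ * z * y := by
    rw [← map_inv, ph_smul]
    have e2 : Q.val ((⟨y, hy⟩⁻¹ : MZ (S : Subgroup G)) • m) = y⁻¹ * Q.val m * y⁻¹⁻¹ := Nrm.val_smul _ _
    rw [e2, hm, inv_inv]
  have h10 : a * Q.val ((ph Q ⟨y, hy⟩)⁻¹ • m) * a⁻¹ = Q.val ((ph Q ⟨y, hy⟩)⁻¹ • m) := by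
    rw [ph_smul] at h9
    exact (smul_eq_iff Q _ _).1 h9
  rw [e1] at h10
  rw [mem_centralizer_singleton_iff]
  exact mul_inv_eq_iff_eq_mul.1 h10

end Cfsg.Agent.Omega.NOThreeL.RRed.MvCov

end
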