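import Cfsg.Agent.Mrg.Omega.NOThreeL.RRed.FourTree
import Cfsg.Agent.Mrg.Omega.NOThreeL.RRed.TvFin
import Cfsg.Agent.Mrg.Omega.NOThreeL.RRed.Blk.Orbit
import Cfsg.Agent.Mrg.Omega.NOThreeL.RRed.Blk.OneOf
import Cfsg.Agent.Mrg.Omega.NOThreeL.RLev.Chain
import Cfsg.Agent.Mrg.Omega.SQ1.Choice
import Cfsg.Agent.Mrg.Omega.NOThreeL.RRed.AtomTv
import Cfsg.Agent.Mrg.Omega.NOThreeL.RRed.Nat1Def
import Cfsg.Agent.Mrg.Omega.NOThreeL.RRed.Blk.SplitAll
import Cfsg.Agent.Mrg.Omega.F4.Split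
import Cfsg.Agent.Mrg.Omega.NOThreeL.VF.Nat
import Cfsg.Agent.Mrg.Omega.NOThreeL.RRed.ClassMod
import Cfsg.Agent.Mrg.Omega.VP
import Cfsg.Agent.Mrg.Omega.SQT.NoThree
import Cfsg.Agent.Mrg.Omega.SQT.Rank

-- merged: Cfsg.Agent.Mrg.Omega.NOThreeL.RRed.FourTwoO
section

section


/-!
# NO-3L, box R, `FourOf`: two orbits of blocks (piece (T2) of `FourTree`)

* `Full.inn`, `Full.letts` : the hypotheses of `Blk.Dec.cases` from 930's `TvFin.Full`;
* `cases_full`, **`cases_bks`** : `|Z| = 4` : the three cases;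
* `TwoO.k1_fix` : a minimal parabolic `R ≤ L` with `R = (R ⊓ ⨆ E b) S` fixes `v 0` or `v 1`; `TwoO.k1_norm`;
* **`TwoO.twoV`** : no K2 : `TwoV S (VO N O) v`; `TwoO.ex`, `TwoO.nl`;
* `TwoO.lett_one` : the letters of an orbit consisting of one block, for `TwoV.false_of_lett`;
* `TwoO.false_of_big` : an orbit consisting of one block with at least 5 letters: contradiction.
-/

set_option autoImplicit false
set_option linter.unusedSectionVars false

namespace Cfsg.Agent.Omega.NOThreeL.RRed.FourTwoO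

open Subgroup Cfsg Cfsg.Agent.ZN Cfsg.Agent.Omega.MinPar Cfsg.Agent.Omega.Frame Cfsg.Agent.Omega.FrameNOFF
open Cfsg.Agent.Omega.Node.NO3L Cfsg.Agent.Omega.NOThreeL.Basic Cfsg.Agent.Omega.NOThreeL.RTree
open Cfsg.Agent.Omega.NOThreeL.Merge (MZ le_MZ S_le_MZ)
open Cfsg.Agent.MinSimple.MinParabolic (IsMinPar)
open Cfsg.Agent.Omega.KL.TwoS (Rel Lett)
open Cfsg.Agent.Omega.NOThreeL.RRed.TvFin (Full)
open Cfsg.Agent.Omega.NOThreeL.RRed.FourTree
open Cfsg.Agent.Omega.NOThreeL.RRed.Blk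
open scoped Pointwise

universe u v

variable {G : Type u} [Group G]

section full

variable {S M V : Subgroup G} {I : Type u} {N E : I → Subgroup G} {R₀ : Subgroup G} {Om : I → Type u}
  [∀ i, Fintype (Om i)] [∀ i, DecidableEq (Om i)] {phi : ∀ i, Finset (Om i) → G}

theorem inn (F : Full S M V N E R₀ Om phi) : Inn M N E := fun _ _ hg hN => F.inner hg hN

theorem letts (F : Full S M V N E R₀ Om phi) : Letts.{u, u, u} N E := fun b =>
  ⟨Om b, inferInstance, inferInstance, phi b, F.three b, F.lett b⟩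

end full

section fin

variable [Finite G] {S : Sylow 2 G}

/-- `Z = C_{V*}(S)` -/
theorem zc_eq (B : RB S) : Wd (S : Subgroup G) ⊓ centralizer ((S : Subgroup G) : Set G) = zc (S : Subgroup G) := by
  refine le_antisymm (fun x hx => zc_of_fix B hx.1 fun s hs => ?_) fun x hx => mem_inf.2 ⟨zc_le_Wd _ hx, ?_⟩
  · have := mem_centralizer_iff.1 hx.2 s hs
    rw [this]; group
  · exact mem_centralizer_iff.2 fun s hs => ((mem_zc.1 hx).2.1 s hs)

variable {I : Type u} [Finite I] {N E : I → Subgroup G} {R₀ : Subgroup G} {Om : I → Type u}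
  [∀ i, Fintype (Om i)] [∀ i, DecidableEq (Om i)] {phi : ∀ i, Finset (Om i) → G}

/-- **The three cases.** -/
theorem cases_bks (h : Four S) (hB : Bks S N E R₀ Om phi) :
    (R₀ = ⊥ ∧ ∃ z O v, TwoO S (MZ (S : Subgroup G)) (Wd (S : Subgroup G)) N E R₀ z O v) ∨
    (R₀ ≠ ⊥ ∧ (∀ b c, ∃ s ∈ (S : Subgroup G), MulAut.conj s • N b = N c) ∧
      ∃ z, One (S : Subgroup G) (MZ (S : Subgroup G)) (Wd (S : Subgroup G)) N E z) ∨
    (R₀ = ⊥ ∧ ∀ b c, ∃ s ∈ (S : Subgroup G), MulAut.conj s • N b = N c) := by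
  obtain ⟨b₀⟩ := hB.nonempty
  refine hB.toDec.cases (inn hB.toFull) (letts hB.toFull) (WS h.toRB) (wsq h.toRB) ?_ b₀
  rw [zc_eq h.toRB]
  exact h.z4

end fin

section two

variable {ι : Type v} [Finite ι] [Finite G] {S : Sylow 2 G} {L U : Subgroup G} {N E : ι → Subgroup G}
  {R₀ : Subgroup G} {z : ι → G} {O : Fin 2 → Set ι} {v : Fin 2 → G} (t : TwoO S L U N E R₀ z O v)
include t

/-- `X = ⨆ b ∈ O i, E b` -/
theorem norm_X (i : Fin 2) {R : Subgroup G} (hk : (R ⊓ ⨆ b, E b) ⊔ (S : Subgroup G) = R) :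
    R ≤ normalizer ((⨆ b ∈ O i, E b : Subgroup G) : Set G) := by
  rw [← hk]
  refine sup_le ?_ ?_
  · refine inf_le_right.trans (le_norm_of fun e he x hx => ?_)
    have h1 : MulAut.conj e • (⨆ b ∈ O i, E b) ≤ ⨆ b ∈ O i, E b := by
      rw [show MulAut.conj e • (⨆ b ∈ O i, E b) = ⨆ b, MulAut.conj e • (⨆ _ : b ∈ O i, E b) from
        Subgroup.map_iSup _ _]
      refine iSup_le fun c => ?_
      rw [show MulAut.conj e • (⨆ _ : c ∈ O i, E c) = ⨆ _ : c ∈ O i, MulAut.conj e • E c from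
        Subgroup.map_iSup _ _]
      refine iSup_le fun hc => ?_
      rw [smul_of_mem (t.dec.E_normal c he)]
      exact le_iSup₂_of_le c hc le_rfl
    exact h1 ((conj_smul rfl).1 hx)
  · refine le_norm_of fun s hs x hx => ?_
    have h1 : MulAut.conj s • (⨆ b ∈ O i, E b) ≤ ⨆ b ∈ O i, E b := by
      rw [show MulAut.conj s • (⨆ b ∈ O i, E b) = ⨆ b, MulAut.conj s • (⨆ _ : b ∈ O i, E b) from
        Subgroup.map_iSup _ _]
      refine iSup_le fun c => ?_
      rw [show MulAut.conj s • (⨆ _ : c ∈ O i, E c) = ⨆ _ : c ∈ O i, MulAut.conj s • E c from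
        Subgroup.map_iSup _ _]
      refine iSup_le fun hc => ?_
      obtain ⟨d, hd, hd2⟩ := t.dec.perm s (t.dec.SL hs) c
      rw [hd2]
      exact le_iSup₂_of_le d ((t.orb i).inv s hs c hc d hd) le_rfl
    exact h1 ((conj_smul rfl).1 hx)

/-- a (K1) minimal parabolic moving `v i` is `(R ⊓ X) S`, `X = ⨆ b ∈ O i, E b`. -/
theorem k1_eq (i : Fin 2) {R : Subgroup G} (hRL : R ≤ L) (hR : IsMinPar (S : Subgroup G) R)
    (hk : (R ⊓ ⨆ b, E b) ⊔ (S : Subgroup G) = R) (hi : ∃ r ∈ R, r * v i * r⁻¹ ≠ v i) :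
    (R ⊓ ⨆ b ∈ O i, E b) ⊔ (S : Subgroup G) = R := by
  refine (dich hR (norm_X t i hk)).resolve_left fun h1 => ?_
  -- some `e ∈ R ⊓ E₀` moves `v i`
  obtain ⟨e, he, hev⟩ : ∃ e ∈ R ⊓ ⨆ b, E b, e * v i * e⁻¹ ≠ v i := by
    by_contra hcon
    push Not at hcon
    obtain ⟨r, hr, hri⟩ := hi
    have h1 : R ≤ centralizer ({v i} : Set G) := by
      rw [← hk]
      refine sup_le (fun e he => ?_) fun s hs => ?_
      · rw [mem_centralizer_singleton_iff]
        have := hcon e he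
        calc e * v i = (e * v i * e⁻¹) * e := by group
          _ = v i * e := by rw [this]
      · rw [mem_centralizer_singleton_iff]
        have := t.vS i s hs
        calc s * v i = (s * v i * s⁻¹) * s := by group
          _ = v i * s := by rw [this]
    apply hri
    rw [mem_centralizer_singleton_iff.1 (h1 hr)]
    group
  obtain ⟨b, hbi, hbz⟩ : ∃ b ∈ O i, e * z b * e⁻¹ ≠ z b := by
    by_contra hcon
    push Not at hcon
    apply hev
    have hVN := t.VN i
    have h0 : e * v i * e⁻¹ ∈ ⨆ b, N b := by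
      have h1 : MulAut.conj e • (⨆ b, N b) ≤ ⨆ b, N b := by
        rw [show MulAut.conj e • (⨆ b, N b) = ⨆ b, MulAut.conj e • N b from Subgroup.map_iSup _ _]
        refine iSup_le fun b => ?_
        rw [t.dec.E0_smul he.2 b]; exact le_iSup N b
      exact h1 ((conj_smul rfl).1 (hVN (t.vV i)))
    refine t.dec.ext h0 (hVN (t.vV i)) fun c => ?_
    by_cases hc : c ∈ O i
    · have h1 := t.dec.comp_E0 he.2 (t.comp i hc)
      rw [hcon c hc] at h1
      exact ⟨_, h1, t.comp i hc⟩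
    · have h1 := t.dec.comp_E0 he.2 (t.comp' i hc)
      rw [mul_one, mul_inv_cancel] at h1
      exact ⟨_, h1, t.comp' i hc⟩
  have hb0 := t.dec.k1 t.one hR.le ⟨e, he, hbz⟩
  have hb : E b ≤ R ⊔ (L ⊓ centralizer (U : Set G)) := hb0.trans (sup_le_sup_right inf_le_left _)
  have hbE : E b ≤ ⨆ c ∈ O i, E c := le_iSup₂_of_le b hbi le_rfl
  have hCn : R ≤ normalizer ((L ⊓ centralizer (U : Set G) : Subgroup G) : Set G) := hRL.trans t.dec.C_normal
  have key : ∀ e ∈ E b, ∀ x ∈ ((S : Subgroup G) ⊓ E b) ⊔ (L ⊓ centralizer (U : Set G)),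
      e * x * e⁻¹ ∈ ((S : Subgroup G) ⊓ E b) ⊔ (L ⊓ centralizer (U : Set G)) := by
    intro e he x hx
    obtain ⟨r, hr, c, hc, rfl⟩ := mem_sup_of hCn (hb he)
    have hcx : c * x * c⁻¹ ∈ ((S : Subgroup G) ⊓ E b) ⊔ (L ⊓ centralizer (U : Set G)) :=
      mul_mem (mul_mem (mem_sup_right hc) hx) (inv_mem (mem_sup_right hc))
    have hrE : r ∈ E b := by
      have e1 : r = (r * c) * c⁻¹ := by group
      rw [e1]; exact mul_mem he (inv_mem (t.dec.CE b hc))
    have e2 : r * c * x * (r * c)⁻¹ = r * (c * x * c⁻¹) * r⁻¹ := by group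
    rw [e2]
    have hn : r ∈ normalizer ((((S : Subgroup G) ⊓ E b) ⊔ (L ⊓ centralizer (U : Set G)) : Subgroup G) : Set G) := by
      have h3 : (zpowers r) ≤ normalizer ((((S : Subgroup G) ⊓ E b) ⊔ (L ⊓ centralizer (U : Set G)) :
          Subgroup G) : Set G) := by
        refine le_norm_of fun a ha y hy => ?_
        have haR : a ∈ R := (zpowers_le.2 hr) ha
        have haE : a ∈ E b := (zpowers_le.2 hrE) ha
        have hSn : (S : Subgroup G) ⊓ E b ≤ normalizer ((L ⊓ centralizer (U : Set G) : Subgroup G) : Set G) :=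
          inf_le_left.trans (hR.le.trans hCn)
        obtain ⟨s, hs, d, hd, rfl⟩ := mem_sup_of hSn hy
        have e3 : a * (s * d) * a⁻¹ = (a * s * a⁻¹) * (a * d * a⁻¹) := by group
        rw [e3]
        refine mul_mem (mem_sup_left ?_) (mem_sup_right (conj_of (hCn haR) hd))
        refine mem_inf.2 ⟨?_, mul_mem (mul_mem haE hs.2) (inv_mem haE)⟩
        exact (conj_of (h1 haR) (mem_inf.2 ⟨hs.1, hbE hs.2⟩)).1
      exact h3 (mem_zpowers r)
    exact conj_of hn hcx
  have h4 := t.one.gen b _ (sup_le inf_le_right (t.dec.CE b)) le_sup_left le_sup_right (le_norm_of key)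
  obtain ⟨e, he, hez⟩ := t.one.mv b
  have hSn : (S : Subgroup G) ⊓ E b ≤ normalizer ((L ⊓ centralizer (U : Set G) : Subgroup G) : Set G) :=
    inf_le_left.trans (hR.le.trans hCn)
  obtain ⟨s, hs, c, hc, rfl⟩ := mem_sup_of hSn (h4 he)
  apply hez
  have e5 : s * c * z b * (s * c)⁻¹ = s * (c * z b * c⁻¹) * s⁻¹ := by group
  rw [e5, cent hc.2 (t.dec.NU b (t.one.zN b))]
  exact t.one.zS b s hs

/-- **a (K1) minimal parabolic fixes `v 0` or `v 1`** -/
theorem k1_fix {i j : Fin 2} (hij : i ≠ j) {R : Subgroup G} (hRL : R ≤ L) (hR : IsMinPar (S : Subgroup G) R)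
    (hk : (R ⊓ ⨆ b, E b) ⊔ (S : Subgroup G) = R) (hi : ¬ R ≤ centralizer ({v i} : Set G)) :
    R ≤ centralizer ({v j} : Set G) := by
  have h1 : ∃ r ∈ R, r * v i * r⁻¹ ≠ v i := by
    by_contra hcon; push Not at hcon; exact hi (TwoO.le_cent_iff.2 hcon)
  rw [← k1_eq t i hRL hR hk h1]
  have h2 : (⨆ b ∈ O i, E b) ≤ centralizer ({v j} : Set G) := iSup₂_le fun b hb =>
    (t.E_cent (t.notMem hij hb)).trans (centralizer_le (Set.singleton_subset_iff.2 (t.vV j)))
  exact sup_le (inf_le_right.trans h2) (TwoO.le_cent_iff.2 (t.vS j))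

/-- a (K1) minimal parabolic normalises `V 0`, `V 1` -/
theorem k1_norm {R : Subgroup G} (hk : (R ⊓ ⨆ b, E b) ⊔ (S : Subgroup G) = R) (i : Fin 2) :
    R ≤ normalizer (VO N O i : Set G) := by
  rw [← hk]
  exact sup_le (inf_le_right.trans (iSup_le fun b => t.E_V b i)) (t.S_V i)

end two

section plug

variable {ι : Type v} [Finite ι] [Finite G] {S : Sylow 2 G} {N E : ι → Subgroup G} {z : ι → G} {O : Fin 2 → Set ι}
  {v : Fin 2 → G}

theorem fin_ne {i j : Fin 2} (hij : i ≠ j) : (i = 0 ∧ j = 1) ∨ (i = 1 ∧ j = 0) := by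
  have h2 : ∀ a b : Fin 2, a ≠ b → (a = 0 ∧ b = 1) ∨ (a = 1 ∧ b = 0) := by decide
  exact h2 i j hij

variable (B : RB S) (t : TwoO S (MZ (S : Subgroup G)) (Wd (S : Subgroup G)) N E ⊥ z O v)
  (hno : ∀ R, IsParS (S : Subgroup G) R → ¬ R ≤ normalizer (((S : Subgroup G) ⊓ ⨆ b, E b : Subgroup G) : Set G))

include t

theorem k1_of {R : Subgroup G} (hR : IsParS (S : Subgroup G) R)
    (hn : ¬ R ≤ normalizer (((S : Subgroup G) ⊓ ⨆ b, E b : Subgroup G) : Set G)) :
    (R ⊓ ⨆ b, E b) ⊔ (S : Subgroup G) = R :=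
  (dich hR.toIsMinPar ((le_MZ hR).trans t.dec.iSup_normal)).resolve_left hn

include B

theorem v_zc (i : Fin 2) : v i ∈ zc (S : Subgroup G) := zc_of_fix B (t.VU i (t.vV i)) (t.vS i)

/-- some `R ∈ P*(S)` moves `v i` -/
theorem exists_mv (i : Fin 2) : ∃ R, IsParS (S : Subgroup G) R ∧ ¬ R ≤ centralizer ({v i} : Set G) := by
  by_contra hcon
  push Not at hcon
  have hU : IsPGroup 2 (zpowers (v i)) := by
    refine S.isPGroup'.to_le ?_
    rw [zpowers_le]; exact zc_le _ (v_zc B t i)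
  have hn : ∀ {H : Subgroup G}, H ≤ centralizer ({v i} : Set G) → H ≤ normalizer ((zpowers (v i) : Subgroup G) : Set G) := by
    intro H hH
    refine hH.trans (le_trans ?_ (centralizer_le_normalizer _))
    intro g hg
    refine mem_centralizer_iff.2 fun x hx => ?_
    obtain ⟨k, rfl⟩ := mem_zpowers_iff.1 hx
    have e : Commute (v i) g := (mem_centralizer_singleton_iff.1 hg).symm
    exact (e.zpow_left k).eq
  have h1 := Merge.nonLoc_MZ B.ctx B.full (zpowers (v i)) hU (hn (sSup_le fun R hR => hcon R hR))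
    (hn (centralizer_le (Set.singleton_subset_iff.2 (v_zc B t i))))
  exact t.v1 i (zpowers_eq_bot.1 h1)

include hno

theorem cen {R : Subgroup G} (hR : IsParS (S : Subgroup G) R) :
    R ≤ centralizer ({v 0} : Set G) ∨ R ≤ centralizer ({v 1} : Set G) := by
  by_cases h0 : R ≤ centralizer ({v 0} : Set G)
  · exact Or.inl h0
  · exact Or.inr (k1_fix t (by decide) (le_MZ hR) hR.toIsMinPar (k1_of t hR (hno R hR)) h0)

theorem ex {i j : Fin 2} (hij : i ≠ j) : ∃ R, IsParS (S : Subgroup G) R ∧ R ≤ centralizer ({v j} : Set G) ∧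
    ¬ R ≤ centralizer ({v i} : Set G) := by
  obtain ⟨R, hR, h1⟩ := exists_mv B t i
  refine ⟨R, hR, ?_, h1⟩
  rcases fin_ne hij with ⟨rfl, rfl⟩ | ⟨rfl, rfl⟩
  · exact (cen B t hno hR).resolve_left h1
  · exact (cen B t hno hR).resolve_right h1

/-- `⟨C_G(v 0), C_G(v 1)⟩` is nonlocal -/
theorem nl : NonLoc (centralizer ({v 0} : Set G)) (centralizer ({v 1} : Set G)) := by
  intro U hU h0 h1
  refine Merge.nonLoc_MZ B.ctx B.full U hU (sSup_le fun R hR => ?_)
    ((centralizer_le (Set.singleton_subset_iff.2 (v_zc B t 0))).trans h0)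
  rcases cen B t hno hR with h | h
  · exact h.trans h0
  · exact h.trans h1

/-- **Two orbits of rank one blocks, no (K2) in `P*(S)`: the frame `KL.TwoS.Fr`.** -/
theorem fr : KL.TwoS.Fr (S : Subgroup G) (VO N O) v := t.fr B (fun _ _ hij => ex B t hno hij) (nl B t hno)

/-- **909's `TwoV`** -/
theorem twoV : TwoV (S : Subgroup G) (VO N O) v := by
  have c2 := t.core2 B (fun _ _ hij => ex B t hno hij) (nl B t hno)
  exact
    { mem := t.vV
      ne := t.v1
      zS := t.zS B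
      VP := fun i => by
        rcases Fin.exists_fin_two.1 ⟨i, rfl⟩ with h | h
        · exact c2.V_le_zl (j := 1) (by rw [h]; decide)
        · exact c2.V_le_zl (j := 0) (by rw [h]; decide)
      cen := fun R hR => cen B t hno hR
      nrm := fun R hR i => k1_norm t (k1_of t hR (hno R hR)) i
      odd := c2.odd
      irr := c2.irr
      same := c2.same }

end plug

section one

variable {I : Type u} [Finite I] [Finite G] {S : Sylow 2 G} {M V : Subgroup G} {N E : I → Subgroup G}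
  {R₀ : Subgroup G} {Om : I → Type u} [∀ i, Fintype (Om i)] [∀ i, DecidableEq (Om i)]
  {phi : ∀ i, Finset (Om i) → G} {z : I → G} {O : Fin 2 → Set I} {v : Fin 2 → G}

/-- **The letters of an orbit consisting of one block.** -/
theorem lett_one (F : Full (S : Subgroup G) M V N E R₀ Om phi) (t : TwoO S M V N E R₀ z O v) {i : Fin 2} {b : I}
    (hb : b ∈ O i) (h1 : ∀ c ∈ O i, c = b) :
    Lett (VO N O i) (E b ⊔ (S : Subgroup G)) (phi b) ∧ (∀ j, i ≠ j → E b ⊔ (S : Subgroup G) ≤ centralizer ({v j} : Set G)) ∧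
      ∃ p, v i = phi b (Finset.univ.erase p) := by
  have hV : VO N O i = N b := le_antisymm (iSup₂_le fun c hc => by rw [h1 c hc]) (le_iSup₂_of_le b hb le_rfl)
  have hL := F.lett b
  have hSN : (S : Subgroup G) ≤ normalizer (N b : Set G) := by rw [← hV]; exact t.S_V i
  refine ⟨?_, fun j hij => ?_, ?_⟩
  · rw [hV]
    refine
      { odd := hL.odd
        mul := hL.mul
        inj := hL.inj
        mem := hL.mem
        act := fun g hg => ?_
        all := fun σ => ?_ }
    · have hgN : g ∈ normalizer (N b : Set G) := (sup_le (F.EN b) hSN) hg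
      exact F.rel_of_fix ((sup_le (F.EL b) F.SL) hg) (smul_of_mem hgN)
    · obtain ⟨g, hg, h2⟩ := hL.all σ
      exact ⟨g, mem_sup_left hg, h2⟩
  · refine sup_le ((t.E_cent (t.notMem hij hb)).trans (centralizer_le (Set.singleton_subset_iff.2 (t.vV j)))) ?_
    exact TwoO.le_cent_iff.2 (t.vS j)
  · have hv : v i = z b := by
      have h2 := t.comp i hb
      have h3 : v i ∈ N b := by rw [← hV]; exact t.vV i
      exact t.dec.uniq (t.dec.comp_self h3) h2
    have hT2 : IsPGroup 2 ((S : Subgroup G) ⊓ E b : Subgroup G) := S.isPGroup'.to_le inf_le_left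
    obtain ⟨p, hp, -⟩ := exists_ctr hL (F.three b) inf_le_right hT2 (z := z b) (t.one.fix b)
    exact ⟨p, by rw [hv, hp]⟩

/-- **An orbit consisting of one block with at least 4 (5) letters: contradiction.** -/
theorem false_of_big (h : Four S) (hML : ML.Final.MLK.{u, u}) (hE : ML.Ex.Two.Ext.{u, u})
    (hB : Bks S N E ⊥ Om phi)
    (hno : ∀ R, IsParS (S : Subgroup G) R → ¬ R ≤ normalizer (((S : Subgroup G) ⊓ ⨆ b, E b : Subgroup G) : Set G))
    (t : TwoO S (MZ (S : Subgroup G)) (Wd (S : Subgroup G)) N E ⊥ z O v) {i : Fin 2} {b : I} (hb : b ∈ O i)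
    (h1 : ∀ c ∈ O i, c = b) (h4 : 4 ≤ Fintype.card (Om b)) : False := by
  obtain ⟨hl, hc, p, hp⟩ := lett_one hB.toFull t hb h1
  exact (twoV h.toRB t hno).false_of_lett h.toRB hML hE hl h4 le_sup_right (hc (i + 1) (OM.KTwo.ne_add_one i)) hp

end one

end Cfsg.Agent.Omega.NOThreeL.RRed.FourTwoO

end

section


/-!
# NO-3L, box R, `FourOf`, the left case: `𝒜(O₂(C_G(Z)))` and the blocks

`F : Full S M U N E R₀ Om phi`, `One S M U N E z`; `O ≤ S`, `U ≤ O`, every `A ∈ 𝒜(O)` is generated by elements which act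
on `U` as transvections (930's `gen_tv`):

* `le_E0`, `z_fix`, `z_perm` : `A ≤ ⨆ b, E b`, `A` centralises all `z b`; `S` permutes the `z b`;
* `exists_tv` : `A` moves `N b`: some `t ∈ A` is a transposition on `N b`;
* `card_lett` : `|Om b| = 3` if some such `A ≤ O` moves `N b` and `E b ⊓ C(z b)` normalises `O`; `card_N`;
* **`exists_pure`** : some `A' ∈ 𝒜(O)` moves `N b` and centralises `N c`, `c ≠ b`.
-/

set_option autoImplicit false
set_option linter.unusedSectionVars false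

namespace Cfsg.Agent.Omega.NOThreeL.RRed.FourLeft

open Subgroup Cfsg Cfsg.Agent.ZN
open Cfsg.Agent.Omega.FFThm (ElemM OffM NoOverM)
open Cfsg.Agent.Omega.KL.TwoS (Rel Lett relIndex_le_of_sup relIndex_card comm_of_sq)
open Cfsg.Agent.Omega.NOThreeL.RRed.TvFin (Full TvV)
open Cfsg.Agent.Omega.NOThreeL.RRed.Blk
open Cfsg.Agent.Omega.NoFF.Basic (comm_symm comm_mono)
open Cfsg.Agent.Omega.NoFF.ThmJFam (card_sup_inf)
open scoped Pointwise

universe u

variable {G : Type u} [Group G]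

/-- `|V| = 4` for three letters -/
theorem card_N [Finite G] {Ω : Type u} [Fintype Ω] [DecidableEq Ω] {V R : Subgroup G} {φ : Finset Ω → G}
    (L : Lett V R φ) (h3 : Fintype.card Ω = 3) : Nat.card V = 4 := by
  have hsurj : ∀ x ∈ V, x = 1 ∨ ∃ a, x = φ (Finset.univ.erase a) := by
    intro x hx
    obtain ⟨s, hs, rfl⟩ := (L.mem x).1 hx
    have h4 : s.card ≤ 3 := by rw [← h3]; exact Finset.card_le_univ s
    have h5 : s.card = 0 ∨ s.card = 2 := by
      obtain ⟨k, hk⟩ := hs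
      omega
    rcases h5 with h5 | h5
    · left
      rw [Finset.card_eq_zero.1 h5, L.phi_empty]
    · have h6 : sᶜ.card = 1 := by rw [Finset.card_compl, h3, h5]
      obtain ⟨a, ha⟩ := Finset.card_eq_one.1 h6
      refine Or.inr ⟨a, ?_⟩
      congr 1
      ext x
      have h7 : x ∈ sᶜ ↔ x = a := by rw [ha, Finset.mem_singleton]
      rw [Finset.mem_compl] at h7
      simp only [Finset.mem_erase, Finset.mem_univ, and_true]
      tauto
  let f : Option Ω → V := fun o => match o with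
    | none => 1
    | some a => ⟨φ (Finset.univ.erase a), (L.mem _).2 ⟨_, L.even_erase a, rfl⟩⟩
  have hf : Function.Bijective f := by
    constructor
    · intro o o' h
      have h' : (f o : G) = f o' := congrArg Subtype.val h
      cases o with
      | none =>
        cases o' with
        | none => rfl
        | some a => exact absurd (show φ (Finset.univ.erase a) = 1 from h'.symm) (erase_ne_one L (by omega) a)
      | some a =>
        cases o' with
        | none => exact absurd (show φ (Finset.univ.erase a) = 1 from h') (erase_ne_one L (by omega) a)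
        | some b =>
          have h1 := L.phi_inj (L.even_erase a) (L.even_erase b) h'
          have h2 : a = b := by
            by_contra hab
            have h3 : a ∈ Finset.univ.erase b := Finset.mem_erase.2 ⟨hab, Finset.mem_univ a⟩
            rw [← h1] at h3
            exact (Finset.mem_erase.1 h3).1 rfl
          rw [h2]
    · rintro ⟨v, hv⟩
      rcases hsurj v hv with h | ⟨a, h⟩
      · exact ⟨none, Subtype.ext h.symm⟩
      · exact ⟨some a, Subtype.ext h.symm⟩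
  rw [← Nat.card_congr (Equiv.ofBijective f hf), Nat.card_eq_fintype_card, Fintype.card_option, h3]

/-- a four-group: two elements outside `{1, z}` differ by `z` at most -/
theorem four_or [Finite G] {V : Subgroup G} (h4 : Nat.card V = 4) (sq : ∀ x ∈ V, x * x = 1) {z w y : G} (hz : z ∈ V)
    (hz1 : z ≠ 1) (hw : w ∈ V) (hw1 : w ≠ 1) (hwz : w ≠ z) (hy : y ∈ V) :
    y = 1 ∨ y = z ∨ y = w ∨ y = w * z := by
  have hfin : Finite V := inferInstance
  have _ := Fintype.ofFinite V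
  classical
  by_contra hcon
  push Not at hcon
  obtain ⟨h1, h2, h3, h5⟩ := hcon
  have hwz' : w * z ∈ V := mul_mem hw hz
  let s : Finset V := {1, ⟨z, hz⟩, ⟨w, hw⟩, ⟨w * z, hwz'⟩, ⟨y, hy⟩}
  have e1 : (1 : V) ≠ ⟨z, hz⟩ := fun e => hz1 (congrArg Subtype.val e).symm
  have e2 : (1 : V) ≠ ⟨w, hw⟩ := fun e => hw1 (congrArg Subtype.val e).symm
  have e3 : (1 : V) ≠ ⟨w * z, hwz'⟩ := fun e => by
    have e' : w * z = 1 := (congrArg Subtype.val e).symm
    apply hwz
    calc w = w * z * z⁻¹ := by group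
      _ = z⁻¹ := by rw [e', one_mul]
      _ = z := inv_eq_of_mul_eq_one_right (sq z hz)
  have e4 : (1 : V) ≠ ⟨y, hy⟩ := fun e => h1 (congrArg Subtype.val e).symm
  have e5 : (⟨z, hz⟩ : V) ≠ ⟨w, hw⟩ := fun e => hwz (congrArg Subtype.val e).symm
  have e6 : (⟨z, hz⟩ : V) ≠ ⟨w * z, hwz'⟩ := fun e => by
    have e' : z = w * z := congrArg Subtype.val e
    exact hw1 (right_eq_mul.1 e')
  have e7 : (⟨z, hz⟩ : V) ≠ ⟨y, hy⟩ := fun e => h2 (congrArg Subtype.val e).symm
  have e8 : (⟨w, hw⟩ : V) ≠ ⟨w * z, hwz'⟩ := fun e => by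
    have e' : w = w * z := congrArg Subtype.val e
    exact hz1 (left_eq_mul.1 e')
  have e9 : (⟨w, hw⟩ : V) ≠ ⟨y, hy⟩ := fun e => h3 (congrArg Subtype.val e).symm
  have e10 : (⟨w * z, hwz'⟩ : V) ≠ ⟨y, hy⟩ := fun e => h5 (congrArg Subtype.val e).symm
  have hc : s.card = 5 := by
    simp only [s]
    rw [Finset.card_insert_of_notMem, Finset.card_insert_of_notMem, Finset.card_insert_of_notMem,
      Finset.card_insert_of_notMem, Finset.card_singleton]
    · simpa using e10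
    · simp only [Finset.mem_insert, Finset.mem_singleton, not_or]
      exact ⟨e8, e9⟩
    · simp only [Finset.mem_insert, Finset.mem_singleton, not_or]
      exact ⟨e5, e6, e7⟩
    · simp only [Finset.mem_insert, Finset.mem_singleton, not_or]
      exact ⟨e1, e2, e3, e4⟩
  have h6 := Finset.card_le_univ s
  rw [hc, ← Nat.card_eq_fintype_card, h4] at h6
  omega

section full

variable [Finite G] {S : Sylow 2 G} {M U : Subgroup G} {I : Type u} {N E : I → Subgroup G} {R₀ : Subgroup G}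
  {Om : I → Type u} [∀ i, Fintype (Om i)] [∀ i, DecidableEq (Om i)] {phi : ∀ i, Finset (Om i) → G} {z : I → G}

theorem mem_E0 (F : Full (S : Subgroup G) M U N E R₀ Om phi) (hI : Nonempty I) {t c : G} (ht : t ∈ M) (hc : c ∈ U)
    (h : TvV U c t) : t ∈ ⨆ b, E b := by
  by_cases hne : t ∈ centralizer (U : Set G)
  · obtain ⟨b⟩ := hI
    exact (le_iSup E b) (F.CE b ⟨ht, hne⟩)
  · obtain ⟨i, hi, -⟩ := F.tvs t ht c hc h hne
    exact (le_iSup E i) hi

theorem le_E0 (F : Full (S : Subgroup G) M U N E R₀ Om phi) (hI : Nonempty I) {A : Subgroup G} (hA : A ≤ M)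
    (hg : A ≤ closure {t | t ∈ A ∧ ∃ c ∈ U, TvV U c t}) : A ≤ ⨆ b, E b := by
  refine hg.trans ((closure_le _).2 ?_)
  rintro t ⟨ht, c, hc, h⟩
  exact mem_E0 F hI (hA ht) hc h

theorem z_fix' (D : Dec (S : Subgroup G) M U N E R₀) (hin : Inn M N E) (o : One (S : Subgroup G) M U N E z) {s : G}
    (hs : s ∈ (S : Subgroup G)) {b : I} (hb : MulAut.conj s • N b = N b) : s * z b * s⁻¹ = z b := by
  obtain ⟨t, ht, h⟩ := D.act_S hin hs hb
  rw [h _ (o.zN b)]
  exact o.zS b t ht

theorem z_fix (D : Dec (S : Subgroup G) M U N E R₀) (hin : Inn M N E) (o : One (S : Subgroup G) M U N E z) {s : G}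
    (hs : s ∈ (S : Subgroup G)) (hs0 : s ∈ ⨆ b, E b) (b : I) : s * z b * s⁻¹ = z b :=
  z_fix' D hin o hs (D.E0_smul hs0 b)

/-- `S` permutes the `z b` -/
theorem z_perm (D : Dec (S : Subgroup G) M U N E R₀) (o : One (S : Subgroup G) M U N E z) {s : G}
    (hs : s ∈ (S : Subgroup G)) {b c : I} (hb : MulAut.conj s • N b = N c) : s * z b * s⁻¹ = z c := by
  have h1 : s * z b * s⁻¹ ∈ N c := (conj_smul hb).1 (o.zN b)
  refine (o.fix c _ h1 fun u hu => ?_).resolve_left fun e => o.z1 b (conj_eq_one_iff.1 e)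
  have hE := D.E_of_N (D.SL hs) hb
  have h2 : s⁻¹ * u * s ∈ E b := by
    have h3 : s * (s⁻¹ * u * s) * s⁻¹ ∈ E c := by
      have e : s * (s⁻¹ * u * s) * s⁻¹ = u := by group
      rw [e]; exact hu.2
    exact (conj_smul hE).2 h3
  have h4 : s⁻¹ * u * s ∈ (S : Subgroup G) ⊓ E b :=
    ⟨(S : Subgroup G).mul_mem ((S : Subgroup G).mul_mem ((S : Subgroup G).inv_mem hs) hu.1) hs, h2⟩
  have h5 := o.zS b _ h4
  calc u * (s * z b * s⁻¹) * u⁻¹ = s * ((s⁻¹ * u * s) * z b * (s⁻¹ * u * s)⁻¹) * s⁻¹ := by group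
    _ = s * z b * s⁻¹ := by rw [h5]

/-- `A` moves `N b`: some `t ∈ A` is a transvection which moves `N b` -/
theorem exists_tv (F : Full (S : Subgroup G) M U N E R₀ Om phi) {A : Subgroup G} (hA : A ≤ M)
    (hg : A ≤ closure {t | t ∈ A ∧ ∃ c ∈ U, TvV U c t}) {b : I} (hb : ¬ A ≤ centralizer (N b : Set G)) :
    ∃ t ∈ A, t ∈ E b ∧ t ∉ centralizer (N b : Set G) ∧ ∃ p q : Om b, p ≠ q ∧ Rel (phi b) t (Equiv.swap p q) := by
  obtain ⟨t, ⟨ht, c, hc, htv⟩, htb⟩ : ∃ t ∈ {t | t ∈ A ∧ ∃ c ∈ U, TvV U c t}, t ∉ centralizer (N b : Set G) := by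
    by_contra hcon
    push Not at hcon
    exact hb (hg.trans ((closure_le _).2 hcon))
  have hne : t ∉ centralizer (U : Set G) := fun h => htb (centralizer_le (F.NU b) h)
  obtain ⟨i, hi, p, q, hpq, -, hrel⟩ := F.tvs t (hA ht) c hc htv hne
  by_cases hib : i = b
  · subst hib
    exact ⟨t, ht, hi, htb, p, q, hpq, hrel⟩
  · exact absurd (F.EC i b hib hi) htb

/-- **three letters** -/
theorem card_lett (F : Full (S : Subgroup G) M U N E R₀ Om phi) (o : One (S : Subgroup G) M U N E z) {O : Subgroup G}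
    (OS : O ≤ (S : Subgroup G)) {b : I} (hn : ∀ g ∈ E b, g * z b = z b * g → g ∈ normalizer (O : Set G)) {t : G}
    (ht : t ∈ O) (htE : t ∈ E b) {p q : Om b} (hpq : p ≠ q) (hrel : Rel (phi b) t (Equiv.swap p q)) :
    Fintype.card (Om b) = 3 := by
  classical
  by_contra h3
  have h4 : 4 ≤ Fintype.card (Om b) := by
    have := F.three b
    omega
  have hT2 : IsPGroup 2 ((S : Subgroup G) ⊓ E b : Subgroup G) := S.isPGroup'.to_le inf_le_left
  obtain ⟨r, hr, -⟩ := exists_ctr (F.lett b) (F.three b) inf_le_right hT2 (z := z b) (o.fix b)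
  obtain ⟨c, hc⟩ : ∃ c, c ∉ ({p, q, r} : Finset (Om b)) := by
    by_contra hcon
    push Not at hcon
    have h5 : Fintype.card (Om b) ≤ ({p, q, r} : Finset (Om b)).card := by
      rw [← Finset.card_univ]
      exact Finset.card_le_card fun x _ => hcon x
    have h6 := (Finset.card_le_three (a := p) (b := q) (c := r))
    omega
  simp only [Finset.mem_insert, Finset.mem_singleton, not_or] at hc
  have hO' : IsPGroup 2 (O ⊓ centralizer ({z b} : Set G) : Subgroup G) :=
    S.isPGroup'.to_le (inf_le_left.trans OS)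
  have htz : t * z b = z b * t := by
    have h5 := o.zS b t ⟨OS ht, htE⟩
    exact mul_inv_eq_iff_eq_mul.1 h5
  have h7 := (F.lett b).semi (O := O ⊓ centralizer ({z b} : Set G)) (p := r) (F.three b) hO'
    (by rw [← hr]; exact inf_le_right)
    (by
      intro g hg hgz
      rw [← hr] at hgz
      have h8 := hn g hg (mem_centralizer_singleton_iff.1 hgz)
      have h9 : g ∈ normalizer ((centralizer ({z b} : Set G) : Subgroup G) : Set G) := le_normalizer hgz
      rw [mem_normalizer_iff] at h8 h9 ⊢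
      intro x
      exact ⟨fun hx => ⟨(h8 x).1 hx.1, (h9 x).1 hx.2⟩, fun hx => ⟨(h8 x).2 hx.1, (h9 x).2 hx.2⟩⟩)
    (g := t) ⟨ht, mem_centralizer_singleton_iff.2 htz⟩ hrel (c := c) hc.2.2
    (Equiv.swap_apply_of_ne_of_ne hc.1 hc.2.1)
  exact hpq (Equiv.swap_eq_one_iff.1 h7)

/-- `E b` centralises `∏_{c ≠ b} N c` -/
theorem E_cent_Co (D : Dec (S : Subgroup G) M U N E R₀) (b : I) : E b ≤ centralizer (Co N R₀ b : Set G) := by
  rw [le_centralizer_iff]
  refine sup_le (iSup_le fun c => ?_) ?_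
  · rw [← le_centralizer_iff]; exact D.EC b c (Ne.symm c.2)
  · rw [← le_centralizer_iff]; exact D.ER b

/-- `|N b| = 4`: `A` acts on `N b` as a group of order at most 2 -/
theorem act_or (o : One (S : Subgroup G) M U N E z) {b : I} (sqN : ∀ x ∈ N b, x * x = 1) (h4 : Nat.card (N b) = 4)
    {t a : G} (hnt : t ∈ normalizer (N b : Set G)) (hna : a ∈ normalizer (N b : Set G)) (htz : t * z b * t⁻¹ = z b)
    (haz : a * z b * a⁻¹ = z b) (htb : t ∉ centralizer (N b : Set G)) :
    a ∈ centralizer (N b : Set G) ∨ t⁻¹ * a ∈ centralizer (N b : Set G) := by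
  obtain ⟨w, hw, hwt⟩ : ∃ w ∈ N b, t * w * t⁻¹ ≠ w := by
    by_contra hcon
    push Not at hcon
    exact htb (mem_centralizer_iff.2 fun w hw => (mul_inv_eq_iff_eq_mul.1 (hcon w hw)).symm)
  have hw1 : w ≠ 1 := by
    rintro rfl
    exact hwt (by group)
  have hwz : w ≠ z b := by
    rintro rfl
    exact hwt htz
  have hor := fun {y : G} (hy : y ∈ N b) => four_or h4 sqN (o.zN b) (o.z1 b) hw hw1 hwz hy
  -- the image of `w`
  have him : ∀ g ∈ normalizer (N b : Set G), g * z b * g⁻¹ = z b → g * w * g⁻¹ = w ∨ g * w * g⁻¹ = w * z b := by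
    intro g hg hgz
    rcases hor (conj_of hg hw) with h | h | h | h
    · exact absurd (conj_eq_one_iff.1 h) hw1
    · rw [← hgz] at h
      exact absurd (mul_left_cancel (mul_right_cancel h)) hwz
    · exact Or.inl h
    · exact Or.inr h
  have hcent : ∀ g, g * z b * g⁻¹ = z b → g * w * g⁻¹ = w → g ∈ centralizer (N b : Set G) := by
    intro g hgz hgw
    refine mem_centralizer_iff.2 fun y hy => ?_
    have h1 : g * y * g⁻¹ = y := by
      rcases hor hy with rfl | rfl | rfl | rfl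
      · group
      · exact hgz
      · exact hgw
      · calc g * (w * z b) * g⁻¹ = (g * w * g⁻¹) * (g * z b * g⁻¹) := by group
          _ = w * z b := by rw [hgz, hgw]
    exact (mul_inv_eq_iff_eq_mul.1 h1).symm
  have ht' := (him t hnt htz).resolve_left hwt
  rcases him a hna haz with h | h
  · exact Or.inl (hcent a haz h)
  · right
    have hti : t⁻¹ * z b * t = z b := by
      calc t⁻¹ * z b * t = t⁻¹ * (t * z b * t⁻¹) * t := by rw [htz]
        _ = z b := by group
    have htw : t⁻¹ * (w * z b) * t = w := by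
      rw [← ht']; group
    refine hcent _ ?_ ?_
    · calc t⁻¹ * a * z b * (t⁻¹ * a)⁻¹ = t⁻¹ * (a * z b * a⁻¹) * t := by group
        _ = z b := by rw [haz, hti]
    · calc t⁻¹ * a * w * (t⁻¹ * a)⁻¹ = t⁻¹ * (a * w * a⁻¹) * t := by group
        _ = w := by rw [h, htw]

/-- **a pure member of `𝒜(O)`** -/
theorem exists_pure (D : Dec (S : Subgroup G) M U N E R₀) (hin : Inn M N E) (o : One (S : Subgroup G) M U N E z)
    {O A : Subgroup G} (OS : O ≤ (S : Subgroup G)) (UO : U ≤ O)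
    (sq : ∀ x ∈ U, x ^ 2 = 1) (no : NoOverM U (S : Subgroup G)) (hA : KL.TwoS.Mx O A) (hA0 : A ≤ ⨆ b, E b) {b : I}
    (h4 : Nat.card (N b) = 4) {t : G} (ht : t ∈ A) (htE : t ∈ E b) (htb : t ∉ centralizer (N b : Set G)) :
    ∃ A', KL.TwoS.Mx O A' ∧ ¬ A' ≤ centralizer (N b : Set G) ∧ (∀ c, c ≠ b → A' ≤ centralizer (N c : Set G)) ∧
      A' ≤ A ⊔ U := by
  have hAS : A ≤ (S : Subgroup G) := hA.le.trans OS
  set X : Subgroup G := Co N R₀ b with hX
  have XU : X ≤ U := D.CoU b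
  have NX : N b ⊓ X = ⊥ := D.ind b
  have NXU : N b ⊔ X = U := D.sup_Co b
  have htX : t ∈ centralizer (X : Set G) := E_cent_Co D b htE
  have hAc : A ≤ centralizer (A : Set G) := hA.comm
  set Ab : Subgroup G := A ⊓ centralizer (N b : Set G) with hAb
  have sqN : ∀ x ∈ N b, x * x = 1 := fun x hx => by rw [← pow_two]; exact sq x (D.NU b hx)
  -- `A = A_b C_A(X)`
  have hsup : A ≤ Ab ⊔ (A ⊓ centralizer (X : Set G)) := by
    intro a ha
    rcases act_or o sqN h4 (D.EN b htE) (D.E0N b (hA0 ha)) (z_fix D hin o (hAS ht) (hA0 ht) b)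
      (z_fix D hin o (hAS ha) (hA0 ha) b) htb with h | h
    · exact mem_sup_left ⟨ha, h⟩
    · have e : a = t * (t⁻¹ * a) := by group
      rw [e]
      exact mul_mem (mem_sup_right ⟨ht, htX⟩) (mem_sup_left ⟨A.mul_mem (A.inv_mem ht) ha, h⟩)
  have i1 : (centralizer (X : Set G)).relIndex A ≤ (centralizer (X : Set G)).relIndex Ab :=
    relIndex_le_of_sup inf_le_left hAc hsup
  -- (NO) for `A_b`
  have hE : ElemM U Ab :=
    ⟨fun a ha => by rw [hA.sq a ha.1]; exact one_mem _, fun a ha c hc => by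
      have h1 := mem_centralizer_iff.1 (hAc ha.1) c hc.1
      have e : a * c * a⁻¹ * c⁻¹ = 1 := by rw [← h1]; group
      rw [e]; exact one_mem _⟩
  have n1 := no Ab (inf_le_left.trans hAS) hE
  have hNc : N b ≤ centralizer (Ab : Set G) := le_centralizer_iff.1 inf_le_right
  have c1 := card_sup_inf (A := N b) (B := X ⊓ centralizer (Ab : Set G))
    (comm_mono D.ab (D.NU b) (inf_le_left.trans XU))
  have c2 : N b ⊓ (X ⊓ centralizer (Ab : Set G)) = ⊥ := by
    rw [← inf_assoc, NX, bot_inf_eq]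
  rw [c2, card_bot, mul_one] at c1
  have c3 := card_sup_inf (A := N b) (B := X) (comm_mono D.ab (D.NU b) XU)
  rw [NX, card_bot, mul_one, NXU] at c3
  have c4 : Nat.card (N b ⊔ (X ⊓ centralizer (Ab : Set G)) : Subgroup G) ≤
      Nat.card (U ⊓ centralizer (Ab : Set G) : Subgroup G) :=
    Subgroup.card_le_of_le (sup_le (le_inf (D.NU b) hNc) (inf_le_inf_right _ XU))
  have c5 : Nat.card (Ab ⊓ centralizer (U : Set G) : Subgroup G) ≤
      Nat.card (Ab ⊓ centralizer (X : Set G) : Subgroup G) :=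
    Subgroup.card_le_of_le (inf_le_inf_left _ (centralizer_le XU))
  have r1 := relIndex_card (A := Ab) (C := centralizer (X : Set G))
  have r2 := relIndex_card (A := X) (C := centralizer (Ab : Set G))
  have i2 : (centralizer (X : Set G)).relIndex Ab ≤ (centralizer (Ab : Set G)).relIndex X := by
    set p := Nat.card (N b)
    set xc := Nat.card (X ⊓ centralizer (Ab : Set G) : Subgroup G)
    set ac := Nat.card (Ab ⊓ centralizer (X : Set G) : Subgroup G)
    set r := (centralizer (X : Set G)).relIndex Ab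
    set r' := (centralizer (Ab : Set G)).relIndex X
    have pp : 0 < p := Nat.card_pos
    have px : 0 < xc := Nat.card_pos
    have pa : 0 < ac := Nat.card_pos
    have k : (p * xc * ac) * r ≤ (p * xc * ac) * r' := by
      calc (p * xc * ac) * r = (ac * r) * (p * xc) := by ring
        _ = Nat.card Ab * Nat.card (N b ⊔ (X ⊓ centralizer (Ab : Set G)) : Subgroup G) := by rw [← r1, c1]
        _ ≤ Nat.card Ab * Nat.card (U ⊓ centralizer (Ab : Set G) : Subgroup G) := Nat.mul_le_mul_left _ c4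
        _ ≤ Nat.card U * Nat.card (Ab ⊓ centralizer (U : Set G) : Subgroup G) := n1
        _ ≤ Nat.card U * ac := Nat.mul_le_mul_left _ c5
        _ = (p * xc * ac) * r' := by rw [c3, r2]; ring
    exact Nat.le_of_mul_le_mul_left k (Nat.mul_pos (Nat.mul_pos pp px) pa)
  have i3 : (centralizer (Ab : Set G)).relIndex X ≤ (centralizer (A : Set G)).relIndex X :=
    relIndex_le_of_le_left (centralizer_le (show (Ab : Set G) ⊆ A from fun x hx => hx.1))
      Subgroup.index_ne_zero_of_finite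
  have hXsq : ∀ x ∈ X, x ^ 2 = 1 := fun x hx => sq x (XU hx)
  refine ⟨A ⊓ centralizer (X : Set G) ⊔ X, hA.sup (XU.trans UO) hXsq ((i1.trans i2).trans i3), fun h => ?_,
    fun c hc => ?_, sup_le (inf_le_left.trans le_sup_left) (XU.trans le_sup_right)⟩
  · exact htb (h (mem_sup_left ⟨ht, htX⟩))
  · have h1 : N c ≤ X := D.N_le_Co hc
    exact sup_le (inf_le_right.trans (centralizer_le h1)) (comm_mono D.ab XU (D.NU c))

end full

end Cfsg.Agent.Omega.NOThreeL.RRed.FourLeft

end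

section


/-!
# NO-3L, box R, the socket `FourOf`: the rank count (L2)

* `exists_ctr_of_card` : `n = 2 ^ m + 1` letters: a Sylow 2-subgroup fixes one letter and is transitive on the others;
* `card_le_two` : `R₀ = 1`, `S` transitive on the blocks, `n = 2 ^ m + 1`: `|C_V(S)| ≤ 2`;
* **`three_le`** : `R₀ = 1`, `|C_V(S)| = 4`, not two blocks of three letters: there are at least three pairs of letters;
* `hypJ_of_tran` : `S` transitive on the blocks and one block is moved at some level: `HypJ`.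
-/

set_option autoImplicit false
set_option linter.unusedSectionVars false

namespace Cfsg.Agent.Omega.NOThreeL.RRed.FourRank

open Subgroup Cfsg Cfsg.Agent.ZN Cfsg.Agent.Omega.MinPar
open Cfsg.Agent.Omega.KL.TwoS (Rel Lett even_symmDiff)
open Cfsg.Agent.Omega.NOThreeL.Merge (MZ le_MZ S_le_MZ)
open Cfsg.Agent.Omega.NOThreeL.RRed.Blk
open Cfsg.Agent.Omega.NOThreeL.RRed.FourTree
open Cfsg.Agent.Omega.NO1.BestOff (Best)
open scoped Pointwise

universe u w

section perm

variable {Ω : Type w} [Fintype Ω] [DecidableEq Ω]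

/-- a permutation of order `2 ^ m` which fixes `p` only and is transitive on the other `2 ^ m` letters -/
theorem exists_cyc {m : ℕ} (hm : 1 ≤ m) (hc : Fintype.card Ω = 2 ^ m + 1) (p : Ω) :
    ∃ σ : Equiv.Perm Ω, σ ^ 2 ^ m = 1 ∧ (∀ a, σ a = a ↔ a = p) ∧ ∀ a b, a ≠ p → b ≠ p → ∃ k : ℕ, (σ ^ k) a = b := by
  have h2 : 1 < 2 ^ m := Nat.one_lt_two_pow (by omega)
  have hne : NeZero (2 ^ m) := ⟨by omega⟩
  have hcard : Fintype.card {x : Ω // x ≠ p} = Fintype.card (ZMod (2 ^ m)) := by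
    rw [Fintype.card_subtype_compl, Fintype.card_subtype_eq, hc, ZMod.card]
    omega
  let e : {x : Ω // x ≠ p} ≃ ZMod (2 ^ m) := Fintype.equivOfCardEq hcard
  let f : Equiv.Perm {x : Ω // x ≠ p} := e.trans ((Equiv.addRight (1 : ZMod (2 ^ m))).trans e.symm)
  have hf1 : ∀ x, f x = e.symm (e x + 1) := fun x => rfl
  have hf : ∀ (k : ℕ) (x), (f ^ k) x = e.symm (e x + (k : ZMod (2 ^ m))) := by
    intro k
    induction k with
    | zero => intro x; simp
    | succ k ih =>
      intro x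
      rw [pow_succ', Equiv.Perm.mul_apply, ih, hf1, Equiv.apply_symm_apply]
      congr 1
      push_cast
      ring
  have h0 : Fact (1 < 2 ^ m) := ⟨h2⟩
  have key : ∀ (k : ℕ) (a) (ha : a ≠ p), ((Equiv.Perm.ofSubtype f) ^ k) a = ((f ^ k) ⟨a, ha⟩ : Ω) := by
    intro k a ha
    rw [← map_pow, Equiv.Perm.ofSubtype_apply_of_mem (f ^ k) ha]
  have keyp : ∀ (k : ℕ), ((Equiv.Perm.ofSubtype f) ^ k) p = p := by
    intro k
    rw [← map_pow, Equiv.Perm.ofSubtype_apply_of_not_mem (f ^ k) (by simp)]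
  refine ⟨Equiv.Perm.ofSubtype f, ?_, ?_, ?_⟩
  · ext a
    rw [Equiv.Perm.one_apply]
    by_cases ha : a = p
    · rw [ha, keyp]
    · rw [key _ a ha, hf, ZMod.natCast_self, add_zero, Equiv.symm_apply_apply]
  · intro a
    constructor
    · intro h
      by_contra ha
      have h1 := key 1 a ha
      rw [pow_one, pow_one, h, hf1] at h1
      have h3 : (⟨a, ha⟩ : {x : Ω // x ≠ p}) = e.symm (e ⟨a, ha⟩ + 1) := Subtype.ext h1
      have h4 := congrArg e h3
      rw [Equiv.apply_symm_apply, left_eq_add] at h4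
      exact one_ne_zero h4
    · rintro rfl
      have := keyp 1
      rwa [pow_one] at this
  · intro a b ha hb
    refine ⟨(e ⟨b, hb⟩ - e ⟨a, ha⟩).val, ?_⟩
    rw [key _ a ha, hf, ZMod.natCast_zmod_val, add_sub_cancel, Equiv.symm_apply_apply]

end perm

section letters

variable {G : Type u} [Group G] {Ω : Type w} [Fintype Ω] [DecidableEq Ω] {V R T : Subgroup G} {φ : Finset Ω → G}

/-- a permutation of order `2 ^ m` is induced by a 2-element -/
theorem exists_two_of [Finite G] {r : G} {σ : Equiv.Perm Ω} {m : ℕ} (hr : Rel φ r σ) (hσ : σ ^ 2 ^ m = 1) :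
    ∃ r' ∈ zpowers r, IsPGroup 2 (zpowers r') ∧ Rel φ r' σ := by
  obtain ⟨k, n, hn, hrn⟩ := Nat.exists_eq_two_pow_mul_odd (orderOf_pos r).ne'
  have hcop : Nat.Coprime n (2 ^ m) := Nat.Coprime.pow_right m (Nat.coprime_two_right.2 hn)
  obtain ⟨j, hj⟩ : ∃ j : ℕ, σ ^ (n * j) = σ := by
    rcases Nat.eq_zero_or_pos m with rfl | hm
    · rw [pow_zero, pow_one] at hσ
      exact ⟨0, by rw [hσ, one_pow]⟩
    · obtain ⟨j, -, hj⟩ := Nat.exists_mul_mod_eq_one_of_coprime hcop (Nat.one_lt_two_pow (by omega))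
      refine ⟨j, ?_⟩
      rw [← Nat.div_add_mod (n * j) (2 ^ m), hj, pow_add, pow_mul, hσ, one_pow, one_mul, pow_one]
  refine ⟨(r ^ n) ^ j, pow_mem (pow_mem (mem_zpowers r) n) j, ?_, ?_⟩
  · intro x
    refine ⟨k, ?_⟩
    obtain ⟨x, hx⟩ := x
    obtain ⟨i, rfl⟩ := mem_zpowers_iff.1 hx
    apply Subtype.ext
    show (((r ^ n) ^ j) ^ i) ^ 2 ^ k = 1
    have h1 : ((r ^ n) ^ j) ^ 2 ^ k = 1 := by
      rw [← pow_mul, ← pow_mul, show n * (j * 2 ^ k) = (2 ^ k * n) * j by ring, ← hrn, pow_mul, pow_orderOf_eq_one,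
        one_pow]
    rw [← zpow_natCast, ← zpow_mul, mul_comm i, zpow_mul, zpow_natCast, h1, one_zpow]
  · have h1 := (hr.pow n).pow j
    rwa [← pow_mul σ, hj] at h1

variable (L : Lett V R φ) (h3 : 3 ≤ Fintype.card Ω)

include L h3

/-- `n = 2 ^ m + 1`: `T` fixes a letter and is transitive on the others -/
theorem exists_ctr_of_card [Finite G] {m : ℕ} (hm : 1 ≤ m) (hc : Fintype.card Ω = 2 ^ m + 1) (hTR : T ≤ R)
    (hT : IsPGroup 2 T) (hsyl : ∀ Q : Subgroup G, Q ≤ R → IsPGroup 2 Q → ∃ e ∈ R, ∀ q ∈ Q, e * q * e⁻¹ ∈ T) :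
    ∃ p, Ctr T φ p := by
  obtain ⟨p, hp⟩ := exists_fix L h3 hTR hT
  obtain ⟨p0⟩ : Nonempty Ω := Fintype.card_pos_iff.1 (by omega)
  obtain ⟨σ, h1, h2, h4⟩ := exists_cyc hm hc p0
  obtain ⟨r, hr, hrel⟩ := L.all σ
  obtain ⟨r', hr', hp2, hrel'⟩ := exists_two_of hrel h1
  have hle : zpowers r' ≤ R := by
    rw [zpowers_le]
    exact (zpowers_le.2 hr) hr'
  obtain ⟨e, he, h5⟩ := hsyl _ hle hp2
  obtain ⟨τ, hτ⟩ := L.act e he
  have ht : e * r' * e⁻¹ ∈ T := h5 r' (mem_zpowers r')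
  have hrt : Rel φ (e * r' * e⁻¹) (τ * σ * τ⁻¹) := (hτ.mul hrel').mul hτ.inv
  have h6 : (τ * σ * τ⁻¹) p = p := hp _ ht _ hrt
  have h7 : τ⁻¹ p = p0 := by
    rw [← h2]
    have h8 : τ (σ (τ⁻¹ p)) = p := h6
    rw [Equiv.Perm.eq_inv_iff_eq]
    exact h8
  refine ⟨p, hp, fun a b ha hb => ?_⟩
  have hne : ∀ c, c ≠ p → τ⁻¹ c ≠ p0 := by
    intro c hc' h
    exact hc' ((τ⁻¹).injective (h.trans h7.symm))
  obtain ⟨k, hk⟩ := h4 (τ⁻¹ a) (τ⁻¹ b) (hne a ha) (hne b hb)
  refine ⟨(e * r' * e⁻¹) ^ k, pow_mem ht k, (τ * σ * τ⁻¹) ^ k, hrt.pow k, ?_⟩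
  rw [conj_pow, Equiv.Perm.mul_apply, Equiv.Perm.mul_apply, hk]
  exact τ.apply_symm_apply b

omit h3 in
/-- then `C_V(T) ≤ {1, z}` -/
theorem fix_of_ctr {p : Ω} (hc : Ctr T φ p) {x : G} (hx : x ∈ V) (hf : ∀ t ∈ T, t * x * t⁻¹ = x) :
    x = 1 ∨ x = φ (Finset.univ.erase p) := by
  obtain ⟨s, hs, rfl⟩ := (L.mem x).1 hx
  have hmap : ∀ t ∈ T, ∀ σ : Equiv.Perm Ω, Rel φ t σ → s.map σ.toEmbedding = s := by
    intro t ht σ hσ
    apply L.phi_inj (by rwa [Finset.card_map]) hs
    rw [← hσ s hs, hf t ht]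
  by_cases h : ∃ a ∈ s, a ≠ p
  · right
    obtain ⟨a, ha, hap⟩ := h
    have h1 : ∀ b, b ≠ p → b ∈ s := by
      intro b hb
      obtain ⟨t, ht, σ, hσ, rfl⟩ := hc.tran a b hap hb
      rw [← hmap t ht σ hσ]
      exact Finset.mem_map_of_mem _ ha
    congr 1
    ext b
    rw [Finset.mem_erase]
    refine ⟨fun hb => ⟨?_, Finset.mem_univ b⟩, fun hb => h1 b hb.1⟩
    rintro rfl
    have h2 : s = Finset.univ := by
      rw [Finset.eq_univ_iff_forall]
      intro c
      by_cases hcb : c = b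
      · rw [hcb]; exact hb
      · exact h1 c hcb
    rw [h2, Finset.card_univ] at hs
    exact (Nat.not_even_iff_odd.2 L.odd) hs
  · left
    push Not at h
    have h1 : s.card ≤ 1 := Finset.card_le_one.2 fun a ha b hb => (h a ha).trans (h b hb).symm
    have h2 : s.card = 0 := by
      obtain ⟨k, hk⟩ := hs
      omega
    rw [Finset.card_eq_zero.1 h2, L.phi_empty]

end letters

section full

variable {G : Type u} [Group G] [Finite G] {S : Sylow 2 G} {M V : Subgroup G} {I : Type u} {N E : I → Subgroup G}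
  {R₀ : Subgroup G} {Om : I → Type u} [∀ i, Fintype (Om i)] [∀ i, DecidableEq (Om i)] {phi : ∀ i, Finset (Om i) → G}

/-- a block with `2 ^ m + 1` letters has at most one vector `≠ 1` fixed by `S ∩ E b` -/
theorem exists_z (F : TvFin.Full (S : Subgroup G) M V N E R₀ Om phi) {b : I} {m : ℕ} (hm : 1 ≤ m)
    (hc : Fintype.card (Om b) = 2 ^ m + 1) :
    ∃ z : G, ∀ x ∈ N b, (∀ s ∈ (S : Subgroup G) ⊓ E b, s * x * s⁻¹ = x) → x = 1 ∨ x = z := by
  have hD := F.toDec
  obtain ⟨p, hp⟩ := exists_ctr_of_card (F.lett b) (F.three b) hm hc (T := (S : Subgroup G) ⊓ E b) inf_le_right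
    (S.isPGroup'.to_le inf_le_left) fun Q hQ h2 =>
      exists_conj_sub S hD.SL (iSup_le hD.EL) hD.iSup_normal (le_iSup E b) (hD.E_normal b) hQ h2
  exact ⟨_, fun x hx hf => fix_of_ctr (F.lett b) hp hx hf⟩

variable [Finite I]

/-- `S` transitive on the blocks, `2 ^ m + 1` letters: `|C_V(S)| ≤ 2` -/
theorem card_le_two (F : TvFin.Full (S : Subgroup G) M V N E ⊥ Om phi) {b : I} {m : ℕ} (hm : 1 ≤ m)
    (hc : Fintype.card (Om b) = 2 ^ m + 1)
    (ht : ∀ c, ∃ s ∈ (S : Subgroup G), MulAut.conj s • N c = N b) :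
    Nat.card (V ⊓ centralizer ((S : Subgroup G) : Set G) : Subgroup G) ≤ 2 := by
  classical
  have hD := F.toDec
  obtain ⟨z, hz⟩ := exists_z F hm hc
  have hV : V = ⨆ c, N c := by rw [← hD.sup, sup_bot_eq]
  have hfix : ∀ x ∈ V ⊓ centralizer ((S : Subgroup G) : Set G), ∀ s ∈ (S : Subgroup G), s * x * s⁻¹ = x := by
    intro x hx s hs
    rw [mem_centralizer_iff.1 hx.2 s hs, mul_inv_cancel_right]
  -- the component
  choose f hf using fun x : (V ⊓ centralizer ((S : Subgroup G) : Set G) : Subgroup G) => hD.ex_comp b x.2.1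
  have hfS : ∀ x, ∀ s ∈ (S : Subgroup G), MulAut.conj s • N b = N b → s * f x * s⁻¹ = f x := by
    intro x s hs hsb
    have h1 := hD.comp_conj (hD.SL hs) hsb (hf x)
    rw [hfix _ x.2 s hs] at h1
    exact hD.uniq h1 (hf x)
  have hf2 : ∀ x, f x = 1 ∨ f x = z := fun x => hz _ (hf x).1 fun s hs => hfS x s hs.1 (smul_of_mem (hD.EN b hs.2))
  have hinj : Function.Injective f := by
    intro x y hxy
    apply Subtype.ext
    have hxV := x.2.1
    have hyV := y.2.1
    apply hD.ext (by rw [← hV]; exact hxV) (by rw [← hV]; exact hyV)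
    intro c
    obtain ⟨n, hn⟩ := hD.ex_comp c hxV
    obtain ⟨n', hn'⟩ := hD.ex_comp c hyV
    obtain ⟨s, hs, hsc⟩ := ht c
    have h1 := hD.comp_conj (hD.SL hs) hsc hn
    have h2 := hD.comp_conj (hD.SL hs) hsc hn'
    rw [hfix _ x.2 s hs] at h1
    rw [hfix _ y.2 s hs] at h2
    have h3 := hD.uniq h1 (hf x)
    have h4 := hD.uniq h2 (hf y)
    have h5 : n = n' := by
      have h6 : s * n * s⁻¹ = s * n' * s⁻¹ := by rw [h3, h4, hxy]
      exact mul_left_cancel (mul_right_cancel h6)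
    exact ⟨n, hn, by rw [h5]; exact hn'⟩
  have h6 : Function.Injective fun x => decide (f x = 1) := by
    intro x y hxy
    apply hinj
    have h7 : (f x = 1) ↔ (f y = 1) := by simpa using hxy
    rcases hf2 x with h | h
    · rw [h, h7.1 h]
    · rcases hf2 y with h' | h'
      · rw [h', h7.2 h']
      · rw [h, h']
  calc Nat.card (V ⊓ centralizer ((S : Subgroup G) : Set G) : Subgroup G) ≤ Nat.card Bool :=
        Nat.card_le_card_of_injective _ h6
    _ = 2 := by simp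

end full

section count

variable {G : Type u} [Group G] [Finite G] {S : Sylow 2 G} {M V : Subgroup G} {I : Type u} [Fintype I]
  {N E : I → Subgroup G} {Om : I → Type u} [∀ i, Fintype (Om i)] [∀ i, DecidableEq (Om i)]
  {phi : ∀ i, Finset (Om i) → G}

/-- **The rank count.** `|C_V(S)| = 4`, not two blocks of three letters: at least three pairs of letters. -/
theorem three_le (F : TvFin.Full (S : Subgroup G) M V N E ⊥ Om phi)
    (h4 : 4 ≤ Nat.card (V ⊓ centralizer ((S : Subgroup G) : Set G) : Subgroup G))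
    (h2 : ¬ (Fintype.card I = 2 ∧ ∀ b, Fintype.card (Om b) = 3)) :
    3 ≤ ∑ b, (Fintype.card (Om b) - 1) / 2 := by
  classical
  by_contra hlt
  push Not at hlt
  have hD := F.toDec
  have h1 : ∀ b, 1 ≤ (Fintype.card (Om b) - 1) / 2 := by
    intro b
    have := F.three b
    omega
  have h3 : Fintype.card I ≤ ∑ b, (Fintype.card (Om b) - 1) / 2 := by
    calc Fintype.card I = ∑ _b : I, 1 := by simp
      _ ≤ _ := Finset.sum_le_sum fun b _ => h1 b
  have hle : ∀ b, (Fintype.card (Om b) - 1) / 2 ≤ ∑ b, (Fintype.card (Om b) - 1) / 2 := fun b =>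
    Finset.single_le_sum (f := fun b => (Fintype.card (Om b) - 1) / 2) (fun _ _ => Nat.zero_le _) (Finset.mem_univ b)
  have hcI : Fintype.card I = 0 ∨ Fintype.card I = 1 ∨ Fintype.card I = 2 := by omega
  rcases hcI with hI | hI | hI
  · have hE : IsEmpty I := Fintype.card_eq_zero_iff.1 hI
    have hV : V = ⊥ := by rw [← hD.sup, sup_bot_eq, iSup_of_empty]
    rw [hV, bot_inf_eq, card_bot] at h4
    omega
  · obtain ⟨b, hb⟩ := Fintype.card_eq_one_iff.1 hI
    have h5 := hle b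
    have h6 := F.three b
    have h7 := (F.lett b).odd
    obtain ⟨k, hk⟩ := h7
    have h8 : Fintype.card (Om b) = 2 ^ 1 + 1 ∨ Fintype.card (Om b) = 2 ^ 2 + 1 := by
      norm_num
      omega
    have ht : ∀ c, ∃ s ∈ (S : Subgroup G), MulAut.conj s • N c = N b := by
      intro c
      refine ⟨1, one_mem _, ?_⟩
      rw [hb c, map_one, one_smul]
    rcases h8 with h8 | h8
    · have := card_le_two F le_rfl h8 ht
      omega
    · have := card_le_two F (by norm_num : 1 ≤ 2) h8 ht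
      omega
  · apply h2
    refine ⟨hI, fun b => ?_⟩
    have h5 := F.three b
    have h6 : ∑ c ∈ Finset.univ.erase b, (Fintype.card (Om c) - 1) / 2 + (Fintype.card (Om b) - 1) / 2 =
        ∑ c, (Fintype.card (Om c) - 1) / 2 := Finset.sum_erase_add _ _ (Finset.mem_univ b)
    have h7 : 1 ≤ ∑ c ∈ Finset.univ.erase b, (Fintype.card (Om c) - 1) / 2 := by
      have h8 : (Finset.univ.erase b).card = 1 := by
        rw [Finset.card_erase_of_mem (Finset.mem_univ b), Finset.card_univ, hI]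
      calc 1 = ∑ _c ∈ Finset.univ.erase b, 1 := by simp [h8]
        _ ≤ _ := Finset.sum_le_sum fun c _ => h1 c
    obtain ⟨k, hk⟩ := (F.lett b).odd
    omega

end count

section tree

variable {G : Type u} [Group G] [Finite G] {S : Sylow 2 G} {I : Type u} {N E : I → Subgroup G}
  {Om : I → Type u} [∀ i, Fintype (Om i)] [∀ i, DecidableEq (Om i)] {phi : ∀ i, Finset (Om i) → G}

/-- `|Z| = 4`: at least three pairs of letters, or two blocks of three letters. -/
theorem three_le_four [Fintype I] (h : Four S) (hB : Bks S N E ⊥ Om phi)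
    (h2 : ¬ (Fintype.card I = 2 ∧ ∀ b, Fintype.card (Om b) = 3)) :
    3 ≤ ∑ b, (Fintype.card (Om b) - 1) / 2 := by
  refine three_le hB.toFull ?_ h2
  rw [← h.z4]
  refine Subgroup.card_le_of_le (le_inf (MinSimple.VModule.zc_le_zl _ _) ?_)
  exact fun z hz => mem_centralizer_iff.2 fun s hs => (MinSimple.VModule.mem_zc.1 hz).2.1 s hs

/-- a subgroup which is normal in `S` moves all blocks of an `S`-orbit or none -/
theorem moves_of_tran (ht : ∀ b c, ∃ s ∈ (S : Subgroup G), MulAut.conj s • N b = N c) {J : Subgroup G}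
    (hJ : (S : Subgroup G) ≤ normalizer (J : Set G)) {b : I} (hb : ¬ J ≤ centralizer (N b : Set G)) (c : I) :
    ¬ J ≤ centralizer (N c : Set G) := by
  intro hc
  apply hb
  obtain ⟨s, hs, hsb⟩ := ht b c
  intro j hj
  rw [mem_centralizer_iff]
  intro x hx
  have h1 : s * x * s⁻¹ ∈ N c := (conj_smul hsb).1 hx
  have h2 : s * j * s⁻¹ ∈ J := (mem_normalizer_iff.1 (hJ hs) j).1 hj
  have h3 := mem_centralizer_iff.1 (hc h2) _ h1
  have h4 : s * (x * j) * s⁻¹ = s * (j * x) * s⁻¹ := by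
    calc s * (x * j) * s⁻¹ = (s * x * s⁻¹) * (s * j * s⁻¹) := by group
      _ = (s * j * s⁻¹) * (s * x * s⁻¹) := h3
      _ = _ := by group
  exact mul_left_cancel (mul_right_cancel h4)

end tree

end Cfsg.Agent.Omega.NOThreeL.RRed.FourRank

end

end

-- merged: Cfsg.Agent.Mrg.Omega.NOThreeL.RRed.FourNoK2
section

section


/-!
# NO-3L, box R, `FourOf`: LEMMA HJ (helper33 #24413): a level which moves `V*` moves all blocks or there is no (K2)

`Dec S M V N E ⊥`; `J` a level (`Lev S J`), `J ≤ ⨆ E b`, `J ≰ C(V)`: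

* `mv_trans` : `S` transitive on the blocks: `J` moves every block;
* `mv_k2` : two orbits (`TwoO`) and some (K2) in `P*(S)`: `J` moves every block;
* `best_of_AA`, `best_sub` : members of `A(S)`, and best offenders on `X ≥ V*`, are best offenders on `V*`;
* `hypJ_trans`, **`noK2`** : for 813's `HypJ`.
-/

set_option autoImplicit false
set_option linter.unusedSectionVars false

namespace Cfsg.Agent.Omega.NOThreeL.RRed.FourNoK2

open Subgroup Cfsg Cfsg.Agent.ZN Cfsg.Agent.Omega.MinPar Cfsg.Agent.Omega.Frame Cfsg.Agent.Omega.FrameNOFF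
open Cfsg.Agent.Omega.Node.NO3L Cfsg.Agent.Omega.NOThreeL.Basic Cfsg.Agent.Omega.NOThreeL.RTree
open Cfsg.Agent.Omega.NOThreeL.Merge (MZ le_MZ S_le_MZ)
open Cfsg.Agent.Omega.NO3S.Level (Lev)
open Cfsg.Agent.Omega.NO1.BestOff (Best)
open Cfsg.Agent.Omega.FFThm (ElemM OffM NoOverM)
open Cfsg.Agent.Omega.NOThreeL.RRed.TvFin (Full)
open Cfsg.Agent.Omega.NOThreeL.RRed.FourTree
open Cfsg.Agent.Omega.NOThreeL.RRed.FourTwoO
open Cfsg.Agent.Omega.NOThreeL.RRed.Blk
open Cfsg.Agent.PLocal.ElemAbSup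
open Cfsg.Agent.PLocal.ThompsonJ
open Cfsg.Agent.ZN.ChoiceBase (AA)
open Cfsg.Agent.Omega.SQ1.Bau (mem_AA_of_comm elem_comm elem_sq card_sup_comm)
open scoped Pointwise

universe u v

variable {G : Type u} [Group G]

section mv

variable {ι : Type v} {J : Subgroup G} {N : ι → Subgroup G}

theorem cent_conj {g : G} (hg : g ∈ normalizer (J : Set G)) {b c : ι} (e : MulAut.conj g • N b = N c)
    (h : J ≤ centralizer (N b : Set G)) : J ≤ centralizer (N c : Set G) := by
  intro x hx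
  refine mem_centralizer_iff.2 fun y hy => ?_
  have h1 : g⁻¹ * x * g ∈ J := by
    have := conj_of (inv_mem hg) hx
    simpa using this
  have h2 : g⁻¹ * y * g ∈ N b := by
    rw [conj_smul e]
    have e1 : g * (g⁻¹ * y * g) * g⁻¹ = y := by group
    rw [e1]; exact hy
  have h3 := mem_centralizer_iff.1 (h h1) _ h2
  calc y * x = g * ((g⁻¹ * y * g) * (g⁻¹ * x * g)) * g⁻¹ := by group
    _ = x * y := by rw [h3]; group

variable [Finite ι] [Finite G] {S : Sylow 2 G} {M V : Subgroup G} {E : ι → Subgroup G}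

theorem exists_mv_blk (D : Dec (S : Subgroup G) M V N E ⊥) (hJ : ¬ J ≤ centralizer (V : Set G)) :
    ∃ b, ¬ J ≤ centralizer (N b : Set G) := by
  by_contra hcon
  push Not at hcon
  apply hJ
  rw [← D.sup, sup_bot_eq, le_centralizer_iff]
  refine iSup_le fun b => ?_
  rw [← le_centralizer_iff]
  exact hcon b

/-- `S` transitive on the blocks -/
theorem mv_trans (D : Dec (S : Subgroup G) M V N E ⊥) (hJS : (S : Subgroup G) ≤ normalizer (J : Set G))
    (hJ : ¬ J ≤ centralizer (V : Set G)) (htr : ∀ b c, ∃ s ∈ (S : Subgroup G), MulAut.conj s • N b = N c) (b : ι) :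
    ¬ J ≤ centralizer (N b : Set G) := by
  obtain ⟨c, hc⟩ := exists_mv_blk D hJ
  intro h
  obtain ⟨s, hs, e⟩ := htr b c
  exact hc (cent_conj (hJS hs) e h)

variable {z : ι → G} {O : Fin 2 → Set ι} {v : Fin 2 → G}

/-- a (K2) which leaves `O i` invariant fixes `v i` -/
theorem fix_of_inv (t : TwoO S M V N E ⊥ z O v) {i : Fin 2} {r : G} (hr : r ∈ M)
    (hn : r ∈ normalizer (((S : Subgroup G) ⊓ ⨆ b, E b : Subgroup G) : Set G))
    (hi : ∀ b c, MulAut.conj r • N b = N c → (b ∈ O i ↔ c ∈ O i)) : r * v i * r⁻¹ = v i := by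
  have hVN := t.VN i
  have h0 : r * v i * r⁻¹ ∈ ⨆ b, N b := by
    have h1 : MulAut.conj r • (⨆ b, N b) ≤ ⨆ b, N b := by
      rw [show MulAut.conj r • (⨆ b, N b) = ⨆ b, MulAut.conj r • N b from Subgroup.map_iSup _ _]
      refine iSup_le fun b => ?_
      obtain ⟨c, hc, _⟩ := t.dec.perm r hr b
      rw [hc]; exact le_iSup N c
    exact h1 ((conj_smul rfl).1 (hVN (t.vV i)))
  refine t.dec.ext h0 (hVN (t.vV i)) fun c => ?_
  obtain ⟨b, hb, _⟩ := t.dec.ex_pre hr c
  by_cases hc : c ∈ O i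
  · have hbi : b ∈ O i := (hi b c hb).2 hc
    have h1 := t.dec.comp_conj hr hb (t.comp i hbi)
    rw [t.dec.k2 t.one hr hn hb] at h1
    exact ⟨_, h1, t.comp i hc⟩
  · have hbi : b ∉ O i := fun h => hc ((hi b c hb).1 h)
    have h1 := t.dec.comp_conj hr hb (t.comp' i hbi)
    rw [mul_one, mul_inv_cancel] at h1
    exact ⟨_, h1, t.comp' i hc⟩

/-- two orbits, `R` is (K2), normalises `J` and moves `v 0` or `v 1` -/
theorem mv_two (t : TwoO S M V N E ⊥ z O v) (hJS : (S : Subgroup G) ≤ normalizer (J : Set G))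
    (hJ : ¬ J ≤ centralizer (V : Set G)) {R : Subgroup G} (hRM : R ≤ M)
    (hRJ : R ≤ normalizer (J : Set G)) (hn : R ≤ normalizer (((S : Subgroup G) ⊓ ⨆ b, E b : Subgroup G) : Set G))
    (hR : ¬ ∀ r ∈ R, ∀ i, r * v i * r⁻¹ = v i) (b : ι) : ¬ J ≤ centralizer (N b : Set G) := by
  intro hb
  apply hR
  have f2 : ∀ k : Fin 2, k = 0 ∨ k = 1 := by decide
  -- an orbit is moved or not
  have horb : ∀ i, ∀ b ∈ O i, ∀ c ∈ O i, J ≤ centralizer (N b : Set G) → J ≤ centralizer (N c : Set G) := by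
    intro i b hb c hc h
    obtain ⟨s, hs, e⟩ := (t.orb i).tr b hb c hc
    exact cent_conj (hJS hs) e h
  obtain ⟨d, hd⟩ := exists_mv_blk t.dec hJ
  -- `O i` is the set of the blocks which are moved
  have key : ∃ i j : Fin 2, i ≠ j ∧ (∀ c, c ∈ O i ↔ ¬ J ≤ centralizer (N c : Set G)) := by
    have h1 : ∀ i j : Fin 2, i ≠ j → d ∈ O i → ∃ i j : Fin 2, i ≠ j ∧
        (∀ c, c ∈ O i ↔ ¬ J ≤ centralizer (N c : Set G)) := by
      intro i j hij hdi
      refine ⟨i, j, hij, fun c => ⟨fun hc h => hd (horb i c hc d hdi h), fun hc => ?_⟩⟩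
      by_contra hci
      have hcj : c ∈ O j := (t.mem_or hij c).resolve_left hci
      have hbj : b ∈ O j := (t.mem_or hij b).resolve_left fun hbi => hd (horb i b hbi d hdi hb)
      exact hc (horb j b hbj c hcj hb)
    rcases t.cov d with h | h
    · exact h1 0 1 (by decide) h
    · exact h1 1 0 (by decide) h
  obtain ⟨i, j, hij, hO⟩ := key
  have hinv : ∀ r ∈ R, ∀ b c, MulAut.conj r • N b = N c → (b ∈ O i ↔ c ∈ O i) := by
    intro r hr b c e
    rw [hO, hO, not_iff_not]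
    refine ⟨cent_conj (hRJ hr) e, fun h => ?_⟩
    exact cent_conj (inv_mem (hRJ hr)) (t.dec.inv_smul_N e) h
  have hinvj : ∀ r ∈ R, ∀ b c, MulAut.conj r • N b = N c → (b ∈ O j ↔ c ∈ O j) := by
    intro r hr b c e
    have h1 : ∀ b, b ∈ O j ↔ b ∉ O i := fun b =>
      ⟨fun h1 h2 => t.notMem hij h2 h1, fun h1 => (t.mem_or hij b).resolve_left h1⟩
    rw [h1, h1, not_iff_not]
    exact hinv r hr b c e
  intro r hr k
  rcases fin_ne hij with ⟨rfl, rfl⟩ | ⟨rfl, rfl⟩
  · rcases f2 k with rfl | rfl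
    · exact fix_of_inv t (hRM hr) (hn hr) (hinv r hr)
    · exact fix_of_inv t (hRM hr) (hn hr) (hinvj r hr)
  · rcases f2 k with rfl | rfl
    · exact fix_of_inv t (hRM hr) (hn hr) (hinvj r hr)
    · exact fix_of_inv t (hRM hr) (hn hr) (hinv r hr)

end mv

section best

variable [Finite G] {S V X A : Subgroup G}

/-- `A ∈ A(S)` is a best offender on every elementary abelian `V ≤ S` -/
theorem best_of_AA (hV : IsElementaryAbelian 2 V) (hVS : V ≤ S) (hA : A ∈ AA S) : Best V A where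
  sq := fun a ha => by rw [elem_sq hA.1 a ha]; exact one_mem _
  comm := fun a ha b hb => by
    have h := elem_comm hA.1 a ha b hb
    have e : a * b * a⁻¹ * b⁻¹ = 1 := by rw [h]; group
    rw [e]; exact one_mem _
  max := fun Y hY _ => by
    have hc : ∀ a ∈ Y, ∀ b ∈ V ⊓ centralizer (Y : Set G), a * b = b * a := fun a ha b hb =>
      mem_centralizer_iff.1 (mem_inf.1 hb).2 a ha
    have h1 : IsElementaryAbelian 2 (Y ⊔ (V ⊓ centralizer (Y : Set G)) : Subgroup G) :=
      isElementaryAbelian_sup (isElementaryAbelian_mono hA.1 hY) (isElementaryAbelian_mono hV inf_le_left)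
        fun b hb => mem_centralizer_iff.2 fun a ha => hc a ha b hb
    have h2 := hA.2.2 _ h1 (sup_le (hY.trans hA.2.1) (inf_le_left.trans hVS))
    have h3 := card_sup_comm hc
    have h4 : Nat.card ↥(Y ⊓ (V ⊓ centralizer (Y : Set G)) : Subgroup G) ≤ Nat.card ↥(V ⊓ centralizer (A : Set G)) := by
      refine Subgroup.card_le_of_le ?_
      rintro x ⟨hx1, hx2⟩
      exact ⟨hx2.1, mem_centralizer_iff.2 fun a ha => elem_comm hA.1 a ha x (hY hx1)⟩
    rw [← h3]
    exact Nat.mul_le_mul h2 h4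

/-- a best offender on `X ≥ V` is a best offender on `V`, if there are no over-offenders on `V` -/
theorem best_sub (hb : Best X A) (hVX : V ≤ X) (hno : NoOverM V S) (hA : A ≤ S)
    (hne : ¬ A ≤ centralizer (V : Set G)) : Best V A where
  toElemM := (hb.offM hVX hne).toElemM
  max := fun Y hY _ => by
    have h1 := hb.offM hVX hne
    have h2 := hno Y (hY.trans hA) ⟨fun a ha => h1.sq a (hY ha), fun a ha b hb => h1.comm a (hY ha) b (hY hb)⟩
    have h3 : Nat.card ↥(Y ⊓ centralizer (V : Set G) : Subgroup G) ≤ Nat.card ↥(A ⊓ centralizer (V : Set G) : Subgroup G) :=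
      Subgroup.card_le_of_le (inf_le_inf_right _ hY)
    exact h2.trans ((Nat.mul_le_mul_left _ h3).trans h1.le)

end best

section main

variable [Finite G] {S : Sylow 2 G} {I : Type u} [Finite I] {N E : I → Subgroup G} {Om : I → Type u}
  [∀ i, Fintype (Om i)] [∀ i, DecidableEq (Om i)] {phi : ∀ i, Finset (Om i) → G}

/-- Some level moves `V*`. -/
def LevMv (S : Subgroup G) : Prop :=
  (¬ jj S ≤ centralizer (Wd S : Set G)) ∨ ∃ K X, LevX S K X ∧ ¬ nxtX S X ≤ centralizer (Wd S : Set G)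

/-- Best offenders of `S` on `V*` lie in `⨆ E b`. -/
def BestE (S : Subgroup G) (E : I → Subgroup G) : Prop :=
  ∀ A : Subgroup G, A ≤ S → Best (Wd S) A → A ≤ ⨆ b, E b

theorem cS_le (hB : Bks S N E ⊥ Om phi) :
    (S : Subgroup G) ⊓ centralizer (Wd (S : Subgroup G) : Set G) ≤ ⨆ b, E b := by
  obtain ⟨b⟩ := hB.nonempty
  exact (inf_le_inf_right _ hB.SL).trans ((hB.CE b).trans (le_iSup E b))

theorem noOver (B : RB S) (hr : RZ.RR (S : Subgroup G) = ⊥) : NoOverM (Wd (S : Subgroup G)) (S : Subgroup G) := by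
  obtain ⟨P, A, hg⟩ := exists_gOne_rr B hr
  intro A hA hE
  exact hg.no A (hA.trans (S_le_MZ B.ctx B.full)) hE

theorem elem_Wd (B : RB S) : IsElementaryAbelian 2 (Wd (S : Subgroup G)) :=
  isElementaryAbelian_iff.2 ⟨wcomm B, fun x hx => by rw [pow_two]; exact wsq B x hx⟩

theorem jj_le_E (B : RB S) (hbest : BestE (S : Subgroup G) E) : jj (S : Subgroup G) ≤ ⨆ b, E b := by
  rw [ChoiceBase.jj_eq]
  exact sSup_le fun A hA => hbest A hA.2.1 (best_of_AA (elem_Wd B) (WS B) hA)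

theorem nxtX_le_E (B : RB S) (hr : RZ.RR (S : Subgroup G) = ⊥) (hB : Bks S N E ⊥ Om phi) (hbest : BestE (S : Subgroup G) E) {X : Subgroup G}
    (hX : Wd (S : Subgroup G) ≤ X) : nxtX (S : Subgroup G) X ≤ ⨆ b, E b := by
  refine sup_le ((inf_le_inf_left _ (centralizer_le hX)).trans (cS_le hB)) (sSup_le ?_)
  rintro A ⟨hA, hb⟩
  by_cases hne : A ≤ centralizer (Wd (S : Subgroup G) : Set G)
  · exact (le_inf hA hne).trans (cS_le hB)
  · exact hbest A hA (best_sub hb hX (noOver B hr) hA hne)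

theorem levX_next {K X : Subgroup G} (h : LevX (S : Subgroup G) K X) : Lev (S : Subgroup G) (nxtX (S : Subgroup G) X) :=
  RLev.nextX h.toLev h.Xle h.Xn

/-- **`S` transitive on the blocks: (J).** -/
theorem hypJ_trans (hB : Bks S N E ⊥ Om phi) (hlev : LevMv (S : Subgroup G))
    (htr : ∀ b c, ∃ s ∈ (S : Subgroup G), MulAut.conj s • N b = N c) : HypJ (S : Subgroup G) N := by
  rcases hlev with h | ⟨K, X, h1, h2⟩
  · exact Or.inl fun b => mv_trans hB.toDec (Lev.zero _).S_norm h htr b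
  · exact Or.inr ⟨K, X, h1, fun b => mv_trans hB.toDec (levX_next h1).S_norm h2 htr b⟩

/-- a level in `⨆ E b` is normalised by the (K2) in `P*(S)` -/
theorem norm_k2 {J R : Subgroup G} (hJ : Lev (S : Subgroup G) J) (hJE : J ≤ ⨆ b, E b)
    (hR : IsParS (S : Subgroup G) R)
    (hn : R ≤ normalizer (((S : Subgroup G) ⊓ ⨆ b, E b : Subgroup G) : Set G)) : R ≤ normalizer (J : Set G) := by
  refine hJ.le_norm_of_o2 ((le_inf hJ.le hJE).trans ?_) (hR.isLoc.o2_le S)
  exact MinSimple.VModule.le_o2 (inf_le_left.trans hR.le) (S.isPGroup'.to_le inf_le_left) hn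

/-- **LEMMA HJ: no (K2) if (J) fails.** -/
theorem noK2 (h : Four S) (hB : Bks S N E ⊥ Om phi) (hlev : LevMv (S : Subgroup G))
    (hbest : BestE (S : Subgroup G) E) (hj : ¬ HypJ (S : Subgroup G) N) :
    ∀ R, IsParS (S : Subgroup G) R → ¬ R ≤ normalizer (((S : Subgroup G) ⊓ ⨆ b, E b : Subgroup G) : Set G) := by
  intro R hR hn
  rcases cases_bks h hB with ⟨-, z, O, v, t⟩ | ⟨h1, -⟩ | ⟨-, htr⟩
  · apply hj
    have hmv : ¬ ∀ r ∈ R, ∀ i, r * v i * r⁻¹ = v i := by
      intro hfix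
      apply hR.not_zc
      have hc : ∀ i, R ≤ centralizer ({v i} : Set G) := fun i => TwoO.le_cent_iff.2 fun r hr => hfix r hr i
      refine le_trans ?_ (centralizer_le_normalizer _)
      intro r hr
      refine mem_centralizer_iff.2 fun x hx => ?_
      have h0 := mem_centralizer_singleton_iff.1 (hc 0 hr)
      have h1 := mem_centralizer_singleton_iff.1 (hc 1 hr)
      rcases (t.zS h.toRB x).1 hx with rfl | rfl | rfl | rfl
      · simp
      · exact h0.symm
      · exact h1.symm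
      · calc v 0 * v 1 * r = v 0 * (v 1 * r) := by group
          _ = (v 0 * r) * v 1 := by rw [← h1]; group
          _ = r * (v 0 * v 1) := by rw [← h0]; group
    rcases hlev with h1 | ⟨K, X, h1, h2⟩
    · have hJ := Lev.zero (S : Subgroup G)
      exact Or.inl fun b => mv_two t hJ.S_norm h1 (le_MZ hR) (norm_k2 hJ (jj_le_E h.toRB hbest) hR hn) hn hmv b
    · have hJ := levX_next h1
      exact Or.inr ⟨K, X, h1, fun b => mv_two t hJ.S_norm h2 (le_MZ hR)
        (norm_k2 hJ (nxtX_le_E h.toRB h.rr hB hbest h1.VX) hR hn) hn hmv b⟩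
  · exact h1 rfl
  · exact hj (hypJ_trans hB hlev htr)

end main

end Cfsg.Agent.Omega.NOThreeL.RRed.FourNoK2

end

section


/-!
# NO-3L, box R, `FourOf`: two blocks with three letters give `|V_P| = 8` for all `P ∈ P*(S)`

* `exists_y` : some `y ∈ S ∩ E c` moves `N c`, `c` in the `M`-orbit of `b`;
* `norm_of` : two blocks, `|C_V(S)| ≥ 4`: `M` normalises both;
* `card_eight` : `|⟨Z^P⟩| = 8`;
* **`not_two`** : excluded by `Four.n8`.
-/

set_option autoImplicit false
set_option linter.unusedSectionVars false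

namespace Cfsg.Agent.Omega.NOThreeL.RRed.FourThree

open Subgroup Cfsg Cfsg.Agent.ZN Cfsg.Agent.Omega.MinPar Cfsg.Agent.Omega.Frame Cfsg.Agent.Omega.FrameNOFF
open Cfsg.Agent.Omega.NOThreeL.Merge (MZ le_MZ S_le_MZ isLoc_MZ zl_MZ_comm zl_MZ_isPGroup)
open Cfsg.Agent.ZN.ChoiceSit (Syl exists_syl syl_conj syl_not_dvd)
open Cfsg.Agent.Omega.NOThreeL.RRed.TvFin (Full)
open Cfsg.Agent.Omega.NOThreeL.RRed.Blk (Dec Co IsC mem_sup_of conj_of conj_smul cent)
open Cfsg.Agent.Omega.NOThreeL.RRed.FourTree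
open Cfsg.Agent.Omega.KL.TwoS (Rel Lett)
open Cfsg.Agent.Omega.NoFF.Basic (mem_conj conj_le_iff conj_conj)
open Cfsg.Agent.Omega.NOThreeL.Pair (conj_eq_of_mem)
open Cfsg.Agent.MinSimple.VModule (oddGen oddGen_def)
open scoped Pointwise

universe u

variable {G : Type u} [Group G]

section abs

theorem norm_iff {W : Subgroup G} {g : G} : g ∈ normalizer (W : Set G) ↔ MulAut.conj g • W = W :=
  ⟨fun h => conj_eq_of_mem h, fun h => mem_normalizer_iff.2 fun _ => conj_smul h⟩

theorem swap_pow {Ω : Type*} [DecidableEq Ω] (a b : Ω) {m : ℕ} (hm : Odd m) :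
    Equiv.swap a b ^ m = Equiv.swap a b := by
  obtain ⟨l, rfl⟩ := hm
  rw [pow_succ, pow_mul, pow_two, Equiv.swap_mul_self, one_pow, one_mul]

theorem card_le_four {Ω : Type u} [Fintype Ω] [DecidableEq Ω] {V R : Subgroup G} {φ : Finset Ω → G} (L : Lett V R φ)
    (h3 : Fintype.card Ω = 3) : Nat.card V ≤ 4 := by
  have hev : ∀ a : Ω, Even (Finset.univ.erase a).card := fun a => by
    rw [Finset.card_erase_of_mem (Finset.mem_univ a), Finset.card_univ, h3]; exact even_two
  let f : Option Ω → V := fun o => match o with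
    | none => 1
    | some a => ⟨φ (Finset.univ.erase a), (L.mem _).2 ⟨_, hev a, rfl⟩⟩
  have hf : Function.Surjective f := by
    rintro ⟨v, hv⟩
    obtain ⟨s, hs, rfl⟩ := (L.mem v).1 hv
    have h4 : s.card ≤ 3 := by rw [← h3]; exact Finset.card_le_univ s
    have h5 : s.card = 0 ∨ s.card = 2 := by
      obtain ⟨k, hk⟩ := hs
      omega
    rcases h5 with h5 | h5
    · refine ⟨none, Subtype.ext ?_⟩
      change (1 : G) = φ s
      rw [Finset.card_eq_zero.1 h5, L.phi_empty]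
    · have h6 : sᶜ.card = 1 := by rw [Finset.card_compl, h3, h5]
      obtain ⟨a, ha⟩ := Finset.card_eq_one.1 h6
      refine ⟨some a, Subtype.ext ?_⟩
      change φ (Finset.univ.erase a) = φ s
      congr 1
      ext x
      have h7 : x ∈ sᶜ ↔ x = a := by rw [ha, Finset.mem_singleton]
      rw [Finset.mem_compl] at h7
      simp only [Finset.mem_erase, Finset.mem_univ, and_true]
      tauto
  have h6 := Nat.card_le_card_of_surjective f hf
  rwa [Nat.card_eq_fintype_card (α := Option Ω), Fintype.card_option, h3] at h6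

theorem card_cent_le [Finite G] {W : Subgroup G} (hW : Nat.card W ≤ 4) {y : G} (hy : y ∉ centralizer (W : Set G)) :
    Nat.card (W ⊓ centralizer ({y} : Set G) : Subgroup G) ≤ 2 := by
  obtain ⟨k, hk⟩ := card_dvd_of_le (inf_le_left : W ⊓ centralizer ({y} : Set G) ≤ W)
  have h1 : 0 < Nat.card W := Nat.card_pos
  have h2 : k ≠ 0 := by rintro rfl; omega
  have h3 : k ≠ 1 := by
    rintro rfl
    rw [mul_one] at hk
    have h4 := eq_of_le_of_card_ge (inf_le_left : W ⊓ centralizer ({y} : Set G) ≤ W) hk.le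
    apply hy
    rw [mem_centralizer_iff]
    intro w hw
    have h5 : w ∈ W ⊓ centralizer ({y} : Set G) := by rw [h4]; exact hw
    exact (mem_centralizer_singleton_iff.1 h5.2)
  have h4 : 2 ≤ k := by omega
  have h5 := Nat.mul_le_mul_left (Nat.card (W ⊓ centralizer ({y} : Set G) : Subgroup G)) h4
  omega

theorem card_sup_le [Finite G] {A B : Subgroup G} (h : A ≤ normalizer (B : Set G)) :
    Nat.card (A ⊔ B : Subgroup G) ≤ Nat.card A * Nat.card B := by
  rw [← Nat.card_prod]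
  refine Nat.card_le_card_of_surjective
    (fun p : A × B => (⟨p.1 * p.2, mul_mem (mem_sup_left p.1.2) (mem_sup_right p.2.2)⟩ : (A ⊔ B : Subgroup G))) ?_
  rintro ⟨x, hx⟩
  obtain ⟨a, ha, b, hb, rfl⟩ := mem_sup_of h hx
  exact ⟨(⟨a, ha⟩, ⟨b, hb⟩), rfl⟩

end abs

section full

variable [Finite G] {S : Sylow 2 G} {M V : Subgroup G} {I : Type u} {N E : I → Subgroup G} {Om : I → Type u}
  [∀ i, Fintype (Om i)] [∀ i, DecidableEq (Om i)] {phi : ∀ i, Finset (Om i) → G}
  (F : Full (S : Subgroup G) M V N E ⊥ Om phi)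

include F

theorem sylM : Syl (S : Subgroup G) M :=
  ⟨F.SL, S.isPGroup', fun _ _ hQ hSQ => S.is_maximal' hQ hSQ⟩

/-- some `y ∈ S ∩ E c` moves `N c`, `c` in the `M`-orbit of `b` -/
theorem exists_y (b : I) : ∃ g ∈ M, ∃ c, MulAut.conj g • N b = N c ∧
    ∃ y ∈ (S : Subgroup G) ⊓ E c, y ∉ centralizer (N c : Set G) := by
  have h3 := F.three b
  obtain ⟨a, a', ha⟩ : ∃ a a' : Om b, a ≠ a' := by
    have : Nontrivial (Om b) := Fintype.one_lt_card_iff_nontrivial.1 (by omega)
    exact exists_pair_ne _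
  obtain ⟨x, hxE, hx, -⟩ := F.swap b a a' ha
  obtain ⟨k, m, hm, hkm⟩ := Nat.exists_eq_two_pow_mul_odd (n := orderOf x) (orderOf_pos x).ne'
  have hxm : Rel (phi b) (x ^ m) (Equiv.swap a a') := by
    have h1 := hx.pow m
    rwa [swap_pow a a' hm] at h1
  have h2 : IsPGroup 2 (zpowers (x ^ m)) := by
    have h1 : (x ^ m) ^ 2 ^ k = 1 := by
      rw [← pow_mul, mul_comm, ← hkm, pow_orderOf_eq_one]
    obtain ⟨n, -, hn⟩ := (Nat.dvd_prime_pow Nat.prime_two).1 (orderOf_dvd_of_pow_eq_one h1)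
    exact IsPGroup.of_card (n := n) (by rw [Nat.card_zpowers, hn])
  have hxM : x ^ m ∈ M := F.EL b (pow_mem hxE m)
  obtain ⟨S', hS', hxS'⟩ := exists_syl h2 (zpowers_le.2 hxM)
  obtain ⟨g, hg, hgS⟩ := syl_conj hS' (sylM F)
  obtain ⟨c, hc1, hc2⟩ := F.perm g hg b
  refine ⟨g, hg, c, hc1, g * x ^ m * g⁻¹, ⟨?_, (conj_smul hc2).1 (pow_mem hxE m)⟩, fun hcon => ?_⟩
  · rw [← hgS]
    exact ⟨x ^ m, hxS' (mem_zpowers _), rfl⟩
  · -- `x ^ m` centralises `N b`
    have h4 : Rel (phi b) (x ^ m) (1 : Equiv.Perm (Om b)) := by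
      intro s hs
      have h5 : phi b s ∈ N b := ((F.lett b).mem _).2 ⟨s, hs, rfl⟩
      have h6 := cent hcon ((conj_smul hc1).1 h5)
      have e : (1 : Equiv.Perm (Om b)).toEmbedding = Function.Embedding.refl (Om b) := by
        ext y
        simp
      rw [e, Finset.map_refl]
      have h7 : g * (x ^ m * phi b s * (x ^ m)⁻¹) * g⁻¹ = g * phi b s * g⁻¹ := by
        rw [← h6]; group
      exact mul_left_cancel (mul_right_cancel h7)
    have h5 := (F.lett b).unique h3 hxm h4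
    exact ha (Equiv.swap_eq_one_iff.1 h5)

variable {i j : I} (hij : i ≠ j) (hI : ∀ b, b = i ∨ b = j)

include hij hI

theorem perm_two {g : G} (hg : g ∈ M) : (MulAut.conj g • N i = N i ∧ MulAut.conj g • N j = N j) ∨
    (MulAut.conj g • N i = N j ∧ MulAut.conj g • N j = N i) := by
  obtain ⟨c, hc, -⟩ := F.perm g hg i
  obtain ⟨d, hd, -⟩ := F.perm g hg j
  have hcd : c ≠ d := by
    rintro rfl
    apply hij
    apply F.toDec.Ninj
    exact smul_left_cancel _ (hc.trans hd.symm)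
  rcases hI c with rfl | rfl
  · rcases hI d with rfl | rfl
    · exact absurd rfl hcd
    · exact Or.inl ⟨hc, hd⟩
  · rcases hI d with rfl | rfl
    · exact Or.inr ⟨hc, hd⟩
    · exact absurd rfl hcd

theorem sq_norm {g : G} (hg : g ∈ M) : g ^ 2 ∈ normalizer (N i : Set G) ∧ g ^ 2 ∈ normalizer (N j : Set G) := by
  rw [norm_iff, norm_iff, pow_two, ← conj_conj, ← conj_conj]
  rcases perm_two F hij hI hg with ⟨h1, h2⟩ | ⟨h1, h2⟩
  · rw [h1, h1, h2, h2]
    exact ⟨rfl, rfl⟩
  · rw [h1, h2, h1]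
    exact ⟨rfl, rfl⟩

/-- `S` normalises both blocks ⟹ `M` normalises both -/
theorem norm_of (hS : (S : Subgroup G) ≤ normalizer (N i : Set G)) (b : I) : M ≤ normalizer (N b : Set G) := by
  have hj : (S : Subgroup G) ≤ normalizer (N j : Set G) := by
    intro s hs
    rcases perm_two F hij hI (F.SL hs) with ⟨-, h2⟩ | ⟨h1, -⟩
    · exact norm_iff.2 h2
    · exfalso
      apply hij
      apply F.toDec.Ninj
      rw [← h1]
      exact (norm_iff.1 (hS hs)).symm
  have key : ∀ b, (S : Subgroup G) ≤ normalizer (N b : Set G) → (∀ g ∈ M, g ^ 2 ∈ normalizer (N b : Set G)) →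
      M ≤ normalizer (N b : Set G) := by
    intro b hSb hsq
    rw [← KL.Star.Core.oddGen_sup F.SL (syl_not_dvd (sylM F))]
    refine sup_le ?_ hSb
    rw [oddGen_def, closure_le]
    rintro g ⟨hgM, hgo⟩
    obtain ⟨l, hl⟩ := hgo
    have h1 : g = (g ^ 2) ^ (l + 1) := by
      rw [← pow_mul]
      have e : 2 * (l + 1) = (2 * l + 1) + 1 := by ring
      rw [e, pow_succ, ← hl, pow_orderOf_eq_one, one_mul]
    rw [h1]
    exact pow_mem (hsq g hgM) _
  rcases hI b with rfl | rfl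
  · exact key _ hS fun g hg => (sq_norm F hij hI hg).1
  · exact key _ hj fun g hg => (sq_norm F hij hI hg).2

theorem Co_i : Co N ⊥ i = N j := by
  unfold Co
  rw [sup_bot_eq]
  refine le_antisymm (iSup_le fun d => ?_) (le_iSup (fun d : {d // d ≠ i} => N d) ⟨j, hij.symm⟩)
  rcases hI d with h | h
  · exact absurd h d.2
  · rw [h]

omit hI in
/-- the components of an element centralised by `g` are centralised by `g` -/
theorem comp_fix {b : I} {g z n : G} (hg : g ∈ M) (hgb : g ∈ normalizer (N b : Set G)) (hz : g * z * g⁻¹ = z)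
    (hn : IsC N ⊥ b z n) : g * n * g⁻¹ = n := by
  have h1 := F.toDec.comp_conj hg (norm_iff.1 hgb) hn
  rw [hz] at h1
  exact F.toDec.uniq h1 hn

/-- an element with trivial components is trivial -/
theorem eq_one_of {z : G} (h1 : IsC N ⊥ i z 1) (h2 : IsC N ⊥ j z 1) : z = 1 := by
  have h3 : z ∈ Co N ⊥ i := by have := h1.2; rwa [inv_one, one_mul] at this
  rw [Co_i F hij hI] at h3
  exact F.toDec.uniq (F.toDec.comp_self h3) h2

/-- a swap in `S` : `|C_V(S)| ≤ 2` -/
theorem card_le_two (h3 : ∀ b, Fintype.card (Om b) = 3) {s : G} (hs : s ∈ (S : Subgroup G))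
    (hsN : ¬ s ∈ normalizer (N i : Set G)) {Z : Subgroup G} (hZ : Z ≤ V) (hZS : Z ≤ centralizer ((S : Subgroup G) : Set G)) :
    Nat.card Z ≤ 2 := by
  obtain ⟨h1, h2⟩ : MulAut.conj s • N i = N j ∧ MulAut.conj s • N j = N i := by
    rcases perm_two F hij hI (F.SL hs) with h | h
    · exact absurd (norm_iff.2 h.1) hsN
    · exact h
  obtain ⟨g, -, c, -, y, ⟨hyS, hyE⟩, hy⟩ := exists_y F i
  have hc2 := card_cent_le (card_le_four (F.lett c) (h3 c)) hy
  refine le_trans ?_ hc2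
  have hZs : ∀ z ∈ Z, ∀ t ∈ (S : Subgroup G), t * z * t⁻¹ = z := fun z hz t ht => by
    rw [mem_centralizer_iff.1 (hZS hz) t ht, mul_inv_cancel_right]
  have hdis : ∀ z ∈ Z, z ∈ Co N ⊥ c → z = 1 := by
    intro z hz hzc
    have hzs := hZs z hz s hs
    rcases hI c with rfl | rfl
    · have h5 := F.toDec.comp_one hzc
      have h6 := F.toDec.comp_conj (F.SL hs) h1 h5
      rw [hzs, mul_one, mul_inv_cancel] at h6
      exact eq_one_of F hij hI h5 h6
    · have h5 := F.toDec.comp_one hzc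
      have h6 := F.toDec.comp_conj (F.SL hs) h2 h5
      rw [hzs, mul_one, mul_inv_cancel] at h6
      exact eq_one_of F hij hI h6 h5
  have hex : ∀ z : Z, ∃ n : (N c ⊓ centralizer ({y} : Set G) : Subgroup G), IsC N ⊥ c (z : G) n := by
    rintro ⟨z, hz⟩
    obtain ⟨n, hn⟩ := F.toDec.ex_comp c (hZ hz)
    have h5 := comp_fix F hij (F.SL hyS) (F.EN c hyE) (hZs z hz y hyS) hn
    exact ⟨⟨n, hn.1, mem_centralizer_singleton_iff.2 (mul_inv_eq_iff_eq_mul.1 h5).symm⟩, hn⟩
  choose f hf using hex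
  refine Nat.card_le_card_of_injective f fun z z' e => ?_
  have h5 := hf z
  have h6 := hf z'
  rw [← e] at h6
  have h7 : (z : G)⁻¹ * z' ∈ Co N ⊥ c := by
    have e2 : (z : G)⁻¹ * z' = ((f z : G)⁻¹ * z)⁻¹ * ((f z : G)⁻¹ * z') := by group
    rw [e2]
    exact mul_mem (inv_mem h5.2) h6.2
  have h8 := hdis _ (Z.mul_mem (Z.inv_mem z.2) z'.2) h7
  exact Subtype.ext (inv_mul_eq_one.1 h8)

/-- `M` normalises both blocks : `|V_P| ≤ 8` -/
theorem card_le_eight (h3 : ∀ b, Fintype.card (Om b) = 3) (hM : ∀ b, M ≤ normalizer (N b : Set G)) {P : Subgroup G}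
    (hSP : (S : Subgroup G) ≤ P) (hPM : P ≤ M) (hZ : zc (S : Subgroup G) ≤ V)
    (hne : zc (S : Subgroup G) ⊓ centralizer (P : Set G) ≠ ⊥) : Nat.card (zl (S : Subgroup G) P) ≤ 8 := by
  obtain ⟨z, hz, hz1⟩ : ∃ z ∈ zc (S : Subgroup G) ⊓ centralizer (P : Set G), z ≠ 1 := by
    by_contra hcon
    push Not at hcon
    exact hne (eq_bot_iff.2 fun x hx => mem_bot.2 (hcon x hx))
  have hzP : ∀ p ∈ P, p * z * p⁻¹ = z := fun p hp => by
    rw [mem_centralizer_iff.1 hz.2 p hp, mul_inv_cancel_right]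
  -- a component `≠ 1`
  obtain ⟨b, n, hn, hn1⟩ : ∃ b, ∃ n, IsC N ⊥ b z n ∧ n ≠ 1 := by
    by_contra hcon
    push Not at hcon
    obtain ⟨n, hn⟩ := F.toDec.ex_comp i (hZ hz.1)
    obtain ⟨m, hm⟩ := F.toDec.ex_comp j (hZ hz.1)
    rw [hcon i n hn] at hn
    rw [hcon j m hm] at hm
    exact hz1 (eq_one_of F hij hI hn hm)
  have hnP : ∀ p ∈ P, p * n * p⁻¹ = n := fun p hp => comp_fix F hij (hPM hp) (hM b (hPM hp)) (hzP p hp) hn
  obtain ⟨g, hg, c, hc, y, ⟨hyS, hyE⟩, hy⟩ := exists_y F b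
  have hcb : c = b := F.toDec.Ninj (by rw [← hc]; exact norm_iff.1 (hM b hg))
  subst hcb
  set C : Subgroup G := N c ⊓ centralizer ({y} : Set G) with hC
  have hC2 : Nat.card C ≤ 2 := card_cent_le (card_le_four (F.lett c) (h3 c)) hy
  have hnC : n ∈ C := ⟨hn.1, mem_centralizer_singleton_iff.2 (mul_inv_eq_iff_eq_mul.1 (hnP y (hSP hyS))).symm⟩
  -- `C = {1, n}`
  have hCz : C ≤ zpowers n := by
    have h5 : zpowers n ≤ C := zpowers_le.2 hnC
    have h6 : 2 ≤ Nat.card (zpowers n) := by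
      have h7 : Nat.card (zpowers n) ≠ 1 := fun h => hn1 (by
        rw [Subgroup.card_eq_one] at h
        exact zpowers_eq_bot.1 h)
      have h8 : 0 < Nat.card (zpowers n) := Nat.card_pos
      omega
    exact (eq_of_le_of_card_ge h5 (hC2.trans h6)).ge
  have hCP : P ≤ centralizer (C : Set G) := by
    have h5 : zpowers n ≤ centralizer (P : Set G) := by
      rw [zpowers_le, mem_centralizer_iff]
      exact fun p hp => mul_inv_eq_iff_eq_mul.1 (hnP p hp)
    exact NoFF.Basic.comm_symm (hCz.trans h5)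
  -- `P` normalises `C Co`
  have hCo : ∀ p ∈ P, ∀ x ∈ Co N ⊥ c, p * x * p⁻¹ ∈ Co N ⊥ c := by
    intro p hp x hx
    obtain ⟨d, hd, -, h5⟩ := F.toDec.perm' (hPM hp) c
    have hdc : d = c := F.toDec.Ninj (by rw [← hd]; exact norm_iff.1 (hM c (hPM hp)))
    subst hdc
    exact h5 x hx
  have hCoU := F.toDec.CoU c
  have hCU : C ≤ V := inf_le_left.trans (F.toDec.NU c)
  have hCn : C ≤ normalizer (Co N ⊥ c : Set G) := F.toDec.nor hCU hCoU
  have hPn : P ≤ normalizer ((C ⊔ Co N ⊥ c : Subgroup G) : Set G) := by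
    refine TC.LemZ.le_norm_of fun p hp x hx => ?_
    obtain ⟨a, ha, w, hw, rfl⟩ := mem_sup_of hCn hx
    have e : p * (a * w) * p⁻¹ = (p * a * p⁻¹) * (p * w * p⁻¹) := by group
    rw [e, cent (hCP hp) ha]
    exact mul_mem (mem_sup_left ha) (mem_sup_right (hCo p hp w hw))
  have hZC : zc (S : Subgroup G) ≤ C ⊔ Co N ⊥ c := by
    intro x hx
    obtain ⟨m, hm⟩ := F.toDec.ex_comp c (hZ hx)
    have h5 : y * x * y⁻¹ = x := by
      rw [(MinSimple.VModule.mem_zc.1 hx).2.1 y hyS, mul_inv_cancel_right]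
    have h6 := comp_fix F hij (F.SL hyS) (F.EN c hyE) h5 hm
    have e : x = m * (m⁻¹ * x) := by group
    rw [e]
    exact mul_mem (mem_sup_left ⟨hm.1, mem_centralizer_singleton_iff.2 (mul_inv_eq_iff_eq_mul.1 h6).symm⟩)
      (mem_sup_right hm.2)
  have h5 : zl (S : Subgroup G) P ≤ C ⊔ Co N ⊥ c := MinSimple.VModule.zl_le hZC hPn
  have h6 : Nat.card (Co N ⊥ c) ≤ 4 := by
    rcases hI c with rfl | rfl
    · rw [Co_i F hij hI]
      exact card_le_four (F.lett j) (h3 j)
    · rw [Co_i F hij.symm fun b => (hI b).symm]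
      exact card_le_four (F.lett i) (h3 i)
  calc Nat.card (zl (S : Subgroup G) P) ≤ Nat.card (C ⊔ Co N ⊥ c : Subgroup G) := card_le_of_le h5
    _ ≤ Nat.card C * Nat.card (Co N ⊥ c) := card_sup_le hCn
    _ ≤ 2 * 4 := Nat.mul_le_mul hC2 h6
    _ = 8 := rfl

end full

/-- **Two blocks with three letters do not occur in `FourOf`.** -/
theorem not_two [Finite G] {S : Sylow 2 G} {I : Type u} [Fintype I] {N E : I → Subgroup G} {Om : I → Type u}
    [∀ i, Fintype (Om i)] [∀ i, DecidableEq (Om i)] {phi : ∀ i, Finset (Om i) → G} (h : Four S)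
    (hB : Bks S N E ⊥ Om phi) : ¬ (Fintype.card I = 2 ∧ ∀ b, Fintype.card (Om b) = 3) := by
  classical
  rintro ⟨h2, h3⟩
  have F := hB.toFull
  obtain ⟨i, j, hij, hu⟩ := Finset.card_eq_two.1 ((Finset.card_univ (α := I)).trans h2)
  have hI : ∀ b, b = i ∨ b = j := fun b => by
    have h4 := Finset.mem_univ b
    rw [hu, Finset.mem_insert, Finset.mem_singleton] at h4
    exact h4
  obtain ⟨P, hP, hP8⟩ := h.n8
  have hZ : zc (S : Subgroup G) ≤ Wd (S : Subgroup G) := MinSimple.VModule.zc_le_zl _ _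
  have hSN : (S : Subgroup G) ≤ normalizer (N i : Set G) := by
    by_contra hcon
    obtain ⟨s, hs, hsN⟩ := SetLike.not_le_iff_exists.1 hcon
    have h5 := card_le_two F hij hI h3 hs hsN hZ (MinSimple.VModule.zc_le_centralizer _)
    have h6 := h.z4
    omega
  have hM := norm_of F hij hI hSN
  have hne : zc (S : Subgroup G) ⊓ centralizer (P : Set G) ≠ ⊥ := by
    intro h0
    have h5 := h.thin P hP
    rw [h0, card_bot, h.z4] at h5
    omega
  have h8 := card_le_eight F hij hI h3 hM hP.le (le_MZ hP) hZ hne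
  obtain ⟨k, hk⟩ := card_dvd_of_le (MinSimple.VModule.zc_le_zl (S : Subgroup G) P)
  rw [h.z4] at hk
  have h1 : k ≠ 1 := by
    rintro rfl
    apply hP.not_zc
    have h5 := eq_of_le_of_card_ge (MinSimple.VModule.zc_le_zl (S : Subgroup G) P) (by rw [hk, h.z4])
    rw [h5]
    exact MinSimple.VModule.le_normalizer_zl _ _
  have h0 : 0 < Nat.card (zl (S : Subgroup G) P) := Nat.card_pos
  omega

end Cfsg.Agent.Omega.NOThreeL.RRed.FourThree

end

section


/-!
# NO-3L, box R, `FourOf`: the plug of the socket `FourTwo` (`R₀ = 1`, not (J))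

* `FourLeft K B` : the left case: two orbits of natural blocks (three letters), at least three blocks, no (K2), `J(O)`
  moves every block, `O = O₂(C_G(Z))`;
* `bestE_of` : best offenders on `V*` lie in `⨆ E b` (930's `TvExa`);
* **`fourTwo_of`** : `FourLeft` and `LevMv` (some level moves `V*`: 319 / 492) imply `FourTwo`.
-/

set_option autoImplicit false
set_option linter.unusedSectionVars false

namespace Cfsg.Agent.Omega.NOThreeL.RRed.FourTwoP

open Subgroup Cfsg Cfsg.Agent.ZN Cfsg.Agent.Omega.MinPar Cfsg.Agent.Omega.Frame Cfsg.Agent.Omega.FrameNOFF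
open Cfsg.Agent.Omega.Node.NO3L Cfsg.Agent.Omega.NOThreeL.Basic Cfsg.Agent.Omega.NOThreeL.RTree
open Cfsg.Agent.Omega.NOThreeL.Merge (MZ le_MZ S_le_MZ)
open Cfsg.Agent.Omega.NOThreeL.RRed.FourTree
open Cfsg.Agent.Omega.NOThreeL.RTreeF Cfsg.Agent.Omega.NOThreeL.RRed.GlueSig
open Cfsg.Agent.Omega.NOThreeL.RRed.FourTwoO
open Cfsg.Agent.Omega.NOThreeL.RRed.FourNoK2
open Cfsg.Agent.Omega.NOThreeL.RRed.Blk
open scoped Pointwise

universe u

section abs

variable {G : Type u} [Group G] [Finite G] {S : Sylow 2 G} {I : Type u} [Finite I] {N E : I → Subgroup G}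
  {Om : I → Type u} [∀ i, Fintype (Om i)] [∀ i, DecidableEq (Om i)] {phi : ∀ i, Finset (Om i) → G} {z : I → G}
  {O : Fin 2 → Set I} {v : Fin 2 → G}

theorem o2_le_S (S : Sylow 2 G) : o2 (centralizer (zc (S : Subgroup G) : Set G)) ≤ (S : Subgroup G) := by
  refine MinSimple.VModule.o2_le_of_sylow S.isPGroup' (MinSimple.Basic.not_dvd_relIndex S ?_)
  exact MinSimple.VModule.le_centralizer_zc _

/-- the blocks of an orbit are all moved -/
theorem mv_orb (t : TwoO S (MZ (S : Subgroup G)) (Wd (S : Subgroup G)) N E ⊥ z O v) {i : Fin 2}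
    (h : ∃ A, KL.TwoS.Mx (o2 (centralizer (zc (S : Subgroup G) : Set G))) A ∧ ¬ A ≤ centralizer (VO N O i : Set G))
    {b : I} (hb : b ∈ O i) :
    ∃ A, KL.TwoS.Mx (o2 (centralizer (zc (S : Subgroup G) : Set G))) A ∧ ¬ A ≤ centralizer (N b : Set G) := by
  obtain ⟨A, hA, hne⟩ := h
  obtain ⟨c, hc, hcA⟩ : ∃ c ∈ O i, ¬ A ≤ centralizer (N c : Set G) := by
    by_contra hcon
    push Not at hcon
    apply hne
    rw [le_centralizer_iff]
    refine iSup₂_le fun c hc => ?_
    rw [← le_centralizer_iff]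
    exact hcon c hc
  obtain ⟨s, hs, e⟩ := (t.orb i).tr c hc b hb
  have hsC : s ∈ centralizer (zc (S : Subgroup G) : Set G) := MinSimple.VModule.le_centralizer_zc _ hs
  have hsO : s ∈ normalizer (o2 (centralizer (zc (S : Subgroup G) : Set G)) : Set G) :=
    MinSimple.VModule.le_normalizer_o2 _ hsC
  have hO := smul_of_mem hsO
  have hcard : Nat.card (MulAut.conj s • A : Subgroup G) = Nat.card A :=
    Nat.card_congr (Subgroup.equivSMul (MulAut.conj s) A).toEquiv.symm
  refine ⟨MulAut.conj s • A, ⟨?_, ?_, ?_⟩, fun h1 => hcA ?_⟩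
  · rw [← hO]
    exact Subgroup.pointwise_smul_le_pointwise_smul_iff.2 hA.le
  · rintro _ ⟨a, ha, rfl⟩
    change (s * a * s⁻¹) ^ 2 = 1
    have e1 : (s * a * s⁻¹) ^ 2 = s * a ^ 2 * s⁻¹ := by rw [pow_two, pow_two]; group
    rw [e1, hA.sq a ha]; group
  · intro B hB hB2
    rw [hcard]
    exact hA.max B hB hB2
  · intro a ha
    refine mem_centralizer_iff.2 fun y hy => ?_
    have h2 : s * a * s⁻¹ ∈ MulAut.conj s • A := ⟨a, ha, rfl⟩
    have h3 : s * y * s⁻¹ ∈ N b := (conj_smul e).1 hy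
    have h4 := mem_centralizer_iff.1 (h1 h2) _ h3
    calc y * a = s⁻¹ * ((s * y * s⁻¹) * (s * a * s⁻¹)) * s := by group
      _ = a * y := by rw [h4]; group

/-- **all blocks have three letters** -/
theorem three_of (h : Four S) (hB : Bks S N E ⊥ Om phi)
    (t : TwoO S (MZ (S : Subgroup G)) (Wd (S : Subgroup G)) N E ⊥ z O v)
    (hVO : ∀ i, VO N O i ≤ o2 (centralizer (zc (S : Subgroup G) : Set G)))
    (hmv : ∀ i, ∃ A, KL.TwoS.Mx (o2 (centralizer (zc (S : Subgroup G) : Set G))) A ∧ ¬ A ≤ centralizer (VO N O i : Set G))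
    (b : I) : Fintype.card (Om b) = 3 := by
  have key : ∀ i j : Fin 2, i ≠ j → b ∈ O i → Fintype.card (Om b) = 3 := by
    intro i j hij hb
    obtain ⟨A, hA, hne⟩ := mv_orb t (hmv i) hb
    have hT2 : IsPGroup 2 ((S : Subgroup G) ⊓ E b : Subgroup G) := S.isPGroup'.to_le inf_le_left
    obtain ⟨p, hp, -⟩ := exists_ctr (hB.lett b) (hB.three b) inf_le_right hT2 (z := z b) (t.one.fix b)
    have hZ : ∀ g, g ∈ centralizer ({v i} : Set G) → g ∈ centralizer ({v j} : Set G) →
        g ∈ centralizer (zc (S : Subgroup G) : Set G) := by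
      intro g h1 h2
      have h1' := mem_centralizer_singleton_iff.1 h1
      have h2' := mem_centralizer_singleton_iff.1 h2
      refine mem_centralizer_iff.2 fun x hx => ?_
      have e0 : v 0 * g = g * v 0 ∧ v 1 * g = g * v 1 := by
        rcases fin_ne hij with ⟨rfl, rfl⟩ | ⟨rfl, rfl⟩
        · exact ⟨h1'.symm, h2'.symm⟩
        · exact ⟨h2'.symm, h1'.symm⟩
      rcases (t.zS h.toRB x).1 hx with rfl | rfl | rfl | rfl
      · simp
      · exact e0.1
      · exact e0.2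
      · calc v 0 * v 1 * g = v 0 * (v 1 * g) := by group
          _ = (v 0 * g) * v 1 := by rw [e0.2]; group
          _ = g * (v 0 * v 1) := by rw [e0.1]; group
    have D : LeftLett.At (MZ (S : Subgroup G)) (Wd (S : Subgroup G)) N E ⊥ phi b p (v i)
        (o2 (centralizer (zc (S : Subgroup G) : Set G))) := by
      refine { comp := ?_, two := MinSimple.VModule.o2_isPGroup _, OM := ?_, Oe := ?_, nO := ?_ }
      · rw [← hp]; exact t.comp i hb
      · exact (o2_le_S S).trans (S_le_MZ h.toRB.ctx h.toRB.full)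
      · exact (o2_le_S S).trans (TwoO.le_cent_iff.2 (t.vS i))
      · intro g hg hgv
        refine MinSimple.VModule.le_normalizer_o2 _ (hZ g hgv ?_)
        exact (centralizer_le (Set.singleton_subset_iff.2 (t.vV j))) (t.E_cent (t.notMem hij hb) hg)
    refine LeftLett.card_eq_three_mx hB.toFull D hA ?_ (fun x hx => ?_) hne
    · exact (le_iSup₂_of_le b hb le_rfl).trans (hVO i)
    · rw [pow_two]; exact wsq h.toRB x hx
  rcases t.cov b with hb | hb
  · exact key 0 1 (by decide) hb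
  · exact key 1 0 (by decide) hb

/-- `V i ≤ O₂(C_G(Z))` -/
theorem VO_le (B : RB S) (T : TwoV (S : Subgroup G) (VO N O) v) (i : Fin 2) :
    VO N O i ≤ o2 (centralizer (zc (S : Subgroup G) : Set G)) := by
  have h1 : VO N O i ≤ o2 (centralizer ({v i} : Set G)) := (T.fr B).VQ i
  have h2 : o2 (centralizer ({v i} : Set G)) ≤ (S : Subgroup G) :=
    MinSimple.VModule.o2_le_of_sylow S.isPGroup' (MinSimple.Basic.not_dvd_relIndex S (T.le_C i))
  refine h1.trans (MinSimple.VModule.le_o2 (h2.trans (MinSimple.VModule.le_centralizer_zc _))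
    (MinSimple.VModule.o2_isPGroup _) ?_)
  exact (T.CZ_le i).trans (MinSimple.VModule.le_normalizer_o2 _)

/-- best offenders on `V*` lie in `⨆ E b` -/
theorem bestE_of (h : Four S) (hF : ¬ Fld S) (hB : Bks S N E ⊥ Om phi) : BestE (S : Subgroup G) E := by
  intro A hA hb
  obtain ⟨P, A₀, hg⟩ := exists_gOne_rr h.toRB h.rr
  refine (TvExa.best_le_E h.toRB.ctx.char2 (Merge.isLoc_MZ h.toRB.ctx h.toRB.full h.toRB.data.noff) (gen_MZ S) hF
    hB.toFull hg.no hA hb).trans (sup_le inf_le_right ?_)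
  exact (inf_le_inf_right _ hA).trans (cS_le hB)

/-- **LEMMA HJ**, `¬ Fld` -/
theorem noK2' (h : Four S) (hF : ¬ Fld S) (hB : Bks S N E ⊥ Om phi) (hlev : LevMv (S : Subgroup G))
    (hj : ¬ HypJ (S : Subgroup G) N) :
    ∀ R, IsParS (S : Subgroup G) R → ¬ R ≤ normalizer (((S : Subgroup G) ⊓ ⨆ b, E b : Subgroup G) : Set G) :=
  noK2 h hB hlev (bestE_of h hF hB) hj

/-- at least three blocks -/
theorem three_blks [Fintype I] [DecidableEq I] (h : Four S) (hB : Bks S N E ⊥ Om phi)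
    (t : TwoO S (MZ (S : Subgroup G)) (Wd (S : Subgroup G)) N E ⊥ z O v)
    (h3 : ∀ b, Fintype.card (Om b) = 3) : ∀ i j : I, ∃ k, k ≠ i ∧ k ≠ j := by
  have h1 : Fintype.card I ≠ 2 := fun h2 => FourThree.not_two h hB ⟨h2, h3⟩
  obtain ⟨b, hb⟩ := (t.orb 0).ne
  obtain ⟨c, hc⟩ := (t.orb 1).ne
  have hbc : b ≠ c := fun e => t.dis b hb (e ▸ hc)
  have h2 : 2 ≤ Fintype.card I := by
    rw [← Finset.card_pair hbc]
    exact Finset.card_le_univ _
  intro i j
  by_contra hcon
  push Not at hcon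
  have h4 : (Finset.univ : Finset I) ⊆ {i, j} := by
    intro k _
    by_cases hk : k = i
    · simp [hk]
    · simp [hcon k hk]
  have h5 := Finset.card_le_card h4
  rw [Finset.card_univ] at h5
  have h6 : ({i, j} : Finset I).card ≤ 2 := Finset.card_le_two
  omega

end abs

section plug

variable (K : Cls.{u}) (B : Fr.{u})

/-- **The left case.** -/
def FourLeft : Prop :=
  ∀ (G : Type u) [Group G] [Finite G], K G → ∀ (S : Sylow 2 G), B G S → Four S → ¬ Fld S →
    ∀ (I : Type u) [Fintype I] [DecidableEq I] (N E : I → Subgroup G) (Om : I → Type u)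
      [∀ i, Fintype (Om i)] [∀ i, DecidableEq (Om i)] (phi : ∀ i, Finset (Om i) → G), Bks S N E ⊥ Om phi →
      (∀ R, IsParS (S : Subgroup G) R → ¬ R ≤ normalizer (((S : Subgroup G) ⊓ ⨆ b, E b : Subgroup G) : Set G)) →
      ∀ (z : I → G) (O : Fin 2 → Set I) (v : Fin 2 → G),
        TwoO S (MZ (S : Subgroup G)) (Wd (S : Subgroup G)) N E ⊥ z O v →
        (∀ b, Fintype.card (Om b) = 3) → (∀ i j : I, ∃ k, k ≠ i ∧ k ≠ j) →
        (∀ b, ∃ A, KL.TwoS.Mx (o2 (centralizer (zc (S : Subgroup G) : Set G))) A ∧ ¬ A ≤ centralizer (N b : Set G)) →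
        IsKnownSimple' G

variable {K B}

/-- **`FourTwo` from its leaves.** -/
theorem fourTwo_of (hML : ML.Final.MLK.{u, u}) (hE : ML.Ex.Two.Ext.{u, u})
    (hlev : ∀ (G : Type u) [Group G] [Finite G] (S : Sylow 2 G), B G S → Four S → LevMv (S : Subgroup G))
    (hL : FourLeft K B) : FourTwo K B := by
  intro G _ _ hK S hBS h hF I _ _ N E Om _ _ phi hB hj
  have hno := noK2' h hF hB (hlev G S hBS h) hj
  rcases cases_bks h hB with ⟨-, z, O, v, t⟩ | ⟨h1, -⟩ | ⟨-, htr⟩
  · have T := twoV h.toRB t hno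
    have hr := T.rest h.toRB hML hE
    have hmv : ∀ i, ∃ A, KL.TwoS.Mx (o2 (centralizer (zc (S : Subgroup G) : Set G))) A ∧
        ¬ A ≤ centralizer (VO N O i : Set G) := fun i => (hr i).2.2
    have h3 := three_of h hB t (VO_le h.toRB T) hmv
    refine hL G hK S hBS h hF I N E Om phi hB hno z O v t h3 (three_blks h hB t h3) fun b => ?_
    rcases t.cov b with hb | hb
    · exact mv_orb t (hmv 0) hb
    · exact mv_orb t (hmv 1) hb
  · exact absurd rfl h1
  · exact absurd (hypJ_trans hB (hlev G S hBS h) htr) hj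

end plug

end Cfsg.Agent.Omega.NOThreeL.RRed.FourTwoP

end

section


/-!
# NO-3L, box R: one natural block (the `P`-local part of `InstZ.Nat1`, #25082)

`P ∈ P*(S)` with the conclusion of the FF theorem, `V_P = W × C_(V_P)(O²(P))`, `|W| = |W ∩ Z|²`.

* `Nt.k_one`, `Nt.pt` : natural modules: one block, `W ∩ Z` is the line;
* `Nt.act` : `S` acts on `W` as the group of upper unitriangular matrices, `P` as `SL₂(F)`;
* `not_sym` : `V_P / C_(V_P)(O²(P))` is not a sum of even-subset modules;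
* **`exists_nat`** : coordinates `NatSL F e W (W ∩ Z)`, `ActSL F e P`.
-/

set_option autoImplicit false
set_option linter.unusedSectionVars false

namespace Cfsg.Agent.Omega.NOThreeL.RRed.Nat1Par

open Subgroup Cfsg Cfsg.Agent.ZN Cfsg.Agent.Omega.MinPar
open Cfsg.Agent.Omega.FFThm (NatKM SymKM NatK SymK ActsSL ActsSym ConclM)
open Cfsg.Agent.Omega.FrameFF (cv)
open Cfsg.Agent.Omega.NatPair (ap)
open Cfsg.Agent.Omega.KL.TwoZ (NatSL ActSL)
open Cfsg.Agent.Omega.NOThreeL.VF.Nat (ap_up_0 ap_up_1 ext2')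
open Cfsg.Agent.Lib.SL2Mat
open scoped Pointwise

universe u

variable {G : Type u} [Group G]

/-- `W` is a `P`-invariant complement of `D` in the abelian group `V`. -/
structure Cp (P V D W : Subgroup G) : Prop where
  le : W ≤ V
  nor : P ≤ normalizer (W : Set G)
  inf : W ⊓ D = ⊥
  sup : V ≤ W ⊔ D
  ab : ∀ x ∈ V, ∀ y ∈ V, x * y = y * x
  DV : D ≤ V

namespace Cp

variable {P V D W : Subgroup G} (c : Cp P V D W)
include c

theorem dec {v : G} (hv : v ∈ V) : ∃ w ∈ W, ∃ d ∈ D, v = w * d := by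
  have h1 : D ≤ normalizer (W : Set G) := fun d hd => by
    rw [mem_normalizer_iff]
    intro x
    constructor
    · intro hx
      rw [c.ab d (c.DV hd) x (c.le hx), mul_inv_cancel_right]; exact hx
    · intro hx
      have h2 := c.ab d (c.DV hd) _ (c.le hx)
      have h3 : x = d * x * d⁻¹ := by
        have e : d * (d * x * d⁻¹) = d * x := by rw [h2]; group
        exact (mul_left_cancel e).symm
      rw [h3]; exact hx
  have h2 : v ∈ ((W ⊔ D : Subgroup G) : Set G) := c.sup hv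
  rw [coe_mul_of_right_le_normalizer_left _ _ h1] at h2
  obtain ⟨w, hw, d, hd, e⟩ := h2
  exact ⟨w, hw, d, hd, e.symm⟩

theorem cj {g w : G} (hg : g ∈ P) (hw : w ∈ W) : g * w * g⁻¹ ∈ W := (mem_normalizer_iff.1 (c.nor hg) w).1 hw

end Cp

/-! ### Natural modules -/

section nat

variable {F : Type} [Field F] {T P V D W : Subgroup G} {k : ℕ}

theorem e_one (M : NatK F T P V D k) : M.e 1 = 0 := by
  have h := M.mul 1 (one_mem _) 1 (one_mem _)
  rw [one_mul] at h
  exact left_eq_add.1 h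

theorem e_inv (M : NatK F T P V D k) {v : G} (hv : v ∈ V) : M.e v⁻¹ = - M.e v := by
  have h := M.mul v⁻¹ (inv_mem hv) v hv
  rw [inv_mul_cancel, e_one] at h
  exact eq_neg_of_add_eq_zero_left h.symm

theorem e_inj (M : NatK F T P V D k) (c : Cp P V D W) {v w : G} (hv : v ∈ W) (hw : w ∈ W) (h : M.e v = M.e w) :
    v = w := by
  have h1 : M.e (v⁻¹ * w) = 0 := by
    rw [M.mul _ (V.inv_mem (c.le hv)) _ (c.le hw), e_inv M (c.le hv), h, neg_add_cancel]
  have h2 := (M.ker _ (V.mul_mem (V.inv_mem (c.le hv)) (c.le hw))).1 h1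
  have h3 : v⁻¹ * w ∈ W ⊓ D := ⟨W.mul_mem (W.inv_mem hv) hw, h2⟩
  rw [c.inf, mem_bot] at h3
  exact inv_mul_eq_one.1 h3

theorem e_surj (M : NatK F T P V D k) (c : Cp P V D W) (x : Fin k → Fin 2 → F) : ∃ w ∈ W, M.e w = x := by
  obtain ⟨v, hv, hx⟩ := M.surj x
  obtain ⟨w, hw, d, hd, rfl⟩ := c.dec hv
  refine ⟨w, hw, ?_⟩
  rw [M.mul w (c.le hw) d (c.DV hd), (M.ker d (c.DV hd)).2 hd, add_zero] at hx
  exact hx

theorem card_W (M : NatK F T P V D k) (c : Cp P V D W) [Finite F] : Nat.card W = Nat.card F ^ (2 * k) := by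
  have e1 : W ≃ (Fin k → Fin 2 → F) := Equiv.ofBijective (fun w => M.e w.1)
    ⟨fun v w h => Subtype.ext (e_inj M c v.2 w.2 h), fun x => by
      obtain ⟨w, hw, e⟩ := e_surj M c x
      exact ⟨⟨w, hw⟩, e⟩⟩
  rw [Nat.card_congr e1, Nat.card_fun, Nat.card_fun, Nat.card_eq_fintype_card (α := Fin 2),
    Nat.card_eq_fintype_card (α := Fin k), Fintype.card_fin, Fintype.card_fin, ← pow_mul]

/-- the coordinates of a `T`-fixed vector -/
theorem fixed_line (M : NatK F T P V D k) {z : G} (hz : z ∈ V) (hT : ∀ t ∈ T, t * z = z * t) (i : Fin k) :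
    M.e z i 1 = 0 := by
  obtain ⟨t, ht, h1, -⟩ := M.unip fun _ => 1
  have h2 := congrFun (h1 z hz i) 0
  rw [hT t ht, mul_inv_cancel_right, ap_up_0, one_mul] at h2
  exact left_eq_add.1 h2

/-- `Z` : the `T`-fixed vectors of `W`; `|W| = |Z|²` -/
theorem all_line (M : NatK F T P V D k) (c : Cp P V D W) [Finite F] {Z : Subgroup G} (hZW : Z ≤ W)
    (hT : ∀ z ∈ Z, ∀ t ∈ T, t * z = z * t) (hc : Nat.card W = Nat.card Z * Nat.card Z) (a : Fin k → F) :
    ∃ z ∈ Z, ∀ i, M.e z i = ![a i, 0] := by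
  let f : Z → (Fin k → F) := fun z i => M.e z.1 i 0
  have hf : Function.Injective f := by
    intro z z' h
    refine Subtype.ext (e_inj M c (hZW z.2) (hZW z'.2) ?_)
    funext i
    refine ext2' (congrFun h i) ?_
    rw [fixed_line M (c.le (hZW z.2)) (hT _ z.2) i, fixed_line M (c.le (hZW z'.2)) (hT _ z'.2) i]
  have hfin : Finite Z := Finite.of_injective f hf
  have hcard : Nat.card Z = Nat.card (Fin k → F) := by
    rw [Nat.card_fun, Nat.card_eq_fintype_card (α := Fin k), Fintype.card_fin]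
    rw [card_W M c, two_mul, pow_add] at hc
    exact (Nat.mul_self_inj.1 hc).symm
  have hb : Function.Bijective f := (Nat.bijective_iff_injective_and_card f).2 ⟨hf, hcard⟩
  obtain ⟨z, hz⟩ := hb.2 a
  refine ⟨z, z.2, fun i => ext2' ?_ ?_⟩
  · exact congrFun hz i
  · exact fixed_line M (c.le (hZW z.2)) (hT _ z.2) i

/-- **one block** -/
theorem k_one (M : NatK F T P V D k) (c : Cp P V D W) [Finite F] (hk : 0 < k) {Z : Subgroup G} (hZW : Z ≤ W)
    (hT : ∀ z ∈ Z, ∀ t ∈ T, t * z = z * t) (hc : Nat.card W = Nat.card Z * Nat.card Z) : k = 1 := by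
  classical
  by_contra hne
  have h2 : 2 ≤ k := by omega
  let i : Fin k := ⟨0, by omega⟩
  let j : Fin k := ⟨1, by omega⟩
  have hij : j ≠ i := by
    intro h
    have := congrArg Fin.val h
    simp [i, j] at this
  obtain ⟨t, ht, h1⟩ := M.trans i j
  obtain ⟨z, hz, hez⟩ := all_line M c hZW hT hc (Pi.single i 1)
  have h3 := h1 z (c.le (hZW hz))
  rw [hT z hz t ht, mul_inv_cancel_right] at h3
  have h4 : M.e z j = 0 := by
    rw [hez, Pi.single_eq_of_ne hij]
    exact ext2' rfl rfl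
  have h5 := h3.1 h4
  rw [hez, Pi.single_eq_same] at h5
  exact one_ne_zero (congrFun h5 0)

/-! #### One block -/

/-- `g` acts on `W` as `A ∈ SL₂(F)` -/
def AcW (M : NatK F T P V D 1) (W : Subgroup G) (g : G) (A : Matrix.SpecialLinearGroup (Fin 2) F) : Prop :=
  ∀ w ∈ W, M.e (g * w * g⁻¹) 0 = ap A (M.e w 0)

theorem ap_eq_mulVec (A : Matrix.SpecialLinearGroup (Fin 2) F) (x : Fin 2 → F) : ap A x = Matrix.mulVec A.1 x := by
  rw [Cfsg.Agent.Omega.KL.TwoZ.mulVec_two]
  rfl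

theorem eq_up_of_fix {A : Matrix.SpecialLinearGroup (Fin 2) F} (h : ap A ![1, 0] = ![1, 0]) (v : Fin 2 → F) :
    ap A v = ![v 0 + A.1 0 1 * v 1, v 1] := by
  rw [ap_eq_mulVec] at h ⊢
  exact Cfsg.Agent.Omega.KL.TwoZ.sl_fix h v

variable [Finite G] [Finite F] [CharP F 2]

/-- **`T` acts as the group of upper unitriangular matrices.** -/
theorem act_T (M : NatK F T P V D 1) (c : Cp P V D W) (hTP : T ≤ P) (hT2 : IsPGroup 2 T) {Z : Subgroup G}
    (hZW : Z ≤ W) (hT : ∀ z ∈ Z, ∀ t ∈ T, t * z = z * t) (hl : ∀ a : F, ∃ z ∈ Z, M.e z 0 = ![a, 0]) {t : G}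
    (ht : t ∈ T) : ∃ b : F, AcW M W t (up b) := by
  have htP := hTP ht
  have hfix : ∀ z ∈ Z, t * z * t⁻¹ = z := fun z hz => by rw [hT z hz t ht, mul_inv_cancel_right]
  have mulW : ∀ v ∈ W, ∀ w ∈ W, M.e (v * w) 0 = M.e v 0 + M.e w 0 := fun v hv w hw => by
    rw [M.mul v (c.le hv) w (c.le hw)]; rfl
  -- conjugates of the lifts
  have hnorm : ∀ A : Matrix.SpecialLinearGroup (Fin 2) F, ∃ h ∈ P, AcW M W h A ∧
      ∃ B : Matrix.SpecialLinearGroup (Fin 2) F, AcW M W (t * h * t⁻¹) B := by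
    intro A
    obtain ⟨h, hh, hact, -⟩ := M.lift fun _ => A
    obtain ⟨B, hB⟩ := M.norm t htP h hh (fun _ => A) fun v hv i => hact v hv i
    exact ⟨h, hh, fun w hw => hact w (c.le hw) 0, B 0, fun w hw => hB w (c.le hw) 0⟩
  -- the second coordinate
  have key : ∀ b : F, ∃ b' : F, ∀ w ∈ W, b' * M.e (t * w * t⁻¹) 0 1 = b * M.e w 0 1 := by
    intro b
    obtain ⟨h, hh, hA, B, hB⟩ := hnorm (up b)
    have hthP : t * h * t⁻¹ ∈ P := mul_mem (mul_mem htP hh) (inv_mem htP)
    have hline : ∀ a : F, ap B ![a, 0] = ![a, 0] := by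
      intro a
      obtain ⟨z, hz, hez⟩ := hl a
      have hzW := hZW hz
      have h1 := hB z hzW
      have h2 : h * z * h⁻¹ = z := by
        refine e_inj M c (c.cj hh hzW) hzW ?_
        funext i
        rw [Subsingleton.elim i 0, hA z hzW, hez]
        refine ext2' ?_ ?_
        · rw [ap_up_0]; simp
        · rw [ap_up_1]
      have h3 : t * h * t⁻¹ * z * (t * h * t⁻¹)⁻¹ = z := by
        have e1 : t⁻¹ * z * t = z := by
          have h4 := hfix z hz
          have e2 : t⁻¹ * (t * z * t⁻¹) * t = z := by group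
          rw [h4] at e2; exact e2
        calc t * h * t⁻¹ * z * (t * h * t⁻¹)⁻¹ = t * (h * (t⁻¹ * z * t) * h⁻¹) * t⁻¹ := by group
          _ = z := by rw [e1, h2, hfix z hz]
      rw [h3, hez] at h1
      exact h1.symm
    refine ⟨B.1 0 1, fun w hw => ?_⟩
    have htw := c.cj htP hw
    -- `h w h⁻¹ = w z`
    obtain ⟨z, hz, hez⟩ := hl (b * M.e w 0 1)
    have hzW := hZW hz
    have h1 : h * w * h⁻¹ = w * z := by
      refine e_inj M c (c.cj hh hw) (mul_mem hw hzW) ?_
      funext i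
      rw [Subsingleton.elim i 0, hA w hw, mulW w hw z hzW, hez]
      refine ext2' ?_ ?_
      · rw [ap_up_0]; rfl
      · rw [ap_up_1]; simp
    have h2 := hB (t * w * t⁻¹) htw
    have h3 : t * h * t⁻¹ * (t * w * t⁻¹) * (t * h * t⁻¹)⁻¹ = (t * w * t⁻¹) * z := by
      calc t * h * t⁻¹ * (t * w * t⁻¹) * (t * h * t⁻¹)⁻¹ = t * (h * w * h⁻¹) * t⁻¹ := by group
        _ = (t * w * t⁻¹) * (t * z * t⁻¹) := by rw [h1]; group
        _ = _ := by rw [hfix z hz]
    rw [h3, mulW _ htw z hzW, hez, eq_up_of_fix (hline 1)] at h2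
    have h4 := congrFun h2 0
    simp only [Pi.add_apply, Matrix.cons_val_zero] at h4
    exact (add_left_cancel h4).symm
  obtain ⟨w₁, hw₁, hew₁⟩ := e_surj M c fun _ => ![0, 1]
  have hew₁' : M.e w₁ 0 = ![0, 1] := congrFun hew₁ 0
  set γ : F := M.e (t * w₁ * t⁻¹) 0 1 with hγ
  have hγ0 : γ ≠ 0 := by
    obtain ⟨b', hb'⟩ := key 1
    have h1 := hb' w₁ hw₁
    rw [hew₁', ← hγ] at h1
    intro h0
    rw [h0, mul_zero] at h1
    simp at h1
  have hsec : ∀ w ∈ W, M.e (t * w * t⁻¹) 0 1 = γ * M.e w 0 1 := by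
    intro w hw
    obtain ⟨b', hb'⟩ := key 1
    have h1 := hb' w₁ hw₁
    rw [hew₁', ← hγ] at h1
    have h2 := hb' w hw
    have h3 : b' = γ⁻¹ := by
      simp only [Matrix.cons_val_one, Matrix.cons_val_fin_one, mul_one] at h1
      exact eq_inv_of_mul_eq_one_left h1
    rw [h3, one_mul] at h2
    rw [← h2, mul_inv_cancel_left₀ hγ0]
  -- `γ = 1`
  have hpow : ∀ n : ℕ, ∀ w ∈ W, M.e (t ^ n * w * (t ^ n)⁻¹) 0 1 = γ ^ n * M.e w 0 1 := by
    intro n
    induction n with
    | zero => intro w _; simp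
    | succ n ih =>
      intro w hw
      have e1 : t ^ (n + 1) * w * (t ^ (n + 1))⁻¹ = t * (t ^ n * w * (t ^ n)⁻¹) * t⁻¹ := by
        rw [pow_succ']; group
      rw [e1, hsec _ (c.cj (pow_mem htP n) hw), ih w hw, pow_succ']
      ring
  have hγ1 : γ = 1 := by
    obtain ⟨m, hm⟩ := hT2 ⟨t, ht⟩
    have hm' : t ^ 2 ^ m = 1 := congrArg Subtype.val hm
    have h1 := hpow (2 ^ m) w₁ hw₁
    rw [hm', hew₁'] at h1
    simp only [one_mul, inv_one, mul_one, hew₁', Matrix.cons_val_one, Matrix.cons_val_fin_one] at h1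
    have hp : Fact (Nat.Prime 2) := ⟨Nat.prime_two⟩
    have h2 : (γ - 1) ^ 2 ^ m = 0 := by
      rw [sub_pow_char_pow, ← h1, one_pow, sub_self]
    exact sub_eq_zero.1 (pow_eq_zero_iff (by positivity) |>.1 h2)
  rw [hγ1] at hsec
  -- the first coordinate
  set b : F := M.e (t * w₁ * t⁻¹) 0 0 with hb
  -- additive part
  have hadd : ∀ w ∈ W, ∀ w' ∈ W, M.e w 0 1 = M.e w' 0 1 →
      M.e (t * w * t⁻¹) 0 0 - M.e w 0 0 = M.e (t * w' * t⁻¹) 0 0 - M.e w' 0 0 := by
    intro w hw w' hw' h1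
    obtain ⟨z, hz, hez⟩ := hl (M.e w' 0 0 - M.e w 0 0)
    have hzW := hZW hz
    have h2 : w' = w * z := by
      refine e_inj M c hw' (mul_mem hw hzW) ?_
      funext i
      rw [Subsingleton.elim i 0, mulW w hw z hzW, hez]
      refine ext2' ?_ ?_
      · simp
      · simp [h1]
    have h3 : t * w' * t⁻¹ = (t * w * t⁻¹) * z := by
      rw [h2]
      calc t * (w * z) * t⁻¹ = (t * w * t⁻¹) * (t * z * t⁻¹) := by group
        _ = _ := by rw [hfix z hz]
    rw [h3, mulW _ (c.cj htP hw) z hzW, hez]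
    simp only [Pi.add_apply, Matrix.cons_val_zero]
    ring
  have hlin : ∀ x : F, ∀ w ∈ W, M.e w 0 1 = x → M.e (t * w * t⁻¹) 0 0 - M.e w 0 0 = b * x := by
    obtain ⟨h, hh, hA, B, hB⟩ := hnorm (lo 1)
    -- for every `x`
    have main : ∀ x : F, ∃ w ∈ W, M.e w 0 1 = x ∧
        ap B ![x, 0] = ![x + (M.e (t * w * t⁻¹) 0 0 - M.e w 0 0), x] := by
      intro x
      obtain ⟨z, hz, hez⟩ := hl x
      have hzW := hZW hz
      refine ⟨h * z * h⁻¹, c.cj hh hzW, ?_, ?_⟩
      · rw [hA z hzW, hez, NatPair.ap_one', lo_10, lo_11]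
        simp
      · have h1 := hB z hzW
        have h3 : t * h * t⁻¹ * z * (t * h * t⁻¹)⁻¹ = t * (h * z * h⁻¹) * t⁻¹ := by
          have e1 : t⁻¹ * z * t = z := by
            have h4 := hfix z hz
            have e2 : t⁻¹ * (t * z * t⁻¹) * t = z := by group
            rw [h4] at e2; exact e2
          calc t * h * t⁻¹ * z * (t * h * t⁻¹)⁻¹ = t * (h * (t⁻¹ * z * t) * h⁻¹) * t⁻¹ := by group
            _ = _ := by rw [e1]
        rw [h3, hez] at h1
        rw [← h1]
        have h5 : M.e (h * z * h⁻¹) 0 = ![x, x] := by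
          rw [hA z hzW, hez]
          refine ext2' ?_ ?_
          · rw [NatPair.ap_zero', lo_00, lo_01]; simp
          · rw [NatPair.ap_one', lo_10, lo_11]; simp
        refine ext2' ?_ ?_
        · rw [h5]; simp
        · rw [hsec _ (c.cj hh hzW), h5]; simp
    intro x w hw hx
    obtain ⟨w', hw', hx', h1⟩ := main x
    rw [hadd w hw w' hw' (hx.trans hx'.symm)]
    obtain ⟨w'', hw'', hx'', h2⟩ := main 1
    have h3 : ap B ![x, 0] = x • ap B ![1, 0] := by
      have e1 : (![x, 0] : Fin 2 → F) = x • ![1, 0] := by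
        refine ext2' ?_ ?_ <;> simp
      rw [e1, NatPair.ap_smul]
    have h4 : M.e (t * w'' * t⁻¹) 0 0 - M.e w'' 0 0 = b := by
      rw [hadd w'' hw'' w₁ hw₁ (by rw [hx'', hew₁']; simp), ← hb, hew₁']
      simp
    rw [h1, h2, h4] at h3
    have h5 := congrFun h3 0
    simp only [Matrix.cons_val_zero, Pi.smul_apply, smul_eq_mul] at h5
    have h6 : x + (M.e (t * w' * t⁻¹) 0 0 - M.e w' 0 0) = x + b * x := by rw [h5]; ring
    exact add_left_cancel h6
  refine ⟨b, fun w hw => ext2' ?_ ?_⟩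
  · rw [ap_up_0]
    have h1 := hlin _ w hw rfl
    rw [← h1]; ring
  · rw [ap_up_1, hsec w hw, one_mul]

/-- **`P` acts as `SL₂(F)`.** -/
theorem act_P (M : NatK F T P V D 1) (c : Cp P V D W) (hTP : T ≤ P) (hT2 : IsPGroup 2 T) {Z : Subgroup G}
    (hZW : Z ≤ W) (hT : ∀ z ∈ Z, ∀ t ∈ T, t * z = z * t) (hl : ∀ a : F, ∃ z ∈ Z, M.e z 0 = ![a, 0]) {g : G}
    (hg : g ∈ P) : ∃ A, AcW M W g A := by
  let K : Subgroup G :=
    { carrier := {g | g ∈ P ∧ ∃ A, AcW M W g A}
      mul_mem' := by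
        rintro x y ⟨hx, A, hA⟩ ⟨hy, B, hB⟩
        refine ⟨mul_mem hx hy, A * B, fun w hw => ?_⟩
        have e1 : x * y * w * (x * y)⁻¹ = x * (y * w * y⁻¹) * x⁻¹ := by group
        rw [e1, hA _ (c.cj hy hw), hB w hw, NatPair.ap_mul]
      one_mem' := ⟨one_mem _, 1, fun w _ => by rw [NatPair.ap_one]; simp⟩
      inv_mem' := by
        rintro x ⟨hx, A, hA⟩
        refine ⟨inv_mem hx, A⁻¹, fun w hw => ?_⟩
        have h1 := hA _ (c.cj (inv_mem hx) hw)
        have e1 : x * (x⁻¹ * w * x⁻¹⁻¹) * x⁻¹ = w := by group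
        rw [e1] at h1
        rw [h1, ← NatPair.ap_mul, inv_mul_cancel, NatPair.ap_one] }
  have h1 : P ≤ K := by
    refine M.gen K ?_ ?_
    · intro t ht
      obtain ⟨b, hb⟩ := act_T M c hTP hT2 hZW hT hl ht
      exact ⟨hTP ht, up b, hb⟩
    · intro h hh A hA
      exact ⟨hh, A 0, fun w hw => hA.1 w (c.le hw) 0⟩
  exact (h1 hg).2

/-- **The coordinates.** -/
theorem natSL (M : NatK F T P V D 1) (c : Cp P V D W) (hTP : T ≤ P) (hT2 : IsPGroup 2 T) {Z : Subgroup G}
    (hZW : Z ≤ W) (hT : ∀ z ∈ Z, ∀ t ∈ T, t * z = z * t) (hl : ∀ a : F, ∃ z ∈ Z, M.e z 0 = ![a, 0]) :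
    ∃ e : (Fin 2 → F) → G, NatSL F e W Z ∧ ActSL F e P := by
  have hex : ∀ v : Fin 2 → F, ∃ w ∈ W, M.e w 0 = v := fun v => by
    obtain ⟨w, hw, h⟩ := e_surj M c fun _ => v
    exact ⟨w, hw, congrFun h 0⟩
  have inj : ∀ v ∈ W, ∀ w ∈ W, M.e v 0 = M.e w 0 → v = w := fun v hv w hw h =>
    e_inj M c hv hw (funext fun i => by rw [Subsingleton.elim i 0]; exact h)
  have mulW : ∀ v ∈ W, ∀ w ∈ W, M.e (v * w) 0 = M.e v 0 + M.e w 0 := fun v hv w hw => by
    rw [M.mul v (c.le hv) w (c.le hw)]; rfl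
  choose e heW he using hex
  have heq : ∀ w ∈ W, e (M.e w 0) = w := fun w hw => inj _ (heW _) _ hw (he _)
  have hconj : ∀ g ∈ P, ∀ A, AcW M W g A → ∀ v, g * e v * g⁻¹ = e (Matrix.mulVec A.1 v) := by
    intro g hg A hA v
    refine inj _ (c.cj hg (heW v)) _ (heW _) ?_
    rw [hA _ (heW v), he, he, ap_eq_mulVec]
  refine ⟨e, ⟨fun v w => ?_, fun v w h => ?_, fun x => ⟨fun hx => ⟨M.e x 0, heq x hx⟩, ?_⟩,
    fun x => ⟨fun hx => ⟨M.e x 0 0, ?_⟩, ?_⟩⟩, ⟨fun r hr => ?_, fun A => ?_⟩⟩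
  · exact inj _ (heW _) _ (mul_mem (heW v) (heW w)) (by rw [mulW _ (heW v) _ (heW w), he, he, he])
  · rw [← he v, ← he w, h]
  · rintro ⟨v, rfl⟩
    exact heW v
  · have h1 : M.e x 0 = ![M.e x 0 0, 0] := ext2' (by simp) (by
      rw [fixed_line M (c.le (hZW hx)) (hT x hx) 0]; simp)
    rw [← h1]
    exact heq x (hZW hx)
  · rintro ⟨a, rfl⟩
    obtain ⟨z, hz, hez⟩ := hl a
    rw [← hez, heq z (hZW hz)]
    exact hz
  · obtain ⟨A, hA⟩ := act_P M c hTP hT2 hZW hT hl hr
    exact ⟨A, hconj r hr A hA⟩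
  · obtain ⟨g, hg, hA, -⟩ := M.lift fun _ => A
    exact ⟨g, hg, hconj g hg A fun w hw => hA w (c.le hw) 0⟩

end nat

/-! ### Even-subset modules -/

section sym

variable {T P V D W : Subgroup G} {k m : ℕ}

theorem not_sym [Finite G] (M : SymK T P V D k m) (c : Cp P V D W) (hk : 0 < k) (hm : 2 ≤ m)
    (hPV : P ≤ normalizer (V : Set G)) (hTP : T ≤ P) (hT2 : ¬ 2 ∣ T.relIndex P) {Z : Subgroup G} (hZW : Z ≤ W)
    (hT : ∀ z ∈ Z, ∀ t ∈ T, t * z = z * t) (hc : Nat.card W = Nat.card Z * Nat.card Z) : False := by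
  classical
  have e_one : M.e 1 = 0 := by
    have h := M.mul 1 (one_mem _) 1 (one_mem _)
    rw [one_mul] at h
    exact left_eq_add.1 h
  have inj : ∀ v ∈ W, ∀ w ∈ W, M.e v = M.e w → v = w := by
    intro v hv w hw h
    have h0 : M.e v⁻¹ = - M.e v := by
      have h := M.mul v⁻¹ (inv_mem (c.le hv)) v (c.le hv)
      rw [inv_mul_cancel, e_one] at h
      exact eq_neg_of_add_eq_zero_left h.symm
    have h1 : M.e (v⁻¹ * w) = 0 := by
      rw [M.mul _ (V.inv_mem (c.le hv)) _ (c.le hw), h0, h, neg_add_cancel]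
    have h2 := (M.ker _ (V.mul_mem (V.inv_mem (c.le hv)) (c.le hw))).1 h1
    have h3 : v⁻¹ * w ∈ W ⊓ D := ⟨W.mul_mem (W.inv_mem hv) hw, h2⟩
    rw [c.inf, mem_bot] at h3
    exact inv_mul_eq_one.1 h3
  -- `|Z| ≤ 2^k`
  have hZ : Nat.card Z ≤ 2 ^ k := by
    let f : Z → (Fin k → Bool) := fun z i => decide (M.e z.1 i = 0)
    have hf : Function.Injective f := by
      intro z z' h
      refine Subtype.ext (inj _ (hZW z.2) _ (hZW z'.2) ?_)
      funext i
      have h1 := congrFun h i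
      have c1 := IId.SwCv.Spl.fixed_cases M hPV hTP hT2 (by omega) i (c.le (hZW z.2)) (fun t ht => hT _ z.2 t ht)
      have c2 := IId.SwCv.Spl.fixed_cases M hPV hTP hT2 (by omega) i (c.le (hZW z'.2)) (fun t ht => hT _ z'.2 t ht)
      by_cases h0 : M.e z.1 i = 0
      · have h2 : M.e z'.1 i = 0 := by
          have : f z i = true := decide_eq_true h0
          rw [h1] at this
          exact of_decide_eq_true this
        rw [h0, h2]
      · have h2 : M.e z'.1 i ≠ 0 := by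
          have : f z i = false := decide_eq_false h0
          rw [h1] at this
          exact of_decide_eq_false this
        rw [c1.resolve_left h0, c2.resolve_left h2]
    have h1 := Nat.card_le_card_of_injective f hf
    rw [Nat.card_fun, Nat.card_eq_fintype_card (α := Fin k), Nat.card_eq_fintype_card (α := Bool), Fintype.card_fin,
      Fintype.card_bool] at h1
    exact h1
  -- `|W| ≥ 2^(2^m k)`
  have hW : 2 ^ (2 ^ m * k) ≤ Nat.card W := by
    have hex : ∀ y : Fin k → Fin (2 ^ m) → ZMod 2, ∃ w : W,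
        M.e w = fun i => Fin.cons (∑ x, y i x) (y i) := by
      intro y
      obtain ⟨v, hv, hev⟩ := M.surj (fun i => Fin.cons (∑ x, y i x) (y i)) fun i => by
        rw [Fin.sum_univ_succ, Fin.cons_zero]
        simp only [Fin.cons_succ]
        exact CharTwo.add_self_eq_zero _
      obtain ⟨w, hw, d, hd, rfl⟩ := c.dec hv
      refine ⟨⟨w, hw⟩, ?_⟩
      rw [M.mul w (c.le hw) d (c.DV hd), (M.ker d (c.DV hd)).2 hd, add_zero] at hev
      exact hev
    choose g hg using hex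
    have hg' : Function.Injective g := by
      intro y y' h
      have h1 := hg y
      rw [h, hg y'] at h1
      funext i x
      have h2 := congrFun (congrFun h1 i) x.succ
      simpa using h2.symm
    have h1 := Nat.card_le_card_of_injective g hg'
    rw [Nat.card_fun, Nat.card_fun, Nat.card_eq_fintype_card (α := Fin k), Nat.card_eq_fintype_card (α := Fin (2 ^ m)),
      Fintype.card_fin, Fintype.card_fin, Nat.card_eq_fintype_card (α := ZMod 2), ZMod.card, ← pow_mul] at h1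
    exact h1
  have h1 : Nat.card Z * Nat.card Z ≤ 2 ^ k * 2 ^ k := Nat.mul_le_mul hZ hZ
  rw [← hc, ← pow_add] at h1
  have h2 := (Nat.pow_le_pow_iff_right (by norm_num : 1 < 2)).1 (hW.trans h1)
  have h3 : 2 ^ 2 ≤ 2 ^ m := Nat.pow_le_pow_right (by norm_num) hm
  have h4 : 2 ^ 2 * k ≤ 2 ^ m * k := Nat.mul_le_mul_right _ h3
  omega

end sym

/-! ### `P ∈ P*(S)` -/

/-- **The `P`-local part of `Nat1`.** -/
theorem exists_nat [Finite G] (hG : IsCharacteristicTwoType G) {S : Sylow 2 G} {P W : Subgroup G}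
    (hP : IsParS (S : Subgroup G) P) (hcon : ConclM (S : Subgroup G) P)
    (hsp : RTreeA.SplitBy (S : Subgroup G) P (cv (S : Subgroup G) P) W)
    (hc : Nat.card W = Nat.card ↥(W ⊓ zc (S : Subgroup G)) * Nat.card ↥(W ⊓ zc (S : Subgroup G))) :
    ∃ (F : Type) (_ : Field F) (_ : Finite F) (e : (Fin 2 → F) → G),
      NatSL F e W (W ⊓ zc (S : Subgroup G)) ∧ ActSL F e P := by
  have hVc : ∀ x ∈ zl (S : Subgroup G) P, ∀ y ∈ zl (S : Subgroup G) P, x * y = y * x := fun x hx y hy =>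
    MinSimple.VModule.zc_comm _ _ (hP.isLoc.zl_le S hG hx) _ (hP.isLoc.zl_le S hG hy)
  have c : Cp P (zl (S : Subgroup G) P) (cv (S : Subgroup G) P) W :=
    ⟨hsp.1, hsp.2.1, hsp.2.2.1, hsp.2.2.2, hVc, inf_le_left⟩
  have hfix : ∀ z ∈ W ⊓ zc (S : Subgroup G), ∀ t ∈ (S : Subgroup G), t * z = z * t := fun z hz t ht =>
    (MinSimple.VModule.mem_zc.1 hz.2).2.1 t ht
  rcases hcon with ⟨F, _, _, _, k, hk, ⟨M⟩⟩ | ⟨k, m, hk, hm, ⟨M⟩⟩
  · have h1 := k_one M.toNatK c hk inf_le_left hfix hc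
    subst h1
    obtain ⟨e, he⟩ := natSL M.toNatK c hP.le S.isPGroup' inf_le_left hfix (fun a => by
      obtain ⟨z, hz, h⟩ := all_line M.toNatK c inf_le_left hfix hc fun _ => a
      exact ⟨z, hz, h 0⟩)
    exact ⟨F, inferInstance, inferInstance, e, he⟩
  · exact (not_sym M.toSymK c hk hm (MinSimple.VModule.le_normalizer_zl _ _) hP.le
      (MinSimple.Basic.not_dvd_relIndex S hP.le) inf_le_left hfix hc).elim

end Cfsg.Agent.Omega.NOThreeL.RRed.Nat1Par

end

section


/-!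
# NO-3L, box R: `InstZ.Nat1` from the `P`-local data (#25082)

* **`nat1_of`** : for each `i` one `P ∈ P*(S)` in `C_G(Z_(i+1))` with `V_P = V i × C_(V_P)(O²(P))`, `|V i| = |Z_i|²`, every
  `R ∈ P*(S)` which moves `Z_i` has `V i ∩ C_(V_R)(O²(R)) = 1`: then `Nat1 S V`;
* `splitBy_of` : `SplitBy` from `V i ≤ V_P`, `V i ∩ C(O²(P)) = 1`, `P` normalises `V i`, `Z = Z_i C_Z(P)`.
-/

set_option autoImplicit false
set_option linter.unusedSectionVars false

namespace Cfsg.Agent.Omega.NOThreeL.RRed.Nat1Of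

open Subgroup Cfsg Cfsg.Agent.ZN Cfsg.Agent.Omega.MinPar
open Cfsg.Agent.Omega.FFThm (ConclM)
open Cfsg.Agent.Omega.FrameFF (cv)
open Cfsg.Agent.Omega.KL.TwoZ (NatSL ActSL)
open Cfsg.Agent.Omega.NOThreeL.RRed.InstZ (Nat1 ZZ)
open Cfsg.Agent.Omega.NOThreeL.RTreeA (SplitBy)
open Cfsg.Agent.MinSimple.VModule (zc_le_zl oddGen)
open scoped Pointwise

universe u

variable {G : Type u} [Group G]

/-- `C_Z(P) ≤ C_(V_P)(O²(P))` -/
theorem mem_cv_of [Finite G] {S R : Subgroup G} {z : G} (hz : z ∈ zc S) (hR : R ≤ centralizer ({z} : Set G)) :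
    z ∈ cv S R := by
  refine mem_inf.2 ⟨zc_le_zl S R hz, mem_centralizer_iff.2 fun x hx => ?_⟩
  have h1 : oddGen R ≤ centralizer ({z} : Set G) := by
    rw [MinSimple.VModule.oddGen_def, closure_le]
    rintro g ⟨hg, -⟩
    exact hR hg
  exact (mem_centralizer_singleton_iff.1 (h1 hx))

/-- `Z = (W ∩ Z) C_Z(P)` and `W ∩ C_(V_P)(O²(P)) = 1` give the splitting. -/
theorem splitBy_of [Finite G] {S P W : Subgroup G} (h1 : W ≤ zl S P) (h2 : P ≤ normalizer (W : Set G))
    (h3 : W ⊓ cv S P = ⊥)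
    (h4 : ∀ z ∈ zc S, ∃ w ∈ W, ∃ y ∈ zc S, P ≤ centralizer ({y} : Set G) ∧ z = w * y) :
    SplitBy S P (cv S P) W := by
  refine ⟨h1, h2, h3, ?_⟩
  have hn : P ≤ normalizer ((W ⊔ cv S P : Subgroup G) : Set G) := by
    have h5 : P ≤ normalizer (cv S P : Set G) := by
      intro g hg
      rw [mem_normalizer_iff]
      intro x
      constructor
      · intro hx
        exact RRed.Blk.SplitTwo.conj_cv hg hx
      · intro hx
        have h6 := RRed.Blk.SplitTwo.conj_cv (S := S) (P := P) (inv_mem hg) hx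
        have e : g⁻¹ * (g * x * g⁻¹) * g⁻¹⁻¹ = x := by group
        rwa [e] at h6
    exact RRed.CM.norm_sup h2 h5
  refine MinSimple.VModule.zl_le (fun z hz => ?_) hn
  obtain ⟨w, hw, y, hy, hP, rfl⟩ := h4 z hz
  exact mul_mem (mem_sup_left hw) (mem_sup_right (mem_cv_of hy hP))

/-- **`Nat1` from the `P`-local data.** -/
theorem nat1_of [Finite G] (hG : IsCharacteristicTwoType G) {S : Sylow 2 G} {V : Fin 2 → Subgroup G}
    (hex : ∀ i, ∃ P, IsParS (S : Subgroup G) P ∧ P ≤ centralizer (ZZ (S : Subgroup G) V (i + 1) : Set G) ∧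
      ConclM (S : Subgroup G) P ∧ SplitBy (S : Subgroup G) P (cv (S : Subgroup G) P) (V i))
    (hc : ∀ i, Nat.card (V i) = Nat.card ↥(ZZ (S : Subgroup G) V i) * Nat.card ↥(ZZ (S : Subgroup G) V i))
    (hmv : ∀ i, ∀ R, IsParS (S : Subgroup G) R → ¬ R ≤ centralizer (ZZ (S : Subgroup G) V i : Set G) →
      V i ⊓ cv (S : Subgroup G) R = ⊥)
    (nV : ∀ n ∈ normalizer ((S : Subgroup G) : Set G), (∀ i, MulAut.conj n • V i = V i) ∨
      ∀ i, MulAut.conj n • V i = V (i + 1)) : Nat1 S V where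
  ex i := by
    obtain ⟨P, hP, hPC, hcon, hsp⟩ := hex i
    obtain ⟨F, i1, i2, e, h1, h2⟩ := Nat1Par.exists_nat hG hP hcon hsp (hc i)
    exact ⟨F, i1, i2, e, P, h1, hP, hPC, h2⟩
  mvs i R hR hRn z hz hz1 hRz := by
    have h1 : z ∈ V i ⊓ cv (S : Subgroup G) R := ⟨hz.1, mem_cv_of hz.2 hRz⟩
    rw [hmv i R hR hRn, mem_bot] at h1
    exact hz1 h1
  nV := nV

end Cfsg.Agent.Omega.NOThreeL.RRed.Nat1Of

end

section


/-!
# Project SQT: the socket `FourOf` over `QK` (cut of helper673)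

`RR S = 1`, `|Z| = 4`, `m_3(G) ≤ 2`.  `Dec.small` (949): at most two blocks, of at most five letters if there are two,
of at most seven letters if there is one.

* `no_k2` : two `S`-orbits of blocks (so two blocks): there is no (K2) in `P*(S)`;
* **`seven`** : `R₀ = 1` implies that there is one block, and it has seven letters;
* **`fourQ`** : `FourOf QK B` from `FourFld` (fields), `FourSeven` (one block of seven letters) and `FourRest`
  (`R₀ ≠ 1`); the sockets `FourJ`, `FourTwo` are not needed.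
-/

set_option autoImplicit false
set_option linter.unusedSectionVars false

namespace Cfsg.Agent.Omega.SQT.FourQ

open Subgroup Cfsg Cfsg.Agent.ZN Cfsg.Agent.Omega.MinPar Cfsg.Agent.Omega.Frame Cfsg.Agent.Omega.FrameNOFF
open Cfsg.Agent.Omega.Node.NO3L Cfsg.Agent.Omega.NOThreeL.Basic Cfsg.Agent.Omega.NOThreeL.RTree
open Cfsg.Agent.Omega.NOThreeL.Merge (MZ)
open Cfsg.Agent.Omega.KL.TwoS (Rel Lett)
open Cfsg.Agent.Omega.NOThreeL.RRed
open Cfsg.Agent.Omega.NOThreeL.RTreeF
open Cfsg.Agent.Omega.NOThreeL.RRed.FourTree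
open Cfsg.Agent.Omega.NOThreeL.RRed.Blk
open Cfsg.Agent.Omega.NOThreeL.RRed.GlueSig (FourOf Fr)
open Cfsg.Agent.Omega.SQT.Main (QK)
open Cfsg.Agent.MinSimple.VModule (oddGen)
open scoped Pointwise

universe u

section perm

variable {G : Type u} [Group G] {I : Type u} {S L U R₀ : Subgroup G} {N E : I → Subgroup G}

/-- at most two blocks: squares fix the blocks -/
theorem sq_fix (D : Dec S L U N E R₀) (h2 : ∀ a b c : I, a ≠ b → a ≠ c → b ≠ c → False) {g : G} (hg : g ∈ L)
    (b : I) : MulAut.conj (g * g) • N b = N b := by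
  obtain ⟨c, hc, -⟩ := D.perm g hg b
  obtain ⟨d, hd, -⟩ := D.perm g hg c
  have e : MulAut.conj (g * g) • N b = N d := by rw [map_mul, mul_smul, hc, hd]
  by_cases hcb : c = b
  · subst hcb
    rw [e, ← hd, hc]
  · by_cases hdb : d = b
    · rw [e, hdb]
    · have hdc : d ≠ c := by
        rintro rfl
        exact hcb (D.Ninj (smul_left_cancel _ (hc.trans hd.symm))).symm
      exact (h2 b c d (Ne.symm hcb) (Ne.symm hdb) (Ne.symm hdc)).elim

/-- at most two blocks: elements of odd order fix the blocks -/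
theorem odd_fix (D : Dec S L U N E R₀) (h2 : ∀ a b c : I, a ≠ b → a ≠ c → b ≠ c → False) {g : G} (hg : g ∈ L)
    (ho : Odd (orderOf g)) (b : I) : MulAut.conj g • N b = N b := by
  obtain ⟨j, hj⟩ := ho
  have h1 : (g * g) ^ (j + 1) = g := by
    rw [← pow_two, ← pow_mul, show 2 * (j + 1) = orderOf g + 1 by omega, pow_succ, pow_orderOf_eq_one, one_mul]
  have h3 : MulAut.conj (g * g) ∈ MulAction.stabilizer (MulAut G) (N b) :=
    MulAction.mem_stabilizer_iff.2 (sq_fix D h2 hg b)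
  have h4 := pow_mem h3 (j + 1)
  rw [← map_pow, h1] at h4
  exact MulAction.mem_stabilizer_iff.1 h4

end perm

section two

variable {G : Type u} [Group G] [Finite G] {S : Sylow 2 G} {I : Type u} [Finite I] {N E : I → Subgroup G}
  {z : I → G} {O : Fin 2 → Set I} {v : Fin 2 → G}

/-- two orbits, at most two blocks: every orbit consists of one block -/
theorem orb_one (t : TwoO S (MZ (S : Subgroup G)) (Wd (S : Subgroup G)) N E ⊥ z O v)
    (h2 : ∀ a b c : I, a ≠ b → a ≠ c → b ≠ c → False) {i : Fin 2} {b c : I} (hb : b ∈ O i) (hc : c ∈ O i) :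
    c = b := by
  by_contra hne
  obtain ⟨d, hd⟩ := (t.orb (i + 1)).ne
  have hij : i ≠ i + 1 := OM.KTwo.ne_add_one i
  exact h2 c b d hne (fun e => t.notMem hij hc (e ▸ hd)) fun e => t.notMem hij hb (e ▸ hd)

/-- then `v i = z b` -/
theorem v_eq (t : TwoO S (MZ (S : Subgroup G)) (Wd (S : Subgroup G)) N E ⊥ z O v)
    (h2 : ∀ a b c : I, a ≠ b → a ≠ c → b ≠ c → False) {i : Fin 2} {b : I} (hb : b ∈ O i) : v i = z b := by
  have h1 : v i ∈ N b := by
    have h3 : (⨆ c ∈ O i, N c) ≤ N b := iSup₂_le fun c hc => by rw [orb_one t h2 hb hc]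
    exact h3 (t.vV i)
  exact t.dec.uniq (t.dec.comp_self h1) (t.comp i hb)

/-- **Two orbits of blocks, at most two blocks: no (K2) in `P*(S)`.** -/
theorem no_k2 (h : Four S) (t : TwoO S (MZ (S : Subgroup G)) (Wd (S : Subgroup G)) N E ⊥ z O v)
    (h2 : ∀ a b c : I, a ≠ b → a ≠ c → b ≠ c → False) (R : Subgroup G) (hR : IsParS (S : Subgroup G) R) :
    ¬ R ≤ normalizer (((S : Subgroup G) ⊓ ⨆ b, E b : Subgroup G) : Set G) := by
  intro hn
  have hfix : ∀ i : Fin 2, R ≤ centralizer ({v i} : Set G) := by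
    intro i
    obtain ⟨b, hb⟩ := (t.orb i).ne
    rw [← NoFF.LinesPlug.oddGen_sup hR.le (MinSimple.Basic.not_dvd_relIndex S hR.le)]
    refine sup_le ?_ (TwoO.le_cent_iff.2 (t.vS i))
    rw [MinSimple.VModule.oddGen_def, closure_le]
    rintro g ⟨hg, ho⟩
    have h1 := t.dec.k2 t.one (NOThreeL.Merge.le_MZ hR hg) (hn hg) (odd_fix t.dec h2 (NOThreeL.Merge.le_MZ hR hg) ho b)
    rw [← v_eq t h2 hb] at h1
    rw [SetLike.mem_coe, mem_centralizer_singleton_iff]
    calc g * v i = (g * v i * g⁻¹) * g := by group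
      _ = v i * g := by rw [h1]
  have hne : v 0 ≠ v 1 := by
    obtain ⟨b, hb⟩ := (t.orb 0).ne
    intro e
    have h1 := t.comp 0 hb
    rw [e] at h1
    exact t.one.z1 b (t.dec.uniq h1 (t.comp' 1 (t.dis b hb)))
  refine hR.not_zc (le_trans (fun r hr => ?_) (centralizer_le_normalizer _))
  have h0 := mem_centralizer_singleton_iff.1 (hfix 0 hr)
  have h1 := mem_centralizer_singleton_iff.1 (hfix 1 hr)
  refine mem_centralizer_iff.2 fun w hw => ?_
  rcases four_of h.z4 (FourTwoO.v_zc h.toRB t 0) (FourTwoO.v_zc h.toRB t 1) (t.v1 0) (t.v1 1) hne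
    (wsq h.toRB _ (t.VU 1 (t.vV 1))) hw with rfl | rfl | rfl | rfl
  · rw [one_mul, mul_one]
  · exact h0.symm
  · exact h1.symm
  · rw [mul_assoc, ← h1, ← mul_assoc, ← h0, mul_assoc]

end two

section main

variable {G : Type u} [Group G] [Finite G] {S : Sylow 2 G} {I : Type u} [Fintype I] {N E : I → Subgroup G}
  {Om : I → Type u} [∀ i, Fintype (Om i)] [∀ i, DecidableEq (Om i)] {phi : ∀ i, Finset (Om i) → G}

/-- **`R₀ = 1`, `m_3(G) ≤ 2`: there is one block, and it has seven letters.** -/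
theorem seven (hML : ML.Final.MLK.{u, u}) (hE : ML.Ex.Two.Ext.{u, u}) (hr : PRankLE 3 2 G) (h : Four S)
    (hB : Bks S N E ⊥ Om phi) : (∀ a b : I, a = b) ∧ ∀ b, Fintype.card (Om b) = 7 := by
  classical
  obtain ⟨h3, h5, h7⟩ := NoThree.small hr hB.toDec (fun b => hB.lett b) fun b => hB.three b
  rcases FourTwoO.cases_bks h hB with ⟨-, z, O, v, t⟩ | ⟨hne, -⟩ | ⟨-, ht⟩
  · exfalso
    have hno := no_k2 h t h3
    have hc3 : ∀ b, Fintype.card (Om b) = 3 := by
      intro b
      have hlt : ¬ 4 ≤ Fintype.card (Om b) := by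
        intro h4
        rcases t.cov b with hb | hb
        · exact FourTwoO.false_of_big h hML hE hB hno t hb (fun c hc => orb_one t h3 hb hc) h4
        · exact FourTwoO.false_of_big h hML hE hB hno t hb (fun c hc => orb_one t h3 hb hc) h4
      rcases h7 b with e | e | e
      · exact e
      · omega
      · omega
    refine FourThree.not_two h hB ⟨?_, hc3⟩
    obtain ⟨b, hb⟩ := (t.orb 0).ne
    obtain ⟨c, hc⟩ := (t.orb 1).ne
    have hbc : b ≠ c := fun e => t.dis b hb (e ▸ hc)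
    have huniv : (Finset.univ : Finset I) = {b, c} := by
      ext d
      simp only [Finset.mem_univ, Finset.mem_insert, Finset.mem_singleton, true_iff]
      by_contra hcon
      rw [not_or] at hcon
      exact h3 d b c hcon.1 hcon.2 hbc
    rw [← Finset.card_univ, huniv, Finset.card_pair hbc]
  · exact absurd rfl hne
  · have h4 : Nat.card (Wd (S : Subgroup G) ⊓ centralizer ((S : Subgroup G) : Set G) : Subgroup G) = 4 := by
      rw [FourTwoO.zc_eq h.toRB]
      exact h.z4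
    have hall : ∀ b, Fintype.card (Om b) = 7 := by
      intro b
      rcases h7 b with e | e | e
      · have := FourRank.card_le_two hB.toFull (b := b) (m := 1) le_rfl (by rw [e]; norm_num) fun c => ht c b
        omega
      · have := FourRank.card_le_two hB.toFull (b := b) (m := 2) (by norm_num) (by rw [e]; norm_num)
          fun c => ht c b
        omega
      · exact e
    refine ⟨fun a b => ?_, hall⟩
    by_contra hab
    have := hall a
    rcases h5 a b hab with e | e <;> omega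

end main

section sockets

/-- `R₀ = 1`, one block, seven letters: `V* = 2^6`, `M₀` induces `S₇`, `Z = ⟨12, 3456⟩`. -/
def FourSeven (K : Cls.{u}) (B : Fr.{u}) : Prop :=
  ∀ (G : Type u) [Group G] [Finite G], K G → ∀ (S : Sylow 2 G), B G S → Four S → ¬ Fld S →
    ∀ (I : Type u) [Fintype I] [DecidableEq I] (N E : I → Subgroup G) (Om : I → Type u)
      [∀ i, Fintype (Om i)] [∀ i, DecidableEq (Om i)] (phi : ∀ i, Finset (Om i) → G), Bks S N E ⊥ Om phi →
      (∀ a b : I, a = b) → (∀ b, Fintype.card (Om b) = 7) → IsKnownSimple' G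

/-- **`FourOf` over `QK`** -/
theorem fourQ (hML : ML.Final.MLK.{u, u}) (hE : ML.Ex.Two.Ext.{u, u}) {B : Fr.{u}}
    (hb : ∀ (G : Type u) [Group G] [Finite G] (S : Sylow 2 G), B G S → RB S)
    (hf : FourFld QK B) (h7 : FourSeven QK B) (h0 : FourRest QK B) : FourOf QK B :=
  fourOf_of hb hf
    (fun G _ _ hq S hB h hF I _ _ N E Om _ _ phi hBk _ => by
      obtain ⟨h1, h2⟩ := seven hML hE (Multi.three hq) h hBk
      exact h7 G hq S hB h hF I N E Om phi hBk h1 h2)
    (fun G _ _ hq S hB h hF I _ _ N E Om _ _ phi hBk _ => by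
      obtain ⟨h1, h2⟩ := seven hML hE (Multi.three hq) h hBk
      exact h7 G hq S hB h hF I N E Om phi hBk h1 h2)
    h0

end sockets

end Cfsg.Agent.Omega.SQT.FourQ

end

end
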