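import Cfsg.Agent.Mrg.Omega.NOThreeL.RRed.TvTr
import Cfsg.Agent.Mrg.Omega.NOThreeL.RRed.TvOrbs
import Cfsg.Agent.Mrg.Omega.NOThreeL.RRed.HBadOf
import Cfsg.Agent.Mrg.Omega.NOThreeL.RRed.TvNorm

-- merged: Cfsg.Agent.Mrg.Omega.NOThreeL.RRed.Blk.MixDec
section

/-!
# Blocks: `Dec`, `Orbs` for a mixed family of natural blocks and blocks of letters (#27237 (M4))

* `EB M N b := M ⊓ C(⨆ c ≠ b, N c)`; **`dec_of_ind`** : `M` permutes the `N b`, `V = ∏ N b` (direct) gives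
  `Dec S M V N (EB M N) ⊥`;
* `cent_other` : `P ≤ N(N) ⊓ C(C)`, `V = N C`, `P ≤ N(W)`, `N ⊓ W = 1` : `P` centralises `W`;
* **`Mix.main`** : letters `F : Full S M V N E R₀ Om phi`, a second family `N₁`, `C₁`, `T₁`, class modules `Irr M V W`,
  no class with blocks of both kinds: `Dec`, `Orbs` for `Sum.elim N₁ N` and `W i = ⨆ (blocks of class i)`.
-/

set_option autoImplicit false
set_option linter.unusedSectionVars false

namespace Cfsg.Agent.Omega.NOThreeL.RRed.Blk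

open Subgroup Cfsg
open scoped Pointwise

universe u v w

section dec

variable {G : Type u} [Group G] {κ : Type v}

/-- the elements of `M` which centralise the other blocks -/
def EB (M : Subgroup G) (N : κ → Subgroup G) (b : κ) : Subgroup G :=
  M ⊓ centralizer ((⨆ c : {c // c ≠ b}, N c : Subgroup G) : Set G)

variable {M V : Subgroup G} {N : κ → Subgroup G}

theorem inj_of_ind (ne : ∀ b, N b ≠ ⊥) (ind : ∀ b, N b ⊓ (⨆ c : {c // c ≠ b}, N c) = ⊥) {b c : κ}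
    (e : N b = N c) : b = c := by
  by_contra hbc
  apply ne c
  rw [eq_bot_iff, ← ind c]
  exact le_inf le_rfl (by rw [← e]; exact le_iSup (fun d : {d // d ≠ c} => N d) ⟨b, hbc⟩)

variable (ne : ∀ b, N b ≠ ⊥) (ind : ∀ b, N b ⊓ (⨆ c : {c // c ≠ b}, N c) = ⊥)
  (perm : ∀ g ∈ M, ∀ b, ∃ c, MulAut.conj g • N b = N c)
include ne ind perm

theorem co_map {g : G} (hg : g ∈ M) {b c : κ} (hbc : MulAut.conj g • N b = N c) {x : G}
    (hx : x ∈ ⨆ d : {d // d ≠ b}, N d) : g * x * g⁻¹ ∈ ⨆ d : {d // d ≠ c}, N d := by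
  have h1 : MulAut.conj g • (⨆ d : {d // d ≠ b}, N d) ≤ ⨆ d : {d // d ≠ c}, N d := by
    rw [show MulAut.conj g • (⨆ d : {d // d ≠ b}, N d) = ⨆ d : {d // d ≠ b}, MulAut.conj g • N d from
      Subgroup.map_iSup _ _]
    refine iSup_le fun d => ?_
    obtain ⟨e, he⟩ := perm g hg d
    rw [he]
    refine le_iSup (fun d : {d // d ≠ c} => N d) ⟨e, fun h => d.2 ?_⟩
    rw [h, ← hbc] at he
    exact inj_of_ind ne ind (smul_left_cancel _ he)
  exact h1 ((conj_smul rfl).1 hx)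

theorem EB_map {g : G} (hg : g ∈ M) {b c : κ} (hbc : MulAut.conj g • N b = N c) {x : G} (hx : x ∈ EB M N b) :
    g * x * g⁻¹ ∈ EB M N c := by
  refine mem_inf.2 ⟨mul_mem (mul_mem hg hx.1) (inv_mem hg), mem_centralizer_iff.2 fun y hy => ?_⟩
  have hcb : MulAut.conj g⁻¹ • N c = N b := by rw [← hbc, map_inv, inv_smul_smul]
  have h1 := co_map ne ind perm (inv_mem hg) hcb hy
  have h2 := mem_centralizer_iff.1 hx.2 _ h1
  rw [inv_inv] at h2
  calc y * (g * x * g⁻¹) = g * (g⁻¹ * y * g * x) * g⁻¹ := by group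
    _ = g * (x * (g⁻¹ * y * g)) * g⁻¹ := by rw [h2]
    _ = g * x * g⁻¹ * y := by group

theorem EB_conj {g : G} (hg : g ∈ M) {b c : κ} (hbc : MulAut.conj g • N b = N c) :
    MulAut.conj g • EB M N b = EB M N c := by
  have hcb : MulAut.conj g⁻¹ • N c = N b := by rw [← hbc, map_inv, inv_smul_smul]
  apply le_antisymm
  · rintro _ ⟨x, hx, rfl⟩
    exact EB_map ne ind perm hg hbc hx
  · intro y hy
    rw [mem_pointwise_smul_iff_inv_smul_mem, ← map_inv, MulAut.smul_def, MulAut.conj_apply]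
    exact EB_map ne ind perm (inv_mem hg) hcb hy

/-- an element of `M` which centralises `C` with `V = N b C` and `N c ≤ C` for `c ≠ b` fixes `b` -/
theorem fix_of_cent {g : G} (hg : g ∈ M) {b : κ} (hc : ∀ c, c ≠ b → g ∈ centralizer (N c : Set G)) :
    MulAut.conj g • N b = N b := by
  obtain ⟨c, h1⟩ := perm g hg b
  by_cases hcb : c = b
  · rw [hcb] at h1; exact h1
  · exfalso
    apply hcb
    have h2 : MulAut.conj g • N c = N c := by
      have h3 : g ∈ normalizer (N c : Set G) := centralizer_le_normalizer _ (hc c hcb)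
      ext x
      rw [mem_pointwise_smul_iff_inv_smul_mem, ← map_inv, MulAut.smul_def, MulAut.conj_apply]
      exact (mem_normalizer_iff.1 (inv_mem h3) x).symm
    rw [← h2] at h1
    exact (inj_of_ind ne ind (smul_left_cancel _ h1)).symm

/-- **(a)** -/
theorem dec_of_ind {S : Subgroup G} (SM : S ≤ M) (nV : M ≤ normalizer (V : Set G)) (ab : V ≤ centralizer (V : Set G))
    (sup : ⨆ b, N b = V) : Dec S M V N (EB M N) ⊥ where
  SL := SM
  LU := nV
  ab := ab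
  sup := by rw [sup_bot_eq, sup]
  ind b := by rw [sup_bot_eq, ind b]
  ne := ne
  Rnor := by
    intro g _
    rw [mem_normalizer_iff]
    intro x
    show x ∈ (⊥ : Subgroup G) ↔ g * x * g⁻¹ ∈ (⊥ : Subgroup G)
    rw [mem_bot, mem_bot, conj_eq_one_iff]
  EL _ := inf_le_left
  CE b := inf_le_inf_left _ (centralizer_le (by
    rw [← sup]
    exact iSup_le fun c : {c // c ≠ b} => le_iSup N c.1))
  perm g hg b := by
    obtain ⟨c, h1⟩ := perm g hg b
    exact ⟨c, h1, EB_conj ne ind perm hg h1⟩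
  EN b g hg := by
    have h1 := fix_of_cent ne ind perm (b := b) hg.1 fun c hc =>
      centralizer_le (show N c ≤ ⨆ c : {c // c ≠ b}, N c from
        le_iSup (fun c : {c // c ≠ b} => N c) ⟨c, hc⟩) hg.2
    rw [mem_normalizer_iff]
    exact fun x => conj_smul h1
  EC b c hbc := inf_le_right.trans (centralizer_le (le_iSup (fun d : {d // d ≠ b} => N d) ⟨c, Ne.symm hbc⟩))
  ER b g _ := by
    rw [mem_centralizer_iff]
    intro x hx
    have h1 : x = 1 := hx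
    rw [h1, one_mul, mul_one]

end dec

/-- `P` normalises `N`, centralises `C`, `V = N C`; `W ≤ V` is normalised by `P`, `N ⊓ W = 1` -/
theorem cent_other {G : Type u} [Group G] {V N C P W : Subgroup G} (ab : V ≤ centralizer (V : Set G))
    (hV : N ⊔ C = V) (hN : P ≤ normalizer (N : Set G)) (hC : P ≤ centralizer (C : Set G))
    (hW : P ≤ normalizer (W : Set G)) (hWV : W ≤ V) (hi : N ⊓ W = ⊥) : P ≤ centralizer (W : Set G) := by
  intro t ht
  rw [mem_centralizer_iff]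
  intro w hw
  have hNV : N ≤ V := hV ▸ le_sup_left
  have hCV : C ≤ V := hV ▸ le_sup_right
  have hw' : w ∈ N ⊔ C := by rw [hV]; exact hWV hw
  obtain ⟨n, hn, c, hc, e⟩ := mem_sup_of ((hNV.trans ab).trans ((centralizer_le hCV).trans
    (centralizer_le_normalizer _))) hw'
  have h1 : t * w * t⁻¹ * w⁻¹ = t * n * t⁻¹ * n⁻¹ := by
    have h2 := cent (hC ht) hc
    calc t * w * t⁻¹ * w⁻¹ = (t * n * t⁻¹) * (t * c * t⁻¹) * w⁻¹ := by rw [e]; group
      _ = (t * n * t⁻¹) * c * w⁻¹ := by rw [h2]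
      _ = t * n * t⁻¹ * n⁻¹ := by rw [e]; group
  have h3 : t * w * t⁻¹ * w⁻¹ ∈ N ⊓ W := by
    refine mem_inf.2 ⟨?_, mul_mem (conj_of (hW ht) hw) (inv_mem hw)⟩
    rw [h1]
    exact mul_mem (conj_of (hN ht) hn) (inv_mem hn)
  rw [hi, mem_bot] at h3
  have h4 : t * w * t⁻¹ = w := mul_inv_eq_one.1 h3
  exact (mul_inv_eq_iff_eq_mul.1 h4).symm

/-! ### The mixed family -/

section mix

open Cfsg.Agent.Omega.NOThreeL.RRed.TvFin (Full)
open Cfsg.Agent.Omega.NOThreeL.RRed.TvTr (Orb)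
open Cfsg.Agent.Omega.NOThreeL.RZ.TwoC.DecE (Orbs)

variable {G : Type u} [Group G] {S M V : Subgroup G} {I : Type u} {N E : I → Subgroup G} {R₀ : Subgroup G}
  {Om : I → Type u} [∀ i, Fintype (Om i)] [∀ i, DecidableEq (Om i)] {phi : ∀ i, Finset (Om i) → G}
  {ι : Type w} {W : ι → Subgroup G} {κ₁ : Type v} {N₁ C₁ T₁ : κ₁ → Subgroup G} {cls₁ : κ₁ → ι} {cls : I → ι}

/-- The second family and the classes. -/
structure Mix (M V : Subgroup G) (N : I → Subgroup G) (W : ι → Subgroup G) (N₁ C₁ T₁ : κ₁ → Subgroup G)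
    (cls₁ : κ₁ → ι) (cls : I → ι) : Prop where
  irr : ClsBlk.Irr M V W
  ne : ∀ b, N₁ b ≠ ⊥
  sup : ∀ b, N₁ b ⊔ C₁ b = V
  inf : ∀ b, N₁ b ⊓ C₁ b = ⊥
  oth : ∀ b c, c ≠ b → N₁ c ≤ C₁ b
  perm : ∀ g ∈ M, ∀ b, ∃ c, MulAut.conj g • N₁ b = N₁ c
  TM : ∀ b, T₁ b ≤ M
  TC : ∀ b, T₁ b ≤ centralizer (C₁ b : Set G)
  tr : ∀ b, ∀ x ∈ N₁ b, x ≠ 1 → ∀ y ∈ N₁ b, y ≠ 1 → ∃ t ∈ T₁ b, t * x * t⁻¹ = y
  le₁ : ∀ b, N₁ b ≤ W (cls₁ b)
  le₂ : ∀ b, N b ≤ W (cls b)
  dis : ∀ a b, cls₁ a ≠ cls b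
  cov : ∀ i, (∃ a, cls₁ a = i) ∨ ∃ b, cls b = i

variable (F : Full S M V N E R₀ Om phi) (X : Mix M V N W N₁ C₁ T₁ cls₁ cls)

namespace Mix

include X

theorem conjW {g : G} (hg : g ∈ M) {i : ι} {x : G} (hx : x ∈ W i) : g * x * g⁻¹ ∈ W i := conj_of (X.irr.inv i hg) hx

theorem uni {i j : ι} {x : G} (hi : x ∈ W i) (hj : x ∈ W j) (hx : x ≠ 1) : i = j := by
  by_contra hij
  apply hx
  have h1 : x ∈ W i ⊓ W j := mem_inf.2 ⟨hi, hj⟩
  rwa [X.irr.inf_bot (Ne.symm hij), mem_bot] at h1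

include F

theorem ne' (b : κ₁ ⊕ I) : Sum.elim N₁ N b ≠ ⊥ := by
  rcases b with b | b
  · exact X.ne b
  · exact F.ne b

omit F in
theorem le' (b : κ₁ ⊕ I) : Sum.elim N₁ N b ≤ W (Sum.elim cls₁ cls b) := by
  rcases b with b | b
  · exact X.le₁ b
  · exact X.le₂ b

theorem perm' (g : G) (hg : g ∈ M) (b : κ₁ ⊕ I) :
    ∃ c : κ₁ ⊕ I, MulAut.conj g • Sum.elim N₁ N b = Sum.elim N₁ N c := by
  rcases b with b | b
  · obtain ⟨c, hc⟩ := X.perm g hg b
    exact ⟨Sum.inl c, hc⟩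
  · obtain ⟨c, hc, -⟩ := F.perm g hg b
    exact ⟨Sum.inr c, hc⟩

/-- conjugate blocks have the same class -/
theorem cls_conj {g : G} (hg : g ∈ M) {b c : κ₁ ⊕ I} (h : MulAut.conj g • Sum.elim N₁ N b = Sum.elim N₁ N c) :
    Sum.elim cls₁ cls c = Sum.elim cls₁ cls b := by
  obtain ⟨⟨x, hx⟩, hx0⟩ := Subgroup.ne_bot_iff_exists_ne_one.1 (ne' F X b)
  have hx1 : x ≠ 1 := fun e => hx0 (Subtype.ext e)
  refine uni X (le' X c ((conj_smul h).1 hx)) (conjW X hg (le' X b hx)) fun e => hx1 ?_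
  exact conj_eq_one_iff.1 e

/-- **the class modules are the products of their blocks** -/
theorem W_eq (i : ι) : W i = ⨆ b : {b : κ₁ ⊕ I // Sum.elim cls₁ cls b = i}, Sum.elim N₁ N b.1 := by
  apply le_antisymm
  · refine X.irr.irr i _ (iSup_le fun b => ?_) ?_ ?_
    · have h1 := le' X b.1
      rwa [b.2] at h1
    · have h1 : ∀ g ∈ M, ∀ x ∈ (⨆ b : {b : κ₁ ⊕ I // Sum.elim cls₁ cls b = i}, Sum.elim N₁ N b.1),
          g * x * g⁻¹ ∈ ⨆ b : {b : κ₁ ⊕ I // Sum.elim cls₁ cls b = i}, Sum.elim N₁ N b.1 := by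
        intro g hg x hx
        have h2 : MulAut.conj g • (⨆ b : {b : κ₁ ⊕ I // Sum.elim cls₁ cls b = i}, Sum.elim N₁ N b.1) ≤
            ⨆ b : {b : κ₁ ⊕ I // Sum.elim cls₁ cls b = i}, Sum.elim N₁ N b.1 := by
          rw [show MulAut.conj g • (⨆ b : {b : κ₁ ⊕ I // Sum.elim cls₁ cls b = i}, Sum.elim N₁ N b.1) =
            ⨆ b : {b : κ₁ ⊕ I // Sum.elim cls₁ cls b = i}, MulAut.conj g • Sum.elim N₁ N b.1 from
            Subgroup.map_iSup _ _]
          refine iSup_le fun b => ?_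
          obtain ⟨c, hc⟩ := perm' F X g hg b.1
          rw [hc]
          exact le_iSup (fun b : {b : κ₁ ⊕ I // Sum.elim cls₁ cls b = i} => Sum.elim N₁ N b.1)
            ⟨c, by rw [cls_conj F X hg hc]; exact b.2⟩
        exact h2 ((conj_smul rfl).1 hx)
      intro g hg
      rw [mem_normalizer_iff]
      refine fun x => ⟨fun hx => h1 g hg x hx, fun hx => ?_⟩
      have h2 := h1 g⁻¹ (inv_mem hg) _ hx
      have e : g⁻¹ * (g * x * g⁻¹) * g⁻¹⁻¹ = x := by group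
      rwa [e] at h2
    · obtain ⟨b, hb⟩ : ∃ b : κ₁ ⊕ I, Sum.elim cls₁ cls b = i := by
        rcases X.cov i with ⟨a, ha⟩ | ⟨b, hb⟩
        · exact ⟨Sum.inl a, ha⟩
        · exact ⟨Sum.inr b, hb⟩
      intro h0
      apply ne' F X b
      rw [eq_bot_iff, ← h0]
      exact le_iSup (fun b : {b : κ₁ ⊕ I // Sum.elim cls₁ cls b = i} => Sum.elim N₁ N b.1) ⟨b, hb⟩
  · refine iSup_le fun b => ?_
    have h1 := le' X b.1
    rwa [b.2] at h1

theorem sup' : ⨆ b, Sum.elim N₁ N b = V := by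
  apply le_antisymm
  · exact iSup_le fun b => (le' X b).trans (X.irr.le _)
  · rw [← X.irr.sup]
    refine iSup_le fun i => ?_
    rw [W_eq F X i]
    exact iSup_le fun b => le_iSup (Sum.elim N₁ N) b.1

/-- the other blocks: those of the same class, and the other classes -/
theorem oth_le (b : κ₁ ⊕ I) : (⨆ c : {c // c ≠ b}, Sum.elim N₁ N c.1) ≤
    (⨆ c : {c // c ≠ b ∧ Sum.elim cls₁ cls c = Sum.elim cls₁ cls b}, Sum.elim N₁ N c.1) ⊔
      ⨆ j : {j // j ≠ Sum.elim cls₁ cls b}, W j := by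
  refine iSup_le fun c => ?_
  by_cases hc : Sum.elim cls₁ cls c.1 = Sum.elim cls₁ cls b
  · exact (le_iSup (fun c : {c // c ≠ b ∧ Sum.elim cls₁ cls c = Sum.elim cls₁ cls b} => Sum.elim N₁ N c.1)
      ⟨c.1, c.2, hc⟩).trans le_sup_left
  · exact ((le' X c.1).trans (le_iSup (fun j : {j // j ≠ Sum.elim cls₁ cls b} => W j) ⟨_, hc⟩)).trans le_sup_right

theorem ind' (b : κ₁ ⊕ I) : Sum.elim N₁ N b ⊓ (⨆ c : {c // c ≠ b}, Sum.elim N₁ N c.1) = ⊥ := by
  rw [eq_bot_iff]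
  intro x hx
  have hsame : (⨆ c : {c // c ≠ b ∧ Sum.elim cls₁ cls c = Sum.elim cls₁ cls b}, Sum.elim N₁ N c.1) ≤
      W (Sum.elim cls₁ cls b) := by
    refine iSup_le fun c => ?_
    have h1 := le' X c.1
    rwa [c.2.2] at h1
  have hoth : (⨆ j : {j // j ≠ Sum.elim cls₁ cls b}, W j) ≤ V := iSup_le fun j => X.irr.le j.1
  obtain ⟨y, hy, z, hz, e⟩ := mem_sup_of (((hsame.trans (X.irr.le _)).trans F.ab).trans ((centralizer_le hoth).trans
    (centralizer_le_normalizer _))) (oth_le F X b hx.2)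
  have h1 : z ∈ W (Sum.elim cls₁ cls b) ⊓ ⨆ j : {j // j ≠ Sum.elim cls₁ cls b}, W j := by
    refine mem_inf.2 ⟨?_, hz⟩
    have e1 : z = y⁻¹ * x := by rw [e]; group
    rw [e1]
    exact mul_mem (inv_mem (hsame hy)) (le' X b hx.1)
  rw [X.irr.ind, mem_bot] at h1
  rw [h1, mul_one] at e
  subst e
  rcases b with b | b
  · have h2 : (⨆ c : {c : κ₁ ⊕ I // c ≠ Sum.inl b ∧ Sum.elim cls₁ cls c = Sum.elim cls₁ cls (Sum.inl b)},
        Sum.elim N₁ N c.1) ≤ C₁ b := by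
      refine iSup_le fun c => ?_
      obtain ⟨c, hc1, hc2⟩ := c
      rcases c with c | c
      · exact X.oth b c fun e => hc1 (by rw [e])
      · exact absurd hc2.symm (X.dis b c)
    have h3 : x ∈ N₁ b ⊓ C₁ b := mem_inf.2 ⟨hx.1, h2 hy⟩
    rwa [X.inf b] at h3
  · have h2 : (⨆ c : {c : κ₁ ⊕ I // c ≠ Sum.inr b ∧ Sum.elim cls₁ cls c = Sum.elim cls₁ cls (Sum.inr b)},
        Sum.elim N₁ N c.1) ≤ Co N R₀ b := by
      refine iSup_le fun c => ?_
      obtain ⟨c, hc1, hc2⟩ := c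
      rcases c with c | c
      · exact absurd hc2 (X.dis c b)
      · exact F.toDec.N_le_Co fun e => hc1 (by rw [e])
    have h3 : x ∈ N b ⊓ Co N R₀ b := mem_inf.2 ⟨hx.1, h2 hy⟩
    rwa [show N b ⊓ Co N R₀ b = ⊥ from F.ind b] at h3

/-- `T₁ b` normalises `N₁ b` -/
theorem T_norm (b : κ₁) : T₁ b ≤ normalizer (N₁ b : Set G) := by
  intro t ht
  obtain ⟨c, hc⟩ := perm' F X t (X.TM b ht) (Sum.inl b)
  have h1 : MulAut.conj t • N₁ b = N₁ b := by
    rcases c with c | c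
    · by_cases hcb : c = b
      · rw [hcb] at hc; exact hc
      · exfalso
        apply hcb
        have h2 : t ∈ centralizer (N₁ c : Set G) := centralizer_le (X.oth b c hcb) (X.TC b ht)
        have h3 : MulAut.conj t • N₁ c = N₁ c := TvTr.conj_eq (centralizer_le_normalizer _ h2)
        have h4 : MulAut.conj t • N₁ b = MulAut.conj t • N₁ c := hc.trans h3.symm
        have h5 := inj_of_ind (N := Sum.elim N₁ N) (ne' F X) (ind' F X) (b := Sum.inl b) (c := Sum.inl c)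
          (smul_left_cancel _ h4)
        exact (Sum.inl.inj h5).symm
    · exact absurd (cls_conj F X (X.TM b ht) hc).symm (X.dis b c)
  rw [mem_normalizer_iff]
  exact fun x => conj_smul h1

/-- `T₁ b` is in the group of the block -/
theorem T_le (b : κ₁) : T₁ b ≤ EB M (Sum.elim N₁ N) (Sum.inl b) := by
  refine le_inf (X.TM b) ?_
  rw [le_centralizer_iff]
  refine iSup_le fun c => ?_
  obtain ⟨c, hc⟩ := c
  rw [le_centralizer_iff]
  rcases c with c | c
  · exact (X.TC b).trans (centralizer_le (X.oth b c fun e => hc (by rw [e])))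
  · refine le_trans (cent_other (W := W (cls c)) F.ab (X.sup b) (T_norm F X b) (X.TC b)
      ((X.TM b).trans (X.irr.inv _)) (X.irr.le _) ?_) (centralizer_le (X.le₂ c))
    rw [eq_bot_iff, ← X.irr.inf_bot (Ne.symm (X.dis b c))]
    exact inf_le_inf_right _ (X.le₁ b)

/-- `E b` is in the group of the block -/
theorem E_le (b : I) : E b ≤ EB M (Sum.elim N₁ N) (Sum.inr b) := by
  refine le_inf (F.EL b) ?_
  rw [le_centralizer_iff]
  refine iSup_le fun c => ?_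
  obtain ⟨c, hc⟩ := c
  rw [le_centralizer_iff]
  rcases c with c | c
  · have hCo : E b ≤ centralizer (Co N R₀ b : Set G) := by
      unfold Co
      rw [le_centralizer_iff]
      refine sup_le (iSup_le fun d => ?_) ?_
      · rw [le_centralizer_iff]
        exact F.EC b d fun e => d.2 e.symm
      · rw [le_centralizer_iff]
        exact F.ER b
    refine le_trans (cent_other (W := W (cls₁ c)) F.ab (F.toDec.sup_Co b) (F.EN b) hCo
      ((F.EL b).trans (X.irr.inv _)) (X.irr.le _) ?_) (centralizer_le (X.le₁ c))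
    rw [eq_bot_iff, ← X.irr.inf_bot (X.dis c b)]
    exact inf_le_inf_right _ (X.le₂ b)
  · exact F.EC b c fun e => hc (by rw [e])

/-- **`Dec` for the mixed family** -/
theorem dec : Dec S M V (Sum.elim N₁ N) (EB M (Sum.elim N₁ N)) ⊥ :=
  dec_of_ind (ne' F X) (ind' F X) (perm' F X) F.SL F.LU F.ab (sup' F X)

omit F in
theorem odd₁ [Finite G] (sq : ∀ v ∈ V, v * v = 1) (b : κ₁) : Odd (Nat.card {x | x ∈ N₁ b ∧ x ≠ 1}) := by
  have h1 : Nat.card {x | x ∈ N₁ b ∧ x ≠ 1} + 1 = Nat.card (N₁ b) := by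
    have e1 : {x | x ∈ N₁ b ∧ x ≠ 1} = (N₁ b : Set G) \ {1} := rfl
    rw [e1]
    exact Set.ncard_sdiff_singleton_add_one (s := (N₁ b : Set G)) (a := 1) (N₁ b).one_mem (Set.toFinite _)
  have h2 : Even (Nat.card (N₁ b)) := by
    obtain ⟨⟨x, hx⟩, hx0⟩ := Subgroup.ne_bot_iff_exists_ne_one.1 (X.ne b)
    have hx1 : x ≠ 1 := fun e => hx0 (Subtype.ext e)
    have h3 : orderOf (⟨x, hx⟩ : N₁ b) = 2 := by
      refine orderOf_eq_prime ?_ fun e1 => hx1 (congrArg Subtype.val e1)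
      refine Subtype.ext ?_
      show x ^ 2 = 1
      rw [pow_two]
      exact sq x ((X.sup b) ▸ mem_sup_left hx)
    rw [even_iff_two_dvd, ← h3]
    exact orderOf_dvd_natCard _
  rw [← h1] at h2
  rcases Nat.even_or_odd (Nat.card {x | x ∈ N₁ b ∧ x ≠ 1}) with h3 | h3
  · exact absurd h2 (Nat.not_even_iff_odd.2 h3.add_one)
  · exact h3

/-- the vectors of full support in the blocks -/
def OM (N₁ : κ₁ → Subgroup G) (phi : ∀ i, Finset (Om i) → G) : κ₁ ⊕ I → Set G :=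
  Sum.elim (fun b => {x | x ∈ N₁ b ∧ x ≠ 1}) (Orb phi)

/-- **`Orbs` for the mixed family** -/
theorem orbs [Finite G] (sq : ∀ v ∈ V, v * v = 1) (oF : Orbs M N E (Orb phi)) :
    Orbs M (Sum.elim N₁ N) (EB M (Sum.elim N₁ N)) (OM N₁ phi) where
  sub b := by
    rcases b with b | b
    · exact fun _ hx => hx.1
    · exact oF.sub b
  one b := by
    rcases b with b | b
    · exact fun hx => hx.2 rfl
    · exact oF.one b
  odd b := by
    rcases b with b | b
    · exact odd₁ X sq b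
    · exact oF.odd b
  tr b := by
    rcases b with b | b
    · intro x hx y hy
      obtain ⟨t, ht, h1⟩ := X.tr b x hx.1 hx.2 y hy.1 hy.2
      exact ⟨t, T_le F X b ht, h1⟩
    · intro x hx y hy
      obtain ⟨t, ht, h1⟩ := oF.tr b x hx y hy
      exact ⟨t, E_le F X b ht, h1⟩
  inv g hg b c hbc x hx := by
    have h0 := cls_conj F X hg hbc
    rcases b with b | b <;> rcases c with c | c
    · exact ⟨(conj_smul hbc).1 hx.1, fun h1 => hx.2 (conj_eq_one_iff.1 h1)⟩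
    · exact absurd h0.symm (X.dis b c)
    · exact absurd h0 (X.dis c b)
    · exact oF.inv g hg b c hbc x hx

end Mix

/-- **(b)** -/
theorem mix_main [Finite G] [Finite I] (sq : ∀ v ∈ V, v * v = 1) (F : Full S M V N E R₀ Om phi)
    (X : Mix M V N W N₁ C₁ T₁ cls₁ cls) :
    Dec S M V (Sum.elim N₁ N) (EB M (Sum.elim N₁ N)) ⊥ ∧
      Orbs M (Sum.elim N₁ N) (EB M (Sum.elim N₁ N)) (Mix.OM N₁ phi) ∧
      ∀ i, W i = ⨆ b : {b : κ₁ ⊕ I // Sum.elim cls₁ cls b = i}, Sum.elim N₁ N b.1 :=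
  ⟨Mix.dec F X, Mix.orbs F X sq (TvTr.orbs F), Mix.W_eq F X⟩

end mix

end Cfsg.Agent.Omega.NOThreeL.RRed.Blk

end

-- merged: Cfsg.Agent.Mrg.Omega.NOThreeL.RRed.HBadMixOf
section

/-!
# Box R: `HBad` for the mixed family (natural blocks and blocks of letters), letters side discharged

* `permN_mix` : `N_G(S)` permutes the blocks of the mixed family if it permutes the `N₁ b`;
* **`hBad_mix`** : `HBad S (Sum.elim N₁ N) (Mix.OM N₁ phi)` from `Kd` for the natural blocks.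
-/

set_option autoImplicit false
set_option linter.unusedSectionVars false

namespace Cfsg.Agent.Omega.NOThreeL.RRed.HBadOf

open Subgroup Cfsg Cfsg.Agent.ZN
open Cfsg.Agent.Omega.NOThreeL.Merge (MZ)
open Cfsg.Agent.Omega.NOThreeL.RRed.Blk (Dec Co IsC EB)
open Cfsg.Agent.Omega.NOThreeL.RRed.FullSup (HBad)
open Cfsg.Agent.Omega.NOThreeL.RRed.TvFin (Full)
open Cfsg.Agent.Omega.NOThreeL.RRed.TvTr (Orb)
open Cfsg.Agent.Omega.NOThreeL.RZ.TwoC.DecE (Orbs)
open scoped Pointwise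

universe u w

variable {G : Type u} [Group G] [Finite G] {S : Sylow 2 G} {I : Type u} {N E : I → Subgroup G} {R₀ : Subgroup G}
  {Om : I → Type u} [∀ i, Fintype (Om i)] [∀ i, DecidableEq (Om i)] {phi : ∀ i, Finset (Om i) → G}
  {ι : Type w} {W : ι → Subgroup G} {κ₁ : Type u} {N₁ C₁ T₁ : κ₁ → Subgroup G} {cls₁ : κ₁ → ι} {cls : I → ι}
  (F : Full (S : Subgroup G) (MZ (S : Subgroup G)) (Wd (S : Subgroup G)) N E R₀ Om phi)
include F

/-- `N_G(S)` permutes the blocks of letters -/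
theorem permN_let {n : G} (hn : n ∈ normalizer ((S : Subgroup G) : Set G)) (b : I) :
    ∃ c, MulAut.conj n • N b = N c :=
  TvTr.perm_norm F (Blk.AsmHn.nS_MZ hn) (Blk.AsmHn.nS_Wd hn) b

theorem permN_mix (hN₁ : ∀ n ∈ normalizer ((S : Subgroup G) : Set G), ∀ b, ∃ c, MulAut.conj n • N₁ b = N₁ c) :
    ∀ n ∈ normalizer ((S : Subgroup G) : Set G), ∀ b : κ₁ ⊕ I,
      ∃ c : κ₁ ⊕ I, MulAut.conj n • Sum.elim N₁ N b = Sum.elim N₁ N c := by
  intro n hn b
  rcases b with b | b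
  · obtain ⟨c, hc⟩ := hN₁ n hn b
    exact ⟨Sum.inl c, hc⟩
  · obtain ⟨c, hc⟩ := permN_let F hn b
    exact ⟨Sum.inr c, hc⟩

variable (X : Blk.Mix (MZ (S : Subgroup G)) (Wd (S : Subgroup G)) N W N₁ C₁ T₁ cls₁ cls)
include X

/-- the letters side of `Kd` -/
theorem kd_inr (b : I) :
    Kd (S : Subgroup G) (Sum.elim N₁ N) (Sum.inr b) ((S : Subgroup G) ⊓ E b) := by
  refine kd_let F b rfl fun c hc => ?_
  refine (Blk.Mix.E_le F X b).trans (inf_le_right.trans (centralizer_le ?_))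
  exact le_iSup (fun d : {d // d ≠ Sum.inr b} => Sum.elim N₁ N d.1) ⟨c, hc⟩

/-- **`HBad` for the mixed family** -/
theorem hBad_mix [Finite κ₁] [Finite I] (sq : ∀ v ∈ Wd (S : Subgroup G), v * v = 1)
    (hN₁ : ∀ n ∈ normalizer ((S : Subgroup G) : Set G), ∀ b, ∃ c, MulAut.conj n • N₁ b = N₁ c)
    (hk : ∀ b : κ₁, ∃ A, Kd (S : Subgroup G) (Sum.elim N₁ N) (Sum.inl b) A) :
    HBad (S : Subgroup G) (Sum.elim N₁ N) (Blk.Mix.OM N₁ phi) := by
  obtain ⟨h, o, -⟩ := Blk.mix_main sq F X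
  refine hBad_of h o.one (permN_mix F hN₁) fun b => ?_
  rcases b with b | b
  · exact hk b
  · exact ⟨_, kd_inr F X b⟩

end Cfsg.Agent.Omega.NOThreeL.RRed.HBadOf

end
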