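import Cfsg.Agent.Mrg.Omega.NOThreeL.RRed.HBadNat
import Cfsg.Agent.Mrg.Omega.NOThreeL.RRed.LeftPair
import Cfsg.Agent.Mrg.Omega.NOThreeL.RRed.Base
import Cfsg.Agent.Mrg.Omega.NOThreeL.RWide.NormB
import Cfsg.Agent.Mrg.Omega.NOThreeL.RWide.TFm
import Cfsg.Agent.Mrg.Omega.NOThreeL.RRed.NS.Spl
import Cfsg.Agent.Mrg.Omega.NOThreeL.RWide.PermOne
import Cfsg.Agent.Omega.NOThreeL.RWide.Coord
import Cfsg.Agent.Mrg.Omega.NOThreeL.EndFive
import Cfsg.Agent.Mrg.Omega.NOThreeL.RWide.Typ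
import Cfsg.Agent.Mrg.Omega.NOThreeL.RTree
import Cfsg.Agent.Omega.NOThreeL.RWide.TBlk
import Cfsg.Agent.Mrg.Omega.NOThreeL.RWide.TAct
import Cfsg.Agent.Mrg.Omega.NOThreeL.RRed.WideTree
import Cfsg.Agent.Omega.NOThreeL.RWide.TWc
import Cfsg.Agent.Mrg.Omega.NOThreeL.RZ.TwoC.AbP
import Cfsg.Agent.Mrg.Omega.NOne.LemmaT
import Cfsg.Agent.Mrg.Omega.NOThreeL.RRed.LeftData
import Cfsg.Agent.Mrg.Omega.NOThreeL.RWide.OrbCore
import Cfsg.Agent.Mrg.Omega.NOThreeL.RRed.WLeftBase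
import Mathlib
import Cfsg.Agent.Mrg.Omega.NOThreeL.RWide.DPNat

-- merged: Cfsg.Agent.Mrg.Omega.NOThreeL.RRed.UInstA
section

section


/-!
# NO-3L, box R: natural blocks, `𝒜(O)` moves every block (helper258; head helper848 #27137 (C))

`V* = Wd S = ∏ N b`, `O = O₂(C_G(Z))`, `B = C_S(⨆ l)`, no class, no `CM`.
* `isLong_of` : `C_G(X)` is long for `1 ≠ X ≤ Z`; `N_le_o2`, `o2_le`, `noff`;
* `fam` : the structure `UPure.Fam`; `exists_pure`, `AA_le_B` : pure members of `AA(O)`, `AA(O)` centralises `⨆ l`;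
* `B_act` : `B` acts on the blocks by transvections; `gen` : the field `gen` of `NormB.NBf`;
* `par`, `nS`, `I1` : the fields of `TFm`.
-/

set_option autoImplicit false
set_option linter.unusedSectionVars false

namespace Cfsg.Agent.Omega.NOThreeL.RRed.UInst

open Subgroup Cfsg Cfsg.Agent.ZN Cfsg.Agent.ZN.ChoiceBase Cfsg.Agent.Omega.MinPar Cfsg.Agent.Omega.Frame
open Cfsg.Agent.Omega.FrameNOFF Cfsg.Agent.Omega.Node.NO3L Cfsg.Agent.Omega.NOThreeL.Basic
open Cfsg.Agent.Omega.NOThreeL.Merge (MZ)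
open Cfsg.Agent.Omega.NOThreeL.RTree (RB)
open Cfsg.Agent.Omega.NOThreeL.RRed.WideTree Cfsg.Agent.Omega.NOThreeL.RRed.SemiNB
open Cfsg.Agent.Omega.NOThreeL.RWide Cfsg.Agent.Omega.NOThreeL.RRed.UPure
open Cfsg.Agent.Omega.FFThm (NatKM)
open Cfsg.Agent.Omega.FrameFF (cv)
open Cfsg.Agent.Omega.NO3S.ThmB (Nb)
open Cfsg.Agent.Omega.NO3S.KeyRad (blk blk_le)
open Cfsg.Agent.Omega.NOThreeL.RRed.NS (YY YY_le)
open Cfsg.Agent.MinSimple.VModule (zl_le le_normalizer_zl zc_le_zl o2_isPGroup le_normalizer_o2)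

open scoped Pointwise

universe u

variable {G : Type u} [Group G] [Finite G] {S : Sylow 2 G} {ι : Type u} {N E D l : ι → Subgroup G} {q : ι → ℕ}

/-- `C_G(X)` is long for `1 ≠ X ≤ Z` -/
theorem isLong_of {X : Subgroup G} (hX : X ≤ zc (S : Subgroup G)) (hX1 : X ≠ ⊥) :
    IsLong (S : Subgroup G) (centralizer (X : Set G)) :=
  ⟨isLoc_of_le_normalizer S ((le_CZ S).trans (centralizer_le hX))
    (S.isPGroup'.to_le (hX.trans fun _ hz => (ChoiceBase.mem_zc.1 hz).1)) hX1 (centralizer_le_normalizer _),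
    centralizer_le hX⟩

theorem o2_le {X : Subgroup G} (hX : X ≤ zc (S : Subgroup G)) (hX1 : X ≠ ⊥) :
    o2 (centralizer (X : Set G)) ≤ o2 (CZ (S : Subgroup G)) := (isLong_of hX hX1).o2_le S

theorem zc_ne (hB : RB S) : zc (S : Subgroup G) ≠ ⊥ :=
  MinSimple.Basic.zc_ne_bot S.isPGroup' (hB.ctx.sylow_ne_bot S)

theorem N_le_WP (hs : Src (S : Subgroup G) N l q) (b : ι) : N b ≤ WP (S : Subgroup G) := by
  obtain ⟨P, hP, F, i1, i2, i3, k, hk, M, h, -, ⟨j, h2, -⟩, -⟩ := hs.mov b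
  rw [h2]
  exact (blk_le h j).trans (zl_le_WP hP.1)

theorem N_le_O (hB : RB S) (hs : Src (S : Subgroup G) N l q) (b : ι) : N b ≤ o2 (CZ (S : Subgroup G)) :=
  (N_le_WP hs b).trans (WP_le_Q hB.data)

theorem N_le_o2 (hB : RB S) (hs : Src (S : Subgroup G) N l q) {X : Subgroup G} (hX : X ≤ zc (S : Subgroup G))
    (hX1 : X ≠ ⊥) (b : ι) : N b ≤ o2 (centralizer (X : Set G)) :=
  ((N_le_WP hs b).trans (WP_le_FH _ _)).trans (NotA.FH_le_o2 hB.data hB.notA (isLong_of hX hX1))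

/-- `WP` is abelian -/
theorem WP_comm (hB : RB S) : ∀ v ∈ WP (S : Subgroup G), ∀ w ∈ WP (S : Subgroup G), v * w = w * v := by
  intro v hv w hw
  have h1 := NotA.FH_comm hB.ctx.char2 hB.data hB.notA (isLong_of (S := S) le_rfl (zc_ne hB))
  exact mem_centralizer_iff.1 (h1 (WP_le_FH _ _ hw)) v (WP_le_FH _ _ hv)

theorem noff (hB : RB S) (hs : Src (S : Subgroup G) N l q) :
    ∀ x ∈ CZ (S : Subgroup G), ∀ a b, ∀ v ∈ N a, ∀ w ∈ cj x (N b), v * w = w * v := by
  intro x hx a b v hv w hw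
  refine WP_comm hB v (N_le_WP hs a hv) w ?_
  rw [← conj_WP hx]
  obtain ⟨y, hy, rfl⟩ := hw
  exact ⟨y, N_le_WP hs b hy, rfl⟩

theorem N_sq (hN : NBs (S : Subgroup G) N E D l q) (b : ι) : ∀ v ∈ N b, v ^ 2 = 1 := by
  obtain ⟨F, _, _, _, e, he⟩ := hN.bls.nat b
  exact fun v hv => TFmNB.sq_of he hv

/-- a member of `AA(O)` in both languages -/
theorem mx_iff {O A : Subgroup G} : KL.TwoS.Mx O A ↔ A ∈ AA O := by
  have key : ∀ B : Subgroup G, (∀ b ∈ B, b ^ 2 = 1) ↔ IsElementaryAbelian 2 B := by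
    intro B
    constructor
    · intro h
      refine ea_mk (fun a ha b hb => ?_) fun a ha => by rw [← pow_two]; exact h a ha
      have h1 : a * b * (a * b) = 1 := by rw [← pow_two]; exact h _ (mul_mem ha hb)
      have h2 : a * a = 1 := by rw [← pow_two]; exact h _ ha
      have h3 : b * b = 1 := by rw [← pow_two]; exact h _ hb
      calc a * b = a * (a * b * (a * b)) * b := by rw [h1, mul_one]
        _ = (a * a) * (b * a) * (b * b) := by group
        _ = b * a := by rw [h2, h3, one_mul, mul_one]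
    · intro h b hb
      exact h.2 b hb
  constructor
  · rintro ⟨h1, h2, h3⟩
    exact ⟨(key A).1 h2, h1, fun B hB hBO => h3 B hBO ((key B).2 hB)⟩
  · rintro ⟨h1, h2, h3⟩
    exact ⟨h2, (key A).2 h1, fun B hBO hB => h3 B ((key B).1 hB) hBO⟩

theorem root (hB : RB S) (hN : NBs (S : Subgroup G) N E D l q) (hs : Src (S : Subgroup G) N l q) (A : Subgroup G)
    (hA : KL.TwoS.Mx (o2 (CZ (S : Subgroup G))) A) (b : ι) : RootOn A (N b) (l b) := by
  obtain ⟨P, hP, F, i1, i2, i3, k, hk, M, h, hd, ⟨j, h2, h3, -⟩, h5⟩ := hs.mov b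
  have hS1 : (S : Subgroup G) ≠ ⊥ := hB.ctx.sylow_ne_bot S
  have hOS : o2 (CZ (S : Subgroup G)) ≤ (S : Subgroup G) := (isLoc_centralizer_zc S hS1).o2_le S
  rw [h2, h3]
  have hV := PNat.sup_le_V h
  have hle : (⨆ j, blk M j) ≤ o2 (CZ (S : Subgroup G)) := (hV.trans (zl_le_WP hP.1)).trans (WP_le_Q hB.data)
  have hea : IsElementaryAbelian 2 (⨆ j, blk M j : Subgroup G) :=
    ea_mk (fun a ha b hb => h.cm (hV ha) (hV hb)) fun a ha => h.sq (hV ha)
  exact PInst.ffp h hd (hA.le.trans hOS) (bo_of_AA (mx_iff.1 hA) hea hle) j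

theorem card_of (hs : Src (S : Subgroup G) N l q) (b : ι) : Nat.card (N b) = Nat.card (l b) ^ 2 := by
  obtain ⟨P, hP, F, i1, i2, i3, k, hk, M, h, hd, ⟨j, h2, h3, -⟩, h5⟩ := hs.mov b
  rw [h2, h3]
  exact PNat.card_eq h hd j

/-- **the structure `Fam`** -/
theorem fam (hB : RB S) (hN : NBs (S : Subgroup G) N E D l q) (hs : Src (S : Subgroup G) N l q) :
    Fam (o2 (CZ (S : Subgroup G))) N l where
  NO := N_le_O hB hs
  sq := N_sq hN
  com b c v hv := mem_centralizer_iff.2 fun w hw => WP_comm hB w (N_le_WP hs c hw) v (N_le_WP hs b hv)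
  dis b c hbc := by
    rw [eq_bot_iff, ← hN.bls.ind b]
    exact inf_le_inf_left _ (le_iSup (fun c : {c // c ≠ b} => N c) ⟨c, fun e => hbc e.symm⟩)
  lN := hN.bls.lN
  lne := hN.bls.lne
  card := card_of hs
  root := root hB hN hs

/-- `AA(O)` centralises the lines -/
theorem AA_le_B (hB : RB S) (hN : NBs (S : Subgroup G) N E D l q) (hs : Src (S : Subgroup G) N l q) {A : Subgroup G}
    (hA : KL.TwoS.Mx (o2 (CZ (S : Subgroup G))) A) :
    A ≤ (S : Subgroup G) ⊓ centralizer ((⨆ b, l b : Subgroup G) : Set G) := by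
  have hS1 : (S : Subgroup G) ≠ ⊥ := hB.ctx.sylow_ne_bot S
  refine le_inf (hA.le.trans ((isLoc_centralizer_zc S hS1).o2_le S)) fun a ha => ?_
  exact NormB.mem_cent_iSup.2 fun b z hz => (root hB hN hs A hA b).fixZ a ha z hz

/-- lines determine blocks -/
theorem line_norm (hN : NBs (S : Subgroup G) N E D l q) {s : G} (hs : s ∈ (S : Subgroup G)) (b : ι)
    (h : ∀ v ∈ l b, s * v = v * s) : s ∈ normalizer (N b : Set G) ∧ cj s (l b) = l b := by
  obtain ⟨c, h1, h2⟩ := hN.bls.perm s hs b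
  have h3 : cj s (l b) = l b := by
    refine cj_eq_of_mem_normalizer (centralizer_le_normalizer _ (NormB.mem_cent_iff.2 h))
  have h4 : c = b := hN.bls.line_inj c b (h2.symm.trans h3)
  subst h4
  exact ⟨mem_normalizer_iff_cj.2 h1, h3⟩

/-- **`B` acts on the blocks by transvections** -/
theorem B_act (hN : NBs (S : Subgroup G) N E D l q) {b : ι} {F : Type} [Field F] [Finite F] [CharP F 2]
    {e : G → Fin 2 → F} (hn : NatBlk (S : Subgroup G) (D b) (N b) (l b) F e) {β : G}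
    (hβ : β ∈ (S : Subgroup G) ⊓ centralizer ((⨆ b, l b : Subgroup G) : Set G)) :
    ∃ c : F, GenSL.Acts (N b) e β (GenSL.U c) := by
  have hcen : ∀ v ∈ l b, β * v = v * β := fun v hv => NormB.mem_cent_iSup.1 hβ.2 b v hv
  have hnor := (line_norm hN hβ.1 b hcen).1
  obtain ⟨σ, a, c, d, hact⟩ := hN.semi hn hβ.1 hnor
  have hline : ∀ x : F, a * σ x = x := by
    intro x
    obtain ⟨v, hv, hve⟩ := hn.sur ![x, 0]
    have h1 : v ∈ l b := (hn.line v).2 ⟨hv, by rw [hve]; rfl⟩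
    have h2 := hact v hv
    rw [hcen v h1, mul_inv_cancel_right, hve] at h2
    have h3 := congrFun h2 0
    simpa using h3.symm
  have ha : a = 1 := by simpa using hline 1
  have hσ : ∀ x, σ x = x := fun x => by simpa [ha] using hline x
  have hact' : ∀ v ∈ N b, e (β * v * β⁻¹) = ![e v 0 + c * e v 1, d * e v 1] := by
    intro v hv
    rw [hact v hv, ha, hσ, hσ, one_mul]
  have hmem : ∀ v ∈ N b, β * v * β⁻¹ ∈ N b := fun v hv => (mem_normalizer_iff.1 hnor v).1 hv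
  obtain ⟨n, hn2⟩ := S.isPGroup' ⟨β, hβ.1⟩
  have hn3 : β ^ 2 ^ n = 1 := by simpa using congrArg Subtype.val hn2
  -- `d = 1`
  obtain ⟨v, hv, hve⟩ := hn.sur ![0, 1]
  have hpow : ∀ k : ℕ, β ^ k * v * (β ^ k)⁻¹ ∈ N b ∧ e (β ^ k * v * (β ^ k)⁻¹) 1 = d ^ k := by
    intro k
    induction k with
    | zero => simpa [hve] using hv
    | succ k ih =>
      have e1 : β ^ (k + 1) * v * (β ^ (k + 1))⁻¹ = β * (β ^ k * v * (β ^ k)⁻¹) * β⁻¹ := by
        rw [pow_succ']; group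
      rw [e1]
      refine ⟨hmem _ ih.1, ?_⟩
      rw [hact' _ ih.1]
      show d * e _ 1 = _
      rw [ih.2, pow_succ']
  have hd1 : d ^ 2 ^ n = 1 := by
    have h1 := (hpow (2 ^ n)).2
    rw [hn3, one_mul, inv_one, mul_one, hve] at h1
    exact h1.symm
  have hd : d = 1 := by
    have h1 : (d - 1) ^ 2 ^ n = 0 := by
      rw [sub_pow_char_pow, hd1, one_pow, sub_self]
    exact sub_eq_zero.1 (pow_eq_zero_iff (by positivity) |>.1 h1)
  refine ⟨c, hnor, fun v hv => ?_⟩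
  rw [hact' v hv, hd]
  funext i
  fin_cases i <;> simp [GenSL.U, Matrix.mulVec, dotProduct, Fin.sum_univ_two]

/-- a member of `AA(O)` moving `N b` induces all transvections -/
theorem A_full (hB : RB S) (hN : NBs (S : Subgroup G) N E D l q) (hs : Src (S : Subgroup G) N l q) {A : Subgroup G}
    (hA : KL.TwoS.Mx (o2 (CZ (S : Subgroup G))) A) {b : ι} (hm : ¬ A ≤ centralizer (N b : Set G))
    {F : Type} [Field F] [Finite F] [CharP F 2]
    {e : G → Fin 2 → F} (hn : NatBlk (S : Subgroup G) (D b) (N b) (l b) F e) (c : F) :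
    ∃ a ∈ A, GenSL.Acts (N b) e a (GenSL.U c) := by
  obtain ⟨v, hv, hve⟩ := hn.sur ![0, 1]
  have hvl : v ∉ l b := fun h => by
    have h1 := ((hn.line v).1 h).2
    rw [hve] at h1
    exact one_ne_zero h1
  obtain ⟨z, hz, hze⟩ := hn.sur ![c, 0]
  have hzl : z ∈ l b := (hn.line z).2 ⟨hz, by rw [hze]; rfl⟩
  rcases (root hB hN hs A hA b).full with h1 | h1
  · exact absurd h1 hm
  obtain ⟨f, hf, h2⟩ := (h1 v hv hvl).1 z hzl
  obtain ⟨c', h3⟩ := B_act hN hn (AA_le_B hB hN hs hA hf)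
  have h4 : f * v * f⁻¹ = z * v := by rw [← h2]; group
  have h5 := h3.act v hv
  rw [h4, hn.mul z hz v hv, hze, hve] at h5
  have h6 := congrFun h5 0
  simp [GenSL.U, Matrix.mulVec, dotProduct, Fin.sum_univ_two] at h6
  exact ⟨f, hf, h6 ▸ h3⟩

/-- **the field `gen` of `NormB.NBf`** -/
theorem gen (hB : RB S) (hN : NBs (S : Subgroup G) N E D l q) (hs : Src (S : Subgroup G) N l q)
    (hall : AllB (S : Subgroup G) N) [Finite ι] {L : Subgroup G} (b : ι)
    (hL : ∀ x ∈ L, ∃ d ∈ D b, ∀ v ∈ N b, x * v * x⁻¹ = d * v * d⁻¹)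
    (hD : ∀ d ∈ D b, ∃ x ∈ L, ∀ v ∈ N b, x * v * x⁻¹ = d * v * d⁻¹) (hLN : L ≤ normalizer (N b : Set G)) :
    ∃ A ∈ AA (o2 (CZ (S : Subgroup G))), (∀ a, a ≠ b → A ≤ centralizer (N a : Set G)) ∧
      A ≤ (S : Subgroup G) ⊓ centralizer ((⨆ b, l b : Subgroup G) : Set G) ∧ ¬ A ≤ centralizer (N b : Set G) ∧
      ∃ g ∈ L, cj g (l b) ⊓ l b = ⊥ ∧
        ∀ x ∈ L, ∀ β ∈ (S : Subgroup G) ⊓ centralizer ((⨆ b, l b : Subgroup G) : Set G),
          ∃ h ∈ A ⊔ cj g A, ∀ v ∈ N b, x * β * x⁻¹ * v * (x * β * x⁻¹)⁻¹ = h * v * h⁻¹ := by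
  obtain ⟨A, hA, hm, hp⟩ := (fam hB hN hs).exists_pure (hall b)
  obtain ⟨F, i1, i2, i3, e, -, hn⟩ := hN.nat b
  refine ⟨A, mx_iff.1 hA, fun a ha => hp a ha, AA_le_B hB hN hs hA, hm, ?_⟩
  refine GenSL.gen_of (e := e) hn.mul hn.inj hn.line (fun x hx => ?_) ?_ (fun β hβ => ?_)
    (fun c => A_full hB hN hs hA hm hn c)
  · obtain ⟨d, hd, h1⟩ := hL x hx
    obtain ⟨M, h2⟩ := hn.act d hd
    exact ⟨M, hLN hx, fun v hv => by rw [h1 v hv, h2 v hv]⟩
  · obtain ⟨d, hd, h1⟩ := hn.full GenSL.W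
    obtain ⟨x, hx, h2⟩ := hD d hd
    exact ⟨x, hx, hLN hx, fun v hv => by rw [h2 v hv, h1 v hv]⟩
  · obtain ⟨c, hc⟩ := B_act hN hn hβ
    exact ⟨_, hc⟩

end Cfsg.Agent.Omega.NOThreeL.RRed.UInst

end

section


/-!
# The groups `L b` and the root group field of 644's `NBf` over the natural blocks `NBs` (helper258's list, #27137)

`V = ⨆ N b`, `Q = S ∩ C(V)` (`Qn`), `K₀ = M₀ ∩ C(V)` (`Kn`), `L b = N(Q) ∩ (D b K₀)` (`Lb`).

* `Lb_le_Q`, `Lb_le_N`, `Lb_le_C` : `L b` normalises `Q`, `N b` and centralises `N a` (`a ≠ b`);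
* `Lb_perm` : `S` permutes the triples `(N b, l b, L b)`;
* `exists_Lb` : every `d ∈ D b` acts on `V` like an element of `L b` (Frattini); `act_Lb` : and conversely;
* `syl_Q` : `Q` is Sylow in `C(V)`;
* `Kd.rt`, `Bls.rt`, **`NBs.rt`** : `Rt B (N b) (l b)`, `B = S ∩ C(⨆ l)`;
* `NBs.sq`, `NBs.com`, `NBs.indep`, `NBs.card_N`.
-/

set_option autoImplicit false
set_option linter.unusedSectionVars false

namespace Cfsg.Agent.Omega.NOThreeL.RRed.ULb

open Subgroup Cfsg Cfsg.Agent.ZN Cfsg.Agent.ZN.ChoiceBase Cfsg.Agent.ZN.ChoiceSit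
open Cfsg.Agent.Omega.NOThreeL.RRed.WideTree Cfsg.Agent.Omega.NOThreeL.RRed.GOne
  Cfsg.Agent.Omega.NOThreeL.RRed.Semi Cfsg.Agent.Omega.NOThreeL.RRed.SemiNB
open Cfsg.Agent.Omega.NOThreeL.RWide Cfsg.Agent.Omega.NOThreeL.RWide.TBlk
open Cfsg.Agent.Omega.NOThreeL.Merge (MZ)

open scoped Pointwise

universe u v

/-! ### Sylow subgroups of normal subgroups -/

section syl

variable {G : Type u} [Group G] [Finite G] {S : Sylow 2 G}

theorem syl_inf {K : Subgroup G} (hS : (S : Subgroup G) ≤ normalizer (K : Set G)) : Syl ((S : Subgroup G) ⊓ K) K := by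
  refine ⟨inf_le_right, S.isPGroup'.to_le inf_le_left, fun Q hQ hp hle => ?_⟩
  obtain ⟨T, hT, hQT⟩ := exists_syl hp (hQ.trans (Subgroup.le_normalizer (H := K)))
  obtain ⟨x, hx, hxT⟩ := syl_conj hT (Cfsg.Agent.MinSimple.EmptyTI.syl_of_le hS)
  have h1 : cj x Q ≤ (S : Subgroup G) ⊓ K := by
    refine le_inf ?_ ?_
    · rw [← hxT]; exact cj_mono x hQT
    · have h2 := cj_mono x hQ
      rwa [mem_normalizer_iff_cj.1 hx] at h2
  have h2 := card_le_of_le h1
  rw [card_cj] at h2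
  exact (eq_of_le_of_card_ge hle h2).symm

theorem frat {K : Subgroup G} (hS : (S : Subgroup G) ≤ normalizer (K : Set G)) {n : G}
    (hn : n ∈ normalizer (K : Set G)) : ∃ c ∈ K,
    c * n ∈ normalizer (((S : Subgroup G) ⊓ K : Subgroup G) : Set G) := by
  have hC : cj n K = K := mem_normalizer_iff_cj.1 hn
  have h1 : Syl (cj n ((S : Subgroup G) ⊓ K)) K := by
    refine ⟨(cj_mono n (syl_inf hS).1).trans hC.le, isPGroup_cj _ (S.isPGroup'.to_le inf_le_left), fun Q hQ hp hle => ?_⟩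
    have h2 := (syl_inf hS).2.2 (cj n⁻¹ Q) (by
      rw [cj_le_iff, inv_inv, hC]; exact hQ) (isPGroup_cj _ hp) (by
      have h3 := cj_mono n⁻¹ hle
      rwa [cj_inv_cj] at h3)
    rw [← h2, cj_cj_inv]
  obtain ⟨c, hc, hcn⟩ := syl_conj h1 (syl_inf hS)
  refine ⟨c, hc, mem_normalizer_iff_cj.2 ?_⟩
  rw [← cj_cj, hcn]

end syl

/-! ### The groups `L b` -/

section lb

variable {G : Type u} [Group G] {S : Subgroup G} {ι : Type u} {N E D l : ι → Subgroup G} {q : ι → ℕ}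

/-- `Q = C_S(V)` -/
abbrev Qn (S : Subgroup G) {ι : Type v} (N : ι → Subgroup G) : Subgroup G :=
  S ⊓ centralizer ((⨆ b, N b : Subgroup G) : Set G)

/-- `K₀ = C_{M₀}(V)` -/
abbrev Kn (S : Subgroup G) {ι : Type v} (N : ι → Subgroup G) : Subgroup G :=
  MZ S ⊓ centralizer ((⨆ b, N b : Subgroup G) : Set G)

/-- `L b = N(Q) ∩ D b K₀` -/
def Lb (S : Subgroup G) {ι : Type v} (N D : ι → Subgroup G) (b : ι) : Subgroup G :=
  normalizer ((Qn S N : Subgroup G) : Set G) ⊓ (D b ⊔ Kn S N)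

theorem sup_N (h : NBs S N E D l q) : (⨆ b, N b) = Wd S := by
  have h1 := h.dec.sup
  rwa [sup_bot_eq] at h1

theorem MZ_norm (h : NBs S N E D l q) : MZ S ≤ normalizer ((⨆ b, N b : Subgroup G) : Set G) := by
  rw [sup_N h]
  exact h.dec.LU

theorem MZ_Kn (h : NBs S N E D l q) : MZ S ≤ normalizer ((Kn S N : Subgroup G) : Set G) := by
  intro g hg
  rw [mem_normalizer_iff_cj, cj_inf, ChoiceBase.cj_centralizer, mem_normalizer_iff_cj.1 (le_normalizer hg),
    mem_normalizer_iff_cj.1 (MZ_norm h hg)]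

theorem S_inf_Kn (h : NBs S N E D l q) : S ⊓ Kn S N = Qn S N := by
  rw [← inf_assoc, inf_eq_left.2 h.dec.SL]

theorem S_norm_Qn (h : NBs S N E D l q) : S ≤ normalizer ((Qn S N : Subgroup G) : Set G) := by
  intro g hg
  rw [mem_normalizer_iff_cj, cj_inf, ChoiceBase.cj_centralizer, mem_normalizer_iff_cj.1 (le_normalizer hg),
    mem_normalizer_iff_cj.1 (MZ_norm h (h.dec.SL hg))]

theorem D_MZ (h : NBs S N E D l q) (b : ι) : D b ≤ MZ S := (h.DE b).trans (h.dec.EL b)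

theorem Kn_le_C (b : ι) : Kn S N ≤ centralizer (N b : Set G) :=
  inf_le_right.trans (centralizer_le (by exact_mod_cast le_iSup N b))

theorem Lb_le_Q (b : ι) : Lb S N D b ≤ normalizer ((Qn S N : Subgroup G) : Set G) := inf_le_left

theorem Lb_le_MZ (h : NBs S N E D l q) (b : ι) : Lb S N D b ≤ MZ S :=
  inf_le_right.trans (sup_le (D_MZ h b) inf_le_left)

theorem Lb_le_N (h : NBs S N E D l q) (b : ι) : Lb S N D b ≤ normalizer (N b : Set G) :=
  inf_le_right.trans (sup_le ((h.DE b).trans (h.dec.EN b)) ((Kn_le_C b).trans (centralizer_le_normalizer _)))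

theorem Lb_le_C (h : NBs S N E D l q) (a b : ι) (hab : a ≠ b) : Lb S N D b ≤ centralizer (N a : Set G) :=
  inf_le_right.trans (sup_le ((h.DE b).trans (h.dec.EC b a hab.symm)) (Kn_le_C a))

/-- `S` permutes the triples `(N b, l b, L b)` -/
theorem Lb_perm (h : NBs S N E D l q) : ∀ s ∈ S, ∀ b, ∃ c, cj s (N b) = N c ∧ cj s (l b) = l c ∧
    cj s (Lb S N D b) = Lb S N D c := by
  intro s hs b
  obtain ⟨c, h1, h2, h3⟩ := h.sD s hs b
  refine ⟨c, h1, h3, ?_⟩
  have h4 : cj s (D b) = D c := h2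
  have h5 : cj s (D b ⊔ Kn S N) = cj s (D b) ⊔ cj s (Kn S N) := Subgroup.map_sup _ _ _
  rw [Lb, Lb, cj_inf, cj_normalizer, mem_normalizer_iff_cj.1 (S_norm_Qn h hs), h5, h4,
    mem_normalizer_iff_cj.1 (MZ_Kn h (h.dec.SL hs))]

/-- **Frattini** : every `d ∈ D b` acts on `V` like an element of `L b` -/
theorem exists_Lb [Finite G] {S : Sylow 2 G} (h : NBs (S : Subgroup G) N E D l q) (b : ι) {d : G} (hd : d ∈ D b) :
    ∃ n ∈ Lb (S : Subgroup G) N D b, ∀ v ∈ (⨆ b, N b : Subgroup G), n * v * n⁻¹ = d * v * d⁻¹ := by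
  obtain ⟨c, hc, hn⟩ := frat (S := S) (h.dec.SL.trans (MZ_Kn h)) (MZ_Kn h (D_MZ h b hd))
  rw [S_inf_Kn h] at hn
  refine ⟨c * d, ⟨hn, mul_mem (mem_sup_right hc) (mem_sup_left hd)⟩, fun v hv => ?_⟩
  have h1 : d * v * d⁻¹ ∈ (⨆ b, N b : Subgroup G) := (mem_normalizer_iff.1 (MZ_norm h (D_MZ h b hd)) v).1 hv
  have h2 := mem_centralizer_iff.1 hc.2 _ h1
  calc c * d * v * (c * d)⁻¹ = (c * (d * v * d⁻¹)) * c⁻¹ := by group
    _ = ((d * v * d⁻¹) * c) * c⁻¹ := by rw [h2]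
    _ = d * v * d⁻¹ := by group

/-- every `n ∈ L b` acts on `V` like an element of `D b` -/
theorem act_Lb (h : NBs S N E D l q) (b : ι) {n : G} (hn : n ∈ Lb S N D b) :
    ∃ d ∈ D b, ∀ v ∈ (⨆ b, N b : Subgroup G), n * v * n⁻¹ = d * v * d⁻¹ := by
  have h1 : n ∈ ((D b ⊔ Kn S N : Subgroup G) : Set G) := hn.2
  rw [coe_mul_of_left_le_normalizer_right _ _ ((D_MZ h b).trans (MZ_Kn h))] at h1
  obtain ⟨d, hd, k, hk, rfl⟩ := Set.mem_mul.1 h1
  refine ⟨d, hd, fun v hv => ?_⟩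
  have h2 := mem_centralizer_iff.1 (mem_inf.1 hk).2 v hv
  calc d * k * v * (d * k)⁻¹ = d * ((k * v) * k⁻¹) * d⁻¹ := by group
    _ = d * ((v * k) * k⁻¹) * d⁻¹ := by rw [h2]
    _ = d * v * d⁻¹ := by group

/-- **`Q` is Sylow in `C(V)`** -/
theorem syl_Q [Finite G] {S : Sylow 2 G} (h : NBs (S : Subgroup G) N E D l q) :
    ∀ g ∈ normalizer ((Qn (S : Subgroup G) N : Subgroup G) : Set G), g ∈ centralizer ((⨆ b, N b : Subgroup G) : Set G) →
      (∃ n, g ^ 2 ^ n = 1) → g ∈ Qn (S : Subgroup G) N := by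
  intro g hg hgC ⟨n, hn⟩
  have : Fact (Nat.Prime 2) := ⟨Nat.prime_two⟩
  have hS : (S : Subgroup G) ≤ normalizer ((centralizer ((⨆ b, N b : Subgroup G) : Set G) : Subgroup G) : Set G) := by
    intro s hs
    rw [mem_normalizer_iff_cj, ChoiceBase.cj_centralizer, mem_normalizer_iff_cj.1 (MZ_norm h (h.dec.SL hs))]
  have h1 := syl_inf hS
  have hz : IsPGroup 2 (zpowers g) := by
    intro x
    obtain ⟨k, hk⟩ := mem_zpowers_iff.1 x.2
    refine ⟨n, Subtype.ext ?_⟩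
    show ((x ^ 2 ^ n : zpowers g) : G) = 1
    rw [SubmonoidClass.coe_pow, ← hk, ← zpow_natCast, ← zpow_mul, mul_comm, zpow_mul, zpow_natCast, hn, one_zpow]
  have h2 : IsPGroup 2 (zpowers g ⊔ Qn (S : Subgroup G) N : Subgroup G) :=
    hz.to_sup_of_normal_right' (S.isPGroup'.to_le inf_le_left) (zpowers_le.2 hg)
  have h3 := h1.2.2 _ (sup_le (zpowers_le.2 hgC) inf_le_right) h2 le_sup_right
  exact h3.le (mem_sup_left (mem_zpowers g))

end lb

/-! ### The root groups -/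

section rt

variable {G : Type u} [Group G] {ι : Type v} {S V : Subgroup G} {N l E : ι → Subgroup G} {F : ι → Type}
  [∀ b, Field (F b)] {x y : G → ∀ b, F b}

theorem comm_coord [∀ b, CharP (F b) 2] (h : Kd S V N l E x y) (hS : IsPGroup 2 S) {s : G} (hs : s ∈ BB S l) :
    ∃ t : ∀ b, F b, ∀ v ∈ V, s * v * s⁻¹ * v⁻¹ ∈ V ∧ (∀ c, x (s * v * s⁻¹ * v⁻¹) c = t c * y v c) ∧
      ∀ c, y (s * v * s⁻¹ * v⁻¹) c = 0 := by
  obtain ⟨t, ht⟩ := h.actB hS hs
  refine ⟨t, fun v hv => ?_⟩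
  have h1 := h.conj_mem (h.SV hs.1) hv
  refine ⟨mul_mem h1 (inv_mem hv), fun c => ?_, fun c => ?_⟩
  · rw [h.xm _ h1 _ (inv_mem hv), h.x_inv hv, (ht v hv c).1]; ring
  · rw [h.ym _ h1 _ (inv_mem hv), h.y_inv hv, (ht v hv c).2]; ring

/-- **`Rt B (N b) (l b)`** -/
theorem Kd.rt [Finite G] [Finite ι] [∀ b, CharP (F b) 2] (h : Kd S V N l E x y) (hS : IsPGroup 2 S) (b : ι) :
    Rt (BB S l) (N b) (l b) := by
  choose t ht using fun s : BB S l => comm_coord h hS s.2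
  have hmv : ∀ s : BB S l, (∃ w ∈ N b, (s : G) * w ≠ w * s) → t s b ≠ 0 := by
    rintro s ⟨w, hw, hne⟩ h0
    apply hne
    obtain ⟨h1, h2, h3⟩ := ht s w (h.NV b hw)
    have h4 : (s : G) * w * (s : G)⁻¹ * w⁻¹ = 1 := by
      refine h.inj _ h1 (fun c => ?_) h3
      rw [h2]
      by_cases hc : c = b
      · subst hc; rw [h0, zero_mul]
      · rw [((h.memN b w).1 hw).2.2 c hc, mul_zero]
    calc (s : G) * w = ((s : G) * w * (s : G)⁻¹ * w⁻¹) * (w * s) := by group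
      _ = w * s := by rw [h4, one_mul]
  constructor
  · intro s hs w hw
    obtain ⟨h1, h2, h3⟩ := ht ⟨s, hs⟩ w (h.NV b hw)
    refine (h.meml b _).2 ⟨h1, fun c hc => ?_, h3⟩
    rw [h2, ((h.memN b w).1 hw).2.2 c hc, mul_zero]
  · intro s hs z hz
    exact (mem_centralizer_iff.1 hs.2 z ((le_iSup l b) hz)).symm
  · intro s hs hm z hz
    have h0 := hmv ⟨s, hs⟩ hm
    obtain ⟨w, hw, -, hy⟩ := h.exists_y b 0 ((t ⟨s, hs⟩ b)⁻¹ * x z b)
    obtain ⟨h1, h2, h3⟩ := ht ⟨s, hs⟩ w (h.NV b hw)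
    obtain ⟨h4, h5, h6⟩ := (h.meml b z).1 hz
    refine ⟨w, hw, h.ext h1 h4 (fun c => ?_) fun c => by rw [h3, h6]⟩
    rw [h2]
    by_cases hc : c = b
    · subst hc; rw [hy, mul_inv_cancel_left₀ h0]
    · rw [((h.memN b w).1 hw).2.2 c hc, mul_zero, h5 c hc]
  · intro s hs hm w hw hcm
    have h0 := hmv ⟨s, hs⟩ hm
    obtain ⟨h1, h2, h3⟩ := ht ⟨s, hs⟩ w (h.NV b hw)
    have h4 : s * w * s⁻¹ * w⁻¹ = 1 := by rw [hcm]; group
    obtain ⟨h5, h6, h7⟩ := (h.memN b w).1 hw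
    refine (h.meml b w).2 ⟨h5, h6, fun c => ?_⟩
    by_cases hc : c = b
    · subst hc
      have h8 := h2 c
      rw [h4, h.x_one] at h8
      exact (mul_eq_zero.1 h8.symm).resolve_left h0
    · exact h7 c hc
  · choose ell hell hellx using h.exists_x b
    rw [relIndex, index_eq_card]
    refine Nat.card_le_card_of_injective (fun r : BB S l ⧸ (centralizer (N b : Set G)).subgroupOf (BB S l) =>
      (⟨ell (t r.out b), hell _⟩ : l b)) ?_
    intro r r' hrr
    have h1 : ell (t r.out b) = ell (t r'.out b) := congrArg Subtype.val hrr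
    have h2 : t r.out b = t r'.out b := by rw [← hellx (t r.out b), h1, hellx]
    rw [← QuotientGroup.out_eq' r, ← QuotientGroup.out_eq' r', QuotientGroup.eq]
    rw [mem_subgroupOf, mem_centralizer_iff]
    intro w hw
    have h3 : ((r.out : BB S l) : G) * w * ((r.out : BB S l) : G)⁻¹ =
        ((r'.out : BB S l) : G) * w * ((r'.out : BB S l) : G)⁻¹ := by
      obtain ⟨h4, h5, h6⟩ := ht r.out w (h.NV b hw)
      obtain ⟨h7, h8, h9⟩ := ht r'.out w (h.NV b hw)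
      refine mul_right_cancel (b := w⁻¹) (h.ext h4 h7 (fun c => ?_) fun c => by rw [h6, h9])
      rw [h5, h8]
      by_cases hc : c = b
      · subst hc; rw [h2]
      · rw [((h.memN b w).1 hw).2.2 c hc, mul_zero, mul_zero]
    show w * (((r.out : BB S l) : G)⁻¹ * ((r'.out : BB S l) : G)) =
      (((r.out : BB S l) : G)⁻¹ * ((r'.out : BB S l) : G)) * w
    calc w * (((r.out : BB S l) : G)⁻¹ * ((r'.out : BB S l) : G)) =
        ((r.out : BB S l) : G)⁻¹ * (((r.out : BB S l) : G) * w * ((r.out : BB S l) : G)⁻¹) * ((r'.out : BB S l) : G) := by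
          group
      _ = ((r.out : BB S l) : G)⁻¹ * (((r'.out : BB S l) : G) * w * ((r'.out : BB S l) : G)⁻¹) * ((r'.out : BB S l) : G) := by
          rw [h3]
      _ = _ := by group

theorem _root_.Cfsg.Agent.Omega.NOThreeL.RWide.TBlk.Bls.rt [Finite G] [Finite ι] (h : Bls S V N l E) (hS : IsPGroup 2 S)
    (b : ι) : Rt (BB S l) (N b) (l b) := by
  obtain ⟨F, i1, _, i3, x, y, hk⟩ := h.exists_kd
  exact Kd.rt hk hS b

end rt

section fields

variable {G : Type u} [Group G] {S : Subgroup G} {ι : Type u} {N E D l : ι → Subgroup G} {q : ι → ℕ}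

/-- 644's field `rt` -/
theorem _root_.Cfsg.Agent.Omega.NOThreeL.RRed.WideTree.NBs.rt [Finite G] [Finite ι] (h : NBs S N E D l q)
    (hS : IsPGroup 2 S) : ∀ b, Rt (S ⊓ centralizer ((⨆ b, l b : Subgroup G) : Set G)) (N b) (l b) := h.bls.rt hS

theorem _root_.Cfsg.Agent.Omega.NOThreeL.RRed.WideTree.NBs.sq (h : NBs S N E D l q) :
    ∀ b, ∀ v ∈ N b, v * v = 1 := by
  intro b v hv
  obtain ⟨F, _, _, _, e, _, nb⟩ := h.nat b
  refine nb.inj _ (mul_mem hv hv) ?_
  rw [nb.mul _ hv _ hv]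
  funext i
  exact CharTwo.add_self_eq_zero _

theorem _root_.Cfsg.Agent.Omega.NOThreeL.RRed.WideTree.NBs.com (h : NBs S N E D l q) :
    ∀ a b, ∀ v ∈ N a, ∀ w ∈ N b, v * w = w * v := by
  intro a b v hv w hw
  have h1 : ∀ b, N b ≤ Wd S := fun b => sup_N h ▸ le_iSup N b
  exact (mem_centralizer_iff.1 (h.dec.ab (h1 a hv)) w (h1 b hw)).symm

theorem _root_.Cfsg.Agent.Omega.NOThreeL.RRed.WideTree.NBs.indep [Finite ι] (h : NBs S N E D l q) :
    iSupIndep N := h.bls.indep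

theorem _root_.Cfsg.Agent.Omega.NOThreeL.RRed.WideTree.NBs.card_N (h : NBs S N E D l q) (b : ι) :
    Nat.card (N b) = Nat.card (l b) ^ 2 := by
  obtain ⟨F, _, _, _, e, _, nb⟩ := h.nat b
  rw [natblk_card nb]
  have h1 : Nat.card (N b) = Nat.card (Fin 2 → F) := by
    refine Nat.card_congr (Equiv.ofBijective (fun v : N b => e v) ⟨fun v w hvw => ?_, fun c => ?_⟩)
    · exact Subtype.ext (natblk_inj nb v.2 w.2 hvw)
    · obtain ⟨v, hv, hc⟩ := nb.sur c
      exact ⟨⟨v, hv⟩, hc⟩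
  rw [h1, Nat.card_fun, Nat.card_eq_fintype_card (α := Fin 2), Fintype.card_fin]

end fields

end Cfsg.Agent.Omega.NOThreeL.RRed.ULb

end

section


/-!
# NO-3L, box R: the `T`-frame `TFm` of the left case over `S`-orbits of blocks (helper258; head helper848 #27137 (C))

Hypotheses: `RB S`, `NBs` (v5), `Src`, `AllB`, `C_G(Z)` permutes the lines (`ln`), at least two `S`-orbits of blocks (`two`);
no class, no `CM`, no `Left`.
* `X b = Z ⊓ ∏ N c` (`c` not in the `S`-orbit of `b`), `K b = O₂(C_G(X b))`;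
* **`nbf_of`** : 644's `NormB.NBf` with `L b = Lb` (helper724), so `I2`, `I4`;
* `cz` : `C_G(Z) ≤ N(⨆ l)`; `perm` : `P ∈ P*(S)` permutes the blocks; **`tfm_of`** : `TFm S (Wd S) N l E`.
-/

set_option autoImplicit false
set_option linter.unusedSectionVars false

namespace Cfsg.Agent.Omega.NOThreeL.RRed.UInst

open Subgroup Cfsg Cfsg.Agent.ZN Cfsg.Agent.ZN.ChoiceBase Cfsg.Agent.Omega.MinPar Cfsg.Agent.Omega.Frame
open Cfsg.Agent.Omega.FrameNOFF Cfsg.Agent.Omega.Node.NO3L Cfsg.Agent.Omega.NOThreeL.Basic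
open Cfsg.Agent.Omega.NOThreeL.Merge (MZ)
open Cfsg.Agent.Omega.NOThreeL.RTree (RB)
open Cfsg.Agent.Omega.NOThreeL.RRed.WideTree Cfsg.Agent.Omega.NOThreeL.RRed.SemiNB
open Cfsg.Agent.Omega.NOThreeL.RWide Cfsg.Agent.Omega.NOThreeL.RRed.UPure Cfsg.Agent.Omega.NOThreeL.RRed.ULb

open scoped Pointwise

universe u

variable {G : Type u} [Group G] [Finite G] {S : Sylow 2 G} {ι : Type u} {N E D l : ι → Subgroup G} {q : ι → ℕ}

/-- the blocks outside the `S`-orbit of `b` -/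
def Off (S : Subgroup G) (N : ι → Subgroup G) (b c : ι) : Prop := ∀ s ∈ S, MulAut.conj s • N b ≠ N c

/-- `X b = Z ⊓ ∏ N c`, `c` not in the `S`-orbit of `b` -/
def UX (S : Subgroup G) (N : ι → Subgroup G) (b : ι) : Subgroup G := zc S ⊓ ⨆ c : {c // Off S N b c}, N c

/-- `K b = O₂(C_G(X b))` -/
def UK (S : Subgroup G) (N : ι → Subgroup G) (b : ι) : Subgroup G := o2 (centralizer (UX S N b : Set G))

theorem UX_le (b : ι) : UX (S : Subgroup G) N b ≤ zc (S : Subgroup G) := inf_le_left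

theorem UX_ne (hB : RB S) (hN : NBs (S : Subgroup G) N E D l q) {b c : ι} (hc : Off (S : Subgroup G) N b c) :
    UX (S : Subgroup G) N b ≠ ⊥ := by
  have hf : Fact (Nat.Prime 2) := ⟨Nat.prime_two⟩
  have hV : (⨆ c : {c // Off (S : Subgroup G) N b c}, N c) ≤ Wd (S : Subgroup G) := by
    rw [← sup_N hN]
    exact iSup_le fun c => le_iSup N c.1
  have hSV := WS hB
  have hne : (⨆ c : {c // Off (S : Subgroup G) N b c}, N c) ≠ ⊥ := fun h0 => hN.dec.ne c
    (le_bot_iff.1 ((le_iSup (fun c : {c // Off (S : Subgroup G) N b c} => N c) ⟨c, hc⟩).trans h0.le))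
  have hnor : (S : Subgroup G) ≤ normalizer ((⨆ c : {c // Off (S : Subgroup G) N b c}, N c : Subgroup G) : Set G) := by
    intro s hs
    refine mem_normalizer_of_cj_le ?_
    rw [NormB.cj_iSup]
    refine iSup_le fun c => ?_
    obtain ⟨d, hd, -⟩ := hN.bls.perm s hs c.1
    rw [hd]
    refine le_iSup (fun c : {c // Off (S : Subgroup G) N b c} => N c) ⟨d, fun t ht e => ?_⟩
    refine c.2 (s⁻¹ * t) (mul_mem (inv_mem hs) ht) ?_
    rw [map_mul, mul_smul, e, ← hd]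
    exact cj_inv_cj s (N c.1)
  have h1 := PLocal.OffenderStep.inf_centralizer_ne_bot _ (S : Subgroup G) (S.isPGroup'.to_le (hV.trans hSV))
    S.isPGroup' hnor hne
  intro h0
  apply h1
  rw [eq_bot_iff, ← h0]
  rintro x ⟨hx, hxS⟩
  refine ⟨ChoiceBase.mem_zc.2 ⟨hSV (hV hx), ?_, fun s hs => mem_centralizer_iff.1 hxS s hs⟩, hx⟩
  have h2 := wsq hB x (hV hx)
  rwa [pow_two]

theorem D_le_cen (hN : NBs (S : Subgroup G) N E D l q) (b : ι) :
    Lb (S : Subgroup G) N D b ≤ centralizer (UX (S : Subgroup G) N b : Set G) := by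
  have h1 : Lb (S : Subgroup G) N D b ≤
      centralizer ((⨆ c : {c // Off (S : Subgroup G) N b c}, N c : Subgroup G) : Set G) := by
    intro x hx
    refine NormB.mem_cent_iSup.2 fun c => NormB.mem_cent_iff.1 (Lb_le_C hN c.1 b (fun e => ?_) hx)
    refine c.2 1 (one_mem _) ?_
    rw [map_one, one_smul, e]
  exact h1.trans (centralizer_le inf_le_right)

/-- `C_G(Z)` normalises `⨆ l` -/
theorem cz (ln : ∀ c ∈ centralizer (zc (S : Subgroup G) : Set G), ∀ b, ∃ b', MulAut.conj c • l b = l b') :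
    CZ (S : Subgroup G) ≤ normalizer ((⨆ b, l b : Subgroup G) : Set G) := by
  intro x hx
  refine mem_normalizer_of_cj_le ?_
  rw [NormB.cj_iSup]
  refine iSup_le fun b => ?_
  obtain ⟨b', hb'⟩ := ln x hx b
  have h1 : cj x (l b) = l b' := hb'
  rw [h1]
  exact le_iSup l b'

variable [Finite ι]

/-- **644's structure `NBf`** -/
theorem nbf_of (hB : RB S) (hN : NBs (S : Subgroup G) N E D l q) (hs : Src (S : Subgroup G) N l q)
    (hall : AllB (S : Subgroup G) N)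
    (ln : ∀ c ∈ centralizer (zc (S : Subgroup G) : Set G), ∀ b, ∃ b', MulAut.conj c • l b = l b')
    (two : ∀ b, ∃ c, ∀ s ∈ (S : Subgroup G), MulAut.conj s • N b ≠ N c) :
    NormB.NBf (S : Subgroup G) (CZ (S : Subgroup G)) (o2 (CZ (S : Subgroup G))) (Qn (S : Subgroup G) N)
      ((S : Subgroup G) ⊓ centralizer ((⨆ b, l b : Subgroup G) : Set G)) N l (Lb (S : Subgroup G) N D)
      (UK (S : Subgroup G) N) where
  two := S.isPGroup'
  OS := (isLoc_centralizer_zc S (hB.ctx.sylow_ne_bot S)).o2_le S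
  SC := le_CZ S
  nO := le_normalizer_o2 _
  sq := hN.sq
  com := hN.com
  ind := hN.indep
  lN := hN.bls.lN
  card := hN.card_N
  Qdef := rfl
  Bdef := rfl
  rt := hN.rt S.isPGroup'
  perm := Lb_perm hN
  LQ := Lb_le_Q
  LN := Lb_le_N hN
  LC := Lb_le_C hN
  KO b := by
    obtain ⟨c, hc⟩ := two b
    exact o2_le (UX_le b) (UX_ne hB hN hc)
  LK b := (D_le_cen hN b).trans (le_normalizer_o2 _)
  CK b := (centralizer_le (UX_le b)).trans (le_normalizer_o2 _)
  NK a b := by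
    obtain ⟨c, hc⟩ := two b
    exact N_le_o2 hB hs (UX_le b) (UX_ne hB hN hc) a
  syl := syl_Q hN
  gen b := gen hB hN hs hall b (fun x hx => by
      obtain ⟨d, hd, h1⟩ := act_Lb hN b hx
      exact ⟨d, hd, fun v hv => h1 v ((le_iSup N b) hv)⟩) (fun d hd => by
      obtain ⟨x, hx, h1⟩ := exists_Lb hN b hd
      exact ⟨x, hx, fun v hv => h1 v ((le_iSup N b) hv)⟩) (Lb_le_N hN b)
  noff := noff hB hs
  J := cz ln
  Z := by rw [sup_N hN]; exact zc_le_Wd _

/-- `P ∈ P*(S)` permutes the blocks -/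
theorem perm (hN : NBs (S : Subgroup G) N E D l q) (P : Subgroup G) (hP : IsParS (S : Subgroup G) P) :
    ∀ x ∈ P, ∀ b, ∃ c, cj x (N b) = N c := fun x hx b => by
  obtain ⟨c, h1, -⟩ := hN.dec.perm x (le_MZ hP hx) b
  exact ⟨c, h1⟩

theorem nS (hN : NBs (S : Subgroup G) N E D l q) :
    normalizer ((S : Subgroup G) : Set G) ≤ normalizer (Wd (S : Subgroup G) : Set G) := by
  intro x hx
  refine mem_normalizer_of_cj_le ?_
  rw [← sup_N hN, NormB.cj_iSup]
  refine iSup_le fun b => ?_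
  obtain ⟨c, h1, -⟩ := hN.permN x hx b
  have h2 : cj x (N b) = N c := h1
  rw [h2]
  exact le_iSup N c

/-- **`TFm`** from `hK` (`NormB.zcB`) -/
theorem tfm_of' (hB : RB S) (hN : NBs (S : Subgroup G) N E D l q) (hs : Src (S : Subgroup G) N l q)
    (hall : AllB (S : Subgroup G) N)
    (ln : ∀ c ∈ centralizer (zc (S : Subgroup G) : Set G), ∀ b, ∃ b', MulAut.conj c • l b = l b')
    (two : ∀ b, ∃ c, ∀ s ∈ (S : Subgroup G), MulAut.conj s • N b ≠ N c)
    (hK : ∀ b, zc ((S : Subgroup G) ⊓ centralizer ((⨆ b, l b : Subgroup G) : Set G)) ≤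
      UK (S : Subgroup G) N b) : TFm S (Wd (S : Subgroup G)) N l E where
  toBls := hN.bls
  nS := nS hN
  par R hR := by
    by_cases h : IsParS (S : Subgroup G) R
    · exact Or.inr ⟨(le_MZ h).trans le_norm_Wd, perm hN R h⟩
    · exact Or.inl (par_le_CZ S hR h)
  I1 := hN.bls.I1_of (cz ln)
  I2 := by
    rw [← sup_N hN]
    exact (nbf_of hB hN hs hall ln two).le_normV
  I4 := (nbf_of hB hN hs hall ln two).zcB hK

end Cfsg.Agent.Omega.NOThreeL.RRed.UInst

end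

end

-- merged: Cfsg.Agent.Omega.NOThreeL.RWide.Perm
section

/-!
# LEMMA PERM (helper892, bb OMEGA #23931; card RWIDE [B]); typed by helper540

`Fr O Q B V Z A col N` : `V* = ⨆ V i` (direct), `B` acts on `V i` as the full root group with centre `Z i`, `A i ≤ O` an
elementary abelian subgroup of maximal order of `O` which induces this root group and centralises the other factors,
`Q = C_B(V*)`, `V i ≤ N (col i)`, `N a ≤ O` abelian; `fixB` : `C_{Ω₁(O)}(B) ≤ V*`.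

`Mv B V Z col N x` : `x` normalises `B`, `⨆ Z`, `N a` and centralises an element of `⨆ (col i = a), Z i` with all components
`≠ 1`.

* **`Fr.perm`** : `x` permutes the `Z i` of each colour.
-/

set_option autoImplicit false
set_option linter.unusedSectionVars false

namespace Cfsg.Agent.Omega.NOThreeL.RWide

open Subgroup Cfsg.Agent.ZN.ChoiceBase
open Cfsg.Agent.Omega.OmThm.SideBase (card_sup_comm)

variable {G : Type*} [Group G] {ι : Type*}

/-- The frame of LEMMA PERM. -/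
structure Fr (O Q B : Subgroup G) (V Z A : ι → Subgroup G) (col : ι → Bool) (N : Bool → Subgroup G) : Prop where
  sq : ∀ i, ∀ v ∈ V i, v * v = 1
  comm : ∀ i j, ∀ v ∈ V i, ∀ w ∈ V j, v * w = w * v
  ind : iSupIndep V
  ZV : ∀ i, Z i ≤ V i
  Zne : ∀ i, Z i ≠ ⊥
  card : ∀ i, Nat.card (V i) = Nat.card (Z i) ^ 2
  VO : ∀ i, V i ≤ O
  VB : ∀ i, V i ≤ B
  QB : Q ≤ B
  BQ : B ≤ normalizer (Q : Set G)
  QV : ∀ i, ∀ g ∈ Q, ∀ v ∈ V i, g * v = v * g
  memQ : ∀ g ∈ B, (∀ i, ∀ v ∈ V i, g * v = v * g) → g ∈ Q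
  rt : ∀ i, Rt B (V i) (Z i)
  AO : ∀ i, A i ≤ O
  AB : ∀ i, A i ≤ B
  Asq : ∀ i, ∀ a ∈ A i, a * a = 1
  Acomm : ∀ i, ∀ a ∈ A i, ∀ b ∈ A i, a * b = b * a
  Amax : ∀ i, ∀ E ≤ O, (∀ a ∈ E, a * a = 1) → (∀ a ∈ E, ∀ b ∈ E, a * b = b * a) → Nat.card E ≤ Nat.card (A i)
  Aoff : ∀ i j, j ≠ i → ∀ a ∈ A i, ∀ v ∈ V j, a * v = v * a
  root : ∀ i, ∀ v ∈ V i, v ∉ Z i → ∀ z ∈ Z i, ∃ a ∈ A i, a * v * a⁻¹ * v⁻¹ = z
  gen : B ≤ Q ⊔ ⨆ i, A i
  fixB : ∀ n ∈ O, n * n = 1 → (∀ b ∈ B, b * n = n * b) → n ∈ ⨆ i, V i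
  VN : ∀ i, V i ≤ N (col i)
  NO : ∀ a, N a ≤ O
  Ncomm : ∀ a, ∀ v ∈ N a, ∀ w ∈ N a, v * w = w * v
  AN : ∀ i a, A i ≤ normalizer (N a : Set G)
  ell : ∀ c, ∃ l ∈ normalizer (Q : Set G), l ∈ normalizer (N (col c) : Set G) ∧ l ∈ normalizer (V c : Set G) ∧
    (∀ i, i ≠ c → ∀ v ∈ V i, l * v = v * l) ∧ ∀ z ∈ Z c, l * z * l⁻¹ ∈ Z c → z = 1

/-- The element `x`. -/
structure Mv (B : Subgroup G) (V Z : ι → Subgroup G) (col : ι → Bool) (N : Bool → Subgroup G) (x : G) : Prop where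
  nB : x ∈ normalizer (B : Set G)
  nZ : ∀ z ∈ ⨆ i, Z i, x * z * x⁻¹ ∈ ⨆ i, Z i
  nN : ∀ a, x ∈ normalizer (N a : Set G)
  z : ∀ a, ∃ z ∈ ⨆ (i) (_ : col i = a), Z i, x * z = z * x ∧ ∀ b, col b = a → z ∉ ⨆ (i) (_ : i ≠ b), V i

namespace Fr

variable [Finite G] [Finite ι] {O Q B : Subgroup G} {V Z A : ι → Subgroup G} {col : ι → Bool}
  {N : Bool → Subgroup G}

section basic

variable (h : Fr O Q B V Z A col N)
include h

theorem one_lt (i : ι) : 1 < Nat.card (Z i) := (Subgroup.one_lt_card_iff_ne_bot _).2 (h.Zne i)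

theorem exists_not (i : ι) : ∃ v ∈ V i, v ∉ Z i := by
  by_contra hcon
  push Not at hcon
  have h1 : Nat.card (V i) ≤ Nat.card (Z i) := Subgroup.card_le_of_le hcon
  rw [h.card i] at h1
  have h2 := h.one_lt i
  nlinarith

theorem BV {i : ι} {g v : G} (hg : g ∈ B) (hv : v ∈ V i) : g * v * g⁻¹ ∈ V i := by
  have h1 := mul_mem (h.ZV i ((h.rt i).com g hg v hv)) hv
  rwa [inv_mul_cancel_right] at h1

theorem commVV : ∀ v ∈ ⨆ i, V i, ∀ w ∈ ⨆ i, V i, v * w = w * v := by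
  have h1 : ∀ i, ∀ w ∈ V i, ∀ v ∈ ⨆ i, V i, v * w = w * v := by
    intro i w hw v hv
    have h2 : (⨆ i, V i) ≤ centralizer ({w} : Set G) := iSup_le fun j u hu =>
      mem_centralizer_singleton_iff.2 (h.comm j i u hu w hw)
    exact mem_centralizer_singleton_iff.1 (h2 hv)
  intro v hv w hw
  have h2 : (⨆ i, V i) ≤ centralizer ({v} : Set G) := iSup_le fun j u hu =>
    mem_centralizer_singleton_iff.2 (h1 j u hu v hv).symm
  exact (mem_centralizer_singleton_iff.1 (h2 hw)).symm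

theorem QVV {g v : G} (hg : g ∈ Q) (hv : v ∈ ⨆ i, V i) : g * v = v * g := by
  have h2 : (⨆ i, V i) ≤ centralizer ({g} : Set G) := iSup_le fun j u hu =>
    mem_centralizer_singleton_iff.2 (h.QV j g hg u hu).symm
  exact (mem_centralizer_singleton_iff.1 (h2 hv)).symm

theorem sqVV {e : G → ι → G} (he : Co V e) : ∀ v ∈ ⨆ i, V i, v * v = 1 := fun v hv =>
  he.ext _ (mul_mem hv hv) fun c => by rw [he.mul v hv v hv, h.sq c _ (he.mem v hv c)]

theorem VVO : (⨆ i, V i) ≤ O := iSup_le h.VO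

theorem VVB : (⨆ i, V i) ≤ B := iSup_le h.VB

theorem VVQ : (⨆ i, V i) ≤ Q := iSup_le fun i v hv => h.memQ v (h.VB i hv) fun j u hu => h.comm i j v hv u hu

/-- some `a ∈ A i` moves `V i` -/
theorem exists_mover (i : ι) : ∃ a ∈ A i, ∃ v ∈ V i, a * v ≠ v * a := by
  obtain ⟨v, hv, hvZ⟩ := h.exists_not i
  obtain ⟨z, hz, hz1⟩ := (Subgroup.bot_or_exists_ne_one _).resolve_left (h.Zne i)
  obtain ⟨a, ha, e⟩ := h.root i v hv hvZ z hz
  refine ⟨a, ha, v, hv, fun h1 => hz1 ?_⟩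
  rw [← e, h1, mul_inv_cancel_right, mul_inv_cancel]

/-- `C_{V i}(A i) = Z i` -/
theorem mem_Z {i : ι} {v : G} (hv : v ∈ V i) (hc : ∀ a ∈ A i, a * v = v * a) : v ∈ Z i := by
  obtain ⟨a, ha, w, hw, hne⟩ := h.exists_mover i
  exact (h.rt i).fix a (h.AB i ha) ⟨w, hw, hne⟩ v hv (hc a ha)

theorem Aidx (i : ι) : (centralizer (V i : Set G)).relIndex (A i) ≤ Nat.card (Z i) :=
  (relIndex_le_of_le_right (H := centralizer (V i : Set G)) (h.AB i) (rne _ _)).trans (h.rt i).idx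

/-- elements of `A i` which centralise `V i` are in `Q` -/
theorem AQ {i : ι} {a : G} (ha : a ∈ A i) (hc : ∀ v ∈ V i, a * v = v * a) : a ∈ Q := by
  refine h.memQ a (h.AB i ha) fun j v hv => ?_
  by_cases hj : j = i
  · subst hj; exact hc v hv
  · exact h.Aoff i j hj a ha v hv

end basic

/-! ### (3) -/

/-- `Ω₁(Z(Q)) ∩ O` -/
def EE (O Q : Subgroup G) : Subgroup G where
  carrier := {n | n ∈ O ∧ n ∈ Q ∧ (∀ q ∈ Q, q * n = n * q) ∧ n * n = 1}
  one_mem' := ⟨one_mem _, one_mem _, fun q _ => by simp, by simp⟩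
  mul_mem' := by
    rintro n m ⟨h1, h2, h3, h4⟩ ⟨k1, k2, k3, k4⟩
    refine ⟨mul_mem h1 k1, mul_mem h2 k2, fun q hq => ?_, ?_⟩
    · rw [← mul_assoc, h3 q hq, mul_assoc, k3 q hq, mul_assoc]
    · calc n * m * (n * m) = n * (m * n) * m := by group
        _ = (n * n) * (m * m) := by rw [h3 m k2]; group
        _ = 1 := by rw [h4, k4, one_mul]
  inv_mem' := by
    rintro n ⟨h1, h2, h3, h4⟩
    refine ⟨inv_mem h1, inv_mem h2, fun q hq => ?_, ?_⟩
    · exact (show Commute q n from h3 q hq).inv_right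
    · rw [← mul_inv_rev, h4, inv_one]

section three

variable (h : Fr O Q B V Z A col N)
include h

theorem V_le_EE (i : ι) : V i ≤ EE O Q := fun v hv =>
  ⟨h.VO i hv, h.VVQ ((le_iSup V i) hv), fun q hq => h.QV i q hq v hv, h.sq i v hv⟩

theorem three_one (c : ι) {n : G} (hn : n ∈ EE O Q) : ∃ v ∈ V c, ∀ a ∈ A c, a * (n * v) = n * v * a := by
  set E := EE O Q with hE
  set EA := E ⊓ centralizer (A c : Set G) with hEA
  set C := A c ⊓ centralizer (E : Set G) with hC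
  have hEcomm : ∀ a ∈ E, ∀ b ∈ E, a * b = b * a := fun a ha b hb => hb.2.2.1 a ha.2.1
  have hEC : ∀ a ∈ E, ∀ b ∈ C, a * b = b * a := fun a ha b hb => mem_centralizer_iff.1 hb.2 a ha
  have h1 := card_sup_comm hEC
  have hmax : Nat.card ↥(E ⊔ C) ≤ Nat.card (A c) := by
    have hcen : ∀ x ∈ E ⊔ C, ∃ a ∈ E, ∃ b ∈ C, x = a * b := fun x hx =>
      OmThm.SideBase.mem_sup_comm hEC hx
    refine h.Amax c _ (sup_le (fun a ha => ha.1) (inf_le_left.trans (h.AO c))) ?_ ?_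
    · intro x hx
      obtain ⟨a, ha, b, hb, rfl⟩ := hcen x hx
      calc a * b * (a * b) = a * (b * a) * b := by group
        _ = (a * a) * (b * b) := by rw [← hEC a ha b hb]; group
        _ = 1 := by rw [ha.2.2.2, h.Asq c b hb.1, one_mul]
    · intro x hx y hy
      obtain ⟨a, ha, b, hb, rfl⟩ := hcen x hx
      obtain ⟨a', ha', b', hb', rfl⟩ := hcen y hy
      calc a * b * (a' * b') = a * (b * a') * b' := by group
        _ = (a * a') * (b * b') := by rw [← hEC a' ha' b hb]; group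
        _ = (a' * a) * (b' * b) := by rw [hEcomm a ha a' ha', h.Acomm c b hb.1 b' hb'.1]
        _ = a' * (a * b') * b := by group
        _ = a' * b' * (a * b) := by rw [hEC a ha b' hb']; group
  have h2 : Nat.card ↥(E ⊓ C) ≤ Nat.card EA := by
    refine Subgroup.card_le_of_le fun x hx => ⟨hx.1, mem_centralizer_iff.2 fun a ha => ?_⟩
    exact h.Acomm c a ha x hx.2.1
  have h3 : C.relIndex (A c) ≤ Nat.card (Z c) := by
    refine le_trans ?_ (h.Aidx c)
    rw [← inf_relIndex_right (centralizer (V c : Set G))]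
    refine relIndex_le_of_le_left ?_ (rne _ _)
    rintro a ⟨ha, haA⟩
    refine ⟨haA, mem_centralizer_iff.2 fun n hn => ?_⟩
    have haQ := h.AQ haA fun v hv => (mem_centralizer_iff.1 ha v hv).symm
    exact (hn.2.2.1 a haQ).symm
  have h4 : C.relIndex (A c) * Nat.card C = Nat.card (A c) := rmc inf_le_left
  have hVE : V c ≤ E := h.V_le_EE c
  have hVEA : ∀ a ∈ V c, ∀ b ∈ EA, a * b = b * a := fun a ha b hb => hEcomm a (hVE ha) b hb.1
  have h5 := card_sup_comm hVEA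
  have h6 : Nat.card ↥(V c ⊓ EA) ≤ Nat.card (Z c) := by
    refine Subgroup.card_le_of_le fun x hx => h.mem_Z hx.1 fun a ha => ?_
    exact mem_centralizer_iff.1 hx.2.2 a ha
  have hpos : 0 < Nat.card C := Nat.card_pos
  have h7 : Nat.card E ≤ Nat.card (Z c) * Nat.card EA := by
    have h8 : Nat.card E * Nat.card C ≤ (Nat.card (Z c) * Nat.card EA) * Nat.card C := by
      calc Nat.card E * Nat.card C = Nat.card ↥(E ⊔ C) * Nat.card ↥(E ⊓ C) := h1.symm
        _ ≤ Nat.card (A c) * Nat.card EA := Nat.mul_le_mul hmax h2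
        _ = C.relIndex (A c) * Nat.card C * Nat.card EA := by rw [h4]
        _ ≤ Nat.card (Z c) * Nat.card C * Nat.card EA := by gcongr
        _ = _ := by ring
    exact Nat.le_of_mul_le_mul_right h8 hpos
  have hZ : 0 < Nat.card (Z c) := Nat.card_pos
  have h9 : Nat.card (Z c) * Nat.card EA ≤ Nat.card ↥(V c ⊔ EA) := by
    rw [h.card c] at h5
    have h10 : (Nat.card (Z c) * Nat.card EA) * Nat.card (Z c) ≤ Nat.card ↥(V c ⊔ EA) * Nat.card (Z c) := by
      calc (Nat.card (Z c) * Nat.card EA) * Nat.card (Z c) = Nat.card (Z c) ^ 2 * Nat.card EA := by ring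
        _ = Nat.card ↥(V c ⊔ EA) * Nat.card ↥(V c ⊓ EA) := h5.symm
        _ ≤ _ := Nat.mul_le_mul_left _ h6
    exact Nat.le_of_mul_le_mul_right h10 hZ
  have h11 : V c ⊔ EA = E := Subgroup.eq_of_le_of_card_ge (sup_le hVE inf_le_left) (h7.trans h9)
  rw [← h11] at hn
  obtain ⟨v, hv, u, hu, rfl⟩ := OmThm.SideBase.mem_sup_comm hVEA hn
  refine ⟨v, hv, fun a ha => ?_⟩
  have e : v * u * v = u := by
    rw [hVEA v hv u hu, mul_assoc, h.sq c v hv, mul_one]
  rw [e]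
  exact mem_centralizer_iff.1 hu.2 a ha

/-- **(3)** : `Ω₁(Z(Q)) ∩ O ≤ V*` -/
theorem three {n : G} (hn : n ∈ EE O Q) : n ∈ ⨆ i, V i := by
  classical
  have := Fintype.ofFinite ι
  have key : ∀ s : Finset ι, ∃ v ∈ ⨆ i, V i, ∀ c ∈ s, ∀ a ∈ A c, a * (n * v) = n * v * a := by
    intro s
    induction s using Finset.induction_on with
    | empty => exact ⟨1, one_mem _, fun c hc => absurd hc (Finset.notMem_empty c)⟩
    | insert c s hcs ih =>
      obtain ⟨v, hv, h1⟩ := ih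
      have hnv : n * v ∈ EE O Q := mul_mem hn ((iSup_le h.V_le_EE) hv)
      obtain ⟨w, hw, h2⟩ := h.three_one c hnv
      refine ⟨v * w, mul_mem hv ((le_iSup V c) hw), fun d hd a ha => ?_⟩
      have e2 : n * (v * w) = n * v * w := (mul_assoc n v w).symm
      rw [e2]
      rcases Finset.mem_insert.1 hd with rfl | hd
      · exact h2 a ha
      · have hdc : c ≠ d := fun h0 => hcs (h0 ▸ hd)
        calc a * (n * v * w) = a * (n * v) * w := by group
          _ = n * v * (a * w) := by rw [h1 d hd a ha, mul_assoc]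
          _ = n * v * w * a := by rw [h.Aoff d c hdc a ha w hw]; group
  obtain ⟨v, hv, h1⟩ := key Finset.univ
  have hnv : n * v ∈ EE O Q := mul_mem hn ((iSup_le h.V_le_EE) hv)
  have h2 : B ≤ centralizer ({n * v} : Set G) := by
    refine h.gen.trans (sup_le (fun q hq => mem_centralizer_singleton_iff.2 (hnv.2.2.1 q hq)) ?_)
    exact iSup_le fun c a ha => mem_centralizer_singleton_iff.2 (h1 c (Finset.mem_univ c) a ha)
  have h3 : n * v ∈ ⨆ i, V i :=
    h.fixB _ hnv.1 hnv.2.2.2 fun b hb => mem_centralizer_singleton_iff.1 (h2 hb)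
  have e : n = n * v * v⁻¹ := by group
  rw [e]
  exact mul_mem h3 (inv_mem hv)

end three

section mv

variable (h : Fr O Q B V Z A col N) {x : G} (hx : Mv B V Z col N x)
include h hx

theorem rtx (b : ι) : Rt B (cj x (V b)) (cj x (Z b)) := (h.rt b).conj hx.nB

theorem conj_B {g : G} (hg : g ∈ B) : x * g * x⁻¹ ∈ B := (mem_normalizer_iff.1 hx.nB g).1 hg

theorem WB (b : ι) : cj x (V b) ≤ B := fun w hw => by
  have h1 := h.conj_B hx (h.VB b (mem_cj'.1 hw))
  have e : x * (x⁻¹ * w * x) * x⁻¹ = w := by group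
  rwa [e] at h1

theorem WN (b : ι) : cj x (V b) ≤ N (col b) := fun w hw => by
  have h1 := (mem_normalizer_iff.1 (hx.nN (col b)) _).1 (h.VN b (mem_cj'.1 hw))
  have e : x * (x⁻¹ * w * x) * x⁻¹ = w := by group
  rwa [e] at h1

theorem Zx_le {b : ι} : cj x (Z b) ≤ ⨆ i, Z i := fun w hw => by
  have h1 := hx.nZ _ ((le_iSup Z b) (mem_cj'.1 hw))
  have e : x * (x⁻¹ * w * x) * x⁻¹ = w := by group
  rwa [e] at h1

/-- `[w, B] = Z b ^ x` -/
theorem rootx {b : ι} {w : G} (hw : w ∈ cj x (V b)) (hwZ : w ∉ cj x (Z b)) {z : G} (hz : z ∈ cj x (Z b)) :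
    ∃ g ∈ B, g * w * g⁻¹ * w⁻¹ = z := by
  rw [mem_cj'] at hw hz hwZ
  obtain ⟨a, ha, e⟩ := h.root b _ hw hwZ _ hz
  refine ⟨x * a * x⁻¹, h.conj_B hx (h.AB b ha), ?_⟩
  calc x * a * x⁻¹ * w * (x * a * x⁻¹)⁻¹ * w⁻¹ = x * (a * (x⁻¹ * w * x) * a⁻¹ * (x⁻¹ * w * x)⁻¹) * x⁻¹ := by group
    _ = z := by rw [e]; group

/-- **(1)** -/
theorem one {b c : ι} {w v : G} (hw : w ∈ cj x (V b)) (hv : v ∈ V c) (hne : w * v ≠ v * w) :
    cj x (Z b) = Z c := by
  apply le_antisymm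
  · intro z hz
    obtain ⟨w', hw', e⟩ := (h.rtx hx b).full v (h.VB c hv) ⟨w, hw, Ne.symm hne⟩ z hz
    have h1 := inv_mem ((h.rt c).com w' (h.WB hx b hw') v hv)
    have e1 : (w' * v * w'⁻¹ * v⁻¹)⁻¹ = v * w' * v⁻¹ * w'⁻¹ := by group
    rwa [e1, e] at h1
  · intro z hz
    obtain ⟨v', hv', e⟩ := (h.rt c).full w (h.WB hx b hw) ⟨v, hv, hne⟩ z hz
    have h1 := inv_mem ((h.rtx hx b).com v' (h.VB c hv') w hw)
    have e1 : (v' * w * v'⁻¹ * w⁻¹)⁻¹ = w * v' * w⁻¹ * v'⁻¹ := by group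
    rwa [e1, e] at h1

/-- **(2)** -/
theorem two {b : ι} (hW : cj x (V b) ≤ ⨆ i, V i) : ∃ c, cj x (Z b) = Z c := by
  obtain ⟨e, he⟩ := exists_co h.comm h.ind
  obtain ⟨n, hn, hnZ⟩ := h.exists_not b
  set n' := x * n * x⁻¹ with hn'
  have hnW : n' ∈ cj x (V b) := conj_mem_cj hn
  have hn'Z : n' ∉ cj x (Z b) := by
    rw [mem_cj', hn']
    have e1 : x⁻¹ * (x * n * x⁻¹) * x = n := by group
    rwa [e1]
  have hBV : ∀ g ∈ B, ∀ i, ∀ v ∈ V i, g * v * g⁻¹ ∈ V i := fun g hg i v hv => h.BV hg hv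
  obtain ⟨z₀, hz₀, hz₀1⟩ : ∃ z ∈ cj x (Z b), z ≠ 1 := by
    obtain ⟨z, hz, hz1⟩ := (Subgroup.bot_or_exists_ne_one _).resolve_left (h.Zne b)
    refine ⟨x * z * x⁻¹, conj_mem_cj hz, fun h0 => hz1 ?_⟩
    calc z = x⁻¹ * (x * z * x⁻¹) * x := by group
      _ = 1 := by rw [h0]; group
  obtain ⟨c, hc⟩ : ∃ c, e n' c ∉ Z c := by
    by_contra hcon
    push Not at hcon
    obtain ⟨g, hg, e1⟩ := h.rootx hx hnW hn'Z hz₀
    have h1 := he.comm_of (hBV g hg) (hW hnW) fun c => (h.rt c).cen g hg _ (hcon c)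
    rw [h1, mul_inv_cancel_right, mul_inv_cancel] at e1
    exact hz₀1 e1.symm
  have hZc : Z c ≤ cj x (Z b) := by
    intro z hz
    obtain ⟨a, ha, e1⟩ := h.root c (e n' c) (he.mem n' (hW hnW) c) hc z hz
    have haB := h.AB c ha
    have h1 := (h.rtx hx b).com a haB n' hnW
    have h2 : a * n' * a⁻¹ * n'⁻¹ = z := by
      refine he.ext' (he.e_comm (hBV a haB) (hW hnW) c).1 ((le_iSup V c) (h.ZV c hz)) fun i => ?_
      rw [(he.e_comm (hBV a haB) (hW hnW) i).2]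
      by_cases hi : i = c
      · subst hi
        rw [e1, he.self _ _ (h.ZV _ hz)]
      · rw [h.Aoff c i hi a ha _ (he.mem n' (hW hnW) i), mul_inv_cancel_right, mul_inv_cancel,
          he.off c z (h.ZV c hz) i hi]
    rwa [h2] at h1
  obtain ⟨z₁, hz₁, hz₁1⟩ := (Subgroup.bot_or_exists_ne_one _).resolve_left (h.Zne c)
  have hker : ∀ w ∈ cj x (V b), e w c ∈ Z c → w ∈ cj x (Z b) := by
    intro w hw hwc
    by_contra hwZ
    obtain ⟨g, hg, e1⟩ := h.rootx hx hw hwZ (hZc hz₁)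
    have h1 := (he.e_comm (hBV g hg) (hW hw) c).2
    rw [e1, (h.rt c).cen g hg _ hwc, mul_inv_cancel_right, mul_inv_cancel, he.self c z₁ (h.ZV c hz₁)] at h1
    exact hz₁1 h1
  refine ⟨c, (Subgroup.eq_of_le_of_card_ge hZc ?_).symm⟩
  -- `|Z b| ≤ |Z c|`
  let φ : ↥(cj x (V b)) →* G :=
    { toFun := fun w => e w c
      map_one' := he.one c
      map_mul' := fun w w' => he.mul _ (hW w.2) _ (hW w'.2) c }
  have h1 : (Z c).comap φ ≤ (cj x (Z b)).subgroupOf (cj x (V b)) := fun w hw =>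
    mem_subgroupOf.2 (hker w w.2 hw)
  have h2 : ((cj x (Z b)).subgroupOf (cj x (V b))).index ≤ ((Z c).comap φ).index :=
    index_antitone h1
  rw [index_comap] at h2
  have h3 : (Z c).relIndex φ.range ≤ (Z c).relIndex (V c) := by
    refine relIndex_le_of_le_right ?_ (rne _ _)
    rintro _ ⟨w, rfl⟩
    exact he.mem _ (hW w.2) c
  have h4 : (Z c).relIndex (V c) * Nat.card (Z c) = Nat.card (V c) := rmc (h.ZV c)
  have h5 : (cj x (Z b)).relIndex (cj x (V b)) * Nat.card ↥(cj x (Z b)) = Nat.card ↥(cj x (V b)) :=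
    rmc (cj_mono x (h.ZV b))
  rw [card_cj, card_cj, h.card b] at h5
  rw [h.card c] at h4
  have hb := h.one_lt b
  have hc' := h.one_lt c
  have h6 : (Z c).relIndex (V c) = Nat.card (Z c) := by
    have : (Z c).relIndex (V c) * Nat.card (Z c) = Nat.card (Z c) * Nat.card (Z c) := by rw [h4]; ring
    exact Nat.eq_of_mul_eq_mul_right (by omega) this
  have h7 : (cj x (Z b)).relIndex (cj x (V b)) = Nat.card (Z b) := by
    have : (cj x (Z b)).relIndex (cj x (V b)) * Nat.card (Z b) = Nat.card (Z b) * Nat.card (Z b) := by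
      rw [h5]; ring
    exact Nat.eq_of_mul_eq_mul_right (by omega) this
  rw [card_cj]
  have h8 : (cj x (Z b)).relIndex (cj x (V b)) ≤ Nat.card (Z c) := by
    rw [← h6]
    exact le_trans h2 h3
  rwa [h7] at h8

/-- `D ≤ C(a)`, `a ∈ A c` moves `V c`: `|V* : V* ∩ D| ≥ |Z c|` -/
theorem VV_idx {c : ι} {a : G} (ha : a ∈ A c) (hmv : ∃ v ∈ V c, a * v ≠ v * a) {D : Subgroup G}
    (hD : ∀ d ∈ D, a * d = d * a) : Nat.card (Z c) ≤ D.relIndex (⨆ i, V i) := by
  have _ := hx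
  have h1 : D.relIndex (V c) ≤ D.relIndex (⨆ i, V i) := relIndex_le_of_le_right (le_iSup V c) (rne _ _)
  refine le_trans ?_ h1
  have h2 : D.relIndex (V c) * Nat.card ↥(D ⊓ V c) = Nat.card (V c) := by
    rw [← inf_relIndex_right]
    exact rmc inf_le_right
  have h3 : Nat.card ↥(D ⊓ V c) ≤ Nat.card (Z c) := by
    refine Subgroup.card_le_of_le fun d hd => ?_
    exact (h.rt c).fix a (h.AB c ha) hmv d hd.2 (hD d hd.1)
  rw [h.card c] at h2
  have hc := h.one_lt c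
  have h4 : Nat.card (Z c) * Nat.card (Z c) ≤ D.relIndex (V c) * Nat.card (Z c) := by
    calc Nat.card (Z c) * Nat.card (Z c) = Nat.card (Z c) ^ 2 := by ring
      _ = D.relIndex (V c) * Nat.card ↥(D ⊓ V c) := h2.symm
      _ ≤ _ := Nat.mul_le_mul_left _ h3
  exact Nat.le_of_mul_le_mul_right h4 (by omega)

end mv

end Fr

section sup

variable {A B : Subgroup G}

theorem comm_sup (hA : ∀ a ∈ A, ∀ a' ∈ A, a * a' = a' * a) (hB : ∀ a ∈ B, ∀ a' ∈ B, a * a' = a' * a)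
    (hAB : ∀ a ∈ A, ∀ b ∈ B, a * b = b * a) : ∀ a ∈ A ⊔ B, ∀ b ∈ A ⊔ B, a * b = b * a := by
  intro x hx y hy
  obtain ⟨a, ha, b, hb, rfl⟩ := OmThm.SideBase.mem_sup_comm hAB hx
  obtain ⟨a', ha', b', hb', rfl⟩ := OmThm.SideBase.mem_sup_comm hAB hy
  calc a * b * (a' * b') = a * (b * a') * b' := by group
    _ = (a * a') * (b * b') := by rw [← hAB a' ha' b hb]; group
    _ = (a' * a) * (b' * b) := by rw [hA a ha a' ha', hB b hb b' hb']
    _ = a' * (a * b') * b := by group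
    _ = a' * b' * (a * b) := by rw [hAB a ha b' hb']; group

theorem sq_sup (hA : ∀ a ∈ A, a * a = 1) (hB : ∀ a ∈ B, a * a = 1)
    (hAB : ∀ a ∈ A, ∀ b ∈ B, a * b = b * a) : ∀ a ∈ A ⊔ B, a * a = 1 := by
  intro x hx
  obtain ⟨a, ha, b, hb, rfl⟩ := OmThm.SideBase.mem_sup_comm hAB hx
  calc a * b * (a * b) = a * (b * a) * b := by group
    _ = (a * a) * (b * b) := by rw [← hAB a ha b hb]; group
    _ = 1 := by rw [hA a ha, hB b hb, one_mul]

theorem comm_sup_right {C : Subgroup G} (hA : ∀ c ∈ C, ∀ a ∈ A, c * a = a * c)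
    (hB : ∀ c ∈ C, ∀ b ∈ B, c * b = b * c) : ∀ c ∈ C, ∀ x ∈ A ⊔ B, c * x = x * c := by
  intro c hc x hx
  have h1 : A ⊔ B ≤ centralizer ({c} : Set G) :=
    sup_le (fun a ha => mem_centralizer_singleton_iff.2 (hA c hc a ha).symm)
      fun b hb => mem_centralizer_singleton_iff.2 (hB c hc b hb).symm
  exact (mem_centralizer_singleton_iff.1 (h1 hx)).symm

end sup

namespace Fr

variable [Finite G] [Finite ι] {O Q B : Subgroup G} {V Z A : ι → Subgroup G} {col : ι → Bool}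
  {N : Bool → Subgroup G}

/-- **(4)** -/
theorem four (h : Fr O Q B V Z A col N) {x : G} (hx : Mv B V Z col N x) {e : G → ι → G} (he : Co V e) {b c : ι}
    (hcol : col c = col b) (hWc : ∀ w ∈ cj x (V b), ∀ i, ∀ v ∈ V i, w * v = v * w) {z' : G}
    (hz' : z' ∈ cj x (Z b)) (hz'c : e z' c ≠ 1) : cj x (V b) ≤ ⨆ i, V i := by
  obtain ⟨l, hlQ, hlN, hlV, hloff, hlZ⟩ := h.ell c
  obtain ⟨a, ha, hau⟩ := h.exists_mover c
  have haB := h.AB c ha
  have haQ : a ∈ normalizer (Q : Set G) := h.BQ haB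
  have haact : ∀ i, ∀ v ∈ V i, a * v * a⁻¹ ∈ V i := fun i v hv => h.BV haB hv
  have hlact : ∀ i, ∀ v ∈ V i, l * v * l⁻¹ ∈ V i := by
    intro i v hv
    by_cases hi : i = c
    · subst hi; exact (mem_normalizer_iff.1 hlV v).1 hv
    · rw [hloff i hi v hv, mul_inv_cancel_right]; exact hv
  set W := cj l (cj x (V b)) with hW
  set ZW := cj l (cj x (Z b)) with hZW
  set Wa := cj a W with hWa
  set ZWa := cj a ZW with hZWa
  have hW'Q : cj x (V b) ≤ Q := fun w hw => h.memQ w (h.WB hx b hw) (hWc w hw)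
  have hWQ : W ≤ Q := by
    have := cj_mono l hW'Q
    rwa [cj_eq_of_mem_normalizer hlQ] at this
  have hWaQ : Wa ≤ Q := by
    have := cj_mono a hWQ
    rwa [cj_eq_of_mem_normalizer haQ] at this
  have rW : Rt Q W ZW := ((h.rtx hx b).mono h.QB).conj hlQ
  have rWa : Rt Q Wa ZWa := rW.conj haQ
  rw [hcol] at hlN
  have hlN' : cj l (N (col b)) = N (col b) := cj_eq_of_mem_normalizer hlN
  have haN' : cj a (N (col b)) = N (col b) := cj_eq_of_mem_normalizer (h.AN c (col b) ha)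
  have hWN : W ≤ N (col b) := (cj_mono l (h.WN hx b)).trans hlN'.le
  have hWaN : Wa ≤ N (col b) := (cj_mono a hWN).trans haN'.le
  have hZWW : ZW ≤ W := cj_mono l (cj_mono x (h.ZV b))
  -- the components of the elements of `ZW`
  have hZ' : ∀ z ∈ cj x (Z b), z ∈ ⨆ i, V i ∧ ∀ i, e z i ∈ Z i := fun z hz =>
    he.mem_of_sup h.ZV (h.Zx_le hx hz)
  have hcomp : ∀ y ∈ ZW, y ∈ ⨆ i, V i ∧ (∃ z ∈ Z c, e y c = l * z * l⁻¹) := by
    intro y hy
    have h1 := hZ' _ (mem_cj'.1 hy)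
    have h2 := he.conj hlact h1.1
    have e1 : l * (l⁻¹ * y * l) * l⁻¹ = y := by group
    rw [e1] at h2
    exact ⟨h2.1, _, h1.2 c, h2.2 c⟩
  -- claim A
  have hA : ∀ y ∈ ZW, y ∈ ZWa → e y c = 1 := by
    intro y hy hya
    obtain ⟨hyV, z₁, hz₁, e₁⟩ := hcomp y hy
    obtain ⟨hyV₂, z₂, hz₂, e₂⟩ := hcomp _ (mem_cj'.1 hya)
    have h2 := (he.conj haact hyV₂).2 c
    have e3 : a * (a⁻¹ * y * a) * a⁻¹ = y := by group
    rw [e3, e₂] at h2
    set u := l * z₂ * l⁻¹ with hu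
    have huV : u ∈ V c := hlact c _ (h.ZV c hz₂)
    have h3 : a * u * a⁻¹ * u⁻¹ = l * (z₁ * z₂⁻¹) * l⁻¹ := by
      rw [← h2, e₁, hu]; group
    have h4 : z₁ * z₂⁻¹ = 1 := hlZ _ (mul_mem hz₁ (inv_mem hz₂)) (by
      rw [← h3]; exact (h.rt c).com a haB u huV)
    rw [h4, mul_one, mul_inv_cancel] at h3
    have h5 : a * u = u * a := mul_inv_eq_iff_eq_mul.1 (mul_inv_eq_one.1 h3)
    have h6 : u ∈ Z c := (h.rt c).fix a haB hau u huV h5
    have h7 : z₂ = 1 := hlZ _ hz₂ h6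
    rw [h2, hu, h7]; group
  set A₀ := A c ⊓ centralizer (V c : Set G) with hA₀
  have hA₀Q : A₀ ≤ Q := fun g hg => h.AQ hg.1 fun v hv => (mem_centralizer_iff.1 hg.2 v hv).symm
  have haA₀ : ∀ g ∈ A₀, a * g = g * a := fun g hg => h.Acomm c a ha g hg.1
  have hcard : Nat.card (A c) ≤ Nat.card (Z c) * Nat.card A₀ := by
    have h1 : A₀.relIndex (A c) * Nat.card A₀ = Nat.card (A c) := rmc inf_le_left
    have h2 : A₀.relIndex (A c) ≤ Nat.card (Z c) := by
      rw [hA₀, inf_comm, inf_relIndex_right]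
      exact h.Aidx c
    rw [← h1]
    exact Nat.mul_le_mul_right _ h2
  have hζ : l * z' * l⁻¹ ∈ ZW := conj_mem_cj hz'
  have hζV := he.conj hlact (hZ' z' hz').1
  have hWsq : ∀ w ∈ W, w * w = 1 := by
    intro w hw
    have h1 := h.sq b _ (mem_cj'.1 (mem_cj'.1 hw))
    calc w * w = l * (x * ((x⁻¹ * (l⁻¹ * w * l) * x) * (x⁻¹ * (l⁻¹ * w * l) * x)) * x⁻¹) * l⁻¹ := by group
      _ = 1 := by rw [h1]; group
  have hWcomm : ∀ w ∈ W, ∀ w' ∈ W, w * w' = w' * w := fun w hw w' hw' => h.Ncomm _ w (hWN hw) w' (hWN hw')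
  have hA₀VV : ∀ g ∈ A₀, ∀ v ∈ ⨆ i, V i, g * v = v * g := fun g hg v hv => h.QVV (hA₀Q hg) hv
  have hWVV : ∀ g ∈ W, ∀ v ∈ ⨆ i, V i, g * v = v * g := fun g hg v hv => h.QVV (hWQ hg) hv
  have hA₀comm : ∀ g ∈ A₀, ∀ g' ∈ A₀, g * g' = g' * g := fun g hg g' hg' => h.Acomm c g hg.1 g' hg'.1
  have hA₀O : A₀ ≤ O := inf_le_left.trans (h.AO c)
  have hWO : W ≤ O := hWN.trans (h.NO _)
  by_cases hmv : ∃ e₀ ∈ A₀, ∃ y₀ ∈ W, e₀ * y₀ ≠ y₀ * e₀
  · -- (a)
    exfalso
    obtain ⟨e₀, he₀, y₀, hy₀, hne⟩ := hmv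
    obtain ⟨y, hy, hyζ⟩ := rW.full e₀ (hA₀Q he₀) ⟨y₀, hy₀, hne⟩ _ hζ
    set ζ := l * z' * l⁻¹ with hζdef
    set η := ζ * (a * ζ * a⁻¹) with hη
    have haζV := he.conj haact hζV.1
    have hηV : η ∈ ⨆ i, V i := mul_mem hζV.1 haζV.1
    have hy' : e₀ * (y * (a * y * a⁻¹)) * e₀⁻¹ * (y * (a * y * a⁻¹))⁻¹ = η := by
      have h1 : e₀ * y = ζ * y * e₀ := by rw [← hyζ]; group
      have h2 : e₀ * (a * y * a⁻¹) = a * ζ * a⁻¹ * (a * y * a⁻¹) * e₀ := by
        have h3 : e₀ * a = a * e₀ := (haA₀ e₀ he₀).symm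
        have h4 : e₀ * a⁻¹ = a⁻¹ * e₀ := (show Commute e₀ a from h3).inv_right
        calc e₀ * (a * y * a⁻¹) = (e₀ * a) * y * a⁻¹ := by group
          _ = a * (e₀ * y) * a⁻¹ := by rw [h3]; group
          _ = a * ζ * y * (e₀ * a⁻¹) := by rw [h1]; group
          _ = _ := by rw [h4]; group
      have h5 : y * (a * ζ * a⁻¹) = a * ζ * a⁻¹ * y := hWVV y hy _ haζV.1
      have h6 : e₀ * (y * (a * y * a⁻¹)) = η * (y * (a * y * a⁻¹)) * e₀ := by
        calc e₀ * (y * (a * y * a⁻¹)) = (e₀ * y) * (a * y * a⁻¹) := by group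
          _ = ζ * y * (e₀ * (a * y * a⁻¹)) := by rw [h1]; group
          _ = ζ * (y * (a * ζ * a⁻¹)) * (a * y * a⁻¹) * e₀ := by rw [h2]; group
          _ = _ := by rw [h5, hη]; group
      rw [h6]; group
    -- `η ∈ Z c`
    obtain ⟨-, z₁, hz₁, e₁⟩ := hcomp ζ hζ
    have hζc : e ζ c ∈ V c := he.mem ζ hζV.1 c
    have hηc : e η c = e ζ c * (a * e ζ c * a⁻¹) := by
      rw [hη, he.mul _ hζV.1 _ haζV.1, haζV.2]
    have hηc' : e η c = a * e ζ c * a⁻¹ * (e ζ c)⁻¹ := by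
      have h1 : (e ζ c)⁻¹ = e ζ c := inv_eq_of_mul_eq_one_left (h.sq c _ hζc)
      rw [hηc, h1, h.comm c c _ hζc _ (haact c _ hζc)]
    have hηZ : e η c ∈ Z c := by rw [hηc']; exact (h.rt c).com a haB _ hζc
    have hηe : η = e η c := by
      refine he.ext' hηV ((le_iSup V c) (h.ZV c hηZ)) fun i => ?_
      by_cases hi : i = c
      · rw [hi, he.self c _ (h.ZV c hηZ)]
      · rw [he.off c _ (h.ZV c hηZ) i hi, hη, he.mul _ hζV.1 _ haζV.1, haζV.2,
          h.Aoff c i hi a ha _ (he.mem ζ hζV.1 i), mul_inv_cancel_right, h.sq i _ (he.mem ζ hζV.1 i)]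
    have hη1 : η ≠ 1 := by
      intro h0
      rw [h0, he.one] at hηc'
      have h1 : a * e ζ c = e ζ c * a := mul_inv_eq_iff_eq_mul.1 (mul_inv_eq_one.1 hηc'.symm)
      have h2 := (h.rt c).fix a haB hau _ hζc h1
      rw [e₁] at h2
      have h3 := hlZ _ hz₁ h2
      have h4 := hζV.2 c
      rw [e₁, h3] at h4
      apply hz'c
      calc e z' c = l⁻¹ * (l * e z' c * l⁻¹) * l := by group
        _ = 1 := by rw [← h4]; group
    -- the groups
    set X := (W ⊔ Wa) ⊔ ⨆ i, V i with hX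
    have hWaVV : ∀ g ∈ Wa, ∀ v ∈ ⨆ i, V i, g * v = v * g := fun g hg v hv => h.QVV (hWaQ hg) hv
    have hWWa : ∀ g ∈ W, ∀ g' ∈ Wa, g * g' = g' * g := fun g hg g' hg' => h.Ncomm _ g (hWN hg) g' (hWaN hg')
    have hWaWa : ∀ g ∈ Wa, ∀ g' ∈ Wa, g * g' = g' * g := fun g hg g' hg' => h.Ncomm _ g (hWaN hg) g' (hWaN hg')
    have hWW : ∀ g ∈ W ⊔ Wa, ∀ g' ∈ W ⊔ Wa, g * g' = g' * g := comm_sup hWcomm hWaWa hWWa
    have hWWVV : ∀ g ∈ W ⊔ Wa, ∀ v ∈ ⨆ i, V i, g * v = v * g := fun g hg v hv =>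
      (comm_sup_right (fun c hc a ha => (hWVV a ha c hc).symm) (fun c hc a ha => (hWaVV a ha c hc).symm) v hv g hg).symm
    have hXcomm : ∀ g ∈ X, ∀ g' ∈ X, g * g' = g' * g := comm_sup hWW h.commVV hWWVV
    have hWasq : ∀ w ∈ Wa, w * w = 1 := by
      intro w hw
      have h1 := hWsq _ (mem_cj'.1 hw)
      calc w * w = a * ((a⁻¹ * w * a) * (a⁻¹ * w * a)) * a⁻¹ := by group
        _ = 1 := by rw [h1]; group
    have hXsq : ∀ g ∈ X, g * g = 1 := sq_sup (sq_sup hWsq hWasq hWWa) (h.sqVV he) hWWVV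
    have hXO : X ≤ O := sup_le (sup_le hWO (hWaN.trans (h.NO _))) h.VVO
    have hWX : W ≤ X := le_sup_left.trans le_sup_left
    have hVX : (⨆ i, V i) ≤ X := le_sup_right
    have hyX : y * (a * y * a⁻¹) ∈ X := mul_mem (hWX hy) ((le_sup_right.trans le_sup_left : Wa ≤ X) (conj_mem_cj hy))
    set C := X ⊓ centralizer (A₀ : Set G) with hC
    have hCcomm : ∀ g ∈ C, ∀ g' ∈ W, g * g' = g' * g := fun g hg g' hg' => hXcomm g hg.1 g' (hWX hg')
    have hyn : y * (a * y * a⁻¹) ∉ C ⊔ W := by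
      intro hmem
      obtain ⟨u, hu, w, hw, e2⟩ := OmThm.SideBase.mem_sup_comm hCcomm hmem
      have hue : e₀ * u = u * e₀ := mem_centralizer_iff.1 hu.2 e₀ he₀
      have h1 : η = e₀ * w * e₀⁻¹ * w⁻¹ := by
        rw [← hy', e2]
        have h2 : u * (e₀ * w * e₀⁻¹) = e₀ * w * e₀⁻¹ * u := by
          have h3 : e₀ * w * e₀⁻¹ = (e₀ * w * e₀⁻¹ * w⁻¹) * w := by group
          have h4 : e₀ * w * e₀⁻¹ ∈ X := by
            rw [h3]; exact mul_mem (hWX (hZWW (rW.com e₀ (hA₀Q he₀) w hw))) (hWX hw)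
          exact hXcomm u hu.1 _ h4
        calc e₀ * (u * w) * e₀⁻¹ * (u * w)⁻¹ = (e₀ * u) * w * e₀⁻¹ * w⁻¹ * u⁻¹ := by group
          _ = u * (e₀ * w * e₀⁻¹) * w⁻¹ * u⁻¹ := by rw [hue]; group
          _ = e₀ * w * e₀⁻¹ * (u * w⁻¹) * u⁻¹ := by rw [h2]; group
          _ = e₀ * w * e₀⁻¹ * w⁻¹ := by
            rw [(show Commute u w from hCcomm u hu w hw).inv_right.eq]; group
      have h5 : η ∈ ZW := by rw [h1]; exact rW.com e₀ (hA₀Q he₀) w hw
      obtain ⟨-, z₂, hz₂, e₂⟩ := hcomp η h5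
      rw [e₂] at hηZ
      have h6 := hlZ _ hz₂ hηZ
      rw [h6, mul_one, mul_inv_cancel] at e₂
      rw [e₂] at hηe
      exact hη1 hηe
    have hCX : C ⊔ W ≤ X := sup_le inf_le_left hWX
    have hqb := h.one_lt b
    have hqc := h.one_lt c
    -- (i)
    have i1 : Nat.card (Z b) ≤ C.relIndex (C ⊔ W) := by
      rw [rel_sup hCcomm]
      have h1 : C.relIndex W * Nat.card ↥(C ⊓ W) = Nat.card W := by
        rw [← inf_relIndex_right]
        exact rmc inf_le_right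
      have h2 : Nat.card ↥(C ⊓ W) ≤ Nat.card (Z b) := by
        have h3 : C ⊓ W ≤ ZW := fun w hw =>
          rW.fix e₀ (hA₀Q he₀) ⟨y₀, hy₀, hne⟩ w hw.2 (mem_centralizer_iff.1 hw.1.2 e₀ he₀)
        have h4 := Subgroup.card_le_of_le h3
        rwa [hZW, card_cj, card_cj] at h4
      rw [hW, card_cj, card_cj, h.card b] at h1
      have h5 : Nat.card (Z b) * Nat.card (Z b) ≤ C.relIndex W * Nat.card (Z b) := by
        calc Nat.card (Z b) * Nat.card (Z b) = Nat.card (Z b) ^ 2 := by ring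
          _ = C.relIndex W * Nat.card ↥(C ⊓ W) := h1.symm
          _ ≤ _ := Nat.mul_le_mul_left _ h2
      exact Nat.le_of_mul_le_mul_right h5 (by omega)
    -- (ii)
    have i2 : 2 ≤ (C ⊔ W).relIndex X := by
      have h1 : (C ⊔ W).relIndex X ≠ 0 := rne _ _
      have h2 : (C ⊔ W).relIndex X ≠ 1 := fun h3 => hyn (relIndex_eq_one.1 h3 hyX)
      omega
    -- (iii)
    set D := A₀ ⊓ X with hD
    have hDC : D ≤ C := fun d hd => ⟨hd.2, mem_centralizer_iff.2 fun g hg => hA₀comm g hg d hd.1⟩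
    have hVC : (⨆ i, V i) ≤ C := fun v hv => ⟨hVX hv, mem_centralizer_iff.2 fun g hg => hA₀VV g hg v hv⟩
    have i3 : Nat.card (Z c) ≤ D.relIndex C :=
      (h.VV_idx (D := D) hx ha hau fun d hd => haA₀ d hd.1).trans (relIndex_le_of_le_right hVC (rne _ _))
    have i4 : D.relIndex X = D.relIndex C * C.relIndex (C ⊔ W) * (C ⊔ W).relIndex X := by
      rw [relIndex_mul_relIndex D C (C ⊔ W) hDC le_sup_left,
        relIndex_mul_relIndex D (C ⊔ W) X (hDC.trans le_sup_left) hCX]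
    -- (iv)
    set A₁ := A₀ ⊓ centralizer (W : Set G) with hA₁
    have hA₁W : ∀ g ∈ A₁, ∀ w ∈ W, g * w = w * g := fun g hg w hw => (mem_centralizer_iff.1 hg.2 w hw).symm
    have hA₁Wa : ∀ g ∈ A₁, ∀ w ∈ Wa, g * w = w * g := by
      intro g hg w hw
      have h1 := hA₁W g hg _ (mem_cj'.1 hw)
      have h2 : a * g = g * a := haA₀ g hg.1
      calc g * w = (g * a) * (a⁻¹ * w * a) * a⁻¹ := by group
        _ = a * (g * (a⁻¹ * w * a)) * a⁻¹ := by rw [← h2]; group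
        _ = w * (a * g) * a⁻¹ := by rw [h1]; group
        _ = w * g := by rw [h2]; group
    have hA₁X : ∀ g ∈ A₁, ∀ w ∈ X, g * w = w * g :=
      comm_sup_right (comm_sup_right hA₁W hA₁Wa) fun g hg v hv => hA₀VV g hg.1 v hv
    have i5 : Nat.card ↥(A₁ ⊔ X) ≤ Nat.card (A c) := by
      refine h.Amax c _ (sup_le (inf_le_left.trans hA₀O) hXO) ?_ ?_
      · exact sq_sup (fun g hg => h.Asq c g hg.1.1) hXsq hA₁X
      · exact comm_sup (fun g hg g' hg' => hA₀comm g hg.1 g' hg'.1) hXcomm hA₁X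
    have i6 : D.relIndex X ≤ A₁.relIndex (A₁ ⊔ X) := by
      rw [rel_sup hA₁X, ← inf_relIndex_right A₁ X]
      exact relIndex_le_of_le_left (fun g hg => ⟨hg.1.1, hg.2⟩) (rne _ _)
    have i7 : A₁.relIndex (A₁ ⊔ X) * Nat.card A₁ = Nat.card ↥(A₁ ⊔ X) := rmc le_sup_left
    have i8 : Nat.card A₀ ≤ Nat.card (Z b) * Nat.card A₁ := by
      have h1 : A₁.relIndex A₀ * Nat.card A₁ = Nat.card A₀ := rmc inf_le_left
      have h2 : A₁.relIndex A₀ ≤ Nat.card (Z b) := by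
        rw [hA₁, inf_comm, inf_relIndex_right]
        have h3 := (relIndex_le_of_le_right (H := centralizer (W : Set G)) hA₀Q (rne _ _)).trans rW.idx
        rwa [hZW, card_cj, card_cj] at h3
      rw [← h1]
      exact Nat.mul_le_mul_right _ h2
    have hA₁pos : 0 < Nat.card A₁ := Nat.card_pos
    have hApos : 0 < Nat.card (A c) := Nat.card_pos
    have i9 : 2 * Nat.card (A c) ≤ Nat.card (A c) := by
      calc 2 * Nat.card (A c) ≤ 2 * (Nat.card (Z c) * Nat.card A₀) := by gcongr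
        _ ≤ 2 * (Nat.card (Z c) * (Nat.card (Z b) * Nat.card A₁)) := by gcongr
        _ = (Nat.card (Z c) * Nat.card (Z b) * 2) * Nat.card A₁ := by ring
        _ ≤ (D.relIndex C * C.relIndex (C ⊔ W) * (C ⊔ W).relIndex X) * Nat.card A₁ := by gcongr
        _ = D.relIndex X * Nat.card A₁ := by rw [i4]
        _ ≤ A₁.relIndex (A₁ ⊔ X) * Nat.card A₁ := by gcongr
        _ = Nat.card ↥(A₁ ⊔ X) := i7
        _ ≤ Nat.card (A c) := i5
    omega
  · -- (b)
    push Not at hmv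
    have hE₀comm : ∀ g ∈ W, ∀ g' ∈ A₀ ⊔ ⨆ i, V i, g * g' = g' * g :=
      comm_sup_right (fun w hw g hg => (hmv g hg w hw).symm) hWVV
    have hle : Nat.card ↥(W ⊔ (A₀ ⊔ ⨆ i, V i)) ≤ Nat.card (A c) := by
      refine h.Amax c _ (sup_le hWO (sup_le hA₀O h.VVO)) ?_ ?_
      · exact sq_sup hWsq (sq_sup (fun g hg => h.Asq c g hg.1) (h.sqVV he) hA₀VV) hE₀comm
      · exact comm_sup hWcomm (comm_sup hA₀comm h.commVV hA₀VV) hE₀comm
    have hge : Nat.card (A c) ≤ Nat.card ↥(A₀ ⊔ ⨆ i, V i) := by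
      have h1 : A₀.relIndex (A₀ ⊔ ⨆ i, V i) * Nat.card A₀ = Nat.card ↥(A₀ ⊔ ⨆ i, V i) := rmc le_sup_left
      rw [rel_sup hA₀VV] at h1
      rw [← h1]
      exact hcard.trans (Nat.mul_le_mul_right _ (h.VV_idx hx ha hau haA₀))
    have hEq : A₀ ⊔ (⨆ i, V i) = W ⊔ (A₀ ⊔ ⨆ i, V i) :=
      Subgroup.eq_of_le_of_card_ge le_sup_right (hle.trans hge)
    have hWE : W ≤ A₀ ⊔ ⨆ i, V i := by rw [hEq]; exact le_sup_left
    -- `[y, g] = [y ^ a, g]`
    have hkey : ∀ g ∈ Q, ∀ y ∈ W, e (g * y * g⁻¹ * y⁻¹) c = 1 := by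
      intro g hg y hy
      have h1 := rW.com g hg y hy
      refine hA _ h1 ?_
      obtain ⟨e₀, he₀, v, hv, e1⟩ := OmThm.SideBase.mem_sup_comm hA₀VV (hWE hy)
      have h2 := he.e_comm haact hv c
      have h3 : a * y * a⁻¹ = (a * v * a⁻¹ * v⁻¹) * y := by
        have h4 := hA₀VV e₀ he₀ v hv
        have h5 := hA₀VV e₀ he₀ _ h2.1
        calc a * y * a⁻¹ = (a * e₀) * v * a⁻¹ := by rw [e1]; group
          _ = e₀ * (a * v * a⁻¹ * v⁻¹) * v := by rw [haA₀ e₀ he₀]; group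
          _ = _ := by rw [h5, e1]; group
      have h4 : g * (a * y * a⁻¹) * g⁻¹ * (a * y * a⁻¹)⁻¹ = g * y * g⁻¹ * y⁻¹ := by
        rw [h3]
        set ξ := a * v * a⁻¹ * v⁻¹ with hξ
        have h5 : g * ξ = ξ * g := h.QVV hg h2.1
        have h6 : (g * y * g⁻¹ * y⁻¹) * ξ⁻¹ = ξ⁻¹ * (g * y * g⁻¹ * y⁻¹) :=
          hWVV _ (hZWW h1) _ (inv_mem h2.1)
        calc g * (ξ * y) * g⁻¹ * (ξ * y)⁻¹ = (g * ξ) * y * g⁻¹ * y⁻¹ * ξ⁻¹ := by group
          _ = ξ * ((g * y * g⁻¹ * y⁻¹) * ξ⁻¹) := by rw [h5]; group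
          _ = _ := by rw [h6]; group
      rw [← h4]
      exact rWa.com g hg _ (conj_mem_cj hy)
    have hQW : ∀ g ∈ Q, ∀ y ∈ W, g * y = y * g := by
      by_contra hcon
      push Not at hcon
      obtain ⟨g, hg, y, hy, hne⟩ := hcon
      obtain ⟨w, hw, e1⟩ := rW.full g hg ⟨y, hy, hne⟩ _ hζ
      have h1 := hkey g hg w hw
      rw [e1, hζV.2 c] at h1
      apply hz'c
      calc e z' c = l⁻¹ * (l * e z' c * l⁻¹) * l := by group
        _ = 1 := by rw [h1]; group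
    intro w hw
    refine h.three ⟨(h.NO _) (h.WN hx b hw), hW'Q hw, fun q hq => ?_, ?_⟩
    · have h1 := hQW _ ((mem_normalizer_iff.1 hlQ q).1 hq) _ (conj_mem_cj hw)
      calc q * w = l⁻¹ * ((l * q * l⁻¹) * (l * w * l⁻¹)) * l := by group
        _ = w * q := by rw [h1]; group
    · have h1 := h.sq b _ (mem_cj'.1 hw)
      calc w * w = x * ((x⁻¹ * w * x) * (x⁻¹ * w * x)) * x⁻¹ := by group
        _ = 1 := by rw [h1]; group

end Fr

/-! ### (5) -/

/-- the elements of `V*` with trivial components at the indices `c` with `p c` -/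
def CO {V : ι → Subgroup G} {e : G → ι → G} (he : Co V e) (p : ι → Prop) : Subgroup G where
  carrier := {v | v ∈ ⨆ i, V i ∧ ∀ c, p c → e v c = 1}
  one_mem' := ⟨one_mem _, fun c _ => he.one c⟩
  mul_mem' := by
    rintro v w ⟨h1, h2⟩ ⟨h3, h4⟩
    exact ⟨mul_mem h1 h3, fun c hc => by rw [he.mul v h1 w h3, h2 c hc, h4 c hc, one_mul]⟩
  inv_mem' := by
    rintro v ⟨h1, h2⟩
    exact ⟨inv_mem h1, fun c hc => by rw [he.inv h1, h2 c hc, inv_one]⟩

namespace Fr

variable [Finite G] [Finite ι] {O Q B : Subgroup G} {V Z A : ι → Subgroup G} {col : ι → Bool}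
  {N : Bool → Subgroup G}

theorem good_of (h : Fr O Q B V Z A col N) {x : G} (hx : Mv B V Z col N x) {e : G → ι → G} (he : Co V e) {b c : ι}
    (hcol : col c = col b) {z : G} (hz : z ∈ cj x (Z b)) (hzc : e z c ≠ 1) : cj x (Z b) = Z c := by
  have key : ∀ i, cj x (Z b) = Z i → cj x (Z b) = Z c := by
    intro i hi
    have h1 : z ∈ V i := h.ZV i (hi ▸ hz)
    have h2 : c = i := by
      by_contra hne
      exact hzc (he.off i z h1 c hne)
    rw [h2]; exact hi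
  by_cases hW : ∃ w ∈ cj x (V b), ∃ i, ∃ v ∈ V i, w * v ≠ v * w
  · obtain ⟨w, hw, i, v, hv, hne⟩ := hW
    exact key i (h.one hx hw hv hne)
  · push Not at hW
    obtain ⟨i, hi⟩ := h.two hx (h.four hx he hcol hW hz hzc)
    exact key i hi

/-- **LEMMA PERM** (helper892, #23931) -/
theorem perm (h : Fr O Q B V Z A col N) {x : G} (hx : Mv B V Z col N x) (b : ι) :
    ∃ c, col c = col b ∧ cj x (Z b) = Z c := by
  classical
  obtain ⟨e, he⟩ := exists_co h.comm h.ind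
  by_contra hbad
  set a := col b with ha
  let good : ι → Prop := fun i => ∃ c, col c = col i ∧ cj x (Z i) = Z c
  obtain ⟨z, hz, hxz, hzb⟩ := hx.z a
  have hsub : (⨆ (i) (_ : col i = a), Z i) ≤ (⨆ (i) (_ : col i = a ∧ good i), Z i) ⊔
      ⨆ (i) (_ : col i = a ∧ ¬ good i), Z i := by
    refine iSup₂_le fun i hi => ?_
    by_cases hg : good i
    · exact (le_iSup₂ (f := fun i (_ : col i = a ∧ good i) => Z i) i ⟨hi, hg⟩).trans le_sup_left
    · exact (le_iSup₂ (f := fun i (_ : col i = a ∧ ¬ good i) => Z i) i ⟨hi, hg⟩).trans le_sup_right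
  have hleG : (⨆ (i) (_ : col i = a ∧ good i), Z i) ≤ ⨆ i, V i :=
    iSup₂_le fun i _ => (h.ZV i).trans (le_iSup V i)
  have hleD : (⨆ (i) (_ : col i = a ∧ ¬ good i), Z i) ≤ ⨆ i, V i :=
    iSup₂_le fun i _ => (h.ZV i).trans (le_iSup V i)
  obtain ⟨g, hg, d, hd, rfl⟩ := OmThm.SideBase.mem_sup_comm
    (fun p hp q hq => h.commVV p (hleG hp) q (hleD hq)) (hsub hz)
  -- `z` has trivial components outside the colour `a`
  have hz1 : g * d ∈ CO he (fun c => col c ≠ a) := by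
    refine (iSup₂_le (f := fun i (_ : col i = a) => Z i) fun i hi v hv => ?_) hz
    refine ⟨(le_iSup V i) (h.ZV i hv), fun c hc => he.off i v (h.ZV i hv) c ?_⟩
    rintro rfl
    exact hc hi
  have hxg : x * g * x⁻¹ ∈ CO he (fun c => col c ≠ a) := by
    have h1 : (⨆ (i) (_ : col i = a ∧ good i), Z i) ≤ cj x⁻¹ (CO he (fun c => col c ≠ a)) := by
      refine iSup₂_le fun i hi v hv => ?_
      rw [mem_cj', inv_inv]
      obtain ⟨c', hc', e1⟩ := hi.2
      have h2 : x * v * x⁻¹ ∈ Z c' := by rw [← e1]; exact conj_mem_cj hv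
      refine ⟨(le_iSup V c') (h.ZV c' h2), fun c hc => he.off c' _ (h.ZV c' h2) c ?_⟩
      rintro rfl
      exact hc (hc'.trans hi.1)
    have h2 := mem_cj'.1 (h1 hg)
    rwa [inv_inv] at h2
  have hxd : x * d * x⁻¹ ∈ CO he (fun c => col c = a) := by
    have h1 : (⨆ (i) (_ : col i = a ∧ ¬ good i), Z i) ≤ cj x⁻¹ (CO he (fun c => col c = a)) := by
      refine iSup₂_le fun i hi v hv => ?_
      rw [mem_cj', inv_inv]
      have h2 : x * v * x⁻¹ ∈ cj x (Z i) := conj_mem_cj hv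
      refine ⟨(he.mem_of_sup h.ZV (h.Zx_le hx h2)).1, fun c hc => ?_⟩
      by_contra hne
      exact hi.2 ⟨c, hc.trans hi.1.symm, h.good_of hx he (hc.trans hi.1.symm) h2 hne⟩
    have h2 := mem_cj'.1 (h1 hd)
    rwa [inv_inv] at h2
  have hprod : (x * g * x⁻¹) * (x * d * x⁻¹) = g * d := by
    calc (x * g * x⁻¹) * (x * d * x⁻¹) = (x * (g * d)) * x⁻¹ := by group
      _ = g * d := by rw [hxz, mul_inv_cancel_right]
  have hd1 : x * d * x⁻¹ = 1 := by
    refine he.ext _ hxd.1 fun c => ?_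
    by_cases hc : col c = a
    · exact hxd.2 c hc
    · have h1 := he.mul _ hxg.1 _ hxd.1 c
      rw [hprod, hz1.2 c hc, hxg.2 c hc, one_mul] at h1
      exact h1.symm
  have hd0 : d = 1 := by
    calc d = x⁻¹ * (x * d * x⁻¹) * x := by group
      _ = 1 := by rw [hd1]; group
  rw [hd0, mul_one] at hzb
  refine hzb b ha.symm ((iSup₂_le (f := fun i (_ : col i = a ∧ good i) => Z i) fun i hi => ?_) hg)
  refine (h.ZV i).trans (le_iSup₂ (f := fun i (_ : i ≠ b) => V i) i ?_)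
  rintro rfl
  exact hbad hi.2

end Fr

end Cfsg.Agent.Omega.NOThreeL.RWide

end

-- merged: Cfsg.Agent.Mrg.Omega.NOThreeL.RWide.PermEnd
section

/-!
# LEMMA PERM: Frattini; the group `G₀ = ⟨C_G(Z_l : l ≠ i) : i⟩` (helper892 #23931 (6))

* `Fr.perm_all` : `B = S ∩ C(⨆ Z)`: every `x ∈ D` permutes the `Z b` of each colour;
* `GZ Z := ⨆ i, C_G(⨆_{l ≠ i} Z l)`; `le_normalizer_GZ` : whoever permutes the `Z b` normalises it;
* `no_two` : `GZ Z` normalises no 2-group `≠ 1`, if a group `X ≤ N(GZ Z)` lies in no 2-local.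
-/

set_option autoImplicit false
set_option linter.unusedSectionVars false

namespace Cfsg.Agent.Omega.NOThreeL.RWide

open Subgroup Cfsg.Agent.ZN.ChoiceBase
open Cfsg.Agent.Omega.OmThm.SideBase (card_sup_comm)

universe u

variable {G : Type u} [Group G] [Finite G] {ι : Type*} [Finite ι]

/-- **LEMMA PERM for all of `D`** -/
theorem Fr.perm_all {S : Sylow 2 G} {O Q D : Subgroup G} {V Z A : ι → Subgroup G} {col : ι → Bool}
    {N : Bool → Subgroup G}
    (h : Fr O Q ((S : Subgroup G) ⊓ centralizer ((⨆ i, Z i : Subgroup G) : Set G)) V Z A col N)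
    (hSn : (S : Subgroup G) ≤ normalizer ((⨆ i, Z i : Subgroup G) : Set G))
    (hDn : D ≤ normalizer ((⨆ i, Z i : Subgroup G) : Set G))
    (hCD : centralizer ((⨆ i, Z i : Subgroup G) : Set G) ≤ D)
    (hD : ∀ x ∈ D, x ∈ normalizer (((S : Subgroup G) ⊓ centralizer ((⨆ i, Z i : Subgroup G) : Set G) : Subgroup G) : Set G) →
      Mv ((S : Subgroup G) ⊓ centralizer ((⨆ i, Z i : Subgroup G) : Set G)) V Z col N x)
    {x : G} (hx : x ∈ D) (b : ι) : ∃ c, col c = col b ∧ cj x (Z b) = Z c := by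
  have hnc : normalizer ((⨆ i, Z i : Subgroup G) : Set G) ≤
      normalizer ((centralizer ((⨆ i, Z i : Subgroup G) : Set G) : Subgroup G) : Set G) := by
    intro y hy
    apply mem_normalizer_iff_cj.2
    rw [cj_centralizer, cj_eq_of_mem_normalizer hy]
  obtain ⟨c, hc, hcn⟩ := EndFive.frattini (S := S) (hSn.trans hnc) (hnc (hDn hx))
  have hcx : c⁻¹ * x ∈ D := mul_mem (inv_mem (hCD hc)) hx
  obtain ⟨d, hd, e⟩ := h.perm (hD _ hcx hcn) b
  refine ⟨d, hd, ?_⟩
  have e1 : cj x (Z b) = cj c (cj (c⁻¹ * x) (Z b)) := by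
    rw [cj_cj, mul_inv_cancel_left]
  rw [e1, e]
  refine cj_eq_of_mem_normalizer (centralizer_le_normalizer _ (mem_centralizer_iff.2 fun z hz => ?_))
  exact mem_centralizer_iff.1 hc z ((le_iSup Z d) hz)

/-- `⟨C_G(Z_l : l ≠ i) : i⟩` -/
def GZ (Z : ι → Subgroup G) : Subgroup G := ⨆ i, centralizer ((⨆ (l) (_ : l ≠ i), Z l : Subgroup G) : Set G)

/-- Whoever permutes the `Z b` normalises `GZ Z`. -/
theorem mem_normalizer_GZ {Z : ι → Subgroup G} (hinj : Function.Injective Z) {x : G}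
    (hx : ∀ b, ∃ c, cj x (Z b) = Z c) : x ∈ normalizer (GZ Z : Set G) := by
  classical
  choose σ hσ using hx
  have hσi : Function.Injective σ := by
    intro b b' hbb
    apply hinj
    have h1 : cj x (Z b) = cj x (Z b') := by rw [hσ, hσ, hbb]
    have h2 : cj x⁻¹ (cj x (Z b)) = cj x⁻¹ (cj x (Z b')) := by rw [h1]
    rwa [cj_cj, cj_cj, inv_mul_cancel, cj_one, cj_one] at h2
  have hσs : Function.Surjective σ := Finite.surjective_of_injective hσi
  have hcjsup : ∀ f : ι → Subgroup G, cj x (⨆ i, f i) = ⨆ i, cj x (f i) := fun f => map_iSup _ _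
  have hcjsup2 : ∀ i, cj x (⨆ (l) (_ : l ≠ i), Z l) = ⨆ (l) (_ : l ≠ σ i), Z l := by
    intro i
    have h1 : cj x (⨆ (l) (_ : l ≠ i), Z l) = ⨆ (l) (_ : l ≠ i), cj x (Z l) := by
      change Subgroup.map _ _ = _
      rw [Subgroup.map_iSup]
      refine iSup_congr fun l => ?_
      rw [Subgroup.map_iSup]
    rw [h1]
    apply le_antisymm
    · refine iSup₂_le fun l hl => ?_
      rw [hσ]
      exact le_iSup₂ (f := fun l (_ : l ≠ σ i) => Z l) (σ l) fun h0 => hl (hσi h0)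
    · refine iSup₂_le fun l hl => ?_
      obtain ⟨m, rfl⟩ := hσs l
      rw [← hσ]
      exact le_iSup₂ (f := fun l (_ : l ≠ i) => cj x (Z l)) m fun h0 => hl (by rw [h0])
  rw [mem_normalizer_iff_cj, GZ, hcjsup]
  have h2 : ∀ i, cj x (centralizer ((⨆ (l) (_ : l ≠ i), Z l : Subgroup G) : Set G)) =
      centralizer ((⨆ (l) (_ : l ≠ σ i), Z l : Subgroup G) : Set G) := fun i => by
    rw [cj_centralizer, hcjsup2]
  simp_rw [h2]
  apply le_antisymm
  · exact iSup_le fun i => le_iSup (fun j => centralizer ((⨆ (l) (_ : l ≠ j), Z l : Subgroup G) : Set G)) (σ i)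
  · refine iSup_le fun j => ?_
    obtain ⟨i, rfl⟩ := hσs j
    exact le_iSup (fun j => centralizer ((⨆ (l) (_ : l ≠ σ j), Z l : Subgroup G) : Set G)) i

theorem injective_of_ind {V Z : ι → Subgroup G} (hi : iSupIndep V) (hZV : ∀ i, Z i ≤ V i) (hZ : ∀ i, Z i ≠ ⊥) :
    Function.Injective Z := by
  intro i j hij
  by_contra hne
  apply hZ i
  have h1 : Disjoint (V i) (V j) := hi.pairwiseDisjoint hne
  rw [eq_bot_iff]
  exact h1 (hZV i) (hij ▸ hZV j)

/-- **(6)** : `GZ Z` normalises no 2-group `≠ 1`. -/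
theorem no_two {Z : ι → Subgroup G} [Nonempty ι] {B X U : Subgroup G} (hB2 : IsPGroup 2 B)
    (hBC : B ≤ centralizer ((⨆ i, Z i : Subgroup G) : Set G))
    (hmax : ∀ T : Subgroup G, IsPGroup 2 T → B ≤ T → T ≤ centralizer ((⨆ i, Z i : Subgroup G) : Set G) → T ≤ B)
    (hZB : (⨆ i, Z i) ≤ B) (hX : X ≤ normalizer (GZ Z : Set G))
    (hnl : ∀ R : Subgroup G, IsPGroup 2 R → R ≠ ⊥ → ¬ X ≤ normalizer (R : Set G))
    (hU2 : IsPGroup 2 U) (hU1 : U ≠ ⊥) (hU : GZ Z ≤ normalizer (U : Set G)) : False := by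
  have hf : Fact (Nat.Prime 2) := ⟨Nat.prime_two⟩
  obtain ⟨i₀⟩ := ‹Nonempty ι›
  have hBG : B ≤ GZ Z := by
    refine hBC.trans (le_trans ?_
      (le_iSup (fun i => centralizer ((⨆ (l) (_ : l ≠ i), Z l : Subgroup G) : Set G)) i₀))
    exact centralizer_le (iSup₂_le fun l _ => le_iSup Z l)
  -- `C_U(B) ≠ 1`
  have hne := PLocal.OffenderStep.inf_centralizer_ne_bot U B hU2 hB2 (hBG.trans hU) hU1
  obtain ⟨⟨u, hu, huC⟩, hu1'⟩ := (Subgroup.ne_bot_iff_exists_ne_one).1 hne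
  have hu1 : u ≠ 1 := fun h0 => hu1' (Subtype.ext h0)
  have hT2 : IsPGroup 2 ↥(B ⊔ zpowers u) := by
    refine IsPGroup.to_sup_of_normal_left' hB2 (hU2.to_le (zpowers_le.2 hu)) ?_
    exact zpowers_le.2 (centralizer_le_normalizer _ huC)
  have hTB : B ⊔ zpowers u ≤ B := hmax _ hT2 le_sup_left
    (sup_le hBC (zpowers_le.2 (centralizer_le hZB huC)))
  have huG : u ∈ GZ Z := hBG (hTB ((le_sup_right : zpowers u ≤ _) (mem_zpowers u)))
  set R := ZN.o2 (GZ Z) with hR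
  have hle : U ⊓ GZ Z ≤ R := by
    refine MinSimple.VModule.le_o2 inf_le_right (hU2.to_le inf_le_left) ?_
    intro g hg
    rw [mem_normalizer_iff]
    intro y
    have h1 := (mem_normalizer_iff.1 (hU hg) y)
    refine ⟨fun hy => ⟨h1.1 hy.1, (GZ Z).mul_mem ((GZ Z).mul_mem hg hy.2) ((GZ Z).inv_mem hg)⟩,
      fun hy => ⟨h1.2 hy.1, ?_⟩⟩
    have h2 : g⁻¹ * (g * y * g⁻¹) * g ∈ GZ Z :=
      (GZ Z).mul_mem ((GZ Z).mul_mem ((GZ Z).inv_mem hg) hy.2) hg
    have e : g⁻¹ * (g * y * g⁻¹) * g = y := by group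
    rwa [e] at h2
  refine hnl R (MinSimple.VModule.o2_isPGroup _) ?_ (hX.trans (ZN.normalizer_le_normalizer_o2 _))
  intro h0
  rw [h0] at hle
  exact hu1 ((mem_bot).1 (hle ⟨hu, huG⟩))

end Cfsg.Agent.Omega.NOThreeL.RWide

end

-- merged: Cfsg.Agent.Mrg.Omega.NOThreeL.RWide.NonT
section

section


/-!
# `⟨C_G(Z_J), blocks⟩` is nonlocal, any number of levels (#24915 (B4); field `non` of `TypT`, #25339)

`B = S ∩ C_G(Z_J)`, `Z_J ≤ B`, `L k` the block groups, `G₀₀ = ⟨C_G(Z_J), L k : k⟩` (`G00 ZJ L`).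

* `NG S ZJ B L` : `N_G(B)` normalises `Z_J` and `G₀₀`, `C_G(Z)` normalises `Z_J`, the `P ∈ P*(S)` normalise `G₀₀`;
  `NG.of` : the `P ∈ P*(S)` lie in `⟨L k⟩S`, in `N_G(B)` or in `N_G(Z_J)`;
* `NG.frattini` : `N_G(Z_J)` normalises `G₀₀`;
* `NG.eq_bot` : `G₀₀` normalises no 2-group `≠ 1`;
* `NG.non` : the field `non` of `TypT`: `F i ≤ Z_J`, every `L k` lies in some `Y_j = C_G(F_l : l ≠ j)`.
-/

set_option autoImplicit false
set_option linter.unusedSectionVars false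

namespace Cfsg.Agent.Omega.NOThreeL.RWide.NonT

open Subgroup Cfsg Cfsg.Agent.ZN Cfsg.Agent.Omega.MinPar Cfsg.Agent.Omega.Frame Cfsg.Agent.Omega.FrameNOFF
open Cfsg.Agent.ZN.ChoiceBase (cj cj_mono cj_inf cj_centralizer cj_eq_of_mem_normalizer mem_cj mem_normalizer_iff_cj
  cj_cj_inv cj_inv_cj cj_cj cj_one)
open Cfsg.Agent.Omega.NOThreeL.RTree (RB)

universe u

variable {G : Type u} [Group G]

/-- `G₀₀ = ⟨C_G(Z_J), L k : k⟩` -/
def G00 {κ : Sort*} (ZJ : Subgroup G) (L : κ → Subgroup G) : Subgroup G :=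
  centralizer (ZJ : Set G) ⊔ ⨆ k, L k

theorem cent_le {κ : Sort*} (ZJ : Subgroup G) (L : κ → Subgroup G) : centralizer (ZJ : Set G) ≤ G00 ZJ L :=
  le_sup_left

theorem L_le {κ : Sort*} (ZJ : Subgroup G) (L : κ → Subgroup G) (k : κ) : L k ≤ G00 ZJ L :=
  (le_iSup L k).trans le_sup_right

/-- The situation of (B4). -/
structure NG {κ : Sort*} (S : Sylow 2 G) (ZJ B : Subgroup G) (L : κ → Subgroup G) : Prop where
  eq : B = (S : Subgroup G) ⊓ centralizer (ZJ : Set G)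
  ZB : ZJ ≤ B
  /-- `N_G(B) ≤ N_G(Z_J)` -/
  NB : normalizer (B : Set G) ≤ normalizer (ZJ : Set G)
  /-- `N_G(B)` permutes the `L k` (up to `G₀₀`) -/
  perm : ∀ x ∈ normalizer (B : Set G), ∀ k, cj x (L k) ≤ G00 ZJ L
  /-- `C_G(Z) ≤ N_G(Z_J)` -/
  cz : CZ (S : Subgroup G) ≤ normalizer (ZJ : Set G)
  /-- the `P ∈ P*(S)` -/
  par : ∀ P : Subgroup G, IsParS (S : Subgroup G) P → P ≤ normalizer (G00 ZJ L : Set G)

section basic

variable [Finite G] {κ : Sort*} {S : Sylow 2 G} {ZJ B : Subgroup G} {L : κ → Subgroup G}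

/-- an element permuting the `L k` up to `G₀₀` and normalising `Z_J` normalises `G₀₀` -/
theorem mem_normalizer_G00 {x : G} (hx : x ∈ normalizer (ZJ : Set G)) (hL : ∀ k, cj x (L k) ≤ G00 ZJ L) :
    x ∈ normalizer (G00 ZJ L : Set G) := by
  refine ChoiceBase.mem_normalizer_of_cj_le ?_
  have e : cj x (G00 ZJ L) = cj x (centralizer (ZJ : Set G)) ⊔ ⨆ k, cj x (L k) := by
    rw [G00, cj, Subgroup.map_sup, Subgroup.map_iSup]
  rw [e, cj_centralizer, mem_normalizer_iff_cj.1 hx]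
  exact sup_le (cent_le _ _) (iSup_le hL)

/-- **Frattini**: `N_G(Z_J)` normalises `G₀₀`, if `N_G(B)` does (`B = C_S(Z_J)`). -/
theorem frattini_of (hS : (S : Subgroup G) ≤ normalizer (ZJ : Set G))
    (hN : normalizer (((S : Subgroup G) ⊓ centralizer (ZJ : Set G) : Subgroup G) : Set G) ≤
      normalizer (G00 ZJ L : Set G)) : normalizer (ZJ : Set G) ≤ normalizer (G00 ZJ L : Set G) := by
  have hnc : normalizer (ZJ : Set G) ≤ normalizer ((centralizer (ZJ : Set G) : Subgroup G) : Set G) := by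
    intro y hy
    apply mem_normalizer_iff_cj.2
    rw [cj_centralizer, cj_eq_of_mem_normalizer hy]
  intro n hn
  obtain ⟨c, hc, hcn⟩ := EndFive.frattini (S := S) (hS.trans hnc) (hnc hn)
  have h1 : c ∈ normalizer (G00 ZJ L : Set G) := Subgroup.le_normalizer (cent_le ZJ L hc)
  have h2 := mul_mem h1 (hN hcn)
  rwa [mul_inv_cancel_left] at h2

end basic

namespace NG

variable [Finite G] {κ : Sort*} {S : Sylow 2 G} {ZJ B : Subgroup G} {L : κ → Subgroup G}

section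

variable (h : NG S ZJ B L)
include h

theorem SZ : (S : Subgroup G) ≤ normalizer (ZJ : Set G) := (le_CZ S).trans h.cz

/-- `N_G(B)` normalises `G₀₀` -/
theorem NB_le : normalizer (B : Set G) ≤ normalizer (G00 ZJ L : Set G) := fun x hx =>
  mem_normalizer_G00 (h.NB hx) (h.perm x hx)

/-- **Frattini**: `N_G(Z_J)` normalises `G₀₀`. -/
theorem frattini : normalizer (ZJ : Set G) ≤ normalizer (G00 ZJ L : Set G) :=
  frattini_of h.SZ (by rw [← h.eq]; exact h.NB_le)

theorem two : IsPGroup 2 B := by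
  rw [h.eq]; exact S.isPGroup'.to_le inf_le_left

theorem max {T : Subgroup G} (hT : IsPGroup 2 T) (hB : B ≤ T) (hTC : T ≤ centralizer (ZJ : Set G)) : T ≤ B := by
  have hnc : normalizer (ZJ : Set G) ≤ normalizer ((centralizer (ZJ : Set G) : Subgroup G) : Set G) := by
    intro y hy
    apply mem_normalizer_iff_cj.2
    rw [cj_centralizer, cj_eq_of_mem_normalizer hy]
  have h1 := EndFive.syl_inf (S := S) (h.SZ.trans hnc)
  rw [← h.eq] at h1
  exact (h1.2.2 T hTC hT hB).le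

end

/-- `O₂(G₀₀) = 1`. -/
theorem o2_eq_bot (hG : Ctx G) (hF : Full (S : Subgroup G)) (h : NG S ZJ B L) : o2 (G00 ZJ L) = ⊥ := by
  refine FrameNOFF.eq_bot_of_norm hG S hF (MinSimple.VModule.o2_isPGroup _) (fun P hP => ?_) ?_
  · exact (h.par P hP).trans (ZN.normalizer_le_normalizer_o2 _)
  · exact (h.cz.trans h.frattini).trans (ZN.normalizer_le_normalizer_o2 _)

/-- **`G₀₀` normalises no 2-group `≠ 1`.** -/
theorem eq_bot (hG : Ctx G) (hF : Full (S : Subgroup G)) (h : NG S ZJ B L) {U : Subgroup G} (hU2 : IsPGroup 2 U)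
    (hU : G00 ZJ L ≤ normalizer (U : Set G)) : U = ⊥ := by
  have hf : Fact (Nat.Prime 2) := ⟨Nat.prime_two⟩
  by_contra hU1
  have hBC : B ≤ centralizer (ZJ : Set G) := by rw [h.eq]; exact inf_le_right
  have hBG : B ≤ G00 ZJ L := hBC.trans (cent_le _ _)
  -- `C_U(B) ≠ 1`
  have hne := PLocal.OffenderStep.inf_centralizer_ne_bot U B hU2 h.two (hBG.trans hU) hU1
  obtain ⟨⟨u, hu, huC⟩, hu1'⟩ := (Subgroup.ne_bot_iff_exists_ne_one).1 hne
  have hu1 : u ≠ 1 := fun h0 => hu1' (Subtype.ext h0)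
  have hT2 : IsPGroup 2 ↥(B ⊔ zpowers u) := by
    refine IsPGroup.to_sup_of_normal_left' h.two (hU2.to_le (zpowers_le.2 hu)) ?_
    exact zpowers_le.2 (centralizer_le_normalizer _ huC)
  have hTB : B ⊔ zpowers u ≤ B := h.max hT2 le_sup_left
    (sup_le hBC (zpowers_le.2 (centralizer_le h.ZB huC)))
  have huG : u ∈ G00 ZJ L := hBG (hTB ((le_sup_right : zpowers u ≤ _) (mem_zpowers u)))
  have hle : U ⊓ G00 ZJ L ≤ o2 (G00 ZJ L) := by
    refine MinSimple.VModule.le_o2 inf_le_right (hU2.to_le inf_le_left) ?_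
    intro g hg
    exact EndFive.mem_norm_inf (hU hg) (Subgroup.le_normalizer hg)
  rw [h.o2_eq_bot hG hF] at hle
  exact hu1 ((mem_bot).1 (hle ⟨hu, huG⟩))

/-- **The field `non` of `TypT`** for any `F i ≤ Z_J`, if every `L k` lies in some `Y_j`. -/
theorem non (hG : Ctx G) (hF : Full (S : Subgroup G)) (h : NG S ZJ B L) {ι : Type*} [Nonempty ι]
    {F : ι → Subgroup G} (hFZ : ∀ i, F i ≤ ZJ) (hL : ∀ k, ∃ j, L k ≤ YY F j) (U : Subgroup G) (hU2 : IsPGroup 2 U)
    (hU : ∀ j, YY F j ≤ normalizer (U : Set G)) : U = ⊥ := by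
  refine h.eq_bot hG hF hU2 (sup_le ?_ (iSup_le fun k => ?_))
  · obtain ⟨i⟩ := ‹Nonempty ι›
    exact (le_YY fun l _ => centralizer_le (hFZ l)).trans (hU i)
  · obtain ⟨j, hj⟩ := hL k
    exact hj.trans (hU j)

/-- **The field `non`**, `L k` centralises `R l` for `l ≠ p k`, `F l ≤ R l ≤ Z_J`. -/
theorem non' (hG : Ctx G) (hF : Full (S : Subgroup G)) (h : NG S ZJ B L) {ι : Type*} [Nonempty ι]
    {F R : ι → Subgroup G} (hFR : ∀ i, F i ≤ R i) (hRZ : ∀ i, R i ≤ ZJ) (p : κ → ι)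
    (hL : ∀ k, ∀ l, l ≠ p k → L k ≤ centralizer (R l : Set G)) (U : Subgroup G) (hU2 : IsPGroup 2 U)
    (hU : ∀ j, YY F j ≤ normalizer (U : Set G)) : U = ⊥ :=
  h.non hG hF (fun i => (hFR i).trans (hRZ i))
    (fun k => ⟨p k, le_YY fun l hl => (hL k l hl).trans (centralizer_le (hFR l))⟩) U hU2 hU

/-- **`NG` from the shape of the minimal parabolics**: each `P ∈ P*(S)` lies in `⟨L k⟩S` or `N_G(B)` or `N_G(Z_J)`. -/
theorem of (eq : B = (S : Subgroup G) ⊓ centralizer (ZJ : Set G)) (ZB : ZJ ≤ B)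
    (NB : normalizer (B : Set G) ≤ normalizer (ZJ : Set G))
    (perm : ∀ x ∈ normalizer (B : Set G), ∀ k, cj x (L k) ≤ G00 ZJ L)
    (cz : CZ (S : Subgroup G) ≤ normalizer (ZJ : Set G))
    (par : ∀ P : Subgroup G, IsParS (S : Subgroup G) P →
      P ≤ (centralizer (ZJ : Set G) ⊔ ⨆ k, L k) ⊔ (S : Subgroup G) ∨ P ≤ normalizer (ZJ : Set G)) : NG S ZJ B L := by
  have hS : (S : Subgroup G) ≤ normalizer (ZJ : Set G) := (le_CZ S).trans cz
  have hN : normalizer (ZJ : Set G) ≤ normalizer (G00 ZJ L : Set G) :=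
    frattini_of hS (by rw [← eq]; exact fun x hx => mem_normalizer_G00 (NB hx) (perm x hx))
  refine ⟨eq, ZB, NB, perm, cz, fun P hP => ?_⟩
  rcases par P hP with h1 | h1
  · exact h1.trans (sup_le Subgroup.le_normalizer (hS.trans hN))
  · exact h1.trans hN

end NG

end Cfsg.Agent.Omega.NOThreeL.RWide.NonT

end

section


/-!
# `⟨C_G(Z_J), C_G(N_c : c ≠ b)⟩` is nonlocal: the field `non` from the block frame (#24915 (B4), #26055)

`N b` the blocks, `l b` their lines, `Z_J = ⨆ l b`, `B = S ∩ C_G(Z_J)`, `YY N b = C_G(N c : c ≠ b)`.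

* `NF S N l B` : `N_G(B)` permutes the `(l b, N b)`, `C_G(Z) ≤ N_G(Z_J)`, the `P ∈ P*(S)` permute the `N b`, `B` is weakly
  closed in `S` with respect to them and `B ≤ ⟨YY N b : b⟩`;
* `NF.par_le` : `P = ⟨B^P⟩ N_P(B)` normalises `G₀₀ = ⟨C_G(Z_J), YY N b⟩`;
* `NF.ng` : the structure `NonT.NG`; `NF.eq_bot` : `G₀₀` normalises no 2-group `≠ 1`;
* `NF.non` : the field `non` of `TypT` for any `F i ≤ l i`.
-/

set_option autoImplicit false
set_option linter.unusedSectionVars false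

namespace Cfsg.Agent.Omega.NOThreeL.RWide.NonF

open Subgroup Cfsg Cfsg.Agent.ZN Cfsg.Agent.Omega.MinPar Cfsg.Agent.Omega.Frame Cfsg.Agent.Omega.FrameNOFF
open Cfsg.Agent.ZN.ChoiceBase (cj cj_mono cj_inf cj_centralizer cj_eq_of_mem_normalizer mem_cj mem_normalizer_iff_cj
  cj_cj_inv cj_inv_cj cj_cj cj_one)
open Cfsg.Agent.Omega.NOThreeL.RWide.NonT (G00 NG)

universe u v

variable {G : Type u} [Group G] {ι : Type v}

/-- The block frame for (B4). -/
structure NF (S : Sylow 2 G) (N l : ι → Subgroup G) (B : Subgroup G) : Prop where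
  eq : B = (S : Subgroup G) ⊓ centralizer ((⨆ b, l b : Subgroup G) : Set G)
  lN : ∀ b, l b ≤ N b
  lS : ∀ b, l b ≤ (S : Subgroup G)
  lc : ∀ a b, l a ≤ centralizer (l b : Set G)
  Ninj : Function.Injective N
  /-- `N_G(B)` permutes the blocks and their lines -/
  NB : ∀ x ∈ normalizer (B : Set G), ∀ b, ∃ c, cj x (l b) = l c ∧ cj x (N b) = N c
  /-- `C_G(Z) ≤ N_G(Z_J)` -/
  cz : CZ (S : Subgroup G) ≤ normalizer ((⨆ b, l b : Subgroup G) : Set G)
  /-- the `P ∈ P*(S)` permute the blocks -/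
  par : ∀ P : Subgroup G, IsParS (S : Subgroup G) P → ∀ x ∈ P, ∀ b, ∃ c, cj x (N b) = N c
  wc : ∀ P : Subgroup G, IsParS (S : Subgroup G) P → ∀ g ∈ P, cj g B ≤ (S : Subgroup G) → cj g B = B
  /-- `B` acts on the blocks as the product of the root groups -/
  BN : B ≤ ⨆ b, YY N b

/-- An element permuting the blocks permutes the `YY N b`. -/
theorem cj_YY [Finite ι] {N : ι → Subgroup G} (hinj : Function.Injective N) {x : G} (hx : ∀ b, ∃ c, cj x (N b) = N c)
    (b : ι) : ∃ c, cj x (YY N b) ≤ YY N c := by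
  choose σ hσ using hx
  have hσi : Function.Injective σ := by
    intro a b hab
    apply hinj
    have h1 : cj x⁻¹ (cj x (N a)) = cj x⁻¹ (cj x (N b)) := by rw [hσ, hσ, hab]
    rwa [cj_inv_cj, cj_inv_cj] at h1
  have hσs : Function.Surjective σ := Finite.surjective_of_injective hσi
  refine ⟨σ b, le_YY fun c hc => ?_⟩
  obtain ⟨d, rfl⟩ := hσs c
  have hdb : d ≠ b := fun e => hc (by rw [e])
  have h1 := cj_mono x (YY_le_cent (Z := N) hdb)
  rwa [cj_centralizer, hσ] at h1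

/-- the lines are permuted, so `Z_J` is normalised -/
theorem norm_ZJ [Finite G] {l : ι → Subgroup G} {x : G} (hx : ∀ b, ∃ c, cj x (l b) = l c) :
    x ∈ normalizer ((⨆ b, l b : Subgroup G) : Set G) := by
  refine ChoiceBase.mem_normalizer_of_cj_le ?_
  have e : cj x (⨆ b, l b) = ⨆ b, cj x (l b) := Subgroup.map_iSup _ _
  rw [e]
  refine iSup_le fun b => ?_
  obtain ⟨c, hc⟩ := hx b
  rw [hc]
  exact le_iSup l c

/-- A group acting on every block like a group `R b` (which centralises the other blocks) lies in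
`⟨R b⟩ C(⨆ N b)`. -/
theorem le_prod [Finite ι] {N R : ι → Subgroup G} {B : Subgroup G}
    (hR : ∀ b c, b ≠ c → R b ≤ centralizer (N c : Set G)) (hN : ∀ b, R b ≤ normalizer (N b : Set G))
    (hB : ∀ s ∈ B, ∀ b, ∃ r ∈ R b, ∀ v ∈ N b, s * v * s⁻¹ = r * v * r⁻¹) :
    B ≤ (⨆ b, R b) ⊔ centralizer ((⨆ b, N b : Subgroup G) : Set G) := by
  classical
  have := Fintype.ofFinite ι
  intro s hs
  choose r hr hrs using hB s hs
  have key : ∀ t : Finset ι, ∃ g ∈ ⨆ b, R b, (∀ b ∈ t, ∀ v ∈ N b, s * v * s⁻¹ = g * v * g⁻¹) ∧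
      ∀ b, b ∉ t → g ∈ centralizer (N b : Set G) := by
    intro t
    induction t using Finset.induction_on with
    | empty => exact ⟨1, one_mem _, by simp, fun b _ => one_mem _⟩
    | insert b t hb ih =>
      obtain ⟨g, hg, h1, h2⟩ := ih
      refine ⟨g * r b, mul_mem hg ((le_iSup R b) (hr b)), fun a ha v hv => ?_, fun a ha => ?_⟩
      · rcases Finset.mem_insert.1 ha with rfl | ha
        · have h3 : r a * v * (r a)⁻¹ ∈ N a := (mem_normalizer_iff.1 (hN a (hr a)) v).1 hv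
          have h4 := mem_centralizer_iff.1 (h2 a hb) _ h3
          calc s * v * s⁻¹ = r a * v * (r a)⁻¹ := hrs a v hv
            _ = (r a * v * (r a)⁻¹) * g * g⁻¹ := by group
            _ = g * (r a * v * (r a)⁻¹) * g⁻¹ := by rw [h4]
            _ = g * r a * v * (g * r a)⁻¹ := by group
        · have hab : a ≠ b := fun e => hb (e ▸ ha)
          have h3 := mem_centralizer_iff.1 (hR b a hab.symm (hr b)) v hv
          rw [h1 a ha v hv]
          have e : r b * v * (r b)⁻¹ = v := by rw [← h3]; group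
          calc g * v * g⁻¹ = g * (r b * v * (r b)⁻¹) * g⁻¹ := by rw [e]
            _ = g * r b * v * (g * r b)⁻¹ := by group
      · rw [Finset.mem_insert, not_or] at ha
        exact mul_mem (h2 a ha.2) (hR b a (Ne.symm ha.1) (hr b))
  obtain ⟨g, hg, h1, -⟩ := key Finset.univ
  have h2 : g⁻¹ * s ∈ centralizer ((⨆ b, N b : Subgroup G) : Set G) := by
    have h3 : (⨆ b, N b) ≤ centralizer ({g⁻¹ * s} : Set G) := by
      refine iSup_le fun b v hv => mem_centralizer_singleton_iff.2 ?_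
      have h4 := h1 b (Finset.mem_univ b) v hv
      calc v * (g⁻¹ * s) = g⁻¹ * (g * v * g⁻¹) * s := by group
        _ = g⁻¹ * (s * v * s⁻¹) * s := by rw [h4]
        _ = g⁻¹ * s * v := by group
    exact mem_centralizer_iff.2 fun v hv => mem_centralizer_singleton_iff.1 (h3 hv)
  have h5 := mul_mem (mem_sup_left hg : g ∈ (⨆ b, R b) ⊔ centralizer ((⨆ b, N b : Subgroup G) : Set G))
    (mem_sup_right h2)
  rwa [mul_inv_cancel_left] at h5

/-- the field `BN` -/
theorem BN_of [Finite ι] [Nonempty ι] {N R : ι → Subgroup G} {B : Subgroup G}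
    (hR : ∀ b c, b ≠ c → R b ≤ centralizer (N c : Set G)) (hN : ∀ b, R b ≤ normalizer (N b : Set G))
    (hB : ∀ s ∈ B, ∀ b, ∃ r ∈ R b, ∀ v ∈ N b, s * v * s⁻¹ = r * v * r⁻¹) : B ≤ ⨆ b, YY N b := by
  refine (le_prod hR hN hB).trans (sup_le (iSup_mono fun b => le_YY fun c hc => hR b c hc.symm) ?_)
  obtain ⟨i⟩ := ‹Nonempty ι›
  exact (le_YY fun c _ => centralizer_le (by exact_mod_cast le_iSup N c)).trans (le_iSup (YY N) i)

namespace NF

variable [Finite G] [Finite ι] {S : Sylow 2 G} {N l : ι → Subgroup G} {B : Subgroup G} (h : NF S N l B)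
include h

/-- `N_G(B)` normalises `G₀₀`. -/
theorem NB_le : normalizer (B : Set G) ≤ normalizer (G00 (⨆ b, l b) (YY N) : Set G) := by
  intro x hx
  refine NonT.mem_normalizer_G00 (norm_ZJ fun b => ?_) fun b => ?_
  · obtain ⟨c, hc, -⟩ := h.NB x hx b
    exact ⟨c, hc⟩
  · obtain ⟨c, hc⟩ := cj_YY h.Ninj (fun b => (h.NB x hx b).imp fun c hc => hc.2) b
    exact hc.trans (NonT.L_le _ _ c)

/-- a group permuting the blocks normalises `⟨YY N b⟩` -/
theorem norm_Y {x : G} (hx : ∀ b, ∃ c, cj x (N b) = N c) :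
    x ∈ normalizer ((⨆ b, YY N b : Subgroup G) : Set G) := by
  refine ChoiceBase.mem_normalizer_of_cj_le ?_
  have e : cj x (⨆ b, YY N b) = ⨆ b, cj x (YY N b) := Subgroup.map_iSup _ _
  rw [e]
  refine iSup_le fun b => ?_
  obtain ⟨c, hc⟩ := cj_YY h.Ninj hx b
  exact hc.trans (le_iSup (YY N) c)

/-- **`P ∈ P*(S)` normalises `G₀₀`**: `P = ⟨B^P⟩ N_P(B)`. -/
theorem par_le {P : Subgroup G} (hP : IsParS (S : Subgroup G) P) :
    P ≤ normalizer (G00 (⨆ b, l b) (YY N) : Set G) := by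
  intro x hx
  have hBS : B ≤ (S : Subgroup G) := by rw [h.eq]; exact inf_le_left
  have hBP : B ≤ P := hBS.trans hP.le
  have hPK := le_normalizer_XS B P
  obtain ⟨c, hc, hcn⟩ := EndFive.frattini (S := S) (hP.le.trans hPK) (hPK hx)
  have hKP : XS B P ≤ P := XS_le_of hBP Subgroup.le_normalizer
  have hKY : XS B P ≤ ⨆ b, YY N b := XS_le_of h.BN fun y hy => h.norm_Y (h.par P hP y hy)
  have hm : c⁻¹ * x ∈ P := mul_mem (inv_mem (hKP hc)) hx
  have h1 : cj (c⁻¹ * x) B ≤ (S : Subgroup G) := by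
    have h2 := cj_mono (c⁻¹ * x) (le_inf hBS (le_XS B P))
    rw [mem_normalizer_iff_cj.1 hcn] at h2
    exact h2.trans inf_le_left
  have h2 : c⁻¹ * x ∈ normalizer (B : Set G) := mem_normalizer_iff_cj.2 (h.wc P hP _ hm h1)
  have h3 : c ∈ normalizer (G00 (⨆ b, l b) (YY N) : Set G) :=
    Subgroup.le_normalizer ((le_sup_right : (⨆ b, YY N b) ≤ G00 (⨆ b, l b) (YY N)) (hKY hc))
  have h4 := mul_mem h3 (h.NB_le h2)
  rwa [mul_inv_cancel_left] at h4

theorem ng : NG S (⨆ b, l b) B (YY N) where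
  eq := h.eq
  ZB := by
    rw [h.eq]
    refine le_inf (iSup_le h.lS) (iSup_le fun a => ?_)
    exact le_centralizer_iff.1 (iSup_le fun b => h.lc b a)
  NB := fun x hx => norm_ZJ fun b => (h.NB x hx b).imp fun c hc => hc.1
  perm := fun x hx b => by
    obtain ⟨c, hc⟩ := cj_YY h.Ninj (fun b => (h.NB x hx b).imp fun c hc => hc.2) b
    exact hc.trans (NonT.L_le _ _ c)
  cz := h.cz
  par := fun P hP => h.par_le hP

omit h in
/-- **`⟨C_G(Z_J), YY N b⟩` normalises no 2-group `≠ 1`.** -/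
theorem eq_bot (hG : Ctx G) (hF : Full (S : Subgroup G)) (h : NF S N l B) {U : Subgroup G} (hU2 : IsPGroup 2 U)
    (hU : G00 (⨆ b, l b) (YY N) ≤ normalizer (U : Set G)) : U = ⊥ :=
  h.ng.eq_bot hG hF hU2 hU

omit h in
/-- **The field `non` of `TypT`**, `F i ≤ l i`. -/
theorem non [Nonempty ι] (hG : Ctx G) (hF : Full (S : Subgroup G)) (h : NF S N l B) {F : ι → Subgroup G}
    (hFl : ∀ i, F i ≤ l i) (U : Subgroup G) (hU2 : IsPGroup 2 U)
    (hU : ∀ j, YY F j ≤ normalizer (U : Set G)) : U = ⊥ :=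
  h.ng.non hG hF (fun i => (hFl i).trans (le_iSup l i))
    (fun b => ⟨b, le_YY fun c hc => (YY_le_cent hc).trans (centralizer_le ((hFl c).trans (h.lN c)))⟩) U hU2 hU

omit h in
/-- The same for coarser index sets: `F i ≤ ⨆ l b` over the blocks `b` of the class `i = p b`. -/
theorem non' [Nonempty ι] (hG : Ctx G) (hF : Full (S : Subgroup G)) (h : NF S N l B) {κ : Type*} (p : ι → κ)
    {F : κ → Subgroup G} (hFl : ∀ i, F i ≤ ⨆ (b) (_ : p b = i), l b) (U : Subgroup G) (hU2 : IsPGroup 2 U)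
    (hU : ∀ j, YY F j ≤ normalizer (U : Set G)) : U = ⊥ := by
  refine h.eq_bot hG hF hU2 (sup_le ?_ (iSup_le fun b => ?_))
  · obtain ⟨i⟩ := ‹Nonempty ι›
    refine (le_YY fun j _ => centralizer_le ?_ : _ ≤ YY F (p i)).trans (hU (p i))
    exact_mod_cast (hFl j).trans (iSup₂_le fun b _ => le_iSup l b)
  · refine (le_YY fun j hj => ?_ : _ ≤ YY F (p b)).trans (hU (p b))
    refine le_trans ?_ (centralizer_le (hFl j))
    refine le_centralizer_iff.1 (iSup₂_le fun c hc => le_centralizer_iff.1 ?_)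
    refine (YY_le_cent ?_).trans (centralizer_le (h.lN c))
    rintro rfl
    exact hj hc.symm

end NF

end Cfsg.Agent.Omega.NOThreeL.RWide.NonF

end

section


/-!
# `B = S ∩ C_G(Z_J)` acts on the blocks by root elements (#26055, #26214)

`N = F²` (coordinates `e`), `l = {v : e v 1 = 0}`.

* `act_root` : a 2-element which acts semilinearly and upper triangularly on `N` and centralises `l` acts as
  `(x, y) ↦ (x + c y, y)`;
* `exists_root` : so it acts like an element of `S ∩ E` (`root`);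
* `fix_block` : `s` permutes the independent blocks and centralises all lines: it normalises all blocks;
* `B_act` : `B` acts on every block like a subgroup of `R b` (`R b := S ∩ E b`; then `NonF.le_prod`, `NonF.BN_of`).
-/

set_option autoImplicit false
set_option linter.unusedSectionVars false

namespace Cfsg.Agent.Omega.NOThreeL.RWide.RootB

open Subgroup Cfsg
open Cfsg.Agent.ZN.ChoiceBase (cj cj_mono cj_eq_of_mem_normalizer mem_normalizer_iff_cj)

universe u v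

variable {G : Type u} [Group G]

section nat

variable {F : Type} [Field F] {e : G → Fin 2 → F} {N l : Subgroup G}

/-- **a 2-element which is semilinear, upper triangular and trivial on `l` is a root element** -/
theorem act_root [CharP F 2] (sur : ∀ x : Fin 2 → F, ∃ v ∈ N, e v = x)
    (line : ∀ v, v ∈ l ↔ v ∈ N ∧ e v 1 = 0) {s : G} (h2 : ∃ k : ℕ, s ^ 2 ^ k = 1)
    (hN : s ∈ normalizer (N : Set G)) (hl : s ∈ centralizer (l : Set G))
    (semi : ∃ (σ : F ≃+* F) (a b d : F), ∀ v ∈ N, e (s * v * s⁻¹) = ![a * σ (e v 0) + b * σ (e v 1), d * σ (e v 1)]) :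
    ∃ c : F, ∀ v ∈ N, e (s * v * s⁻¹) = ![e v 0 + c * e v 1, e v 1] := by
  obtain ⟨σ, a, b, d, h⟩ := semi
  -- on `l`
  have h1 : ∀ x : F, a * σ x = x := by
    intro x
    obtain ⟨v, hv, hx⟩ := sur ![x, 0]
    have hvl : v ∈ l := (line v).2 ⟨hv, by rw [hx]; simp⟩
    have h3 : s * v * s⁻¹ = v := by
      rw [← mem_centralizer_iff.1 hl v hvl]; group
    have h4 := h v hv
    rw [h3, hx] at h4
    have h5 := congrFun h4 0
    simp at h5
    exact h5.symm
  have ha : a = 1 := by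
    have := h1 1
    rwa [map_one, mul_one] at this
  have hσ : ∀ x : F, σ x = x := fun x => by
    have := h1 x
    rwa [ha, one_mul] at this
  -- the second coordinate
  have hpow : ∀ n : ℕ, ∀ v ∈ N, e (s ^ n * v * (s ^ n)⁻¹) 1 = d ^ n * e v 1 := by
    intro n
    induction n with
    | zero => intro v _; simp
    | succ n ih =>
      intro v hv
      have h3 : s * v * s⁻¹ ∈ N := (mem_normalizer_iff.1 hN v).1 hv
      have e1 : s ^ (n + 1) * v * (s ^ (n + 1))⁻¹ = s ^ n * (s * v * s⁻¹) * (s ^ n)⁻¹ := by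
        rw [pow_succ]; group
      rw [e1, ih _ h3, h v hv]
      simp only [Matrix.cons_val_one, Matrix.cons_val_fin_one, hσ]
      ring
  obtain ⟨k, hk⟩ := h2
  have hd : d = 1 := by
    obtain ⟨v, hv, hx⟩ := sur ![0, 1]
    have h3 := hpow (2 ^ k) v hv
    rw [hk] at h3
    have h4 : e v 1 = 1 := by rw [hx]; simp
    rw [one_mul, inv_one, mul_one, h4, mul_one] at h3
    have : Fact (Nat.Prime 2) := ⟨Nat.prime_two⟩
    have h5 : (d - 1) ^ 2 ^ k = 0 := by
      rw [sub_pow_char_pow, one_pow, ← h3, sub_self]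
    exact sub_eq_zero.1 (pow_eq_zero_iff (pow_ne_zero _ two_ne_zero) |>.1 h5)
  refine ⟨b, fun v hv => ?_⟩
  rw [h v hv, ha, hd, hσ, hσ, one_mul, one_mul]

/-- … so it acts like an element of `R`, if all root elements occur in `R`. -/
theorem exists_root [CharP F 2] (mul : ∀ v ∈ N, ∀ w ∈ N, e (v * w) = e v + e w) (inj : ∀ v ∈ N, e v = 0 → v = 1)
    (sur : ∀ x : Fin 2 → F, ∃ v ∈ N, e v = x) (line : ∀ v, v ∈ l ↔ v ∈ N ∧ e v 1 = 0) {R : Subgroup G}
    (hRN : R ≤ normalizer (N : Set G))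
    (root : ∀ c : F, ∃ r ∈ R, ∀ v ∈ N, e (r * v * r⁻¹) = ![e v 0 + c * e v 1, e v 1]) {s : G}
    (h2 : ∃ k : ℕ, s ^ 2 ^ k = 1) (hN : s ∈ normalizer (N : Set G)) (hl : s ∈ centralizer (l : Set G))
    (semi : ∃ (σ : F ≃+* F) (a b d : F), ∀ v ∈ N, e (s * v * s⁻¹) = ![a * σ (e v 0) + b * σ (e v 1), d * σ (e v 1)]) :
    ∃ r ∈ R, ∀ v ∈ N, s * v * s⁻¹ = r * v * r⁻¹ := by
  obtain ⟨c, hc⟩ := act_root sur line h2 hN hl semi
  obtain ⟨r, hr, hrc⟩ := root c
  refine ⟨r, hr, fun v hv => ?_⟩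
  have h1 : s * v * s⁻¹ ∈ N := (mem_normalizer_iff.1 hN v).1 hv
  have h3 : r * v * r⁻¹ ∈ N := (mem_normalizer_iff.1 (hRN hr) v).1 hv
  have e1 : e 1 = 0 := by
    have h := mul 1 (one_mem _) 1 (one_mem _)
    rw [mul_one] at h
    simpa using h
  have einv : ∀ w ∈ N, e w⁻¹ = -e w := by
    intro w hw
    have h := mul w hw w⁻¹ (inv_mem hw)
    rw [mul_inv_cancel, e1] at h
    exact (neg_eq_of_add_eq_zero_right h.symm).symm
  have h4 := inj (s * v * s⁻¹ * (r * v * r⁻¹)⁻¹) (mul_mem h1 (inv_mem h3)) (by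
    rw [mul _ h1 _ (inv_mem h3), einv _ h3, hc v hv, hrc v hv, add_neg_cancel])
  exact mul_inv_eq_one.1 h4

end nat

section frame

variable {ι : Type v} {N l : ι → Subgroup G}

/-- An element permuting the independent blocks and centralising the lines normalises every block. -/
theorem fix_block (ind : ∀ b, N b ⊓ (⨆ c : {c // c ≠ b}, N c) = ⊥) (lN : ∀ b, l b ≤ N b) (lne : ∀ b, l b ≠ ⊥) {s : G}
    (hp : ∀ b, ∃ c, cj s (N b) = N c) (hl : ∀ b, s ∈ centralizer (l b : Set G)) (b : ι) :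
    s ∈ normalizer (N b : Set G) := by
  obtain ⟨c, hc⟩ := hp b
  have h1 : cj s (l b) = l b := cj_eq_of_mem_normalizer (centralizer_le_normalizer _ (hl b))
  have h2 : l b ≤ N c := by rw [← hc, ← h1]; exact cj_mono s (lN b)
  by_cases hcb : c = b
  · rw [hcb] at hc; exact mem_normalizer_iff_cj.2 hc
  exfalso
  apply lne b
  rw [eq_bot_iff, ← ind b]
  exact le_inf (lN b) (h2.trans (le_iSup (fun c : {c // c ≠ b} => N c) ⟨c, hcb⟩))

/-- **`B` acts on every block like a subgroup of `R b`.** -/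
theorem B_act {S B : Subgroup G} {R : ι → Subgroup G} (h2 : IsPGroup 2 B) (hBS : B ≤ S)
    (hBl : ∀ b, B ≤ centralizer (l b : Set G)) (ind : ∀ b, N b ⊓ (⨆ c : {c // c ≠ b}, N c) = ⊥)
    (lN : ∀ b, l b ≤ N b) (lne : ∀ b, l b ≠ ⊥) (hp : ∀ s ∈ S, ∀ b, ∃ c, cj s (N b) = N c)
    (hRN : ∀ b, R b ≤ normalizer (N b : Set G))
    (nat : ∀ b, ∃ (F : Type) (_ : Field F) (_ : CharP F 2) (e : G → Fin 2 → F),
      (∀ v ∈ N b, ∀ w ∈ N b, e (v * w) = e v + e w) ∧ (∀ v ∈ N b, e v = 0 → v = 1) ∧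
      (∀ x : Fin 2 → F, ∃ v ∈ N b, e v = x) ∧ (∀ v, v ∈ l b ↔ v ∈ N b ∧ e v 1 = 0) ∧
      (∀ c : F, ∃ r ∈ R b, ∀ v ∈ N b, e (r * v * r⁻¹) = ![e v 0 + c * e v 1, e v 1]) ∧
      ∀ s ∈ S, s ∈ normalizer (N b : Set G) → ∃ (σ : F ≃+* F) (a c d : F), ∀ v ∈ N b,
        e (s * v * s⁻¹) = ![a * σ (e v 0) + c * σ (e v 1), d * σ (e v 1)]) :
    ∀ s ∈ B, ∀ b, ∃ r ∈ R b, ∀ v ∈ N b, s * v * s⁻¹ = r * v * r⁻¹ := by
  intro s hs b
  obtain ⟨F, _, _, e, mul, inj, sur, line, root, semi⟩ := nat b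
  have hN : s ∈ normalizer (N b : Set G) :=
    fix_block ind lN lne (hp s (hBS hs)) (fun c => hBl c hs) b
  refine exists_root mul inj sur line (hRN b) root ?_ hN (hBl b hs) (semi s (hBS hs) hN)
  obtain ⟨k, hk⟩ := h2 ⟨s, hs⟩
  exact ⟨k, by have := congrArg Subtype.val hk; simpa using this⟩

end frame

end Cfsg.Agent.Omega.NOThreeL.RWide.RootB

end

section


/-!
# The field `non` of `TypT` from natural blocks (`TBlk.Bls`, #26055)

* `B_act`, `BB_le` : `B = C_S(Z_J) ≤ ⟨S ∩ E b⟩ C_S(V)`; `BB_le_YY` : `B ≤ ⟨C_G(N_c : c ≠ b)⟩`;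
* `nf` : the structure `NonF.NF`: `N_G(B)` permutes the `(l b, N b)`, `C_G(Z) ≤ N_G(Z_J)`, the `P ∈ P*(S)` permute the
  `N b`, `B` is weakly closed in `S` with respect to `N_G(V)`;
* `non` : the field `non` of `TypT` for `F i ≤ l i`; `non_FF` : for `F i = FF S N l i`.
-/

set_option autoImplicit false
set_option linter.unusedSectionVars false

namespace Cfsg.Agent.Omega.NOThreeL.RWide.NonBls

open Subgroup Cfsg Cfsg.Agent.ZN Cfsg.Agent.Omega.MinPar Cfsg.Agent.Omega.Frame Cfsg.Agent.Omega.FrameNOFF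
open Cfsg.Agent.ZN.ChoiceBase (cj cj_mono mem_normalizer_iff_cj)
open Cfsg.Agent.Omega.NOThreeL.RWide.NonF (NF)
open Cfsg.Agent.Omega.NOThreeL.RWide.TBlk (NB Bls TT BB)

universe u v

variable {G : Type u} [Group G] {ι : Type v}

section blocks

variable {S V : Subgroup G} {N l E : ι → Subgroup G} (h : Bls S V N l E)
include h

theorem lN (b : ι) : l b ≤ N b := by
  obtain ⟨F, _, _, _, e, he⟩ := h.nat b
  exact fun v hv => ((he.line v).1 hv).1

theorem NV (b : ι) : N b ≤ V := h.sup ▸ le_iSup N b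

theorem l_ne (b : ι) : l b ≠ ⊥ := by
  obtain ⟨F, _, _, _, e, he⟩ := h.nat b
  obtain ⟨v, hv, hx⟩ := he.sur ![1, 0]
  intro h0
  have h1 : v ∈ l b := (he.line v).2 ⟨hv, by rw [hx]; simp⟩
  rw [h0, mem_bot] at h1
  have h2 := he.mul 1 (one_mem _) 1 (one_mem _)
  rw [mul_one] at h2
  have h3 : e 1 = 0 := left_eq_add.1 h2
  rw [h1, h3] at hx
  have h4 := congrFun hx 0
  simp at h4

theorem N_inj : Function.Injective N := by
  intro a b hab
  by_contra hne
  apply l_ne h a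
  rw [eq_bot_iff, ← h.ind a]
  refine le_inf (lN h a) ((lN h a).trans ?_)
  rw [hab]
  exact le_iSup (fun c : {c // c ≠ a} => N c) ⟨b, Ne.symm hne⟩

/-- **`B` acts on every block like a subgroup of `S ∩ E b`.** -/
theorem B_act (hS : IsPGroup 2 S) : ∀ s ∈ BB S l, ∀ b, ∃ r ∈ S ⊓ E b, ∀ v ∈ N b, s * v * s⁻¹ = r * v * r⁻¹ := by
  refine RootB.B_act (S := S) (hS.to_le inf_le_left) inf_le_left
    (fun b => inf_le_right.trans (centralizer_le (by exact_mod_cast le_iSup l b))) h.ind (lN h) (l_ne h)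
    (fun s hs b => (h.perm s hs b).imp fun c hc => hc.1) (fun b => inf_le_right.trans (h.EN b)) fun b => ?_
  obtain ⟨F, i1, i2, i3, e, he⟩ := h.nat b
  exact ⟨F, i1, i3, e, he.mul, he.inj, he.sur, he.line, he.root, he.semi⟩

/-- **`B ≤ ⟨S ∩ E b⟩ C_S(V)`** -/
theorem BB_le [Finite ι] (hS : IsPGroup 2 S) :
    BB S l ≤ (⨆ b, S ⊓ E b) ⊔ (S ⊓ centralizer (V : Set G)) := by
  intro s hs
  have h1 := NonF.le_prod (N := N) (R := fun b => S ⊓ E b) (B := BB S l)
    (fun b c hbc => inf_le_right.trans (h.EC b c hbc)) (fun b => inf_le_right.trans (h.EN b)) (B_act h hS) hs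
  rw [h.sup] at h1
  have hn : (⨆ b, S ⊓ E b) ≤ normalizer ((centralizer (V : Set G) : Subgroup G) : Set G) := by
    refine iSup_le fun b x hx => ?_
    have h2 : x ∈ normalizer (V : Set G) := by
      rw [← h.sup]
      refine mem_normalizer_iff_cj.2 ?_
      have e1 : cj x (⨆ b, N b) = ⨆ b, cj x (N b) := Subgroup.map_iSup _ _
      rw [e1]
      refine iSup_congr fun c => ?_
      by_cases hcb : b = c
      · subst hcb
        exact mem_normalizer_iff_cj.1 (h.EN b hx.2)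
      · exact mem_normalizer_iff_cj.1 (centralizer_le_normalizer _ (h.EC b c hcb hx.2))
    rw [mem_normalizer_iff_cj, ChoiceBase.cj_centralizer, mem_normalizer_iff_cj.1 h2]
  have h2 : s ∈ (((⨆ b, S ⊓ E b) ⊔ centralizer (V : Set G) : Subgroup G) : Set G) := h1
  rw [coe_mul_of_left_le_normalizer_right _ _ hn] at h2
  obtain ⟨g, hg, c, hc, rfl⟩ := Set.mem_mul.1 h2
  have hgS : g ∈ S := (iSup_le fun b => inf_le_left : (⨆ b, S ⊓ E b) ≤ S) hg
  have hcS : c ∈ S := by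
    have h3 := mul_mem (inv_mem hgS) hs.1
    rwa [inv_mul_cancel_left] at h3
  exact mul_mem (mem_sup_left hg) (mem_sup_right ⟨hcS, hc⟩)

/-- **`B ≤ ⟨C_G(N_c : c ≠ b) : b⟩`** -/
theorem BB_le_YY [Finite ι] [Nonempty ι] (hS : IsPGroup 2 S) : BB S l ≤ ⨆ b, YY N b :=
  NonF.BN_of (R := fun b => S ⊓ E b) (fun b c hbc => inf_le_right.trans (h.EC b c hbc))
    (fun b => inf_le_right.trans (h.EN b)) (B_act h hS)

end blocks

section frame

variable [Finite G] [Finite ι] [Nonempty ι] {S : Sylow 2 G} {V : Subgroup G} {N l E : ι → Subgroup G}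

/-- **The frame `NF` from natural blocks.** -/
theorem nf (h : Bls (S : Subgroup G) V N l E) (VS : V ≤ (S : Subgroup G))
    (hB : ∀ x ∈ normalizer (BB (S : Subgroup G) l : Set G), ∀ b, ∃ c, cj x (l b) = l c ∧ cj x (N b) = N c)
    (cz : centralizer (zc (S : Subgroup G) : Set G) ≤ normalizer ((⨆ b, l b : Subgroup G) : Set G))
    (par : ∀ P : Subgroup G, IsParS (S : Subgroup G) P → ∀ x ∈ P, ∀ b, ∃ c, cj x (N b) = N c)
    (wc : ∀ g ∈ normalizer (V : Set G), cj g (BB (S : Subgroup G) l) ≤ (S : Subgroup G) →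
      cj g (BB (S : Subgroup G) l) = BB (S : Subgroup G) l) : NF S N l (BB (S : Subgroup G) l) where
  eq := rfl
  lN := lN h
  lS := fun b => (lN h b).trans ((NV h b).trans VS)
  lc := fun a b x hx => mem_centralizer_iff.2 fun y hy =>
    h.com y (NV h b (lN h b hy)) x (NV h a (lN h a hx))
  Ninj := N_inj h
  NB := hB
  cz := cz
  par := par
  wc := fun P hP g hg => wc g (by
    rw [← h.sup]
    exact NonF.norm_ZJ (l := N) (par P hP g hg))
  BN := BB_le_YY h S.isPGroup'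

/-- **The field `non` of `TypT`** for `F i ≤ l i`. -/
theorem non (hG : Ctx G) (hF : Full (S : Subgroup G)) (h : Bls (S : Subgroup G) V N l E) (VS : V ≤ (S : Subgroup G))
    (hB : ∀ x ∈ normalizer (BB (S : Subgroup G) l : Set G), ∀ b, ∃ c, cj x (l b) = l c ∧ cj x (N b) = N c)
    (cz : centralizer (zc (S : Subgroup G) : Set G) ≤ normalizer ((⨆ b, l b : Subgroup G) : Set G))
    (par : ∀ P : Subgroup G, IsParS (S : Subgroup G) P → ∀ x ∈ P, ∀ b, ∃ c, cj x (N b) = N c)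
    (wc : ∀ g ∈ normalizer (V : Set G), cj g (BB (S : Subgroup G) l) ≤ (S : Subgroup G) →
      cj g (BB (S : Subgroup G) l) = BB (S : Subgroup G) l)
    {F : ι → Subgroup G} (hFl : ∀ i, F i ≤ l i) (U : Subgroup G) (hU2 : IsPGroup 2 U)
    (hU : ∀ j, YY F j ≤ normalizer (U : Set G)) : U = ⊥ :=
  (nf h VS hB cz par wc).non hG hF hFl U hU2 hU

/-- **The field `non` of `TypT`** for `F i = C_{l i}(T)`. -/
theorem non_FF (hG : Ctx G) (hF : Full (S : Subgroup G)) (h : Bls (S : Subgroup G) V N l E)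
    (VS : V ≤ (S : Subgroup G))
    (hB : ∀ x ∈ normalizer (BB (S : Subgroup G) l : Set G), ∀ b, ∃ c, cj x (l b) = l c ∧ cj x (N b) = N c)
    (cz : centralizer (zc (S : Subgroup G) : Set G) ≤ normalizer ((⨆ b, l b : Subgroup G) : Set G))
    (par : ∀ P : Subgroup G, IsParS (S : Subgroup G) P → ∀ x ∈ P, ∀ b, ∃ c, cj x (N b) = N c)
    (wc : ∀ g ∈ normalizer (V : Set G), cj g (BB (S : Subgroup G) l) ≤ (S : Subgroup G) →
      cj g (BB (S : Subgroup G) l) = BB (S : Subgroup G) l) :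
    ∀ U : Subgroup G, IsPGroup 2 U → (∀ j, YY (TBlk.FF (S : Subgroup G) N l) j ≤ normalizer (U : Set G)) → U = ⊥ :=
  non hG hF h VS hB cz par wc fun _ => inf_le_left

end frame

end Cfsg.Agent.Omega.NOThreeL.RWide.NonBls

end

section


/-!
# `G₁ = ⟨C_G(R_a : a ≠ b) : b⟩` is nonlocal (#25652, #24915 (B4))

`R b` the lines of the blocks `V b`, `E b` the block groups (`E b` centralises `V a`, `a ≠ b`).

* `mem_norm_of_perm`, `mem_norm_of_twist` : who permutes the `R b` (up to an element of `G₁`) normalises `G₁`;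
* `exists_twist` : one element of `⟨E b⟩` moves all given lines to the `R b`;
* `NLn S R V E` : `C_G(Z)` permutes the `R b`, the `P ∈ P*(S)` permute the `V b`, `E b` moves every line
  `(R a)^x ≤ V b` to `R b`;
* `NLn.eq_bot` : `G₁` normalises no 2-group `≠ 1`; `NLn.non` : the field `non` of `TypT`, `Typed`, `TypedM` for `F i ≤ R i`.
-/

set_option autoImplicit false
set_option linter.unusedSectionVars false

namespace Cfsg.Agent.Omega.NOThreeL.RWide.NonLines

open Subgroup Cfsg Cfsg.Agent.ZN Cfsg.Agent.Omega.MinPar Cfsg.Agent.Omega.Frame Cfsg.Agent.Omega.FrameNOFF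
open Cfsg.Agent.ZN.ChoiceBase (cj cj_mono cj_inf cj_centralizer cj_eq_of_mem_normalizer mem_cj mem_normalizer_iff_cj
  cj_cj_inv cj_inv_cj cj_cj cj_one)

universe u v

variable {G : Type u} [Group G]

section basic

variable {ι : Type v}

theorem YY_eq (Z : ι → Subgroup G) (j : ι) :
    YY Z j = centralizer ((⨆ (l) (_ : l ≠ j), Z l : Subgroup G) : Set G) := by
  apply le_antisymm
  · refine le_centralizer_iff.1 (iSup₂_le fun l hl => ?_)
    exact le_centralizer_iff.1 (YY_le_cent hl)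
  · refine le_YY fun l hl => centralizer_le ?_
    exact_mod_cast le_iSup₂ (f := fun l (_ : l ≠ j) => Z l) l hl

theorem GZ_eq (Z : ι → Subgroup G) : GZ Z = ⨆ j, YY Z j := by
  rw [GZ]
  exact iSup_congr fun j => (YY_eq Z j).symm

/-- Whoever permutes the lines normalises `G₁`. -/
theorem mem_norm_of_perm [Finite G] [Finite ι] {R : ι → Subgroup G} (hinj : Function.Injective R) {x : G}
    (hx : ∀ b, ∃ c, cj x (R b) = R c) : x ∈ normalizer ((⨆ j, YY R j : Subgroup G) : Set G) := by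
  rw [← GZ_eq]
  exact mem_normalizer_GZ hinj hx

/-- Whoever permutes the lines up to an element of `G₁` normalises `G₁`. -/
theorem mem_norm_of_twist [Finite G] [Finite ι] {R : ι → Subgroup G} (hinj : Function.Injective R) {h x : G}
    (hh : h ∈ ⨆ j, YY R j) (hx : ∀ b, ∃ c, cj (h * x) (R b) = R c) :
    x ∈ normalizer ((⨆ j, YY R j : Subgroup G) : Set G) := by
  have h1 := mul_mem (inv_mem (Subgroup.le_normalizer hh)) (mem_norm_of_perm hinj hx)
  rwa [inv_mul_cancel_left] at h1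

theorem cj_of_cent {g : G} {A B : Subgroup G} (hg : g ∈ centralizer (B : Set G)) (hA : A ≤ B) : cj g A = A :=
  cj_eq_of_mem_normalizer (centralizer_le_normalizer _ (centralizer_le hA hg))

/-- One element of `⟨E b⟩` moves all the given lines. -/
theorem exists_twist [Finite ι] {V E K R : ι → Subgroup G} (hEc : ∀ a b, a ≠ b → E b ≤ centralizer (V a : Set G))
    (KV : ∀ b, K b ≤ V b) (RV : ∀ b, R b ≤ V b) (hl : ∀ b, ∃ h ∈ E b, cj h (K b) = R b) :
    ∃ h ∈ ⨆ b, E b, ∀ b, cj h (K b) = R b := by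
  classical
  have := Fintype.ofFinite ι
  choose g hg hgK using hl
  have key : ∀ s : Finset ι, ∃ h ∈ ⨆ b, E b, (∀ b ∈ s, cj h (K b) = R b) ∧ ∀ b, b ∉ s → h ∈ centralizer (V b : Set G) := by
    intro s
    induction s using Finset.induction_on with
    | empty => exact ⟨1, one_mem _, by simp, fun b _ => one_mem _⟩
    | insert b s hb ih =>
      obtain ⟨h, hh, h1, h2⟩ := ih
      refine ⟨h * g b, mul_mem hh ((le_iSup E b) (hg b)), fun a ha => ?_, fun a ha => ?_⟩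
      · rw [← cj_cj]
        rcases Finset.mem_insert.1 ha with rfl | ha
        · rw [hgK]
          exact cj_of_cent (h2 a hb) (RV a)
        · have hab : a ≠ b := fun e => hb (e ▸ ha)
          rw [cj_of_cent (hEc a b hab (hg b)) (KV a)]
          exact h1 a ha
      · rw [Finset.mem_insert, not_or] at ha
        exact mul_mem (h2 a ha.2) (hEc a b ha.1 (hg b))
  obtain ⟨h, hh, h1, -⟩ := key Finset.univ
  exact ⟨h, hh, fun b => h1 b (Finset.mem_univ b)⟩

end basic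

/-- **`G₀` normalises no 2-group `≠ 1`**, for any `G₀ ≥ C_G(Z_J)` normalised by `C_G(Z)` and the `P ∈ P*(S)`. -/
theorem eq_bot_of [Finite G] {S : Sylow 2 G} (hG : Ctx G) (hF : Full (S : Subgroup G)) {ZJ G0 U : Subgroup G}
    (hSZ : (S : Subgroup G) ≤ normalizer (ZJ : Set G)) (hZS : ZJ ≤ (S : Subgroup G))
    (hZZ : ZJ ≤ centralizer (ZJ : Set G)) (hcG : centralizer (ZJ : Set G) ≤ G0)
    (hC : CZ (S : Subgroup G) ≤ normalizer (G0 : Set G))
    (hP : ∀ P : Subgroup G, IsParS (S : Subgroup G) P → P ≤ normalizer (G0 : Set G)) (hU2 : IsPGroup 2 U)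
    (hU : G0 ≤ normalizer (U : Set G)) : U = ⊥ := by
  have hf : Fact (Nat.Prime 2) := ⟨Nat.prime_two⟩
  by_contra hU1
  have ho : o2 G0 = ⊥ := by
    refine FrameNOFF.eq_bot_of_norm hG S hF (MinSimple.VModule.o2_isPGroup _) (fun P hP' => ?_) ?_
    · exact (hP P hP').trans (ZN.normalizer_le_normalizer_o2 _)
    · exact hC.trans (ZN.normalizer_le_normalizer_o2 _)
  have hnc : normalizer (ZJ : Set G) ≤ normalizer ((centralizer (ZJ : Set G) : Subgroup G) : Set G) := by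
    intro y hy
    apply mem_normalizer_iff_cj.2
    rw [cj_centralizer, cj_eq_of_mem_normalizer hy]
  have hsyl := EndFive.syl_inf (S := S) (hSZ.trans hnc)
  set B : Subgroup G := (S : Subgroup G) ⊓ centralizer (ZJ : Set G) with hB
  have hBC : B ≤ centralizer (ZJ : Set G) := inf_le_right
  have hBG : B ≤ G0 := hBC.trans hcG
  have hB2 : IsPGroup 2 B := S.isPGroup'.to_le inf_le_left
  -- `C_U(B) ≠ 1`
  have hne := PLocal.OffenderStep.inf_centralizer_ne_bot U B hU2 hB2 (hBG.trans hU) hU1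
  obtain ⟨⟨u, hu, huC⟩, hu1'⟩ := (Subgroup.ne_bot_iff_exists_ne_one).1 hne
  have hu1 : u ≠ 1 := fun h0 => hu1' (Subtype.ext h0)
  have hT2 : IsPGroup 2 ↥(B ⊔ zpowers u) := by
    refine IsPGroup.to_sup_of_normal_left' hB2 (hU2.to_le (zpowers_le.2 hu)) ?_
    exact zpowers_le.2 (centralizer_le_normalizer _ huC)
  have hZB : ZJ ≤ B := le_inf hZS hZZ
  have hTB : B ⊔ zpowers u ≤ B := (hsyl.2.2 _
    (sup_le hBC (zpowers_le.2 (centralizer_le hZB huC))) hT2 le_sup_left).le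
  have huG : u ∈ G0 := hBG (hTB ((le_sup_right : zpowers u ≤ _) (mem_zpowers u)))
  have hle : U ⊓ G0 ≤ o2 G0 := by
    refine MinSimple.VModule.le_o2 inf_le_right (hU2.to_le inf_le_left) ?_
    intro g hg
    exact EndFive.mem_norm_inf (hU hg) (Subgroup.le_normalizer hg)
  rw [ho] at hle
  exact hu1 ((mem_bot).1 (hle ⟨hu, huG⟩))

/-- The situation: the lines `R b` of the blocks `V b` with block groups `E b`. -/
structure NLn {ι : Type v} (S : Sylow 2 G) (R V E : ι → Subgroup G) : Prop where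
  RV : ∀ b, R b ≤ V b
  RS : ∀ b, R b ≤ (S : Subgroup G)
  Rc : ∀ a b, R a ≤ centralizer (R b : Set G)
  Rinj : Function.Injective R
  Vinj : Function.Injective V
  /-- `E b` centralises the other blocks -/
  EV : ∀ a b, a ≠ b → E b ≤ centralizer (V a : Set G)
  /-- `C_G(Z)` permutes the lines -/
  C : ∀ x ∈ CZ (S : Subgroup G), ∀ b, ∃ c, cj x (R b) = R c
  /-- the `P ∈ P*(S)` permute the blocks -/
  P : ∀ P : Subgroup G, IsParS (S : Subgroup G) P → ∀ x ∈ P, ∀ a, ∃ b, cj x (V a) = V b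
  /-- `E b` moves every line of `V b` to `R b` -/
  line : ∀ P : Subgroup G, IsParS (S : Subgroup G) P → ∀ x ∈ P, ∀ a b, cj x (V a) = V b →
    ∃ h ∈ E b, cj h (cj x (R a)) = R b

namespace NLn

variable {ι : Type v} [Finite ι] {S : Sylow 2 G} {R V E : ι → Subgroup G}

/-- an element which permutes the blocks: `E b` transitive on the lines: it normalises `G₁` -/
theorem mem_norm [Finite G] (h : NLn S R V E) {x : G} (hx : ∀ a, ∃ b, cj x (V a) = V b)
    (hl : ∀ a b, cj x (V a) = V b → ∃ g ∈ E b, cj g (cj x (R a)) = R b) :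
    x ∈ normalizer ((⨆ j, YY R j : Subgroup G) : Set G) := by
  choose σ hσ using hx
  have hinj : Function.Injective σ := by
    intro a b hab
    apply h.Vinj
    have h1 : cj x⁻¹ (cj x (V a)) = cj x⁻¹ (cj x (V b)) := by rw [hσ, hσ, hab]
    rwa [cj_inv_cj, cj_inv_cj] at h1
  have hsurj : Function.Surjective σ := Finite.surjective_of_injective hinj
  choose τ hτ using hsurj
  obtain ⟨g, hg, hgK⟩ := exists_twist (K := fun b => cj x (R (τ b))) h.EV
    (fun b => by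
      have h1 := cj_mono x (h.RV (τ b))
      rwa [hσ, hτ] at h1) h.RV
    (fun b => hl (τ b) b (by rw [hσ, hτ]))
  have hgG : g ∈ ⨆ j, YY R j := by
    refine (iSup_le fun b => ?_ : (⨆ b, E b) ≤ ⨆ j, YY R j) hg
    refine (le_YY fun l hl => ?_ : E b ≤ YY R b).trans (le_iSup (YY R) b)
    exact (h.EV l b hl).trans (centralizer_le (h.RV l))
  refine mem_norm_of_twist h.Rinj hgG fun a => ⟨σ a, ?_⟩
  have h1 := hgK (σ a)
  have h2 : τ (σ a) = a := hinj (hτ _)
  rw [← cj_cj]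
  simpa only [h2] using h1

variable [Finite G]

/-- **`G₁` normalises no 2-group `≠ 1`.** -/
theorem eq_bot [Nonempty ι] (hG : Ctx G) (hF : Full (S : Subgroup G)) (h : NLn S R V E) {U : Subgroup G}
    (hU2 : IsPGroup 2 U) (hU : (⨆ j, YY R j) ≤ normalizer (U : Set G)) : U = ⊥ := by
  have hZZ : (⨆ i, R i) ≤ centralizer ((⨆ i, R i : Subgroup G) : Set G) := by
    refine iSup_le fun a => ?_
    refine le_centralizer_iff.1 (iSup_le fun b => ?_)
    exact h.Rc b a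
  have hSZ : (S : Subgroup G) ≤ normalizer ((⨆ i, R i : Subgroup G) : Set G) := by
    intro s hs
    refine ChoiceBase.mem_normalizer_of_cj_le ?_
    have e : cj s (⨆ i, R i) = ⨆ i, cj s (R i) := Subgroup.map_iSup _ _
    rw [e]
    refine iSup_le fun i => ?_
    obtain ⟨c, hc⟩ := h.C s (le_CZ S hs) i
    rw [hc]
    exact le_iSup R c
  refine eq_bot_of hG hF (ZJ := ⨆ i, R i) (G0 := ⨆ j, YY R j) hSZ (iSup_le h.RS) hZZ ?_ (fun x hx => ?_)
    (fun P hP x hx => ?_) hU2 hU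
  · obtain ⟨i⟩ := ‹Nonempty ι›
    exact (le_YY fun l _ => centralizer_le (by exact_mod_cast le_iSup R l)).trans (le_iSup (YY R) i)
  · exact mem_norm_of_perm h.Rinj (h.C x hx)
  · exact h.mem_norm (h.P P hP x hx) (h.line P hP x hx)

/-- **The field `non` of `TypT`, `Typed`, `TypedM`** for any `F i ≤ R i`. -/
theorem non [Nonempty ι] (hG : Ctx G) (hF : Full (S : Subgroup G)) (h : NLn S R V E) {F : ι → Subgroup G}
    (hFR : ∀ i, F i ≤ R i) (U : Subgroup G) (hU2 : IsPGroup 2 U)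
    (hU : ∀ j, YY F j ≤ normalizer (U : Set G)) : U = ⊥ :=
  h.eq_bot hG hF hU2 (iSup_le fun j =>
    (le_YY fun l hl => (YY_le_cent hl).trans (centralizer_le (hFR l))).trans (hU j))

/-- The same for coarser index sets: `F i ≤ ⨆ R b` over the blocks `b` of the class `i = p b`. -/
theorem non' [Nonempty ι] (hG : Ctx G) (hF : Full (S : Subgroup G)) (h : NLn S R V E) {κ : Type*} (p : ι → κ)
    {F : κ → Subgroup G} (hFR : ∀ i, F i ≤ ⨆ (b) (_ : p b = i), R b) (U : Subgroup G) (hU2 : IsPGroup 2 U)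
    (hU : ∀ j, YY F j ≤ normalizer (U : Set G)) : U = ⊥ := by
  refine h.eq_bot hG hF hU2 (iSup_le fun j => (le_YY fun l hl => ?_).trans (hU (p j)))
  refine le_trans ?_ (centralizer_le (hFR l))
  refine le_centralizer_iff.1 (iSup₂_le fun b hb => le_centralizer_iff.1 (YY_le_cent ?_))
  rintro rfl
  exact hl hb.symm

end NLn

end Cfsg.Agent.Omega.NOThreeL.RWide.NonLines

end

end

-- merged: Cfsg.Agent.Mrg.Omega.NOThreeL.RWide.NonTf
section

/-!
# The argument `non` of `TAct.Tf.typT`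

* `nf` : `Tf S V N l` (helper823), natural blocks `Bls S V N l E` (helper655), `C_G(Z) ≤ N_G(Z_J)` (`cz`) and `P ∈ P*(S)`
  permute the blocks (`perm`): the structure `NonF.NF`;
* `non` : the hypothesis `non` of `TAct.Tf.typT`, literally;
* `nf'`, `non'` : the same without `Bls`: `B` acts on each block like a group `R b ≤ N_G(N b)` centralising the other blocks.
-/

set_option autoImplicit false
set_option linter.unusedSectionVars false

namespace Cfsg.Agent.Omega.NOThreeL.RWide.NonTf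

open Subgroup Cfsg Cfsg.Agent.ZN Cfsg.Agent.Omega.MinPar Cfsg.Agent.Omega.Frame Cfsg.Agent.Omega.FrameNOFF
open Cfsg.Agent.ZN.ChoiceBase (cj cj_mono mem_normalizer_iff_cj)
open Cfsg.Agent.Omega.NOThreeL.RWide.NonF (NF)
open Cfsg.Agent.Omega.NOThreeL.RWide.TAct (Tf)

universe u v

variable {G : Type u} [Group G] [Finite G] {ι : Type v} [Finite ι] [Nonempty ι] {S : Sylow 2 G} {V : Subgroup G}
  {N l E R : ι → Subgroup G}

/-- the frame `NF`, `B` acting on the blocks like the groups `R b` -/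
theorem nf' (h : Tf S V N l) (hRN : ∀ b, R b ≤ normalizer (N b : Set G))
    (hRC : ∀ b c, b ≠ c → R b ≤ centralizer (N c : Set G))
    (hB : ∀ s ∈ TAct.BB (S : Subgroup G) l, ∀ b, ∃ r ∈ R b, ∀ v ∈ N b, s * v * s⁻¹ = r * v * r⁻¹)
    (cz : CZ (S : Subgroup G) ≤ normalizer ((⨆ b, l b : Subgroup G) : Set G))
    (perm : ∀ P : Subgroup G, IsParS (S : Subgroup G) P → ∀ x ∈ P, ∀ b, ∃ c, cj x (N b) = N c) :
    NF S N l (TAct.BB (S : Subgroup G) l) where
  eq := rfl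
  lN := h.lN
  lS := fun b => (h.lV b).trans h.VS
  lc := fun a b => (h.lV a).trans (h.com.trans (centralizer_le (h.lV b)))
  Ninj := fun _ _ e => h.N_inj e
  NB := fun x hx => h.permX x hx (h.B_le hx)
  cz := cz
  par := perm
  wc := fun P hP g hg => h.wc g (by
    rw [← h.sup]
    exact NonF.norm_ZJ (l := N) (perm P hP g hg))
  BN := NonF.BN_of hRC hRN hB

/-- **The hypothesis `non` of `Tf.typT`**, `B` acting on the blocks like the groups `R b`. -/
theorem non' (hG : Ctx G) (hF : Full (S : Subgroup G)) (h : Tf S V N l)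
    (hRN : ∀ b, R b ≤ normalizer (N b : Set G)) (hRC : ∀ b c, b ≠ c → R b ≤ centralizer (N c : Set G))
    (hB : ∀ s ∈ TAct.BB (S : Subgroup G) l, ∀ b, ∃ r ∈ R b, ∀ v ∈ N b, s * v * s⁻¹ = r * v * r⁻¹)
    (cz : CZ (S : Subgroup G) ≤ normalizer ((⨆ b, l b : Subgroup G) : Set G))
    (perm : ∀ P : Subgroup G, IsParS (S : Subgroup G) P → ∀ x ∈ P, ∀ b, ∃ c, cj x (N b) = N c) :
    ∀ U : Subgroup G, IsPGroup 2 U →
      (∀ j, YY (TAct.FF (S : Subgroup G) N l) j ≤ normalizer (U : Set G)) → U = ⊥ :=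
  (nf' h hRN hRC hB cz perm).non hG hF fun _ => inf_le_left

/-- the frame `NF` from `Tf` and `Bls` -/
theorem nf (h : Tf S V N l) (hb : TBlk.Bls (S : Subgroup G) V N l E)
    (cz : CZ (S : Subgroup G) ≤ normalizer ((⨆ b, l b : Subgroup G) : Set G))
    (perm : ∀ P : Subgroup G, IsParS (S : Subgroup G) P → ∀ x ∈ P, ∀ b, ∃ c, cj x (N b) = N c) :
    NF S N l (TAct.BB (S : Subgroup G) l) :=
  nf' h (R := fun b => (S : Subgroup G) ⊓ E b) (fun b => inf_le_right.trans (hb.EN b))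
    (fun b c hbc => inf_le_right.trans (hb.EC b c hbc)) (NonBls.B_act hb S.isPGroup') cz perm

/-- **The hypothesis `non` of `Tf.typT`.** -/
theorem non (hG : Ctx G) (hF : Full (S : Subgroup G)) (h : Tf S V N l) (hb : TBlk.Bls (S : Subgroup G) V N l E)
    (cz : CZ (S : Subgroup G) ≤ normalizer ((⨆ b, l b : Subgroup G) : Set G))
    (perm : ∀ P : Subgroup G, IsParS (S : Subgroup G) P → ∀ x ∈ P, ∀ b, ∃ c, cj x (N b) = N c) :
    ∀ U : Subgroup G, IsPGroup 2 U →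
      (∀ j, YY (TAct.FF (S : Subgroup G) N l) j ≤ normalizer (U : Set G)) → U = ⊥ :=
  (nf h hb cz perm).non hG hF fun _ => inf_le_left

/-- The hypothesis `non` from a nonlocality theorem for `⟨C_G(Z_J), L b : b⟩` (one class, `nlQ`): `F i ≤ l i`, `L b`
centralises the lines `l c`, `c ≠ b`. -/
theorem non_of_nl {l F L : ι → Subgroup G} {ZJ : Subgroup G} (hZJ : (⨆ b, l b) ≤ ZJ) (hFl : ∀ i, F i ≤ l i)
    (hL : ∀ b c, c ≠ b → L b ≤ centralizer (l c : Set G))
    (nl : ∀ R : Subgroup G, IsPGroup 2 R → centralizer (ZJ : Set G) ≤ normalizer (R : Set G) →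
      (∀ i, L i ≤ normalizer (R : Set G)) → R = ⊥) :
    ∀ U : Subgroup G, IsPGroup 2 U → (∀ j, YY F j ≤ normalizer (U : Set G)) → U = ⊥ := by
  intro U hU2 hU
  obtain ⟨i⟩ := ‹Nonempty ι›
  refine nl U hU2 (le_trans (le_YY fun c _ => centralizer_le ?_) (hU i)) fun b =>
    (le_YY fun c hc => (hL b c hc).trans (centralizer_le (hFl c))).trans (hU b)
  exact_mod_cast ((hFl c).trans (le_iSup l c)).trans hZJ

end Cfsg.Agent.Omega.NOThreeL.RWide.NonTf

end

-- merged: Cfsg.Agent.Mrg.Omega.NOThreeL.RRed.UMany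
section

/-!
# NO-3L, box R: at least three natural blocks (helper848 #25339): the glue

* `false_of_tfm` : `TFm` (natural blocks of `V*`, at least three), `C_G(Z) ≤ N_G(∏ l b)`, `P*(S)` permutes the blocks and
  `parT` are contradictory;
* `InstU B`, `ParU B` : the instance `TFm` and `parT` in the situation of `WLeftMany`;
* **`wLeftMany_of`** : `InstU B`, `ParU B` ⟹ `WLeftMany K B`.
-/

set_option autoImplicit false
set_option linter.unusedSectionVars false

namespace Cfsg.Agent.Omega.NOThreeL.RRed.UMany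

open Subgroup Cfsg Cfsg.Agent.ZN Cfsg.Agent.Omega.MinPar Cfsg.Agent.Omega.Frame Cfsg.Agent.Omega.FrameNOFF
open Cfsg.Agent.ZN.ChoiceBase (cj)
open Cfsg.Agent.Omega.NOThreeL.RTree (RB)
open Cfsg.Agent.Omega.NOThreeL.RRed.GlueSig
open Cfsg.Agent.Omega.NOThreeL.Merge (MZ)
open Cfsg.Agent.Omega.NOThreeL.Basic
open Cfsg.Agent.Omega.NOThreeL.RRed.WideTree
open Cfsg.Agent.Omega.NOThreeL.RWide
open Cfsg.Agent.Omega.KL.StarM (NoInpM)
open Cfsg.Agent.MinSimple.MinParabolic (IsMinPar)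
open scoped Pointwise

universe u v

section one

variable {G : Type u} [Group G] [Finite G] {S : Sylow 2 G} {ι : Type v} [Finite ι] [Nonempty ι] {V : Subgroup G}
  {N l E : ι → Subgroup G}

/-- `parT` -/
def ParT (S : Subgroup G) (N l : ι → Subgroup G) : Prop :=
  ∀ j P, IsMinPar (TAct.TT S N) P → P ≤ YY (TAct.FF S N l) j →
    P ≤ centralizer (TAct.FF S N l j : Set G) ∨ ∀ i, P ≤ normalizer (N i : Set G)

/-- `X_j` is a `K`-group -/
theorem kgroup (h : RB S) {F : ι → Subgroup G} {j : ι} (three : ∃ k, k ≠ j) (hF : ∀ i, F i ≠ ⊥) :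
    IsKGroup (YY F j) := by
  have := h.ctx.simple
  obtain ⟨k, hk⟩ := three
  refine h.ctx.kproper _ fun e => ?_
  have h1 : centralizer (F k : Set G) = ⊤ := top_le_iff.1 (e.symm.le.trans (YY_le_cent hk))
  have h2 : F k ≤ center G := by
    intro x hx
    rw [mem_center_iff]
    intro g
    have h3 : g ∈ centralizer (F k : Set G) := by rw [h1]; exact mem_top g
    exact ((mem_centralizer_iff.1 h3) x hx).symm
  rcases (inferInstance : (center G).Normal).eq_bot_or_eq_top with h3 | h3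
  · exact hF k (le_bot_iff.1 (h2.trans h3.le))
  · -- `G` is abelian
    refine h.ctx.nonComm ⟨⟨fun a b => ?_⟩⟩
    have h4 : b ∈ center G := by rw [h3]; exact mem_top b
    exact (mem_center_iff.1 h4 a)

/-- **contradiction from `TFm`** -/
theorem false_of_tfm (hML : ML.Final.MLK.{u, u}) (hE : NoInpM.{u, u}) (h : RB S) (hT : TFm S V N l E)
    (three : ∀ a b : ι, ∃ c, c ≠ a ∧ c ≠ b)
    (cz : CZ (S : Subgroup G) ≤ normalizer ((⨆ b, l b : Subgroup G) : Set G))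
    (perm : ∀ P : Subgroup G, IsParS (S : Subgroup G) P → ∀ x ∈ P, ∀ b, ∃ c, cj x (N b) = N c)
    (parT : ParT (S : Subgroup G) N l) : False := by
  have wc : ∀ g ∈ normalizer (V : Set G), cj g (TAct.BB (S : Subgroup G) l) ≤ S →
      cj g (TAct.BB (S : Subgroup G) l) = TAct.BB (S : Subgroup G) l := fun g hg hB => hT.toBls.wc hg hB
  have permX : ∀ x ∈ normalizer (TAct.BB (S : Subgroup G) l : Set G), x ∈ normalizer (V : Set G) →
      ∀ b, ∃ c, cj x (l b) = l c ∧ cj x (N b) = N c := fun x hx hxV b => TPerm.permX hT.toBls hx hxV b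
  have htf := hT.tf wc permX
  have hty := hT.typT three wc permX parT (NonTf.non h.ctx h.full htf hT.toBls cz perm)
  exact hty.false_of h.ctx.char2 hML
    (fun j => kgroup h (by obtain ⟨c, hc, -⟩ := three j j; exact ⟨c, hc⟩) htf.ne) hE

end one

section many

variable (B : Fr.{u})

/-- **the instance** `TFm` in the situation of `WLeftMany` -/
def InstU : Prop :=
  ∀ (G : Type u) [Group G] [Finite G] (S : Sylow 2 G), B G S → Wide S → MvAct (S : Subgroup G) →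
    ∀ (ι : Type u) [Finite ι] (W : ι → Subgroup G), CM (S : Subgroup G) W → (∃ i j : ι, i ≠ j) →
      Left (S : Subgroup G) W → ∀ (κ : Type u) [Finite κ] (N E D l : κ → Subgroup G) (q : κ → ℕ) (side : κ → ι),
        NBs (S : Subgroup G) N E D l q → Src (S : Subgroup G) N l q → Fits N W side → AllB (S : Subgroup G) N →
          PermL (S : Subgroup G) l side → (∀ a b : κ, ∃ c, c ≠ a ∧ c ≠ b) → TFm S (Wd (S : Subgroup G)) N l E

/-- **`parT`** in the situation of `WLeftMany` -/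
def ParU : Prop :=
  ∀ (G : Type u) [Group G] [Finite G] (S : Sylow 2 G), B G S → Wide S → MvAct (S : Subgroup G) →
    ∀ (ι : Type u) [Finite ι] (W : ι → Subgroup G), CM (S : Subgroup G) W → (∃ i j : ι, i ≠ j) →
      Left (S : Subgroup G) W → ∀ (κ : Type u) [Finite κ] (N E D l : κ → Subgroup G) (q : κ → ℕ) (side : κ → ι),
        NBs (S : Subgroup G) N E D l q → Src (S : Subgroup G) N l q → Fits N W side → AllB (S : Subgroup G) N →
          PermL (S : Subgroup G) l side → (∀ a b : κ, ∃ c, c ≠ a ∧ c ≠ b) → TFm S (Wd (S : Subgroup G)) N l E →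
            ParT (S : Subgroup G) N l

/-- **`WLeftMany`** -/
theorem wLeftMany_of (hML : ML.Final.MLK.{u, u}) (hE : NoInpM.{u, u}) (K : Cls.{u}) {B : Fr.{u}} (hI : InstU B)
    (hP : ParU B) : WLeftMany K B := by
  intro G _ _ _ S hB hW hm ι _ W hC hij hL κ _ N E D l q side hN hs hf ha hp three
  exfalso
  have hT := hI G S hB hW hm ι W hC hij hL κ N E D l q side hN hs hf ha hp three
  have hne : Nonempty κ := by
    by_contra hn
    rw [not_nonempty_iff] at hn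
    obtain ⟨i, -⟩ := hij
    apply hC.ne i
    rw [hf i]
    exact iSup_of_empty _
  refine false_of_tfm hML hE hW.toRB hT three ?_ (fun P hP x hx b => ?_)
    (hP G S hB hW hm ι W hC hij hL κ N E D l q side hN hs hf ha hp three hT)
  · intro c hc
    refine Cfsg.Agent.ZN.ChoiceBase.mem_normalizer_of_cj_le ?_
    rw [cj, Subgroup.map_iSup]
    refine iSup_le fun b => ?_
    obtain ⟨b', -, hb'⟩ := hp c hc b
    exact (le_of_eq hb').trans (le_iSup l b')
  · obtain ⟨c, hc, -⟩ := hN.perm x (Merge.le_MZ hP hx) b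
    exact ⟨c, hc⟩

end many

end Cfsg.Agent.Omega.NOThreeL.RRed.UMany

end

-- merged: Cfsg.Agent.Mrg.Omega.NOThreeL.RRed.UInstW
section

section


/-!
# NO-3L, box R: the socket `UMany.InstU` (helper258)

* `two_of` : two classes give two `S`-orbits of blocks;
* `instU'` : `InstU B` from `zc B ≤ O₂(C_G(X))` for `1 ≠ X ≤ Z`.
-/

set_option autoImplicit false
set_option linter.unusedSectionVars false

namespace Cfsg.Agent.Omega.NOThreeL.RRed.UInst

open Subgroup Cfsg Cfsg.Agent.ZN Cfsg.Agent.ZN.ChoiceBase Cfsg.Agent.Omega.MinPar Cfsg.Agent.Omega.Frame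
open Cfsg.Agent.Omega.FrameNOFF Cfsg.Agent.Omega.Node.NO3L Cfsg.Agent.Omega.NOThreeL.Basic
open Cfsg.Agent.Omega.NOThreeL.Merge (MZ)
open Cfsg.Agent.Omega.NOThreeL.RTree (RB)
open Cfsg.Agent.Omega.NOThreeL.RRed.WideTree Cfsg.Agent.Omega.NOThreeL.RRed.GlueSig
open Cfsg.Agent.Omega.NOThreeL.RWide

open scoped Pointwise

universe u

variable {G : Type u} [Group G] [Finite G] {S : Sylow 2 G} {ι κ : Type u} {W : ι → Subgroup G}
  {N E D l : κ → Subgroup G} {q : κ → ℕ} {side : κ → ι}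

/-- two classes: two `S`-orbits -/
theorem two_of (hC : CM (S : Subgroup G) W) (hij : ∃ i j : ι, i ≠ j) (hN : NBs (S : Subgroup G) N E D l q)
    (hf : Fits N W side) : ∀ b, ∃ c, ∀ s ∈ (S : Subgroup G), MulAut.conj s • N b ≠ N c := by
  intro b
  obtain ⟨j, hj⟩ : ∃ j, j ≠ side b := by
    obtain ⟨i, j, hij⟩ := hij
    by_cases h : i = side b
    · exact ⟨j, fun e => hij (h.trans e.symm)⟩
    · exact ⟨i, h⟩
  obtain ⟨c, hc⟩ : ∃ c, side c = j := by
    by_contra hcon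
    push Not at hcon
    apply hC.ne j
    rw [hf j, eq_bot_iff]
    exact iSup_le fun b => absurd b.2 (hcon b.1)
  refine ⟨c, fun s hs e => hN.dec.ne c ?_⟩
  have h1 : N c ≤ W j := by
    rw [hf j]
    exact le_iSup (fun b : {b // side b = j} => N b) ⟨c, hc⟩
  have h2 : N c ≤ W (side b) := by
    have h3 : N b ≤ W (side b) := by
      rw [hf (side b)]
      exact le_iSup (fun c : {c // side c = side b} => N c) ⟨b, rfl⟩
    have h4 : cj s (N b) ≤ cj s (W (side b)) := cj_mono s h3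
    rw [mem_normalizer_iff_cj.1 (hC.inv (side b) (hN.dec.SL hs))] at h4
    rw [← e]
    exact h4
  rw [← le_bot_iff, ← hC.ind (side b)]
  exact le_inf h2 (h1.trans (le_iSup (fun j : {j // j ≠ side b} => W j) ⟨j, hj⟩))

/-- **`zc B ≤ O₂(C_G(X))`** -/
def ZcK : Prop :=
  ∀ (G : Type u) [Group G] [Finite G] (S : Sylow 2 G), RB S → ∀ (κ : Type u) [Finite κ] (N E D l : κ → Subgroup G)
    (q : κ → ℕ), NBs (S : Subgroup G) N E D l q → Src (S : Subgroup G) N l q →
      (∀ c ∈ centralizer (zc (S : Subgroup G) : Set G), ∀ b, ∃ b', MulAut.conj c • l b = l b') →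
        ∀ X : Subgroup G, X ≤ zc (S : Subgroup G) → X ≠ ⊥ →
          zc ((S : Subgroup G) ⊓ centralizer ((⨆ b, l b : Subgroup G) : Set G)) ≤ o2 (centralizer (X : Set G))

/-- **the socket `InstU`** from `ZcK` -/
theorem instU' (hK : ZcK.{u}) (B : Fr.{u}) : UMany.InstU B := by
  intro G _ _ S _ hW _ ι _ W hC hij _ κ _ N E D l q side hN hs hf ha hp _
  have ln : ∀ c ∈ centralizer (zc (S : Subgroup G) : Set G), ∀ b, ∃ b', MulAut.conj c • l b = l b' := fun c hc b => by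
    obtain ⟨b', -, h1⟩ := hp c hc b
    exact ⟨b', h1⟩
  have two := two_of hC hij hN hf
  refine tfm_of' hW.toRB hN hs ha ln two fun b => ?_
  obtain ⟨c, hc⟩ := two b
  exact hK G S hW.toRB κ N E D l q hN hs ln _ (UX_le b) (UX_ne hW.toRB hN hc)

end Cfsg.Agent.Omega.NOThreeL.RRed.UInst

end

section


/-!
# NO-3L, box R: `Ω₁Z(B) ≤ O₂(C_G(X))` for `1 ≠ X ≤ Z`, and the `T`-frame (helper258; text helper644, helper230 #24393)

`B = C_S(⨆ l)`, `O = O₂(C_G(Z))`.
* `Z_le` : `Z ≤ ⨆ l`; `zcB_O` : `Ω₁Z(B) ≤ O` (`C_G(⨆ l)` has characteristic 2); `zcB_A` : `Ω₁Z(B) ≤ A` for `A ∈ 𝒜(O)`;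
* `exists_A` : some `A ∈ 𝒜(O)` is in `O₂(C_G(X))` (MLK);
* **`zcK`** : `Ω₁Z(B) ≤ O₂(C_G(X))`;  **`tfm_of`** : `TFm S (Wd S) N l E`;  **`instU`** : the socket `UMany.InstU`.
-/

set_option autoImplicit false
set_option linter.unusedSectionVars false

namespace Cfsg.Agent.Omega.NOThreeL.RRed.UInst

open Subgroup Cfsg Cfsg.Agent.ZN Cfsg.Agent.ZN.ChoiceBase Cfsg.Agent.Omega.MinPar Cfsg.Agent.Omega.Frame
open Cfsg.Agent.Omega.FrameNOFF Cfsg.Agent.Omega.Node.NO3L Cfsg.Agent.Omega.NOThreeL.Basic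
open Cfsg.Agent.Omega.NOThreeL.RTree (RB)
open Cfsg.Agent.Omega.NOThreeL.RRed.WideTree Cfsg.Agent.Omega.NOThreeL.RRed.GlueSig
open Cfsg.Agent.Omega.NOThreeL.RWide Cfsg.Agent.Omega.NOThreeL.RRed.ULb
open Cfsg.Agent.Omega.ML.Final (MLK)
open Cfsg.Agent.ZN.ChoiceSit (Syl o2_le_syl)

open scoped Pointwise

universe u

variable {G : Type u} [Group G] [Finite G] {S : Sylow 2 G} {ι : Type u} [Finite ι] {N E D l : ι → Subgroup G}
  {q : ι → ℕ}

/-- `Z ≤ ⨆ l` -/
theorem Z_le (hN : NBs (S : Subgroup G) N E D l q) : zc (S : Subgroup G) ≤ ⨆ b, l b := by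
  obtain ⟨F, i1, i2, i3, x, y, h⟩ := hN.bls.exists_kd
  intro z hz
  have hzV : z ∈ Wd (S : Subgroup G) := zc_le_Wd _ hz
  refine h.memZ.2 ⟨hzV, fun b => ?_⟩
  obtain ⟨s, hs, h1⟩ := h.root b 1
  have h2 := (h1 z hzV).1.1
  have h3 : s * z * s⁻¹ = z := by
    rw [(ChoiceBase.mem_zc.1 hz).2.2 s hs, mul_inv_cancel_right]
  rw [h3, one_mul] at h2
  exact left_eq_add.1 h2

variable (hB : RB S) (hN : NBs (S : Subgroup G) N E D l q)
  (ln : ∀ c ∈ centralizer (zc (S : Subgroup G) : Set G), ∀ b, ∃ b', MulAut.conj c • l b = l b')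
include hB hN ln

/-- `Ω₁Z(B) ≤ O` -/
theorem zcB_O : zc ((S : Subgroup G) ⊓ centralizer ((⨆ b, l b : Subgroup G) : Set G)) ≤ o2 (CZ (S : Subgroup G)) := by
  have hZ := Z_le hN
  have hJ := cz ln
  have hJS : (⨆ b, l b : Subgroup G) ≤ (S : Subgroup G) :=
    (iSup_mono hN.bls.lN).trans ((sup_N hN).le.trans (WS hB))
  have hJ2 : IsPGroup 2 (⨆ b, l b : Subgroup G) := S.isPGroup'.to_le hJS
  have hJ1 : (⨆ b, l b : Subgroup G) ≠ ⊥ := fun h0 => zc_ne hB (le_bot_iff.1 (hZ.trans h0.le))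
  have hsyl : Syl ((S : Subgroup G) ⊓ centralizer ((⨆ b, l b : Subgroup G) : Set G))
      (centralizer ((⨆ b, l b : Subgroup G) : Set G)) :=
    syl_inf ((le_CZ S).trans (hJ.trans (ML.GMod.nc _)))
  intro n hn
  obtain ⟨h1, -, h2⟩ := ChoiceBase.mem_zc.1 hn
  have h3 : n ∈ o2 (centralizer ((⨆ b, l b : Subgroup G) : Set G)) := by
    refine NOne.LemmaT.char2_centralizer hB.ctx.char2 hJ2 hJ1 ⟨h1.2, ?_⟩
    exact mem_centralizer_iff.2 fun x hx => h2 x (o2_le_syl hsyl hx)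
  have h4 : o2 (centralizer ((⨆ b, l b : Subgroup G) : Set G)) ≤ o2 (CZ (S : Subgroup G)) := by
    refine MinSimple.VModule.le_o2 ((MinSimple.VModule.o2_le _).trans (centralizer_le hZ))
      (MinSimple.VModule.o2_isPGroup _) ?_
    exact (hJ.trans (ML.GMod.nc _)).trans (ML.GMod.normalizer_le_normalizer_o2 _)
  exact h4 h3

/-- `Ω₁Z(B) ≤ A` for `A ∈ 𝒜(O)` -/
theorem zcB_A (hs : Src (S : Subgroup G) N l q) {A : Subgroup G} (hA : KL.TwoS.Mx (o2 (CZ (S : Subgroup G))) A) :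
    zc ((S : Subgroup G) ⊓ centralizer ((⨆ b, l b : Subgroup G) : Set G)) ≤ A := by
  refine hA.le_of_comm (zcB_O hB hN ln) (fun z hz => (ChoiceBase.mem_zc.1 hz).2.1) fun z hz => ?_
  exact mem_centralizer_iff.2 fun a ha => (ChoiceBase.mem_zc.1 hz).2.2 a (AA_le_B hB hN hs hA ha)

omit hN ln in
/-- some `A ∈ 𝒜(O)` is in `O₂(C_G(X))` -/
theorem exists_A (hM : MLK.{u, u}) {X : Subgroup G} (hX : X ≤ zc (S : Subgroup G)) (hX1 : X ≠ ⊥) :
    ∃ A, KL.TwoS.Mx (o2 (CZ (S : Subgroup G))) A ∧ A ≤ o2 (centralizer (X : Set G)) := by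
  have hlong := isLong_of (S := S) hX hX1
  have hU := hlong.zl_le_o2 hB.ctx.char2 S
  obtain ⟨A, hA⟩ := KL.TwoS.Mx.exists_mx (o2 (CZ (S : Subgroup G)))
  have hkg : IsKGroup (centralizer (X : Set G)) :=
    ML.GNN.kgroup_of_isLoc hB.ctx hB.ctx.not_isPGroup hlong.loc
  have hsq : ∀ x ∈ zl (S : Subgroup G) (centralizer (X : Set G)), x ^ 2 = 1 := fun x hx =>
    MinSimple.VModule.zc_sq _ _ (hlong.loc.zl_le S hB.ctx.char2 hx)
  refine ⟨_, hA.sup (hU.trans (o2_le hX hX1)) hsq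
    (RZ.TwoC.Loc.gml hM hB.ctx hlong.loc hkg hA.le hA.sq), sup_le ?_ hU⟩
  exact (inf_le_inf_right _ hA.le).trans (RZ.TwoC.Loc.inf_cent_le hlong.loc.le (MinSimple.VModule.zc_le_zl _ _)
    (MinSimple.VModule.le_normalizer_zl _ _))

/-- **`Ω₁Z(B) ≤ O₂(C_G(X))`** -/
theorem zcK (hM : MLK.{u, u}) (hs : Src (S : Subgroup G) N l q) {X : Subgroup G} (hX : X ≤ zc (S : Subgroup G))
    (hX1 : X ≠ ⊥) :
    zc ((S : Subgroup G) ⊓ centralizer ((⨆ b, l b : Subgroup G) : Set G)) ≤ o2 (centralizer (X : Set G)) := by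
  obtain ⟨A, hA, h1⟩ := exists_A hB hM hX hX1
  exact (zcB_A hB hN ln hs hA).trans h1

/-- **the `T`-frame** -/
theorem tfm_of (hM : MLK.{u, u}) (hs : Src (S : Subgroup G) N l q) (hall : AllB (S : Subgroup G) N)
    (two : ∀ b, ∃ c, ∀ s ∈ (S : Subgroup G), MulAut.conj s • N b ≠ N c) : TFm S (Wd (S : Subgroup G)) N l E := by
  refine tfm_of' hB hN hs hall ln two fun b => ?_
  obtain ⟨c, hc⟩ := two b
  exact zcK hB hN ln hM hs (UX_le b) (UX_ne hB hN hc)

omit hB hN ln in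
/-- **the socket `UMany.InstU`** -/
theorem instU (hM : MLK.{u, u}) (B : Fr.{u}) : UMany.InstU B :=
  instU' (fun _ _ _ _ hB _ _ _ _ _ _ _ hN hs ln _ hX hX1 => zcK hB hN ln hM hs hX hX1) B

end Cfsg.Agent.Omega.NOThreeL.RRed.UInst

end

section


/-!
# NO-3L, box R, at least three natural blocks: everything from `parT` (helper258; heads helper848, helper823, helper971)

* `ParX` : the theorem `parT` (#27137, #26838) as a proposition: only `Ctx G`, `TFm`, `ln`, `all`, `three`;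
* `parU_of` : `ParX` ⟹ `UMany.ParU B`;  **`wLeftMany_of`** : `ParX` ⟹ `WLeftMany K B`;
* **`false_of_orbits`** : `ParX`, `RB S`, natural blocks in at least two `S`-orbits, at least three blocks, `𝒜(O)` moves every
  block, `C_G(Z)` permutes the lines ⟹ `False` (any number of classes).
-/

set_option autoImplicit false
set_option linter.unusedSectionVars false

namespace Cfsg.Agent.Omega.NOThreeL.RRed.UPar

open Subgroup Cfsg Cfsg.Agent.ZN Cfsg.Agent.Omega.MinPar Cfsg.Agent.Omega.Frame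
open Cfsg.Agent.Omega.NOThreeL.RTree (RB)
open Cfsg.Agent.Omega.NOThreeL.RRed.WideTree Cfsg.Agent.Omega.NOThreeL.RRed.GlueSig
open Cfsg.Agent.Omega.NOThreeL.RWide
open Cfsg.Agent.Omega.KL.StarM (NoInpM)
open Cfsg.Agent.Omega.ML.Final (MLK)
open Cfsg.Agent.Omega.NOThreeL.RRed.UMany (ParT ParU)

open scoped Pointwise

universe u

/-- **the theorem `parT`** (#27137) -/
def ParX : Prop :=
  ∀ (G : Type u) [Group G] [Finite G], Ctx G → ∀ (S : Sylow 2 G) (V : Subgroup G) (ι : Type u) [Finite ι]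
    (N l E : ι → Subgroup G), TFm S V N l E →
      (∀ c ∈ centralizer (zc (S : Subgroup G) : Set G), ∀ b, ∃ b', MulAut.conj c • l b = l b') →
        (∀ b, ∃ A, KL.TwoS.Mx (o2 (centralizer (zc (S : Subgroup G) : Set G))) A ∧
          ¬ A ≤ centralizer (N b : Set G)) → (∀ i j : ι, ∃ k, k ≠ i ∧ k ≠ j) → ParT (S : Subgroup G) N l

theorem parU_of (h : ParX.{u}) (B : Fr.{u}) : ParU B := by
  intro G _ _ S _ hW _ _ _ _ _ _ _ κ _ N E D l q side _ _ _ ha hp three hT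
  refine h G hW.toRB.ctx S _ κ N l E hT (fun c hc b => ?_) ha three
  obtain ⟨b', -, h1⟩ := hp c hc b
  exact ⟨b', h1⟩

/-- **`WLeftMany`** -/
theorem wLeftMany_of (hM : MLK.{u, u}) (hE : NoInpM.{u, u}) (h : ParX.{u}) (K : Cls.{u}) (B : Fr.{u}) :
    WLeftMany K B := UMany.wLeftMany_of hM hE K (UInst.instU hM B) (parU_of h B)

/-- **at least two `S`-orbits, at least three blocks** -/
theorem false_of_orbits (hM : MLK.{u, u}) (hE : NoInpM.{u, u}) (h : ParX.{u}) {G : Type u} [Group G] [Finite G]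
    {S : Sylow 2 G} {ι : Type u} [Finite ι] {N E D l : ι → Subgroup G} {q : ι → ℕ} (hB : RB S)
    (hN : NBs (S : Subgroup G) N E D l q) (hs : Src (S : Subgroup G) N l q) (hall : AllB (S : Subgroup G) N)
    (ln : ∀ c ∈ centralizer (zc (S : Subgroup G) : Set G), ∀ b, ∃ b', MulAut.conj c • l b = l b')
    (two : ∀ b, ∃ c, ∀ s ∈ (S : Subgroup G), MulAut.conj s • N b ≠ N c) (three : ∀ i j : ι, ∃ k, k ≠ i ∧ k ≠ j) :
    False := by
  have hT := UInst.tfm_of hB hN ln hM hs hall two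
  have hne : Nonempty ι := by
    by_contra hn
    rw [not_nonempty_iff] at hn
    have h1 : (⊥ : Subgroup G) = Wd (S : Subgroup G) := by rw [← ULb.sup_N hN, iSup_of_empty]
    exact UInst.zc_ne hB (le_bot_iff.1 ((zc_le_Wd _).trans h1.symm.le))
  exact UMany.false_of_tfm hM hE hB hT three (UInst.cz ln) (UInst.perm hN) (h G hB.ctx S _ ι N l E hT ln hall three)

end Cfsg.Agent.Omega.NOThreeL.RRed.UPar

end

end

-- merged: Cfsg.Agent.Mrg.Omega.NOThreeL.RRed.OrbPerm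
section

/-!
# PERM+ over `S`-orbits, from `NBs`, `Src`, `AllB` (helper540)

* **`perm_orb_nbs`** : at least two `S`-orbits of blocks (one class allowed): `C_G(Z)` permutes the lines of each
  `S`-orbit.
-/

set_option autoImplicit false
set_option linter.unusedSectionVars false

namespace Cfsg.Agent.Omega.NOThreeL.RRed.OrbPerm

open Subgroup Cfsg Cfsg.Agent.ZN
open Cfsg.Agent.Omega.NOThreeL.Merge (MZ)
open Cfsg.Agent.Omega.NOThreeL.RTree (RB)
open Cfsg.Agent.Omega.NOThreeL.RRed.GlueSig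
open Cfsg.Agent.Omega.NOThreeL.RRed.WideTree
open Cfsg.Agent.Omega.NOThreeL.RWide
open scoped Pointwise

universe u

variable {G : Type u} [Group G] [Finite G] {S : Sylow 2 G} {ι : Type u} {N E D l : ι → Subgroup G} {q : ι → ℕ}

theorem N_le (h : NBs (S : Subgroup G) N E D l q) (b : ι) : N b ≤ Wd (S : Subgroup G) := by
  rw [← h.dec.sup]
  exact le_sup_of_le_left (le_iSup N b)

theorem perm_orb_nbs [Finite ι] (hB : RB S) (h : NBs (S : Subgroup G) N E D l q) (hs : Src (S : Subgroup G) N l q)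
    (ha : AllB (S : Subgroup G) N) (two : ∀ b, ∃ c, ∀ s ∈ (S : Subgroup G), MulAut.conj s • N b ≠ N c) :
    ∀ x ∈ centralizer (zc (S : Subgroup G) : Set G), ∀ b, ∃ b', (∃ s ∈ (S : Subgroup G), MulAut.conj s • N b = N b') ∧
      MulAut.conj x • l b = l b' := by
  refine PInst.perm_orb hB (fun b => (N_le h b).trans (WLeft.Wd_le_S hB)) (fun a b x hx y hy => ?_)
    (fun b x hx => WLeft.Wd_sq hB x (N_le h b hx)) (LeftData.dec_indep h.dec) h.dec.ne h.permN (fun b => ?_) ha two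
  · exact (mem_centralizer_iff.1 (h.dec.ab (N_le h a hx)) y (N_le h b hy)).symm
  · obtain ⟨P, hP, F, i1, _, i2, k, _, M, h', h1, ⟨j, h2, h3, -⟩, -⟩ := hs.mov b
    exact ⟨P, hP.1, F, i1, i2, k, M, h', j, h1, h2, h3⟩

end Cfsg.Agent.Omega.NOThreeL.RRed.OrbPerm

end

-- merged: Cfsg.Agent.Mrg.Omega.NOThreeL.RRed.OneFour
section

section


/-!
# Box R: natural blocks with `q = 4` permuted transitively by `S` are impossible (`|Z| ≥ 4`)

helper51 #27490; helper223's `four_false` (T3 of #26256) for any number of blocks.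

* `eq_one_of` : an `S`-fixed vector is determined by one component;
* `cent_line` : `P ∩ N(N b)` centralises the line `l b` if `P` fixes some `v ∈ Z`, `v ≠ 1`;
* **`one_four'`**, **`one_four`**.
-/

set_option autoImplicit false
set_option linter.unusedSectionVars false

namespace Cfsg.Agent.Omega.NOThreeL.RRed.OneFour

open Subgroup Cfsg Cfsg.Agent.ZN Cfsg.Agent.Omega.MinPar Cfsg.Agent.Omega.Frame Cfsg.Agent.Omega.FrameNOFF
open Cfsg.Agent.Omega.Node.NO3L Cfsg.Agent.Omega.NOThreeL.Basic Cfsg.Agent.Omega.NOThreeL.RTree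
open Cfsg.Agent.Omega.NOThreeL.Merge (MZ)
open Cfsg.Agent.Omega.NOThreeL.RRed.WideTree
open Cfsg.Agent.Omega.NOThreeL.RRed.Blk
open Cfsg.Agent.Omega.NOThreeL.RRed.OneTwoFour (conj_into smul_eq_iff core)
open Cfsg.Agent.ZN.ChoiceBase (cj mem_cj mem_normalizer_iff_cj card_cj isPGroup_cj)
open scoped Pointwise

universe u

variable {G : Type u} [Group G] [Finite G] {S : Sylow 2 G} {ι : Type u} {N E D l : ι → Subgroup G} {q : ι → ℕ} {b : ι}

section orb

variable [Finite ι] (h : NBs (S : Subgroup G) N E D l q)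
  (tr : ∀ a b, ∃ s ∈ (S : Subgroup G), MulAut.conj s • N a = N b)
include h tr

theorem eq_one_of {x : G} (hS : ∀ s ∈ (S : Subgroup G), s * x * s⁻¹ = x) (hx : x ∈ Wd (S : Subgroup G))
    (h1 : IsC N ⊥ b x 1) : x = 1 := by
  have h3 := h.dec.mem_R hx fun d => by
    obtain ⟨s, hs, e⟩ := tr b d
    have h2 := h.dec.comp_conj (h.dec.SL hs) e h1
    rwa [hS s hs, mul_one, mul_inv_cancel] at h2
  rwa [mem_bot] at h3

/-- `P ⊓ N(N b)` centralises the line `l b` if `P` fixes some `v ∈ Z`, `v ≠ 1`, `q b = 4`, `|Z| ≥ 4`. -/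
theorem cent_line (B : RB S) (hq : q b = 4) (hZ : 4 ≤ Nat.card (zc (S : Subgroup G))) {P : Subgroup G}
    (hP : IsParS (S : Subgroup G) P) {v : G} (hv : v ∈ zc (S : Subgroup G)) (hv1 : v ≠ 1)
    (hvP : ∀ g ∈ P, g * v * g⁻¹ = v) :
    (∀ z ∈ zc (S : Subgroup G), ∀ n, IsC N ⊥ b z n → n ∈ l b) ∧
      ∀ g ∈ P, MulAut.conj g • N b = N b → ∀ x ∈ l b, g * x = x * g := by
  classical
  have hSM : (S : Subgroup G) ≤ MZ (S : Subgroup G) := SM B
  have hPM : P ≤ MZ (S : Subgroup G) := le_MZ hP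
  have hSP : (S : Subgroup G) ≤ P := hP.isLoc.le
  have hzS : ∀ z ∈ zc (S : Subgroup G), ∀ s ∈ (S : Subgroup G), s * z * s⁻¹ = z := fun z hz s hs => by
    rw [(mem_zc.1 hz).2.1 s hs, mul_inv_cancel_right]
  obtain ⟨F, _, _, _, e, hF, hN⟩ := h.nat b
  have hEn : ∀ g ∈ D b, MulAut.conj g • N b = N b := fun g hg =>
    smul_eq_iff.2 (h.dec.EN b (h.DE b hg))
  have hnN : ∀ {g : G}, MulAut.conj g • N b = N b → ∀ x ∈ N b, g * x * g⁻¹ ∈ N b := fun hg x hx =>
    (conj_smul hg).1 hx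
  have hchar : ∀ x : F, x + x = 0 := fun x => CharTwo.add_self_eq_zero x
  have he1 : e 1 = 0 := by
    have := hN.mul 1 (one_mem _) 1 (one_mem _)
    rw [one_mul] at this
    exact left_eq_add.1 this
  have hN2 : ∀ x ∈ N b, x * x = 1 := fun x hx => hN.inj _ (mul_mem hx hx) (by
    rw [hN.mul x hx x hx]
    funext i
    exact hchar _)
  have hinv : ∀ x ∈ N b, x⁻¹ = x := fun x hx => inv_eq_of_mul_eq_one_right (hN2 x hx)
  have hein : ∀ x ∈ N b, ∀ y ∈ N b, e x = e y → x = y := fun x hx y hy hxy => by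
    have h1 : x * y = 1 := hN.inj _ (mul_mem hx hy) (by
      rw [hN.mul x hx y hy, hxy]
      funext i
      exact hchar _)
    rw [eq_comm, ← hinv x hx]
    exact (eq_inv_of_mul_eq_one_right h1)
  have hlN : l b ≤ N b := fun x hx => ((hN.line x).1 hx).1
  -- `|l b| = 4`
  have hcard : Nat.card (l b) = 4 := by
    rw [← hq, ← hF]
    refine Nat.card_congr (Equiv.ofBijective (fun x : l b => e (x : G) 0) ⟨?_, ?_⟩)
    · intro x y hxy
      obtain ⟨hx, hx1⟩ := (hN.line _).1 x.2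
      obtain ⟨hy, hy1⟩ := (hN.line _).1 y.2
      refine Subtype.ext (hein _ hx _ hy ?_)
      funext i
      fin_cases i
      · exact hxy
      · exact hx1.trans hy1.symm
    · intro a
      obtain ⟨x, hx, hxe⟩ := hN.sur ![a, 0]
      refine ⟨⟨x, (hN.line x).2 ⟨hx, by rw [hxe]; rfl⟩⟩, ?_⟩
      change e x 0 = a
      rw [hxe]; rfl
  -- commutators with the root elements
  have hcomm : ∀ s : G, MulAut.conj s • N b = N b → ∀ a : F,
      (∀ x ∈ N b, e (s * x * s⁻¹) = ![e x 0 + a * e x 1, e x 1]) → ∀ x ∈ N b,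
      e (s * x * s⁻¹ * x⁻¹) = ![a * e x 1, 0] := by
    intro s hs a hsa x hx
    rw [hinv x hx, hN.mul _ (hnN hs x hx) x hx, hsa x hx]
    funext i
    fin_cases i
    · change e x 0 + a * e x 1 + e x 0 = a * e x 1
      rw [add_comm (e x 0), add_assoc, hchar, add_zero]
    · change e x 1 + e x 1 = 0
      exact hchar _
  -- the `b`-components of `Z` are in `l b`
  have hcl : ∀ z ∈ zc (S : Subgroup G), ∀ n, IsC N ⊥ b z n → n ∈ l b := by
    intro z hz n hn
    obtain ⟨s, hs, hse⟩ := hN.sylow 1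
    have h1 := h.dec.comp_conj (hSM hs.1) (hEn s hs.2) hn
    rw [hzS z hz s hs.1] at h1
    have h2 := h.dec.uniq h1 hn
    refine (hN.line n).2 ⟨hn.1, ?_⟩
    have h3 := hse n hn.1
    rw [h2] at h3
    have h4 := congrFun h3 0
    change e n 0 = e n 0 + 1 * e n 1 at h4
    rw [one_mul] at h4
    exact left_eq_add.1 h4
  refine ⟨hcl, ?_⟩
  -- every element of `l b` is a component
  have hzW : ∀ z ∈ zc (S : Subgroup G), z ∈ Wd (S : Subgroup G) := fun z hz => zc_le_Wd _ hz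
  have hsurj : ∀ n ∈ l b, ∃ z ∈ zc (S : Subgroup G), IsC N ⊥ b z n := by
    choose f hf using fun z : zc (S : Subgroup G) => h.dec.ex_comp b (hzW z z.2)
    let φ : zc (S : Subgroup G) → l b := fun z => ⟨f z, hcl z z.2 _ (hf z)⟩
    have hφ : Function.Injective φ := by
      intro z z' hzz
      have h1 : f z = f z' := congrArg Subtype.val hzz
      have h2 := h.dec.comp_mul (h.dec.comp_inv (hf z)) (hf z')
      rw [h1, inv_mul_cancel] at h2
      have h3 : ((z : G))⁻¹ * (z' : G) = 1 :=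
        eq_one_of h tr (hzS _ (mul_mem (inv_mem z.2) z'.2))
          (hzW _ (mul_mem (inv_mem z.2) z'.2)) h2
      exact Subtype.ext (inv_mul_eq_one.1 h3)
    have hb : Function.Bijective φ := hφ.bijective_of_nat_card_le (by rw [hcard]; exact hZ)
    intro n hn
    obtain ⟨z, hz⟩ := hb.2 ⟨n, hn⟩
    have h1 : f z = n := congrArg Subtype.val hz
    exact ⟨z, z.2, h1 ▸ hf z⟩
  -- `v b`
  obtain ⟨v₀, hv₀⟩ := h.dec.ex_comp b (hzW v hv)
  have hv01 : v₀ ≠ 1 := by
    rintro rfl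
    exact hv1 (eq_one_of h tr (hzS v hv) (hzW v hv) hv₀)
  have key := core (T := (S : Subgroup G) ⊓ normalizer (N b : Set G)) (P₀ := P ⊓ normalizer (N b : Set G))
    (N := N b) (l := l b) (R := (S : Subgroup G) ⊓ D b) (v₀ := v₀) (S.isPGroup'.to_le inf_le_left) ?_
    (inf_le_inf_right _ hSP) (fun g hg x hx => (mem_normalizer_iff.1 hg.2 x).1 hx) hN2 hlN hcard ?_
    (inf_le_inf_left _ ((h.DE b).trans (h.dec.EN b))) ?_ (hcl v hv _ hv₀) hv01 ?_
  · intro g hg hgn x hx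
    exact key g ⟨hg, smul_eq_iff.1 hgn⟩ x hx
  · -- Sylow
    intro W hW hW2
    obtain ⟨p, hp, hpW⟩ := conj_into hSP (hW.trans inf_le_left) hW2
    obtain ⟨d, hd, -⟩ := h.dec.perm p (hPM hp) b
    obtain ⟨s, hs, hsd⟩ := tr d b
    have hgn : MulAut.conj (s * p) • N b = N b := by rw [map_mul, mul_smul, hd, hsd]
    refine ⟨s * p, ⟨mul_mem (hSP hs) hp, smul_eq_iff.1 hgn⟩, fun w hw => mem_inf.2 ⟨?_, ?_⟩⟩
    · have e3 : s * p * w * (s * p)⁻¹ = s * (p * w * p⁻¹) * s⁻¹ := by group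
      rw [e3]
      exact mul_mem (mul_mem hs (hpW w hw)) (inv_mem hs)
    · exact mul_mem (mul_mem (smul_eq_iff.1 hgn) (hW hw).2) (inv_mem (smul_eq_iff.1 hgn))
  · -- `T` centralises `l b`
    intro t ht x hx
    obtain ⟨z, hz, hzx⟩ := hsurj x hx
    have h1 := h.dec.comp_conj (hSM ht.1) (smul_eq_iff.2 ht.2) hzx
    rw [hzS z hz t ht.1] at h1
    exact mul_inv_eq_iff_eq_mul.1 (h.dec.uniq h1 hzx)
  · -- the root group
    intro x hx hxl z hz
    have hx1 : e x 1 ≠ 0 := fun h0 => hxl ((hN.line x).2 ⟨hx, h0⟩)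
    obtain ⟨hzN, hz1⟩ := (hN.line z).1 hz
    obtain ⟨s, hs, hse⟩ := hN.sylow (e z 0 / e x 1)
    refine ⟨s, hs, hein _ (mul_mem (hnN (hEn s hs.2) x hx) (inv_mem hx)) _ hzN ?_⟩
    rw [hcomm s (hEn s hs.2) _ hse x hx]
    funext i
    fin_cases i
    · change e z 0 / e x 1 * e x 1 = e z 0
      exact div_mul_cancel₀ _ hx1
    · exact hz1.symm
  · intro g hg
    have h1 := h.dec.comp_conj (hPM hg.1) (smul_eq_iff.2 hg.2) hv₀
    rw [hvP g hg.1] at h1
    exact mul_inv_eq_iff_eq_mul.1 (h.dec.uniq h1 hv₀)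

/-- **Natural blocks with `q = 4`, one `S`-orbit, `|Z| ≥ 4`: impossible.** -/
theorem one_four' (B : RB S) (hZ : 4 ≤ Nat.card (zc (S : Subgroup G))) (hq : ∀ b, q b = 4) : False := by
  obtain ⟨P, hP, hne⟩ := B.ex
  obtain ⟨v, hv, hv1⟩ : ∃ v ∈ zc (S : Subgroup G) ⊓ centralizer (P : Set G), v ≠ 1 := by
    by_contra hcon
    push Not at hcon
    exact hne ((eq_bot_iff_forall _).2 hcon)
  have hvP : ∀ g ∈ P, g * v * g⁻¹ = v := fun g hg => by
    rw [mem_centralizer_iff.1 hv.2 g hg, mul_inv_cancel_right]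
  have ha := fun b => cent_line (b := b) h tr B (hq b) hZ hP hv.1 hv1 hvP
  have hPM : P ≤ MZ (S : Subgroup G) := le_MZ hP
  have hSP : (S : Subgroup G) ≤ P := hP.isLoc.le
  -- `P` centralises `Z`
  refine hP.not_zc ((le_trans ?_ (centralizer_le_normalizer _)))
  intro p hp
  rw [mem_centralizer_iff]
  intro z hz
  have hzS : ∀ s ∈ (S : Subgroup G), s * z * s⁻¹ = z := fun s hs => by
    rw [(mem_zc.1 hz).2.1 s hs, mul_inv_cancel_right]
  have hzW : z ∈ Wd (S : Subgroup G) := zc_le_Wd _ hz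
  have key : p * z * p⁻¹ = z := by
    have h5 := h.dec.mem_R (mul_mem (inv_mem (nor p (hPM hp) z hzW)) hzW) fun c => by
      obtain ⟨d, hd, -⟩ := h.dec.perm p⁻¹ (inv_mem (hPM hp)) c
      have hd' : MulAut.conj p • N d = N c := by
        rw [← hd, ← mul_smul, ← map_mul, mul_inv_cancel, map_one, one_smul]
      obtain ⟨s, hs, hsc⟩ := tr c d
      have hs' : MulAut.conj s⁻¹ • N d = N c := by
        rw [← hsc, ← mul_smul, ← map_mul, inv_mul_cancel, map_one, one_smul]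
      have hg : MulAut.conj (s * p) • N d = N d := by rw [map_mul, mul_smul, hd', hsc]
      have hgP : s * p ∈ P := mul_mem (hSP hs) hp
      obtain ⟨n, hn⟩ := h.dec.ex_comp d hzW
      have h1 := h.dec.comp_conj (hPM hgP) hg hn
      rw [(ha d).2 _ hgP hg n ((ha d).1 z hz n hn), mul_inv_cancel_right] at h1
      have h2 := h.dec.comp_conj (h.dec.SL (inv_mem hs)) hs' h1
      have h3 := h.dec.comp_conj (h.dec.SL (inv_mem hs)) hs' hn
      rw [hzS _ (inv_mem hs)] at h3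
      have e1 : s⁻¹ * (s * p * z * (s * p)⁻¹) * s⁻¹⁻¹ = p * z * p⁻¹ := by group
      rw [e1] at h2
      have h4 := h.dec.comp_mul (h.dec.comp_inv h2) h3
      rwa [inv_mul_cancel] at h4
    rw [mem_bot] at h5
    exact inv_mul_eq_one.1 h5
  exact (mul_inv_eq_iff_eq_mul.1 key).symm

/-- the same over `Wide` -/
theorem one_four (W : Wide S) (hq : ∀ b, q b = 4) : False := one_four' h tr W.toRB W.four_le hq

end orb

end Cfsg.Agent.Omega.NOThreeL.RRed.OneFour

end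

section


/-!
# Box R, the left case: a fixed point on a coset of a product of four-groups (for helper449's `RRed/FourAO`)

`V = ⨆ N b` elementary abelian, `|N b| = 4`, `K` normalises all `N b` and is generated by elements of odd order, `K` acts on
`n V` and `K ⊓ C(V)` centralises `n`.

* `cube_mem` : `g ^ 3 ∈ C(N b)` for `g ∈ K`;
* **`exists_fix`** : `K` centralises some `n w`, `w ∈ V`.
-/

set_option autoImplicit false
set_option linter.unusedSectionVars false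

namespace Cfsg.Agent.Omega.NOThreeL.RRed.FourFix

open Subgroup Equiv.Perm

universe u

theorem perm_four : ∀ σ : Equiv.Perm (Fin 4), σ 0 = 0 → Equiv.Perm.sign σ = 1 → σ ^ 3 = 1 := by decide

theorem cube_of {A : Type*} [Fintype A] [DecidableEq A] (h4 : Nat.card A = 4) (a : A) (σ : Equiv.Perm A)
    (ha : σ a = a) (hs : sign σ = 1) : σ ^ 3 = 1 := by
  let e₀ : A ≃ Fin 4 := Finite.equivFinOfCardEq h4
  let e : A ≃ Fin 4 := e₀.trans (Equiv.swap (e₀ a) 0)
  have he : e a = 0 := Equiv.swap_apply_left _ _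
  have h1 : ((e.symm.trans σ).trans e) ^ 3 = 1 := by
    refine perm_four _ ?_ ?_
    · change e (σ (e.symm 0)) = 0
      rw [← he, Equiv.symm_apply_apply, ha]
    · rw [sign_symm_trans_trans, hs]
  have h2 : ∀ k : ℕ, ∀ x : A, (((e.symm.trans σ).trans e) ^ k) (e x) = e ((σ ^ k) x) := by
    intro k
    induction k with
    | zero => intro x; rfl
    | succ k ih =>
      intro x
      rw [pow_succ', pow_succ', Equiv.Perm.mul_apply, Equiv.Perm.mul_apply, ih]
      change e (σ (e.symm (e ((σ ^ k) x)))) = _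
      rw [Equiv.symm_apply_apply]
  ext x
  have h3 := h2 3 x
  rw [h1] at h3
  exact (e.injective h3).symm

variable {G : Type u} [Group G]

/-- `g ^ 3` centralises a four-group -/
theorem cube_mem [Finite G] {N K : Subgroup G} (h4 : Nat.card N = 4) (KN : K ≤ normalizer (N : Set G))
    (hodd : K ≤ closure {g | g ∈ K ∧ Odd (orderOf g)}) {g : G} (hg : g ∈ K) : g ^ 3 ∈ centralizer (N : Set G) := by
  classical
  have : Fintype N := Fintype.ofFinite N
  let f : normalizer (N : Set G) →* Equiv.Perm N := (MulAut.toPerm N).comp N.normalizerMonoidHom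
  have hf : ∀ (x : normalizer (N : Set G)) (y : N), ((f x y : N) : G) = x * y * (x : G)⁻¹ := fun x y => rfl
  let s : normalizer (N : Set G) →* ℤˣ := sign.comp f
  have h1 : K ≤ s.ker.map (normalizer (N : Set G)).subtype := by
    refine hodd.trans ((closure_le _).2 ?_)
    rintro x ⟨hx, k, hk⟩
    refine ⟨⟨x, KN hx⟩, ?_, rfl⟩
    rw [SetLike.mem_coe, MonoidHom.mem_ker]
    have h2 : (⟨x, KN hx⟩ : normalizer (N : Set G)) ^ (2 * k + 1) = 1 := by
      apply Subtype.ext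
      change x ^ (2 * k + 1) = 1
      rw [← hk, pow_orderOf_eq_one]
    have h3 := congrArg s h2
    rw [map_pow, map_one, pow_succ, pow_mul, Int.units_sq, one_pow, one_mul] at h3
    exact h3
  obtain ⟨x, hx, rfl⟩ := h1 hg
  rw [SetLike.mem_coe, MonoidHom.mem_ker] at hx
  have h2 : f x ^ 3 = 1 := by
    refine cube_of h4 1 _ ?_ hx
    apply Subtype.ext
    rw [hf]
    simp
  refine mem_centralizer_iff.2 fun y hy => ?_
  have h3 : f (x ^ 3) ⟨y, hy⟩ = ⟨y, hy⟩ := by rw [map_pow, h2]; rfl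
  have h4 := congrArg Subtype.val h3
  rw [hf] at h4
  change y * (x : G) ^ 3 = (x : G) ^ 3 * y
  have h5 : ((x ^ 3 : normalizer (N : Set G)) : G) = (x : G) ^ 3 := rfl
  rw [h5] at h4
  calc y * (x : G) ^ 3 = ((x : G) ^ 3 * y * ((x : G) ^ 3)⁻¹) * (x : G) ^ 3 := by rw [h4]
    _ = (x : G) ^ 3 * y := by group

/-- **A fixed point on `n V`.** -/
theorem exists_fix [Finite G] {V K : Subgroup G} {n : G} {ι : Type*} (N : ι → Subgroup G) (hV : V = ⨆ b, N b)
    (_Vc : V ≤ centralizer (V : Set G)) (sq : ∀ x ∈ V, x * x = 1) (h4 : ∀ b, Nat.card (N b) = 4)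
    (KN : ∀ b, K ≤ normalizer (N b : Set G)) (hodd : K ≤ closure {g | g ∈ K ∧ Odd (orderOf g)})
    (hn : ∀ g ∈ K, g * n * g⁻¹ * n⁻¹ ∈ V) (hc : ∀ g ∈ K, g ∈ centralizer (V : Set G) → g * n = n * g)
    (hnV : ∀ x ∈ V, n * x = x * n) : ∃ w ∈ V, ∀ g ∈ K, g * (n * w) = (n * w) * g := by
  classical
  have hcube : ∀ g ∈ K, g ^ 3 ∈ centralizer (V : Set G) := by
    intro g hg
    have h1 : zpowers (g ^ 3) ≤ centralizer (V : Set G) := by
      rw [le_centralizer_iff, hV]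
      refine iSup_le fun b => ?_
      rw [← le_centralizer_iff, zpowers_le]
      exact cube_mem (h4 b) (KN b) hodd hg
    exact h1 (mem_zpowers _)
  have KV : ∀ g ∈ K, ∀ x ∈ V, g * x * g⁻¹ ∈ V := by
    intro g hg
    have h1 : V ≤ V.comap (MulAut.conj g).toMonoidHom := by
      conv_lhs => rw [hV]
      refine iSup_le fun b x hx => ?_
      have h2 : g * x * g⁻¹ ∈ N b := (mem_normalizer_iff.1 (KN b hg) x).1 hx
      have h3 : g * x * g⁻¹ ∈ V := by rw [hV]; exact (le_iSup N b) h2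
      exact h3
    exact fun x hx => h1 hx
  -- the coset
  let α : Type u := {x : G // n⁻¹ * x ∈ V}
  have hact : ∀ g ∈ K, ∀ x : G, n⁻¹ * x ∈ V → n⁻¹ * (g * x * g⁻¹) ∈ V := by
    intro g hg x hx
    have h1 := hn g hg
    have h2 := KV g hg _ hx
    have e1 : g * x * g⁻¹ = (g * n * g⁻¹ * n⁻¹) * (n * (g * (n⁻¹ * x) * g⁻¹)) := by group
    have e2 : n⁻¹ * (g * x * g⁻¹) = (g * n * g⁻¹ * n⁻¹) * (g * (n⁻¹ * x) * g⁻¹) := by
      rw [e1, ← mul_assoc, ← mul_assoc]
      have h3 : n⁻¹ * (g * n * g⁻¹ * n⁻¹) * n = g * n * g⁻¹ * n⁻¹ := by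
        have h4 := hnV _ h1
        calc n⁻¹ * (g * n * g⁻¹ * n⁻¹) * n = n⁻¹ * ((g * n * g⁻¹ * n⁻¹) * n) := by group
          _ = n⁻¹ * (n * (g * n * g⁻¹ * n⁻¹)) := by rw [h4]
          _ = g * n * g⁻¹ * n⁻¹ := by group
      rw [h3]
    rw [e2]
    exact mul_mem h1 h2
  let _ : MulAction K α :=
    { smul := fun g x => ⟨(g : G) * x.1 * (g : G)⁻¹, hact g g.2 x.1 x.2⟩
      one_smul := fun x => Subtype.ext (by change (1 : G) * x.1 * (1 : G)⁻¹ = x.1; group)
      mul_smul := fun g h x => Subtype.ext (by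
        change ((g : G) * h) * x.1 * ((g : G) * h)⁻¹ = (g : G) * ((h : G) * x.1 * (h : G)⁻¹) * (g : G)⁻¹
        group) }
  have hsm : ∀ (g : K) (x : α), ((g • x : α) : G) = (g : G) * x.1 * (g : G)⁻¹ := fun g x => rfl
  have hp : IsPGroup 3 (MulAction.toPermHom K α).range := by
    rintro ⟨_, g, rfl⟩
    refine ⟨1, ?_⟩
    apply Subtype.ext
    rw [pow_one]
    change (MulAction.toPermHom K α g) ^ 3 = 1
    rw [← map_pow]
    ext x
    change (((g ^ 3 : K) • x : α) : G) = x.1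
    rw [hsm]
    have h1 : ((g ^ 3 : K) : G) = (g : G) ^ 3 := rfl
    rw [h1]
    have h2 := hcube g g.2
    have h3 : (g : G) ^ 3 * n = n * (g : G) ^ 3 := hc _ (pow_mem g.2 3) h2
    have h5 := mem_centralizer_iff.1 h2 _ x.2
    have h6 : (g : G) ^ 3 * x.1 = x.1 * (g : G) ^ 3 := by
      calc (g : G) ^ 3 * x.1 = ((g : G) ^ 3 * n) * (n⁻¹ * x.1) := by group
        _ = n * ((g : G) ^ 3 * (n⁻¹ * x.1)) := by rw [h3]; group
        _ = n * ((n⁻¹ * x.1) * (g : G) ^ 3) := by rw [h5]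
        _ = x.1 * (g : G) ^ 3 := by group
    rw [h6]; group
  have hV2 : IsPGroup 2 V := by
    intro x
    refine ⟨1, Subtype.ext ?_⟩
    rw [pow_one]
    change (x : G) ^ 2 = 1
    rw [pow_two]
    exact sq x x.2
  have hcard : Nat.card α = Nat.card V :=
    Nat.card_congr
      { toFun := fun x => ⟨n⁻¹ * x.1, x.2⟩
        invFun := fun y => ⟨n * y.1, by rw [inv_mul_cancel_left]; exact y.2⟩
        left_inv := fun x => Subtype.ext (by change n * (n⁻¹ * x.1) = x.1; group)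
        right_inv := fun y => Subtype.ext (by change n⁻¹ * (n * y.1) = y.1; group) }
  have : Fact (Nat.Prime 2) := ⟨Nat.prime_two⟩
  have : Fact (Nat.Prime 3) := ⟨Nat.prime_three⟩
  have h3 : ¬ 3 ∣ Nat.card α := by
    rw [hcard]
    obtain ⟨k, hk⟩ := hV2.exists_card_eq
    rw [hk]
    intro h
    have := (Nat.prime_three).dvd_of_dvd_pow h
    omega
  obtain ⟨x, hx⟩ := hp.nonempty_fixed_point_of_prime_not_dvd_card α h3
  refine ⟨n⁻¹ * x.1, x.2, fun g hg => ?_⟩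
  have h1 := hx ⟨MulAction.toPermHom K α ⟨g, hg⟩, ⟨⟨g, hg⟩, rfl⟩⟩
  have h2 := congrArg Subtype.val h1
  have h4 : g * x.1 * g⁻¹ = x.1 := h2
  rw [mul_inv_cancel_left]
  calc g * x.1 = (g * x.1 * g⁻¹) * g := by group
    _ = x.1 * g := by rw [h4]

end Cfsg.Agent.Omega.NOThreeL.RRed.FourFix

end

end

-- merged: Cfsg.Agent.Mrg.Omega.NOThreeL.RRed.OneManyOf
section

/-!
# NO-3L, box R: the socket `WOneMany` (WideTree row 14), plug (helper727; head helper848)

One class, at least three natural blocks, `q ≥ 4`.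
* `exists_two` : `S` is transitive on the blocks, or every block has a block outside its `S`-orbit;
* `AllOrb B` : (socket) one class, at least two `S`-orbits of blocks: `𝒜(O)` moves every block;
* **`false_of_two`** : at least two `S`-orbits, at least three blocks, `AllB` : contradiction (`perm_orb_nbs` of helper540,
  `false_of_orbits` of helper258, `parT` = `UPar.ParX`);
* **`wOneMany_of_orbD`**, **`wOneMany_of`** : `WOneMany K B` from `ParX`, `AllOrb B` and helper776's `OrbD B` (one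
  `S`-orbit, `q ≥ 8`), resp. `StdD B`, `TopD B`; one `S`-orbit with `q = 4` is helper724's `one_four`;
* `wOneMany_of_all` : the same with `AllOrb` replaced by its two level halves.
-/

set_option autoImplicit false
set_option linter.unusedSectionVars false
set_option linter.unusedVariables false

namespace Cfsg.Agent.Omega.NOThreeL.RRed.OneManyOf

open Subgroup Cfsg Cfsg.Agent.ZN Cfsg.Agent.Omega.MinPar Cfsg.Agent.Omega.Frame Cfsg.Agent.Omega.FrameNOFF
open Cfsg.Agent.Omega.NO3S.Level (lev)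
open Cfsg.Agent.Omega.NOThreeL.RTree (RB)
open Cfsg.Agent.Omega.NOThreeL.RRed.GlueSig
open Cfsg.Agent.Omega.NOThreeL.Merge (MZ)
open Cfsg.Agent.Omega.NOThreeL.RRed.WideTree
open Cfsg.Agent.Omega.NOThreeL.RWide
open Cfsg.Agent.Omega.KL.StarM (NoInpM)
open Cfsg.Agent.Omega.ML.Final (MLK)
open scoped Pointwise

universe u

/-- `S` is transitive on the blocks, or every block has a block outside its `S`-orbit -/
theorem exists_two {G : Type u} [Group G] {ι : Type u} (S : Subgroup G) (N : ι → Subgroup G) :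
    (∀ a b, ∃ s ∈ S, MulAut.conj s • N a = N b) ∨ ∀ b, ∃ c, ∀ s ∈ S, MulAut.conj s • N b ≠ N c := by
  classical
  by_cases h : ∀ a b, ∃ s ∈ S, MulAut.conj s • N a = N b
  · exact Or.inl h
  refine Or.inr fun b => ?_
  push Not at h
  obtain ⟨a, c, hac⟩ := h
  by_cases hb : ∃ s ∈ S, MulAut.conj s • N b = N c
  · obtain ⟨s, hs, e⟩ := hb
    refine ⟨a, fun t ht e' => hac (s * t⁻¹) (mul_mem hs (inv_mem ht)) ?_⟩
    rw [map_mul, mul_smul, ← e', map_inv, inv_smul_smul, e]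
  · push Not at hb
    exact ⟨c, hb⟩

/-- three elements -/
theorem three_of {ι : Type u} [Finite ι] (h : 3 ≤ Nat.card ι) (a b : ι) : ∃ c, c ≠ a ∧ c ≠ b := by
  classical
  have := Fintype.ofFinite ι
  by_contra hcon
  push Not at hcon
  have h1 : (Finset.univ : Finset ι) ⊆ {a, b} := by
    intro c _
    rw [Finset.mem_insert, Finset.mem_singleton]
    by_cases hc : c = a
    · exact Or.inl hc
    · exact Or.inr (hcon c hc)
  have h2 := Finset.card_le_card h1
  rw [Finset.card_univ, ← Nat.card_eq_fintype_card] at h2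
  have h3 : ({a, b} : Finset ι).card ≤ 2 := Finset.card_le_two
  omega

/-- **socket** : one class, natural blocks, `q ≥ 4`, at least two `S`-orbits of blocks: `𝒜(O)` moves every block -/
def AllOrb (B : Fr.{u}) : Prop :=
  ∀ (G : Type u) [Group G] [Finite G] (S : Sylow 2 G), B G S → Wide S → MvAct (S : Subgroup G) →
    CM (S : Subgroup G) (fun _ : PUnit.{u + 1} => Wd (S : Subgroup G)) →
      ∀ (ι : Type u) [Finite ι] (N E D l : ι → Subgroup G) (q : ℕ), 4 ≤ q →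
        NBs (S : Subgroup G) N E D l (fun _ => q) → Src (S : Subgroup G) N l (fun _ => q) → 3 ≤ Nat.card ι →
          (∀ b, ∃ c, ∀ s ∈ (S : Subgroup G), MulAut.conj s • N b ≠ N c) → AllB (S : Subgroup G) N

/-- the half of `AllOrb` with `J(S)` moving `V*` -/
def AllNeg (B : Fr.{u}) : Prop :=
  ∀ (G : Type u) [Group G] [Finite G] (S : Sylow 2 G), B G S → Wide S → MvAct (S : Subgroup G) →
    CM (S : Subgroup G) (fun _ : PUnit.{u + 1} => Wd (S : Subgroup G)) →
      ∀ (ι : Type u) [Finite ι] (N E D l : ι → Subgroup G) (q : ℕ), 4 ≤ q →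
        NBs (S : Subgroup G) N E D l (fun _ => q) → Src (S : Subgroup G) N l (fun _ => q) → 3 ≤ Nat.card ι →
          (∀ b, ∃ c, ∀ s ∈ (S : Subgroup G), MulAut.conj s • N b ≠ N c) →
            ¬ jj (S : Subgroup G) ≤ centralizer (Wd (S : Subgroup G) : Set G) → AllB (S : Subgroup G) N

/-- the half of `AllOrb` with `J(S)` centralising `V*` -/
def AllTop (B : Fr.{u}) : Prop :=
  ∀ (G : Type u) [Group G] [Finite G] (S : Sylow 2 G), B G S → Wide S → MvAct (S : Subgroup G) →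
    CM (S : Subgroup G) (fun _ : PUnit.{u + 1} => Wd (S : Subgroup G)) →
      ∀ (ι : Type u) [Finite ι] (N E D l : ι → Subgroup G) (q : ℕ), 4 ≤ q →
        NBs (S : Subgroup G) N E D l (fun _ => q) → Src (S : Subgroup G) N l (fun _ => q) → 3 ≤ Nat.card ι →
          (∀ b, ∃ c, ∀ s ∈ (S : Subgroup G), MulAut.conj s • N b ≠ N c) →
            jj (S : Subgroup G) ≤ centralizer (Wd (S : Subgroup G) : Set G) → AllB (S : Subgroup G) N

theorem allOrb_of {B : Fr.{u}} (h1 : AllNeg B) (h2 : AllTop B) : AllOrb B := by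
  intro G _ _ S hB hW hm hC ι _ N E D l q hq hN hs h3 two
  by_cases hj : jj (S : Subgroup G) ≤ centralizer (Wd (S : Subgroup G) : Set G)
  · exact h2 G S hB hW hm hC ι N E D l q hq hN hs h3 two hj
  · exact h1 G S hB hW hm hC ι N E D l q hq hN hs h3 two hj

/-- **at least two `S`-orbits, at least three blocks, `AllB`: contradiction** (any number of classes, any `q b`) -/
theorem false_of_two (hM : MLK.{u, u}) (hE : NoInpM.{u, u}) (hP : UPar.ParX.{u}) {G : Type u} [Group G] [Finite G]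
    {S : Sylow 2 G} {ι : Type u} [Finite ι] {N E D l : ι → Subgroup G} {q : ι → ℕ} (hB : RB S)
    (hN : NBs (S : Subgroup G) N E D l q) (hs : Src (S : Subgroup G) N l q) (hall : AllB (S : Subgroup G) N)
    (two : ∀ b, ∃ c, ∀ s ∈ (S : Subgroup G), MulAut.conj s • N b ≠ N c) (three : ∀ a b : ι, ∃ c, c ≠ a ∧ c ≠ b) :
    False :=
  UPar.false_of_orbits hM hE hP hB hN hs hall (fun c hc b => by
    obtain ⟨b', -, h1⟩ := OrbPerm.perm_orb_nbs hB hN hs hall two c hc b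
    exact ⟨b', h1⟩) two three

/-- **`WOneMany`** from `parT`, `AllOrb` and `OrbD` -/
theorem wOneMany_of_orbD {K : Cls.{u}} {B : Fr.{u}} (hM : MLK.{u, u}) (hE : NoInpM.{u, u}) (hP : UPar.ParX.{u})
    (hA : AllOrb B) (hO : OneTwoOf.OrbD B) : WOneMany K B := by
  intro G _ _ _ S hB hW hm hC ι _ N E D l q hq hN hs h3
  exfalso
  have hne : Nonempty ι := (Nat.card_pos_iff.1 (by omega : 0 < Nat.card ι)).1
  rcases exists_two (S : Subgroup G) N with tr | two
  · obtain ⟨b⟩ := hne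
    rcases OneTwoOf.eq_four_or hN hq b with h4 | h8
    · exact OneFour.one_four hN tr hW fun _ => h4
    · exact hO G S hB hW hm ι N E D l q ⟨hC, h8, hN, hs, tr, by omega⟩
  · exact false_of_two hM hE hP hW.toRB hN hs (hA G S hB hW hm hC ι N E D l q hq hN hs h3 two) two (three_of h3)

/-- **`WOneMany`** from `parT`, `AllOrb` and the two level halves of `OrbD` -/
theorem wOneMany_of {K : Cls.{u}} {B : Fr.{u}} (hM : MLK.{u, u}) (hE : NoInpM.{u, u}) (hP : UPar.ParX.{u})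
    (hA : AllOrb B) (std : OneTwoOf.StdD B) (top : OneTwoOf.TopD B) : WOneMany K B :=
  wOneMany_of_orbD hM hE hP hA (OneTwoOf.orbD_of std top)

/-- the same with the two level halves of `AllOrb` -/
theorem wOneMany_of_all {K : Cls.{u}} {B : Fr.{u}} (hM : MLK.{u, u}) (hE : NoInpM.{u, u}) (hP : UPar.ParX.{u})
    (h1 : AllNeg B) (h2 : AllTop B) (std : OneTwoOf.StdD B) (top : OneTwoOf.TopD B) : WOneMany K B :=
  wOneMany_of hM hE hP (allOrb_of h1 h2) std top

end Cfsg.Agent.Omega.NOThreeL.RRed.OneManyOf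

end
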