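import Cfsg.Agent.Mrg.Omega.KL.TwoZ.Fr
import Cfsg.Agent.Mrg.Omega.KL.FlagNO
import Cfsg.Agent.Mrg.Omega.KL.TwoS.Ex
import Cfsg.Agent.Mrg.Omega.NOThreeL.RZ.TwoC.EndV
import Cfsg.Agent.Mrg.Omega.KL.Star.ViaRed
import Cfsg.Agent.Mrg.Omega.NOThreeL.RTree
import Cfsg.Agent.Mrg.Omega.NOThreeL.RRed.WideTree
import Cfsg.Agent.Mrg.Omega.NOThreeL.RRed.Blk.Dich
import Cfsg.Agent.Mrg.Omega.NOThreeL.RRed.Blk.Orbit
import Cfsg.Agent.Mrg.Omega.NOThreeL.RRed.TvFin
import Cfsg.Agent.Mrg.Omega.NOThreeL.RWide.OffPerm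
import Cfsg.Agent.Mrg.Omega.NOThreeL.RWide.PermBIn
import Cfsg.Agent.Mrg.Omega.NOThreeL.RRed.HBadNat
import Cfsg.Agent.Mrg.Omega.NOThreeL.RRed.FourNoK2
import Cfsg.Agent.Mrg.Omega.NOThreeL.RRed.Blk.SplitAll
import Cfsg.Agent.Mrg.Omega.NO3b.EZeroBase
import Cfsg.Agent.Mrg.Omega.NOThreeL.RRed.TvOrbs

-- merged: Cfsg.Agent.Mrg.Omega.KL.TwoV.Fr
section

section


/-!
# The vector pair: two centres `Z 0`, `Z 1` which are arbitrary subgroups of `Ω₁Z(T)` (bb #25784)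

`TwoM.Fr` with `Z i ≤ Ω₁Z(T)` instead of `Ω₁Z(T) = Z 0 Z 1`, without `par` and without the condition that `N_{C_i}(T)`
normalises `Z (i+1)`; e.g. `Z i = ⟨z i⟩` for one vector `z i ∈ Z ∩ V i` of full support.

`T` is a Sylow 2-subgroup of `C_i = C_G(Z i)` (`i = 0, 1`), `D' = DD Z = C_0 ∩ C_1`, `O' = O₂(D')`, `⟨C_0, C_1⟩` nonlocal;
`V i ≥ Z i` elementary abelian, normalised by `T` and by `N_{C_j}(T)`, `V 0 ∩ V 1 = 1`, `V i ≤ O₂(C_i)`, the conjugates of
`V i` under `C_i` commute, `V (i+1) ≤ N_i = ⟨Z (i+1) ^ C_i⟩`; every `T`-minimal `R ≤ C_j` (`j ≠ i`) which moves `Z i`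
normalises `V 0` and `V 1`.
-/

set_option autoImplicit false
set_option linter.unusedSectionVars false

namespace Cfsg.Agent.Omega.KL.TwoV

open Subgroup Cfsg Cfsg.Agent.Omega.MinPar
open Cfsg.Agent.ZN (o2 zc)
open Cfsg.Agent.Omega.OM.KTwo (ne_add_one eq_add_one add_one_add_one le_normalizer_V le_V exists_mul_of_mem_sup)
open Cfsg.Agent.MinSimple.MinParabolic (IsMinPar)
open Cfsg.Agent.Omega.NoFF.Basic (conj_conj mem_conj conj_le_iff comm_symm comm_mono Z_le_V V_le)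
open Cfsg.Agent.Omega.NOThreeL.Pair (conj_eq_of_mem conj_le_normalizer)
open Cfsg.Agent.Omega.NoFF.ThmJFam (card_sup_inf card_conj)
open Cfsg.Agent.ZN.ChoiceSit (Syl exists_syl syl_conj o2_le_syl)
open Cfsg.Agent.MinSimple.VModule (mem_zc zc_le normalizer_le_normalizer_zc le_o2
  o2_isPGroup o2_le zc_le_centralizer le_centralizer_zc le_normalizer_o2)
open Cfsg.Agent.Omega.TC.LemZ (card_eq le_norm_of norm_cent norm_inf)
open Cfsg.Agent.Omega.KL.TwoS (Mx comm_of_sq sq_sup relIndex_le_of_sup sup_of_relIndex_le)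
open Cfsg.Agent.Omega.KL.TwoZ (CC QQ NH NN WW UU HH V_le_of norm_V norm_o2_of sq_conj sq_V)
open scoped Pointwise

universe u

variable {G : Type u} [Group G]

/-- `D' = C_0 ∩ C_1` -/
abbrev DD (Z : Fin 2 → Subgroup G) : Subgroup G := CC Z 0 ⊓ CC Z 1

/-- **the frame** -/
structure Fr [Finite G] (T : Subgroup G) (V Z : Fin 2 → Subgroup G) : Prop where
  char2 : ∀ i, centralizer (Z i : Set G) ⊓ centralizer (o2 (centralizer (Z i : Set G)) : Set G) ≤
    o2 (centralizer (Z i : Set G))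
  sqV : ∀ i, ∀ x ∈ V i, x ^ 2 = 1
  ZV : ∀ i, Z i ≤ V i
  ne : ∀ i, Z i ≠ ⊥
  Zz : ∀ i, Z i ≤ zc T
  syl : ∀ i, Syl T (centralizer (Z i : Set G))
  nT : ∀ i, centralizer (Z i : Set G) ⊓ normalizer (T : Set G) ≤
    normalizer (V i : Set G) ⊓ normalizer (V (i + 1) : Set G)
  nV : ∀ i, T ≤ normalizer (V i : Set G)
  VQ : ∀ i, V i ≤ o2 (centralizer (Z i : Set G))
  VC : ∀ i, ∀ c ∈ centralizer (Z i : Set G), MulAut.conj c • V i ≤ centralizer (V i : Set G)
  VN : ∀ i, V (i + 1) ≤ NoFF.Basic.V (Z (i + 1)) (centralizer (Z i : Set G))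
  uni : ∀ i j, i ≠ j → ∀ R : Subgroup G, IsMinPar T R → R ≤ centralizer (Z j : Set G) →
    ¬ R ≤ centralizer (Z i : Set G) → ∀ k, R ≤ normalizer (V k : Set G)
  dis : V 0 ⊓ V 1 = ⊥
  nonloc : NonLoc (centralizer (Z 0 : Set G)) (centralizer (Z 1 : Set G))

namespace Fr

variable [Finite G] {T : Subgroup G} {V Z : Fin 2 → Subgroup G} (D : Fr T V Z)

include D

/-! ### Easy facts -/

theorem T_isPGroup : IsPGroup 2 T := (D.syl 0).2.1

theorem T_le_C (i : Fin 2) : T ≤ CC Z i := (D.syl i).1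

theorem Z_sq (i : Fin 2) : ∀ z ∈ Z i, z ^ 2 = 1 := fun z hz => D.sqV i z (D.ZV i hz)

theorem Z_le_zc (i : Fin 2) : Z i ≤ zc T := D.Zz i

theorem Q_le_T (i : Fin 2) : QQ Z i ≤ T := o2_le_syl (D.syl i)

theorem Z_le_T (i : Fin 2) : Z i ≤ T := (D.Z_le_zc i).trans (zc_le _)

theorem comm_Z (i : Fin 2) : T ≤ centralizer (Z i : Set G) := D.T_le_C i

theorem Z_cent_T (i : Fin 2) : Z i ≤ centralizer (T : Set G) := comm_symm (D.T_le_C i)

theorem Z_le_Q (i j : Fin 2) : Z j ≤ QQ Z i := by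
  refine le_trans (le_inf ((D.Z_le_T j).trans (D.T_le_C i)) ?_) (D.char2 i)
  exact (D.Z_cent_T j).trans (centralizer_le (D.Q_le_T i))

omit D in
theorem DD_le (i : Fin 2) : DD Z ≤ CC Z i := by
  rcases Fin.exists_fin_two.1 ⟨i, rfl⟩ with e | e
  · subst e; exact inf_le_left
  · subst e; exact inf_le_right

omit D in
theorem le_D {i : Fin 2} {H : Subgroup G} (h : H ≤ CC Z i) (h' : H ≤ CC Z (i + 1)) : H ≤ DD Z := by
  rcases Fin.exists_fin_two.1 ⟨i, rfl⟩ with e | e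
  · subst e; exact le_inf h h'
  · subst e; exact le_inf h' h

omit D in
theorem mem_D {i : Fin 2} {c : G} (h : c ∈ CC Z i) (h' : c ∈ CC Z (i + 1)) : c ∈ DD Z := by
  rcases Fin.exists_fin_two.1 ⟨i, rfl⟩ with e | e
  · subst e; exact ⟨h, h'⟩
  · subst e; exact ⟨h', h⟩

theorem T_le_D : T ≤ DD Z := le_inf (D.T_le_C 0) (D.T_le_C 1)

theorem syl_D : Syl T (DD Z) :=
  ⟨D.T_le_D, D.T_isPGroup, fun R hR hR2 hTR => (D.syl 0).2.2 R (hR.trans (DD_le 0)) hR2 hTR⟩

theorem O_le_T : o2 (DD Z) ≤ T := o2_le_syl D.syl_D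

theorem Q_le_O (i : Fin 2) : QQ Z i ≤ o2 (DD Z) :=
  le_o2 ((D.Q_le_T i).trans D.T_le_D) (o2_isPGroup _) ((DD_le i).trans (le_normalizer_o2 _))

theorem nonloc' {i : Fin 2} {W : Subgroup G} (hW : IsPGroup 2 W) (h : CC Z i ≤ normalizer (W : Set G))
    (h' : CC Z (i + 1) ≤ normalizer (W : Set G)) : W = ⊥ := by
  rcases Fin.exists_fin_two.1 ⟨i, rfl⟩ with e | e
  · subst e; exact D.nonloc W hW h h'
  · subst e; exact D.nonloc W hW h' h

/-! ### `N_i` -/

theorem N_le (i : Fin 2) {X : Subgroup G} (hX : CC Z i ≤ normalizer (X : Set G)) (h : Z (i + 1) ≤ X) : NN Z i ≤ X :=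
  V_le_of h hX

theorem N_le_Q (i : Fin 2) : NN Z i ≤ QQ Z i := V_le_of (D.Z_le_Q i (i + 1)) (le_normalizer_o2 _)

theorem N_le_cent_Q (i : Fin 2) : NN Z i ≤ centralizer (QQ Z i : Set G) :=
  V_le_of ((D.Z_cent_T (i + 1)).trans (centralizer_le (D.Q_le_T i))) (norm_cent (le_normalizer_o2 _))

theorem Q_le_cent_N (i : Fin 2) : QQ Z i ≤ centralizer (NN Z i : Set G) := comm_symm (D.N_le_cent_Q i)

theorem N_comm (i : Fin 2) : NN Z i ≤ centralizer (NN Z i : Set G) := (D.N_le_Q i).trans (D.Q_le_cent_N i)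

theorem N_le_O (i : Fin 2) : NN Z i ≤ o2 (DD Z) := (D.N_le_Q i).trans (D.Q_le_O i)

theorem N_le_C (i j : Fin 2) : NN Z i ≤ CC Z j := ((D.N_le_Q i).trans (D.Q_le_T i)).trans (D.T_le_C j)

theorem N_sq (i : Fin 2) : ∀ x ∈ NN Z i, x ^ 2 = 1 := sq_V (D.Z_sq (i + 1)) (D.N_comm i)

/-- a normal subgroup of `C_i` which centralises `Z (i+1)` centralises `N_i` -/
theorem cent_N_of_le {i : Fin 2} {X : Subgroup G} (hn : CC Z i ≤ normalizer (X : Set G)) (hX : X ≤ CC Z (i + 1)) :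
    X ≤ centralizer (NN Z i : Set G) :=
  comm_symm (V_le_of (comm_symm hX) (norm_cent hn))

theorem cent_N_le (i : Fin 2) : centralizer (NN Z i : Set G) ≤ CC Z (i + 1) := centralizer_le (le_V _ _)

/-- `C_O(N_i) = Q_i` -/
theorem O_inf_le (i : Fin 2) : o2 (DD Z) ⊓ centralizer (NN Z i : Set G) ≤ QQ Z i := by
  have h1 := GenTool.o2_inf_le (L := CC Z i) (N := CC Z i ⊓ centralizer (NN Z i : Set G))
    (R := DD Z) inf_le_left
    (fun g hg x hx => ⟨(CC Z i).mul_mem ((CC Z i).mul_mem hg hx.1) ((CC Z i).inv_mem hg),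
      (mem_normalizer_iff.1 (norm_cent (le_normalizer_V (Z (i + 1)) (CC Z i)) hg) x).1 hx.2⟩)
    (fun x hx => mem_D hx.1 (D.cent_N_le i hx.2))
  refine le_trans ?_ h1
  exact le_inf inf_le_left (le_inf ((inf_le_left.trans D.O_le_T).trans (D.T_le_C i)) inf_le_right)

/-- `V i ∩ V (i+1) = 1` -/
theorem disV (i : Fin 2) : ∀ z ∈ V i, z ∈ V (i + 1) → z = 1 := by
  intro z hz hz2
  have h1 : z ∈ V 0 ⊓ V 1 := by
    rcases Fin.exists_fin_two.1 ⟨i, rfl⟩ with e | e
    · subst e; exact ⟨hz, hz2⟩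
    · subst e; exact ⟨hz2, hz⟩
  rw [D.dis] at h1
  exact mem_bot.1 h1

/-- `V i ∩ Z (i+1) = 1` -/
theorem dis' (i : Fin 2) : ∀ z ∈ V i, z ∈ Z (i + 1) → z = 1 := fun z hz hz2 => D.disV i z hz (D.ZV _ hz2)

theorem exists_move (i : Fin 2) : ¬ CC Z i ≤ CC Z (i + 1) := by
  intro h1
  have h2 := D.nonloc' (i := i) (W := QQ Z (i + 1)) (o2_isPGroup _) (h1.trans (le_normalizer_o2 _))
    (le_normalizer_o2 _)
  have h3 := D.Z_le_Q (i + 1) i
  rw [h2, le_bot_iff] at h3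
  exact D.ne i h3

/-- `V (i+1) ≤ N_i` -/
theorem V_le_N (i : Fin 2) : V (i + 1) ≤ NN Z i := D.VN i

/-! ### `W_i`, `U_i` -/

theorem cent_V_le (i : Fin 2) : centralizer (V i : Set G) ≤ CC Z i := centralizer_le (D.ZV i)

theorem U_le_N (i : Fin 2) : UU V Z i ≤ NN Z i :=
  V_le_of (le_V _ _) ((D.cent_V_le i).trans (le_normalizer_V _ _))

theorem U_sq (i : Fin 2) : ∀ x ∈ UU V Z i, x ^ 2 = 1 := fun x hx => D.N_sq i x (D.U_le_N i hx)

theorem norm_U (i : Fin 2) : normalizer (V i : Set G) ⊓ normalizer (Z (i + 1) : Set G) ≤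
    normalizer (UU V Z i : Set G) :=
  norm_V inf_le_right (inf_le_left.trans (norm_cent (A := normalizer (V i : Set G)) le_rfl))

theorem H_le_C (i : Fin 2) : HH T V i ≤ CC Z i := sup_le (D.cent_V_le i) (D.T_le_C i)

theorem T_le_H (i : Fin 2) : T ≤ HH T V i := le_sup_right

theorem H_le_norm_U (i : Fin 2) : HH T V i ≤ normalizer (UU V Z i : Set G) :=
  sup_le (le_normalizer_V _ _)
    ((le_inf (D.nV i) ((D.T_le_C _).trans (centralizer_le_normalizer _))).trans (D.norm_U i))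

theorem NH_H (i : Fin 2) : NH Z i (HH T V i) = UU V Z i := by
  apply le_antisymm
  · exact V_le_of (le_V _ _) (D.H_le_norm_U i)
  · exact V_le_of (le_V _ _) (le_sup_left.trans (le_normalizer_V _ _))

theorem W_le_Q (i : Fin 2) : WW V Z i ≤ QQ Z i := V_le_of (D.VQ i) (le_normalizer_o2 _)

theorem W_comm (i : Fin 2) : WW V Z i ≤ centralizer (WW V Z i : Set G) := by
  refine V_le fun c hc => comm_symm (V_le fun d hd => ?_)
  have h1 := D.VC i (c⁻¹ * d) (mul_mem (inv_mem hc) hd)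
  have h2 : MulAut.conj c • (MulAut.conj (c⁻¹ * d) • V i) ≤ MulAut.conj c • centralizer (V i : Set G) :=
    conj_le_iff.2 h1
  rw [conj_conj, mul_inv_cancel_left, NoFF.ThmJFam.conj_cent] at h2
  exact h2

theorem W_sq (i : Fin 2) : ∀ x ∈ WW V Z i, x ^ 2 = 1 := sq_V (D.sqV i) (D.W_comm i)

end Fr

end Cfsg.Agent.Omega.KL.TwoV

end

section


/-!
# EX for both sides over `TwoV.Fr` (the vector pair): the exact group for THEOREM KL*

`O = O₂(D')`, `D' = C_0 ∩ C_1`; `Mx O A` : `A` elementary abelian of maximal order in `O`.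

* `Fr.no_H`, `Fr.no_N` : (NO), by helper863's flag (NO); `Fr.mx` : `A` is exact on `N_i`, `C_A(N_i) N_i` is maximal in `O` and
  contained in `Q_i`;
* `Fr.ex_U` : `B = C_A(U_i)` : `B ≤ O₂(C_G(V i) T)`, `|B : C_B(N_i)| = |N_i : C_{N_i}(B)|`;
* `TwoZ.Fail i` : `C_A(U_i) = C_A(N_i)` for all maximal `A ≤ Q_{i+1}`; `Fr.not_both` : not both sides fail;
* `Out` : the output, with `[V i, B] = 1`; **`Fr.ex`** : there is an `Out`, or for both `i` : not `Fail i`, `V i ≰ N_i`,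
  `J(O)` moves `V i`.
-/

set_option autoImplicit false
set_option linter.unusedSectionVars false

namespace Cfsg.Agent.Omega.KL.TwoV

open Subgroup Cfsg Cfsg.Agent.Omega.MinPar
open Cfsg.Agent.ZN (o2 zc)
open Cfsg.Agent.Omega.OM.KTwo (ne_add_one eq_add_one add_one_add_one le_normalizer_V le_V exists_mul_of_mem_sup)
open Cfsg.Agent.MinSimple.MinParabolic (IsMinPar)
open Cfsg.Agent.Omega.NoFF.Basic (conj_conj mem_conj conj_le_iff comm_symm comm_mono Z_le_V V_le)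
open Cfsg.Agent.Omega.NOThreeL.Pair (conj_eq_of_mem conj_le_normalizer)
open Cfsg.Agent.Omega.NoFF.ThmJFam (card_sup_inf card_conj conj_cent conj_inf)
open Cfsg.Agent.ZN.ChoiceSit (Syl exists_syl syl_conj o2_le_syl syl_not_dvd)
open Cfsg.Agent.MinSimple.VModule (mem_zc zc_le normalizer_le_normalizer_zc le_o2
  o2_isPGroup o2_le zc_le_centralizer le_centralizer_zc le_normalizer_o2)
open Cfsg.Agent.Omega.TC (kgroup_mono)
open Cfsg.Agent.Omega.TC.LemZ (card_eq le_norm_of norm_cent norm_inf)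
open Cfsg.Agent.Omega.KL.TwoS (Mx comm_of_sq sq_sup relIndex_le_of_sup sup_of_relIndex_le relIndex_pos relIndex_mono
  relIndex_anti relIndex_split)
open Cfsg.Agent.Omega.KL.TwoZ (CC QQ NH NN WW UU HH V_le_of norm_V norm_o2_of sq_conj sq_V)
open scoped Pointwise

universe u

variable {G : Type u} [Group G]

namespace Fr

variable [Finite G] {T : Subgroup G} {V Z : Fin 2 → Subgroup G} (D : Fr T V Z)

include D

/-- **(NO)** for `H` on `⟨Z (i+1) ^ H⟩` -/
theorem no_H (hML : ML.Final.MLK.{u, u}) {i : Fin 2} {H A : Subgroup G} (hK : IsKGroup (CC Z i)) (hT : T ≤ H)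
    (hH : H ≤ CC Z i) (hA : A ≤ o2 (DD Z)) (hA2 : ∀ a ∈ A, a ^ 2 = 1) :
    (centralizer (NH Z i H : Set G)).relIndex A ≤ (centralizer (A : Set G)).relIndex (NH Z i H) := by
  have hS : Syl T H := ⟨hT, D.T_isPGroup, fun R hR hR2 hTR => (D.syl i).2.2 R (hR.trans hH) hR2 hTR⟩
  refine (FlagNO.flag_no_of hML D.T_isPGroup hT (syl_not_dvd hS) (D.T_le_C (i + 1)) (kgroup_mono hK hH) ?_
    (X := DD Z) (fun x hx => mem_D (hH hx.1) hx.2) hA ((hA.trans D.O_le_T).trans hT)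
    ((hA.trans D.O_le_T).trans (D.T_le_C (i + 1))) hA2).1
  intro x hx
  exact D.N_sq i x (V_le_of (le_V _ _) (hH.trans (le_normalizer_V _ _)) hx)

theorem no_N (hML : ML.Final.MLK.{u, u}) {i : Fin 2} {A : Subgroup G} (hK : IsKGroup (CC Z i))
    (hA : A ≤ o2 (DD Z)) (hA2 : ∀ a ∈ A, a ^ 2 = 1) :
    (centralizer (NN Z i : Set G)).relIndex A ≤ (centralizer (A : Set G)).relIndex (NN Z i) :=
  D.no_H hML hK (D.T_le_C i) le_rfl hA hA2

/-- `A` maximal in `O` : exact on `N_i`, `C_A(N_i) N_i` is maximal and `≤ Q_i` -/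
theorem mx (hML : ML.Final.MLK.{u, u}) {i : Fin 2} {A : Subgroup G} (hK : IsKGroup (CC Z i))
    (hA : Mx (o2 (DD Z)) A) :
    (centralizer (NN Z i : Set G)).relIndex A = (centralizer (A : Set G)).relIndex (NN Z i) ∧
    Mx (o2 (DD Z)) (A ⊓ centralizer (NN Z i : Set G) ⊔ NN Z i) ∧
    A ⊓ centralizer (NN Z i : Set G) ⊔ NN Z i ≤ QQ Z i := by
  have h1 := D.no_N hML hK hA.le hA.sq
  refine ⟨le_antisymm h1 (hA.thom (D.N_le_O i) (D.N_sq i)), hA.sup (D.N_le_O i) (D.N_sq i) h1, sup_le ?_ (D.N_le_Q i)⟩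
  exact (inf_le_inf_right _ hA.le).trans (D.O_inf_le i)

/-- `B = C_A(U_i)` -/
theorem ex_U (hML : ML.Final.MLK.{u, u}) {i : Fin 2} {A : Subgroup G} (hK : IsKGroup (CC Z i))
    (hA : Mx (o2 (DD Z)) A) :
    A ⊓ centralizer (UU V Z i : Set G) ≤ o2 (HH T V i) ∧
    (centralizer (NN Z i : Set G)).relIndex (A ⊓ centralizer (UU V Z i : Set G)) =
      (centralizer ((A ⊓ centralizer (UU V Z i : Set G) : Subgroup G) : Set G)).relIndex (NN Z i) ∧
    Mx (o2 (DD Z)) (A ⊓ centralizer (UU V Z i : Set G) ⊔ UU V Z i) := by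
  set B : Subgroup G := A ⊓ centralizer (UU V Z i : Set G) with hB
  have hUN := D.U_le_N i
  have hCN : centralizer (NN Z i : Set G) ≤ centralizer (UU V Z i : Set G) := centralizer_le hUN
  have hUno := D.no_H hML hK (D.T_le_H i) (D.H_le_C i) hA.le hA.sq
  rw [D.NH_H] at hUno
  refine ⟨?_, ?_, hA.sup (hUN.trans (D.N_le_O i)) (D.U_sq i) hUno⟩
  · have h1 := GenTool.o2_inf_le (L := HH T V i) (N := HH T V i ⊓ centralizer (UU V Z i : Set G))
      (R := DD Z) inf_le_left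
      (fun g hg x hx => ⟨(HH T V i).mul_mem ((HH T V i).mul_mem hg hx.1) ((HH T V i).inv_mem hg),
        (mem_normalizer_iff.1 (norm_cent (D.H_le_norm_U i) hg) x).1 hx.2⟩)
      (fun x hx => mem_D (D.H_le_C i hx.1)
        (centralizer_le (le_V (Z (i + 1)) (centralizer (V i : Set G))) hx.2))
    refine le_trans ?_ h1
    exact le_inf (inf_le_left.trans hA.le) (le_inf ((inf_le_left.trans (hA.le.trans D.O_le_T)).trans (D.T_le_H i))
      inf_le_right)
  · -- counting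
    have hA1 := (D.mx hML hK hA).1
    have s1 := relIndex_split (A := A) hCN
    rw [← hB] at s1
    have hCC : centralizer (A : Set G) ≤ centralizer (B : Set G) := centralizer_le inf_le_left
    have s2 := relIndex_split (A := NN Z i) hCC
    have hUB : UU V Z i ≤ NN Z i ⊓ centralizer (B : Set G) := le_inf hUN (comm_symm inf_le_right)
    have h3 : (centralizer (UU V Z i : Set G)).relIndex A ≤
        (centralizer (A : Set G)).relIndex (NN Z i ⊓ centralizer (B : Set G)) := hUno.trans (relIndex_mono hUB)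
    have h4 := D.no_N hML hK (A := B) (inf_le_left.trans hA.le) (fun b hb => hA.sq b hb.1)
    refine le_antisymm h4 ?_
    by_contra hc
    push Not at hc
    rw [hA1, s2] at s1
    have p1 := relIndex_pos (centralizer (UU V Z i : Set G)) A
    have h5 : (centralizer (NN Z i : Set G)).relIndex B * (centralizer (UU V Z i : Set G)).relIndex A <
        (centralizer (A : Set G)).relIndex (NN Z i ⊓ centralizer (B : Set G)) * (centralizer (B : Set G)).relIndex (NN Z i) := by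
      calc (centralizer (NN Z i : Set G)).relIndex B * (centralizer (UU V Z i : Set G)).relIndex A
          < (centralizer (B : Set G)).relIndex (NN Z i) * (centralizer (UU V Z i : Set G)).relIndex A :=
            Nat.mul_lt_mul_of_pos_right hc p1
        _ ≤ (centralizer (B : Set G)).relIndex (NN Z i) *
            (centralizer (A : Set G)).relIndex (NN Z i ⊓ centralizer (B : Set G)) := Nat.mul_le_mul_left _ h3
        _ = _ := Nat.mul_comm _ _
    exact absurd s1.symm h5.ne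

end Fr

/-- `C_A(U_i) = C_A(N_i)` for all maximal `A ≤ Q_{i+1}` -/
def Fail (V Z : Fin 2 → Subgroup G) (i : Fin 2) : Prop :=
  ∀ A : Subgroup G, Mx (o2 (DD Z)) A → A ≤ QQ Z (i + 1) →
    A ⊓ centralizer (UU V Z i : Set G) ≤ centralizer (NN Z i : Set G)

/-- `{C_A(N_i) N_i : A ≤ Q_{i+1} maximal}` -/
def SS (Z : Fin 2 → Subgroup G) (i : Fin 2) : Set (Subgroup G) :=
  {X | ∃ A : Subgroup G, Mx (o2 (DD Z)) A ∧ A ≤ QQ Z (i + 1) ∧
    X = A ⊓ centralizer (NN Z i : Set G) ⊔ NN Z i}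

/-- `⟨N_i ^ C_{i+1}⟩` -/
abbrev MM (Z : Fin 2 → Subgroup G) (i : Fin 2) : Subgroup G := NoFF.Basic.V (NN Z i) (CC Z (i + 1))

namespace Fr

variable [Finite G] {T : Subgroup G} {V Z : Fin 2 → Subgroup G} (D : Fr T V Z)

include D

theorem fail_eq (hML : ML.Final.MLK.{u, u}) {i : Fin 2} (hK : IsKGroup (CC Z i)) (hF : Fail V Z i)
    {A : Subgroup G} (hA : Mx (o2 (DD Z)) A) (hAQ : A ≤ QQ Z (i + 1)) :
    A ⊓ centralizer (NN Z i : Set G) ⊔ NN Z i = A ⊓ centralizer (UU V Z i : Set G) ⊔ UU V Z i := by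
  have h1 := (D.mx hML hK hA).2.1
  have h2 := (D.ex_U hML hK hA).2.2
  have h3 : A ⊓ centralizer (UU V Z i : Set G) ⊔ UU V Z i ≤ A ⊓ centralizer (NN Z i : Set G) ⊔ NN Z i :=
    sup_le_sup (le_inf inf_le_left (hF A hA hAQ)) (D.U_le_N i)
  exact (Subgroup.eq_of_le_of_card_ge h3 (h2.max _ h1.le h1.sq)).symm

/-- one step of the invariance of `SS i` -/
theorem SS_step (hML : ML.Final.MLK.{u, u}) {i : Fin 2} (hK : IsKGroup (CC Z i)) (hF : Fail V Z i) {g : G}
    (hg : g ∈ CC Z (i + 1)) (hg2 : g ∈ CC Z i ∨ g ∈ normalizer (V i : Set G)) {X : Subgroup G} (hX : X ∈ SS Z i) :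
    MulAut.conj g • X ∈ SS Z i := by
  obtain ⟨A, hA, hAQ, rfl⟩ := hX
  have e1 : MulAut.conj g • QQ Z (i + 1) = QQ Z (i + 1) := conj_eq_of_mem (le_normalizer_o2 _ hg)
  have hAg : MulAut.conj g • A ≤ QQ Z (i + 1) := by rw [← e1]; exact conj_le_iff.2 hAQ
  have hMg := hA.conj (g := g) (hAg.trans (D.Q_le_O _))
  refine ⟨MulAut.conj g • A, hMg, hAg, ?_⟩
  rcases hg2 with h | h
  · have e2 : MulAut.conj g • NN Z i = NN Z i := conj_eq_of_mem (le_normalizer_V _ _ h)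
    rw [Subgroup.smul_sup, conj_inf, conj_cent, e2]
  · have e2 : MulAut.conj g • UU V Z i = UU V Z i := conj_eq_of_mem (D.norm_U i ⟨h, centralizer_le_normalizer _ hg⟩)
    rw [D.fail_eq hML hK hF hA hAQ, D.fail_eq hML hK hF hMg hAg, Subgroup.smul_sup, conj_inf, conj_cent, e2]

/-- **`SS i` is `C_{i+1}`-invariant** -/
theorem SS_inv (hML : ML.Final.MLK.{u, u}) {i : Fin 2} (hK : IsKGroup (CC Z i)) (hF : Fail V Z i) {g : G}
    (hg : g ∈ CC Z (i + 1)) {X : Subgroup G} (hX : X ∈ SS Z i) : MulAut.conj g • X ∈ SS Z i := by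
  let K : Subgroup G :=
    { carrier := {g | ∀ X, X ∈ SS Z i ↔ MulAut.conj g • X ∈ SS Z i}
      one_mem' := fun X => by rw [map_one, one_smul]
      mul_mem' := by
        intro a b ha hb X
        rw [hb X, ha, conj_conj]
      inv_mem' := by
        intro a ha X
        have h := ha (MulAut.conj a⁻¹ • X)
        rw [conj_conj, mul_inv_cancel, map_one, one_smul] at h
        exact h.symm }
  have key : ∀ R : Subgroup G, R ≤ CC Z (i + 1) → (∀ r ∈ R, r ∈ CC Z i ∨ r ∈ normalizer (V i : Set G)) → R ≤ K := by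
    intro R hR hR2 r hr X
    refine ⟨D.SS_step hML hK hF (hR hr) (hR2 r hr), fun h => ?_⟩
    have h1 := D.SS_step hML hK hF (hR (inv_mem hr)) (hR2 _ (inv_mem hr)) h
    rwa [conj_conj, inv_mul_cancel, map_one, one_smul] at h1
  have h : CC Z (i + 1) ≤ K := by
    refine MinSimple.MinParabolic.le_of_forall (D.T_le_C _) ?_ fun R hR hRC => ?_
    · refine key _ inf_le_left fun r hr => Or.inr ?_
      have h1 := (D.nT (i + 1) hr).2
      rwa [add_one_add_one] at h1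
    · by_cases hm : R ≤ CC Z i
      · exact key R hRC fun r hr => Or.inl (hm hr)
      · exact key R hRC fun r hr => Or.inr (D.uni i (i + 1) (ne_add_one i) R hR hRC hm i hr)
  exact (h hg X).1 hX

theorem SS_mx (hML : ML.Final.MLK.{u, u}) {i : Fin 2} (hK : IsKGroup (CC Z i)) {X : Subgroup G} (hX : X ∈ SS Z i) :
    Mx (o2 (DD Z)) X ∧ X ≤ QQ Z i ∧ NN Z i ≤ X := by
  obtain ⟨A, hA, -, rfl⟩ := hX
  obtain ⟨-, h1, h2⟩ := D.mx hML hK hA
  exact ⟨h1, h2, le_sup_right⟩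

/-- members of `SS i` lie in `Q_{i+1}` -/
theorem SS_le (hML : ML.Final.MLK.{u, u}) {i : Fin 2} (hK : IsKGroup (CC Z i)) (hF : Fail V Z i)
    {X : Subgroup G} (hX : X ∈ SS Z i) : X ≤ QQ Z (i + 1) := by
  have h1 : NoFF.Basic.V X (CC Z (i + 1)) ≤ o2 (DD Z) :=
    V_le fun c hc => (D.SS_mx hML hK (D.SS_inv hML hK hF hc hX)).1.le
  have h2 : NoFF.Basic.V X (CC Z (i + 1)) ≤ QQ Z (i + 1) :=
    le_o2 ((h1.trans D.O_le_T).trans (D.T_le_C _)) ((o2_isPGroup _).to_le h1) (le_normalizer_V _ _)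
  exact (le_V _ _).trans h2

/-- `⟨N_i ^ C_{i+1}⟩ ≤ X` -/
theorem MM_le (hML : ML.Final.MLK.{u, u}) {i : Fin 2} (hK : IsKGroup (CC Z i)) (hF : Fail V Z i)
    {X : Subgroup G} (hX : X ∈ SS Z i) : MM Z i ≤ X := by
  refine V_le fun c hc => ?_
  have h1 := (D.SS_mx hML hK (D.SS_inv hML hK hF (inv_mem hc) hX)).2.2
  have h2 : MulAut.conj c • NN Z i ≤ MulAut.conj c • (MulAut.conj c⁻¹ • X) := conj_le_iff.2 h1
  rwa [conj_conj, mul_inv_cancel, map_one, one_smul] at h2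

theorem SS_nonempty (hML : ML.Final.MLK.{u, u}) (i : Fin 2) (hK : ∀ i, IsKGroup (CC Z i)) : ∃ X, X ∈ SS Z i := by
  obtain ⟨A, hA⟩ := Mx.exists_mx (o2 (DD Z))
  obtain ⟨-, h1, h2⟩ := D.mx hML (hK (i + 1)) hA
  exact ⟨_, _, h1, h2, rfl⟩

/-- `[N_i, N_{i+1}] = 1` -/
theorem fail_comm (hML : ML.Final.MLK.{u, u}) {i : Fin 2} (hK : ∀ i, IsKGroup (CC Z i)) (hF : Fail V Z i) :
    NN Z i ≤ centralizer (NN Z (i + 1) : Set G) := by
  obtain ⟨X, hX⟩ := D.SS_nonempty hML i hK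
  exact ((D.SS_mx hML (hK i) hX).2.2.trans (D.SS_le hML (hK i) hF hX)).trans (D.Q_le_cent_N (i + 1))

/-- `A ≤ Q_i` maximal: `C_A(N_{i+1}) N_{i+1} ∈ SS i` -/
theorem mem_SS (hML : ML.Final.MLK.{u, u}) {i : Fin 2} (hK : ∀ i, IsKGroup (CC Z i)) (hF : Fail V Z i)
    {A : Subgroup G} (hA : Mx (o2 (DD Z)) A) (hAQ : A ≤ QQ Z i) :
    A ⊓ centralizer (NN Z (i + 1) : Set G) ⊔ NN Z (i + 1) ∈ SS Z i := by
  obtain ⟨-, h1, h2⟩ := D.mx hML (hK (i + 1)) hA
  set A' : Subgroup G := A ⊓ centralizer (NN Z (i + 1) : Set G) ⊔ NN Z (i + 1) with hA'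
  have h3 : A' ≤ centralizer (NN Z i : Set G) :=
    sup_le (inf_le_left.trans (hAQ.trans (D.Q_le_cent_N i))) (comm_symm (D.fail_comm hML hK hF))
  have h4 : NN Z i ≤ A' := h1.le_of_comm (D.N_le_O i) (D.N_sq i) (comm_symm h3)
  refine ⟨A', h1, h2, ?_⟩
  rw [inf_eq_left.2 h3, sup_eq_left.2 h4]

/-- (b): not both fail -/
theorem not_both (hML : ML.Final.MLK.{u, u}) {i : Fin 2} (hK : ∀ i, IsKGroup (CC Z i)) (hF : Fail V Z i)
    (hF' : Fail V Z (i + 1)) : False := by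
  -- `SS j = {X maximal in O : X ≤ Q_0 ∩ Q_1}`
  have key : ∀ {j : Fin 2}, Fail V Z j → ∀ X : Subgroup G, X ∈ SS Z j ↔
      Mx (o2 (DD Z)) X ∧ X ≤ QQ Z j ∧ X ≤ QQ Z (j + 1) := by
    intro j hj X
    constructor
    · intro h
      obtain ⟨h1, h2, -⟩ := D.SS_mx hML (hK j) h
      exact ⟨h1, h2, D.SS_le hML (hK j) hj h⟩
    · rintro ⟨h1, h2, h3⟩
      have h4 : X ≤ centralizer (NN Z j : Set G) := h2.trans (D.Q_le_cent_N j)
      have h5 : NN Z j ≤ X := h1.le_of_comm (D.N_le_O j) (D.N_sq j) (comm_symm h4)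
      refine ⟨X, h1, h3, ?_⟩
      rw [inf_eq_left.2 h4, sup_eq_left.2 h5]
  have heq : ∀ X : Subgroup G, X ∈ SS Z (i + 1) ↔ X ∈ SS Z i := by
    intro X
    rw [key hF', key hF, add_one_add_one]
    tauto
  set J : Subgroup G := ⨆ A : SS Z i, (A : Subgroup G) with hJ
  have hJO : J ≤ o2 (DD Z) := iSup_le fun A => (D.SS_mx hML (hK i) A.2).1.le
  have hinv : ∀ g : G, (∀ X, X ∈ SS Z i → MulAut.conj g • X ∈ SS Z i) → ∀ x ∈ J, g * x * g⁻¹ ∈ J := by
    intro g hg x hx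
    have h2 : J ≤ MulAut.conj g⁻¹ • J := by
      refine iSup_le fun A => ?_
      have h3 : MulAut.conj g • (A : Subgroup G) ≤ J := le_iSup (fun A : SS Z i => (A : Subgroup G)) ⟨_, hg A A.2⟩
      have h4 : MulAut.conj g⁻¹ • (MulAut.conj g • (A : Subgroup G)) ≤ MulAut.conj g⁻¹ • J := conj_le_iff.2 h3
      rwa [conj_conj, inv_mul_cancel, map_one, one_smul] at h4
    have h5 := h2 hx
    rw [mem_conj, inv_inv] at h5
    exact h5
  have hJ1 : J = ⊥ := by
    refine D.nonloc' (i := i) ((o2_isPGroup _).to_le hJO) (le_norm_of fun g hg => hinv g fun X hX => ?_)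
      (le_norm_of fun g hg => hinv g fun X hX => D.SS_inv hML (hK i) hF hg hX)
    refine (heq _).1 (D.SS_inv hML (hK (i + 1)) hF' ?_ ((heq _).2 hX))
    rwa [add_one_add_one]
  obtain ⟨X, hX⟩ := D.SS_nonempty hML i hK
  have h2 : NN Z i ≤ J := (D.SS_mx hML (hK i) hX).2.2.trans (le_iSup (fun A : SS Z i => (A : Subgroup G)) ⟨X, hX⟩)
  rw [hJ1] at h2
  exact D.ne (i + 1) (le_bot_iff.1 ((le_V _ _).trans h2))

end Fr

/-- the output of EX: the input of THEOREM KL* on `X`, on the level of `C_i` -/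
structure Out (T : Subgroup G) (V Z : Fin 2 → Subgroup G) (i : Fin 2) (X B : Subgroup G) : Prop where
  NX : NN Z i ≤ X
  VX : V i ≤ X
  CX : CC Z i ≤ normalizer (X : Set G)
  XQ : X ≤ QQ Z i
  sqX : ∀ x ∈ X, x ^ 2 = 1
  sqB : ∀ b ∈ B, b ^ 2 = 1
  BO : B ≤ o2 (DD Z)
  BH : B ≤ o2 (HH T V i)
  BV : B ≤ centralizer (V i : Set G)
  ker : B ⊓ centralizer (NN Z i : Set G) ≤ centralizer (X : Set G)
  ex : (centralizer (B : Set G)).relIndex X ≤ (centralizer (NN Z i : Set G)).relIndex B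
  mv : ¬ B ≤ centralizer (NN Z i : Set G)

namespace Fr

variable [Finite G] {T : Subgroup G} {V Z : Fin 2 → Subgroup G} (D : Fr T V Z)

include D

theorem X_facts (i : Fin 2) : (WW V Z i ⊔ NN Z i ≤ QQ Z i) ∧ (∀ x ∈ WW V Z i ⊔ NN Z i, x ^ 2 = 1) ∧
    CC Z i ≤ normalizer ((WW V Z i ⊔ NN Z i : Subgroup G) : Set G) ∧ V i ≤ WW V Z i ⊔ NN Z i := by
  have hc : WW V Z i ≤ centralizer (NN Z i : Set G) := (D.W_le_Q i).trans (D.Q_le_cent_N i)
  refine ⟨sup_le (D.W_le_Q i) (D.N_le_Q i), sq_sup (D.W_sq i) (D.N_sq i) hc, ?_, (le_V _ _).trans le_sup_left⟩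
  refine le_norm_of fun c hcc x hx => ?_
  obtain ⟨w, hw, n, hn, rfl⟩ := exists_mul_of_mem_sup ((comm_symm hc).trans (centralizer_le_normalizer _)) hx
  have e : c * (w * n) * c⁻¹ = (c * w * c⁻¹) * (c * n * c⁻¹) := by group
  rw [e]
  exact mul_mem (mem_sup_left ((mem_normalizer_iff.1 (le_normalizer_V (V i) (CC Z i) hcc) w).1 hw))
    (mem_sup_right ((mem_normalizer_iff.1 (le_normalizer_V (Z (i + 1)) (CC Z i) hcc) n).1 hn))

/-- the common part of (c) and (e): `A` maximal, `C_A(N_i) N_i` centralises `X = W_i N_i` -/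
theorem out_of (hML : ML.Final.MLK.{u, u}) {i : Fin 2} (hK : IsKGroup (CC Z i)) {A : Subgroup G}
    (hA : Mx (o2 (DD Z)) A)
    (hc : A ⊓ centralizer (NN Z i : Set G) ≤ centralizer ((WW V Z i ⊔ NN Z i : Subgroup G) : Set G))
    (hm : ¬ A ⊓ centralizer (UU V Z i : Set G) ≤ centralizer (NN Z i : Set G)) (hAV : A ≤ centralizer (V i : Set G)) :
    Out T V Z i (WW V Z i ⊔ NN Z i) (A ⊓ centralizer (UU V Z i : Set G)) := by
  obtain ⟨h1, h2, h3, h4⟩ := D.X_facts i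
  obtain ⟨h5, h6, -⟩ := D.ex_U hML hK hA
  have hXc : WW V Z i ⊔ NN Z i ≤ centralizer ((WW V Z i ⊔ NN Z i : Subgroup G) : Set G) := comm_of_sq h2
  have h7 : (centralizer (A : Set G)).relIndex (WW V Z i ⊔ NN Z i) ≤ (centralizer (A : Set G)).relIndex (NN Z i) := by
    refine (hA.thom (h1.trans (D.Q_le_O i)) h2).trans ?_
    rw [← (D.mx hML hK hA).1]
    have e1 : (A ⊓ centralizer (NN Z i : Set G)).relIndex A = (centralizer (NN Z i : Set G)).relIndex A :=
      inf_relIndex_left _ _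
    rw [← e1]
    exact relIndex_anti hc
  have h8 := sup_of_relIndex_le le_sup_right hXc h7
  have h9 : WW V Z i ⊔ NN Z i ≤ NN Z i ⊔ ((WW V Z i ⊔ NN Z i) ⊓
      centralizer ((A ⊓ centralizer (UU V Z i : Set G) : Subgroup G) : Set G)) :=
    h8.trans (sup_le_sup_left (inf_le_inf_left _ (centralizer_le inf_le_left)) _)
  refine ⟨le_sup_right, h4, h3, h1, h2, fun b hb => hA.sq b hb.1, inf_le_left.trans hA.le, h5, inf_le_left.trans hAV,
    ?_, ?_, hm⟩
  · exact (inf_le_inf_right _ inf_le_left).trans hc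
  · rw [h6]
    exact relIndex_le_of_sup le_sup_right hXc h9

/-- (c) -/
theorem out_c (hML : ML.Final.MLK.{u, u}) {i : Fin 2} (hK : ∀ i, IsKGroup (CC Z i)) (hF : Fail V Z i)
    (hF' : ¬ Fail V Z (i + 1)) : ∃ X B : Subgroup G, Out T V Z (i + 1) X B := by
  unfold Fail at hF'
  push Not at hF'
  obtain ⟨A, hA, hAQ, hm⟩ := hF'
  rw [add_one_add_one] at hAQ
  refine ⟨_, _, D.out_of hML (hK (i + 1)) hA ?_ hm ((hAQ.trans (D.Q_le_cent_N i)).trans (centralizer_le (D.V_le_N i)))⟩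
  have h1 := D.MM_le hML (hK i) hF (D.mem_SS hML hK hF hA hAQ)
  have h2 : WW V Z (i + 1) ⊔ NN Z (i + 1) ≤ A ⊓ centralizer (NN Z (i + 1) : Set G) ⊔ NN Z (i + 1) := by
    refine sup_le (le_trans ?_ h1) le_sup_right
    refine V_le fun c hc => ?_
    exact (conj_le_iff.2 (D.V_le_N i)).trans (Z_le_V hc)
  refine comm_symm (h2.trans ?_)
  refine sup_le (comm_mono hA.comm inf_le_left inf_le_left) (comm_symm inf_le_right)

/-- (e) -/
theorem out_e (hML : ML.Final.MLK.{u, u}) {i : Fin 2} (hK : IsKGroup (CC Z i)) (hF : ¬ Fail V Z i)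
    (hJ : ∀ A : Subgroup G, Mx (o2 (DD Z)) A → A ≤ QQ Z i → A ≤ centralizer (V i : Set G)) :
    ∃ X B : Subgroup G, Out T V Z i X B := by
  unfold Fail at hF
  push Not at hF
  obtain ⟨A, hA, hAQ, hm⟩ := hF
  have hVN : V i ≤ NN Z (i + 1) := by
    have := D.V_le_N (i + 1)
    rwa [add_one_add_one] at this
  refine ⟨_, _, D.out_of hML hK hA ?_ hm ((hAQ.trans (D.Q_le_cent_N _)).trans (centralizer_le hVN))⟩
  obtain ⟨-, h1, h2⟩ := D.mx hML hK hA
  have h3 : WW V Z i ≤ centralizer ((A ⊓ centralizer (NN Z i : Set G) ⊔ NN Z i : Subgroup G) : Set G) := by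
    refine V_le fun c hc => ?_
    have e1 : MulAut.conj c⁻¹ • QQ Z i = QQ Z i := conj_eq_of_mem (le_normalizer_o2 _ (inv_mem hc))
    have h4 : MulAut.conj c⁻¹ • (A ⊓ centralizer (NN Z i : Set G) ⊔ NN Z i) ≤ QQ Z i := by
      rw [← e1]; exact conj_le_iff.2 h2
    have h5 := comm_symm (hJ _ (h1.conj (h4.trans (D.Q_le_O i))) h4)
    have h6 : MulAut.conj c • V i ≤ MulAut.conj c • centralizer
        ((MulAut.conj c⁻¹ • (A ⊓ centralizer (NN Z i : Set G) ⊔ NN Z i) : Subgroup G) : Set G) := conj_le_iff.2 h5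
    rwa [conj_cent, conj_conj, mul_inv_cancel, map_one, one_smul] at h6
  have h7 : A ⊓ centralizer (NN Z i : Set G) ≤ A ⊓ centralizer (NN Z i : Set G) ⊔ NN Z i := le_sup_left
  refine comm_symm (sup_le (h3.trans (centralizer_le h7)) ?_)
  exact comm_symm inf_le_right

/-- (d) -/
theorem out_d (hML : ML.Final.MLK.{u, u}) {i : Fin 2} (hK : IsKGroup (CC Z i)) (hF : ¬ Fail V Z i)
    (hV : V i ≤ NN Z i) : ∃ X B : Subgroup G, Out T V Z i X B := by
  unfold Fail at hF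
  push Not at hF
  obtain ⟨A, hA, hAQ, hm⟩ := hF
  obtain ⟨h5, h6, -⟩ := D.ex_U hML hK hA
  have h7 : V i ≤ NN Z (i + 1) := by
    have := D.V_le_N (i + 1)
    rwa [add_one_add_one] at this
  exact ⟨NN Z i, A ⊓ centralizer (UU V Z i : Set G), le_rfl, hV, le_normalizer_V _ _, D.N_le_Q i, D.N_sq i,
    fun b hb => hA.sq b hb.1, inf_le_left.trans hA.le, h5,
    (inf_le_left.trans (hAQ.trans (D.Q_le_cent_N _))).trans (centralizer_le h7), inf_le_right, h6.ge, hm⟩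

/-- **EX** (helper23 #22505 (II)) -/
theorem ex (hML : ML.Final.MLK.{u, u}) (hK : ∀ i, IsKGroup (CC Z i)) :
    (∃ (i : Fin 2) (X B : Subgroup G), Out T V Z i X B) ∨ ∀ i, ¬ Fail V Z i ∧ ¬ V i ≤ NN Z i ∧
      ∃ A : Subgroup G, Mx (o2 (DD Z)) A ∧ A ≤ QQ Z i ∧ ¬ A ≤ centralizer (V i : Set G) := by
  by_contra hc
  push Not at hc
  obtain ⟨h1, i, h2⟩ := hc
  have key : ∀ j, ¬ Fail V Z j := by
    intro j hF
    by_cases hF' : Fail V Z (j + 1)
    · exact D.not_both hML hK hF hF'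
    · obtain ⟨X, B, h⟩ := D.out_c hML hK hF hF'
      exact h1 _ X B h
  by_cases hV : V i ≤ NN Z i
  · obtain ⟨X, B, h⟩ := D.out_d hML (hK i) (key i) hV
    exact h1 _ X B h
  · obtain ⟨X, B, h⟩ := D.out_e hML (hK i) (key i) (h2 (key i) hV)
    exact h1 _ X B h

end Fr

namespace Fr

variable [Finite G] {T : Subgroup G} {V Z : Fin 2 → Subgroup G} (D : Fr T V Z)

include D

/-- maximal in `Q_i` = maximal in `O'` and contained in `Q_i` -/
theorem mx_Q (hML : ML.Final.MLK.{u, u}) {i : Fin 2} {A : Subgroup G} (hK : IsKGroup (CC Z i)) :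
    Mx (QQ Z i) A ↔ Mx (o2 (DD Z)) A ∧ A ≤ QQ Z i := by
  constructor
  · intro h
    refine ⟨?_, h.le⟩
    obtain ⟨B, hB⟩ := Mx.exists_mx (o2 (DD Z))
    obtain ⟨-, h1, h2⟩ := D.mx hML hK hB
    exact h1.of_card (h.le.trans (D.Q_le_O i)) h.sq (h.max _ h2 h1.sq)
  · rintro ⟨h, h2⟩
    exact ⟨h2, h.sq, fun B hB hB2 => h.max B (hB.trans (D.Q_le_O i)) hB2⟩

theorem cent_zc_le_DD : centralizer (zc T : Set G) ≤ DD Z :=
  le_inf (centralizer_le (D.Zz 0)) (centralizer_le (D.Zz 1))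

theorem zc_le_Q (i : Fin 2) : zc T ≤ QQ Z i := by
  refine le_trans (le_inf ((zc_le _).trans (D.T_le_C i)) ?_) (D.char2 i)
  have h1 : zc T ≤ centralizer (T : Set G) := comm_symm (le_centralizer_zc T)
  exact h1.trans (centralizer_le (D.Q_le_T i))

theorem o2_DD_le : o2 (DD Z) ≤ o2 (centralizer (zc T : Set G)) :=
  le_o2 (D.O_le_T.trans (le_centralizer_zc T)) (o2_isPGroup _) (D.cent_zc_le_DD.trans (le_normalizer_o2 _))

/-- **`𝒜(O') ⊆ 𝒜(O)`**, `O = O₂(C_G(Ω₁Z(T)))` -/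
theorem mx_sub (hML : ML.Final.MLK.{u, u}) (hK : IsKGroup (CC Z 0)) {A : Subgroup G} (hA : Mx (o2 (DD Z)) A) :
    Mx (o2 (centralizer (zc T : Set G))) A := by
  obtain ⟨B, hB⟩ := Mx.exists_mx (o2 (centralizer (zc T : Set G)))
  set U : Subgroup G := NoFF.Basic.V (zc T) (DD Z) with hU
  have hUQ : U ≤ QQ Z 0 := V_le_of (D.zc_le_Q 0) ((DD_le 0).trans (le_normalizer_o2 _))
  have hUO : U ≤ o2 (DD Z) := hUQ.trans (D.Q_le_O 0)
  have hUc : U ≤ centralizer (o2 (DD Z) : Set G) :=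
    V_le_of ((comm_symm (le_centralizer_zc T)).trans (centralizer_le D.O_le_T)) (norm_cent (le_normalizer_o2 _))
  have hUcomm : U ≤ centralizer (U : Set G) := hUc.trans (centralizer_le hUO)
  have hU2 : ∀ x ∈ U, x ^ 2 = 1 := sq_V (fun x hx => (mem_zc.1 hx).2.2) hUcomm
  have hO' := D.o2_DD_le
  have hOT : o2 (centralizer (zc T : Set G)) ≤ T := by
    have h1 : Syl T (centralizer (zc T : Set G)) := ⟨le_centralizer_zc T, D.T_isPGroup, fun R hR hR2 hTR =>
      (D.syl 0).2.2 R (hR.trans (centralizer_le (D.Zz 0))) hR2 hTR⟩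
    exact o2_le_syl h1
  have h1 := FlagNO.flag_no_of hML D.T_isPGroup D.T_le_D (syl_not_dvd D.syl_D) (le_centralizer_zc T)
    (kgroup_mono hK (DD_le 0)) (fun x hx => hU2 x hx) (X := centralizer (zc T : Set G)) (B := B) inf_le_right hB.le
    ((hB.le.trans hOT).trans D.T_le_D) ((hB.le.trans hOT).trans (le_centralizer_zc T)) hB.sq
  have h2 := hB.sup (hUO.trans hO') hU2 h1.1
  exact h2.of_card (hA.le.trans hO') hA.sq (hA.max _ (sup_le h1.2 hUO) h2.sq)

end Fr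

end Cfsg.Agent.Omega.KL.TwoV

end

end

-- merged: Cfsg.Agent.Mrg.Omega.KL.TwoV.InpY
section

/-!
# KL* for two vectors over a group `Y` (bb #27002, #27170): the frame for one class with at least two `S`-orbits of blocks

* `FrY T Y V Z` : helper789's `Fr`, a group `Y` which contains the `T`-minimal groups `R ≤ C_G(Z i)` moving `Ω₁Z(T)`, and
  LEMMA E for the elements of `Y` only, with `J_i = T ∩ C(V (i+1))`;
* **`FrY.ginR`** : `Out T V Z i X B` gives `StarR.GInR` for `C_i` on `X`; **`FrY.out_false`**;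
* **`FrY.ex_false`**, `FrY.exists_mx` : some maximal `A` of `O₂(C_G(Z 0) ∩ C_G(Z 1))` moves `V i`, both `i`.
-/

set_option autoImplicit false
set_option linter.unusedSectionVars false

namespace Cfsg.Agent.Omega.KL.TwoV

open Subgroup Cfsg Cfsg.Agent.Omega.MinPar
open Cfsg.Agent.ZN (o2 zc)
open Cfsg.Agent.Omega.OM.KTwo (ne_add_one eq_add_one add_one_add_one le_normalizer_V le_V exists_mul_of_mem_sup)
open Cfsg.Agent.MinSimple.MinParabolic (IsMinPar)
open Cfsg.Agent.Omega.NoFF.Basic (conj_conj mem_conj conj_le_iff comm_symm comm_mono Z_le_V V_le)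
open Cfsg.Agent.ZN.ChoiceSit (Syl exists_syl syl_conj o2_le_syl syl_not_dvd)
open Cfsg.Agent.MinSimple.VModule (mem_zc zc_le normalizer_le_normalizer_zc le_o2
  o2_isPGroup o2_le zc_le_centralizer le_centralizer_zc le_normalizer_o2 oddGen oddGen_def)
open Cfsg.Agent.Omega.TC.LemZ (card_eq le_norm_of norm_cent norm_inf)
open Cfsg.Agent.Omega.KL.TwoS (Mx relIndex_anti relIndex_mono)
open Cfsg.Agent.Omega.KL.TwoZ (CC QQ NH NN WW UU HH norm_o2_of)
open Cfsg.Agent.Omega.KL.StarR (GInR InpR)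
open Cfsg.Agent.Omega.NO3b.EndX (RedP)
open scoped Pointwise

universe u

variable {G : Type u} [Group G]

/-- `J_i = T ∩ C(V (i+1))` -/
abbrev JJ (T : Subgroup G) (V : Fin 2 → Subgroup G) (i : Fin 2) : Subgroup G :=
  T ⊓ centralizer (V (i + 1) : Set G)

/-- **the frame over `Y`** -/
structure FrY [Finite G] (T Y : Subgroup G) (V Z : Fin 2 → Subgroup G) : Prop extends Fr T V Z where
  nY : ∀ i, centralizer (Z i : Set G) ⊓ normalizer (T : Set G) ≤ Y
  /-- a minimal parabolic of `C_G(Z i)` not in `C_G(Ω₁Z(T))` lies in `Y` and normalises the `V k` -/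
  RY : ∀ (i : Fin 2) (R : Subgroup G), IsMinPar T R → R ≤ centralizer (Z i : Set G) → ¬ R ≤ centralizer (zc T : Set G) →
    R ≤ Y ∧ ∀ k, R ≤ normalizer (V k : Set G)
  bad : ∀ (i : Fin 2) (d : G), d ∈ centralizer (Z i : Set G) → d ∈ Y → d ∈ normalizer (V 0 : Set G) →
    d ∈ normalizer (V 1 : Set G) → d ∈ normalizer (JJ T V i : Set G) → Odd (orderOf d) →
    (∀ j ∈ JJ T V i, ∀ w ∈ V i,
      (j * d * j⁻¹ * d⁻¹) * (d * w * d⁻¹ * w⁻¹) = (d * w * d⁻¹ * w⁻¹) * (j * d * j⁻¹ * d⁻¹)) →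
    d ∈ centralizer (V i : Set G)

/-- `eq_or_add` of `Inp.lean` -/
theorem eq_or_add_one (i k : Fin 2) : k = i ∨ k = i + 1 := by
  revert i k
  decide

namespace FrY

variable [Finite G] {T Y : Subgroup G} {V Z : Fin 2 → Subgroup G} (D : FrY T Y V Z)

omit [Finite G] in
theorem norm_JJ {T : Subgroup G} {V : Fin 2 → Subgroup G} {n : G} (i : Fin 2) (hT : n ∈ normalizer (T : Set G))
    (hV : n ∈ normalizer (V (i + 1) : Set G)) : n ∈ normalizer (JJ T V i : Set G) :=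
  (norm_inf inf_le_left (norm_cent inf_le_right) :
    normalizer (T : Set G) ⊓ normalizer (V (i + 1) : Set G) ≤ normalizer (JJ T V i : Set G)) ⟨hT, hV⟩

/-- `J_i ≤ O₂(R)` and `J_i` is normal in `R`, or the elements of odd order of `R` centralise `V (i+1)` -/
theorem dich {R : Subgroup G} (hT : IsPGroup 2 T) (hR : IsMinPar T R) (ho : ¬ 2 ∣ T.relIndex R) (i : Fin 2)
    (hV : R ≤ normalizer (V (i + 1) : Set G)) :
    (JJ T V i ≤ o2 R ∧ R ≤ normalizer (JJ T V i : Set G)) ∨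
      ∀ g ∈ R, Odd (orderOf g) → g ∈ centralizer (V (i + 1) : Set G) := by
  have hn : R ≤ normalizer ((R ⊓ centralizer (V (i + 1) : Set G) : Subgroup G) : Set G) :=
    norm_inf Subgroup.le_normalizer (norm_cent hV)
  rcases hR.sup_eq_or_inf_le hT ho inf_le_left hn with h | h
  · right
    intro g hg hgo
    have h1 : oddGen R ≤ R ⊓ centralizer (V (i + 1) : Set G) :=
      MinSimple.VModule.oddGen_le_of_sup hn (by rw [h]) hR.le inf_le_left hT
    have h2 : g ∈ oddGen R := by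
      rw [oddGen_def]
      exact subset_closure ⟨hg, hgo⟩
    exact (h1 h2).2
  · left
    have hJ : JJ T V i ≤ o2 R := fun x hx => h ⟨hx.1, hR.le hx.1, hx.2⟩
    refine ⟨hJ, ?_⟩
    have e : JJ T V i = o2 R ⊓ centralizer (V (i + 1) : Set G) := by
      refine le_antisymm (le_inf hJ inf_le_right) (le_inf (inf_le_left.trans ?_) inf_le_right)
      exact MinSimple.VModule.o2_le_of_sylow hT ho
    rw [e]
    exact norm_inf (le_normalizer_o2 R) (norm_cent hV)

include D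

theorem ginR (hML : ML.Final.MLK.{u, u}) {i : Fin 2} {X B : Subgroup G} (hK : IsKGroup (CC Z i))
    (O : Out T V Z i X B) :
    GInR (CC Z i) T B (JJ T V i)
      (CC Z i ⊓ normalizer (V 0 : Set G) ⊓ normalizer (V 1 : Set G) ⊓ normalizer (JJ T V i : Set G) ⊓ Y) X
      (V (i + 1) ⊓ zc T) (Z (i + 1)) (V i) := by
  have hTC := D.T_le_C
  have hBT : B ≤ T := O.BO.trans D.O_le_T
  have hBC : B ≤ CC Z i := hBT.trans (hTC i)
  have hZN : Z (i + 1) ≤ NN Z i := le_V _ _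
  have hV01 : ∀ (g : G), g ∈ normalizer (V 0 : Set G) → g ∈ normalizer (V 1 : Set G) → ∀ k, g ∈ normalizer (V k : Set G) := by
    intro g h0 h1 k
    rcases Fin.exists_fin_two.1 ⟨k, rfl⟩ with h | h
    · rw [h]; exact h0
    · rw [h]; exact h1
  have hQV : ∀ k, CC Z i ⊓ normalizer (V 0 : Set G) ⊓ normalizer (V 1 : Set G) ⊓ normalizer (JJ T V i : Set G) ⊓ Y ≤
      normalizer (V k : Set G) := fun k g hg => hV01 g hg.1.1.1.2 hg.1.1.2 k
  have hTz : T ≤ centralizer (zc T : Set G) := le_centralizer_zc T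
  have hTZ : T ≤ centralizer ((V (i + 1) ⊓ zc T : Subgroup G) : Set G) := hTz.trans (centralizer_le inf_le_right)
  have hcVC : centralizer (V i : Set G) ≤ CC Z i := D.cent_V_le i
  have hBV : B ≤ o2 (centralizer (V i : Set G)) := (le_inf O.BH O.BV).trans (FlagNO.o2_inf_sub le_sup_left)
  refine ⟨O.CX, O.sqX, hTC i, D.T_isPGroup, syl_not_dvd (D.syl i), inf_le_left.trans ((D.V_le_N i).trans O.NX),
    hZN.trans O.NX, O.VX, hTZ, hTC (i + 1), ?_, ?_, ?_, ?_, inf_le_left, hBT, ?_, ?_, Or.inl ?_, O.sqB, ?_, ?_, ?_, ?_,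
    ?_, ?_, hK⟩
  · -- NZ
    exact norm_inf ((D.nT i).trans inf_le_right) (inf_le_right.trans (normalizer_le_normalizer_zc T))
  · -- NQ
    rintro n ⟨hn, hnT⟩
    have h1 := D.nT i ⟨hn, hnT⟩
    have h2 : ∀ k, n ∈ normalizer (V k : Set G) := by
      intro k
      rcases eq_or_add_one i k with h | h
      · rw [h]; exact h1.1
      · rw [h]; exact h1.2
    exact ⟨⟨⟨⟨hn, h2 0⟩, h2 1⟩, norm_JJ i hnT h1.2⟩, D.nY i ⟨hn, hnT⟩⟩
  · exact inf_le_right.trans (hQV i)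
  · exact inf_le_right.trans fun g hg => hg.1.2
  · -- par
    intro P hP hPC
    by_cases hc : P ≤ centralizer (zc T : Set G)
    · left
      exact hc.trans (centralizer_le inf_le_right)
    · obtain ⟨hPY, hV⟩ := D.RY i P hP hPC hc
      have hsP : Syl T P := ⟨hP.le, D.T_isPGroup, fun R hR hR2 hTR => (D.syl i).2.2 R (hR.trans hPC) hR2 hTR⟩
      rcases dich D.T_isPGroup hP (syl_not_dvd hsP) i (hV (i + 1)) with ⟨hJ, hJn⟩ | hk
      · right; right
        refine ⟨?_, hJ, le_inf (le_inf (le_inf (le_inf hPC (hV 0)) (hV 1)) hJn) hPY⟩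
        refine (le_inf hBV (hBT.trans hP.le)).trans (le_o2 inf_le_right ((o2_isPGroup _).to_le inf_le_left) ?_)
        exact norm_inf (fun g hg => norm_o2_of (norm_cent (hV i) hg)) le_normalizer
      · left
        have h2 : oddGen P ≤ centralizer ((V (i + 1) ⊓ zc T : Subgroup G) : Set G) := by
          rw [oddGen_def, closure_le]
          rintro g ⟨hg, hgo⟩
          exact centralizer_le inf_le_left (hk g hg hgo)
        rw [← Star.Core.oddGen_sup hP.le (syl_not_dvd hsP)]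
        exact sup_le h2 hTZ
  · -- sep
    intro g _ hgQ _ z hz y hy h
    have hgz : g * z * g⁻¹ ∈ V (i + 1) := (mem_normalizer_iff.1 (hQV (i + 1) hgQ) z).1 hz.1
    have hgy : g * y * g⁻¹ ∈ V i := (mem_normalizer_iff.1 (hQV i hgQ) y).1 hy
    have h1 : (g * z * g⁻¹) * (g * y * g⁻¹) = z * y := by
      calc (g * z * g⁻¹) * (g * y * g⁻¹) = g * (z * y) * g⁻¹ := by group
        _ = z * y := by rw [h, mul_inv_cancel_right]
    have h2 : z⁻¹ * (g * z * g⁻¹) = y * (g * y * g⁻¹)⁻¹ := by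
      calc z⁻¹ * (g * z * g⁻¹) = z⁻¹ * ((g * z * g⁻¹) * (g * y * g⁻¹)) * (g * y * g⁻¹)⁻¹ := by group
        _ = y * (g * y * g⁻¹)⁻¹ := by rw [h1]; group
    have h3 : z⁻¹ * (g * z * g⁻¹) = 1 := by
      refine D.disV i _ ?_ (mul_mem (inv_mem hz.1) hgz)
      rw [h2]
      exact mul_mem hy (inv_mem hgy)
    calc g * z = z * (z⁻¹ * (g * z * g⁻¹)) * g := by group
      _ = z * g := by rw [h3, mul_one]
  · -- hb
    intro d hd hdQ hdo hc
    exact D.bad i d hd hdQ.2 (hQV 0 hdQ) (hQV 1 hdQ) hdQ.1.2 hdo hc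
  · -- AZ
    refine (le_inf O.BO (le_inf hBC (hBT.trans hTZ))).trans (FlagNO.o2_inf_sub ?_)
    rintro c ⟨hc, hcz⟩
    refine Fr.mem_D hc (centralizer_le (le_inf (D.ZV _) (D.Zz _)) hcz)
  · -- AY
    have e : CC Z i ⊓ centralizer (V i : Set G) ⊔ T = HH T V i := by
      rw [inf_eq_right.2 hcVC]
    rw [e]
    exact O.BH
  · exact O.ker
  · intro h
    exact O.mv (h.trans (centralizer_le O.NX))
  · intro A hAB
    have h1 := D.no_N hML hK (hAB.trans O.BO) (fun b hb => O.sqB b (hAB hb))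
    have h2 : (centralizer (X : Set G)).relIndex A ≤ (centralizer (NN Z i : Set G)).relIndex A := by
      rw [← inf_relIndex_left A (centralizer (NN Z i : Set G)), ← inf_relIndex_left A (centralizer (X : Set G))]
      exact relIndex_anti (le_inf inf_le_left ((inf_le_inf_right _ hAB).trans O.ker))
    exact h2.trans (h1.trans (relIndex_mono O.NX))
  · exact O.ex.trans (relIndex_anti (centralizer_le O.NX))

/-- **EX + KL* for vectors** -/
theorem out_false (hML : ML.Final.MLK.{u, u}) (hR : RedP.{u, u}) (hE : ML.Ex.Two.Ext.{u, u}) {i : Fin 2}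
    {X B : Subgroup G} (hK : IsKGroup (CC Z i)) (O : Out T V Z i X B) : False := by
  obtain ⟨H, N, _, _, _, _, _, T', A', J', Q', Z₁, Y', h⟩ := (D.ginR hML hK O).inpR
  exact h.false_of hML hR hE

/-- **a maximal elementary abelian subgroup of `O₂(C_G(Z 0) ∩ C_G(Z 1))` lies in `Q_i` and moves `V i`** -/
theorem ex_false (hML : ML.Final.MLK.{u, u}) (hR : RedP.{u, u}) (hE : ML.Ex.Two.Ext.{u, u})
    (hK : ∀ i, IsKGroup (CC Z i)) :
    ∀ i, ¬ Fail V Z i ∧ ¬ V i ≤ NN Z i ∧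
      ∃ A : Subgroup G, Mx (o2 (DD Z)) A ∧ A ≤ QQ Z i ∧ ¬ A ≤ centralizer (V i : Set G) := by
  rcases D.toFr.ex hML hK with ⟨i, X, B, O⟩ | h
  · exact (D.out_false hML hR hE (hK i) O).elim
  · exact h

/-- **the same with `𝒜(O)`, `O = O₂(C_G(Ω₁Z(T)))`** -/
theorem exists_mx (hML : ML.Final.MLK.{u, u}) (hR : RedP.{u, u}) (hE : ML.Ex.Two.Ext.{u, u})
    (hK : ∀ i, IsKGroup (CC Z i)) (i : Fin 2) :
    ∃ A : Subgroup G, Mx (o2 (centralizer (zc T : Set G))) A ∧ Mx (o2 (DD Z)) A ∧ A ≤ QQ Z i ∧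
      ¬ A ≤ centralizer (V i : Set G) := by
  obtain ⟨-, -, A, h1, h2, h3⟩ := D.ex_false hML hR hE hK i
  exact ⟨A, D.toFr.mx_sub hML (hK 0) h1, h1, h2, h3⟩

end FrY

end Cfsg.Agent.Omega.KL.TwoV

end

-- merged: Cfsg.Agent.Mrg.Omega.NOThreeL.RRed.OneNon
section

/-!
# NO-3L, box R: a nonlocal pair of vectors (bb #27099 (I), #27002, #27170)

`V 0`, `V 1 ≤ WP S` with `V 0 ∩ V 1 = 1`, both `S`-invariant (e.g. the product of the blocks of one `S`-orbit and the
product of the other blocks; no `M₀`-invariance), `z i ∈ V i ∩ Z`, `⟨C_G(z 0), C_G(z 1)⟩` nonlocal, every `P ∈ P*(S)` and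
every `n ∈ N_G(S)` which centralises `z 0` or `z 1` normalises `V 0` and `V 1`.

* `PairW S V z` : the data;  `PairW.frY` : `KL.TwoV.FrY`;
* **`PairW.exists_mx`** : some `A ∈ 𝒜(O₂(C_G(Z)))` moves `V i`, both `i`.
-/

set_option autoImplicit false
set_option linter.unusedSectionVars false

namespace Cfsg.Agent.Omega.NOThreeL.RRed.OneNon

open Subgroup Cfsg Cfsg.Agent.ZN Cfsg.Agent.Omega.MinPar Cfsg.Agent.Omega.Frame Cfsg.Agent.Omega.FrameNOFF
open Cfsg.Agent.Omega.Node.NO3L Cfsg.Agent.Omega.NOThreeL.Basic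
open Cfsg.Agent.Omega.NOThreeL.Merge (MZ le_MZ)
open Cfsg.Agent.Omega.NOThreeL.RTree (RB)
open Cfsg.Agent.Omega.NOThreeL.RZ.TwoC (BadG QQ)
open Cfsg.Agent.Omega.NoFF.Basic (conj_le_iff Z_le_V V_le)
open Cfsg.Agent.ZN.ChoiceSit (Syl)
open Cfsg.Agent.MinSimple.MinParabolic (IsMinPar)
open Cfsg.Agent.MinSimple.VModule (le_o2 o2_isPGroup o2_le le_normalizer_o2 zc_le_zl mem_zc)
open Cfsg.Agent.Omega.NO3b.EndX (RedP)
open scoped Pointwise

universe u

variable {G : Type u} [Group G]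

/-- **a nonlocal pair of vectors** -/
structure PairW [Finite G] (S : Sylow 2 G) (V : Fin 2 → Subgroup G) (z : Fin 2 → G) : Prop where
  wp : ∀ i, V i ≤ WP (S : Subgroup G)
  zV : ∀ i, z i ∈ V i
  zZ : ∀ i, z i ∈ zc (S : Subgroup G)
  z1 : ∀ i, z i ≠ 1
  nS : ∀ i, (S : Subgroup G) ≤ normalizer (V i : Set G)
  nN : ∀ i, centralizer ({z i} : Set G) ⊓ normalizer ((S : Subgroup G) : Set G) ≤
    normalizer (V 0 : Set G) ⊓ normalizer (V 1 : Set G)
  par : ∀ i P, IsParS (S : Subgroup G) P → P ≤ centralizer ({z i} : Set G) →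
    P ≤ normalizer (V 0 : Set G) ⊓ normalizer (V 1 : Set G)
  VN : ∀ i, V (i + 1) ≤ NoFF.Basic.V (zpowers (z (i + 1))) (centralizer ({z i} : Set G))
  dis : V 0 ⊓ V 1 = ⊥
  nonloc : NonLoc (centralizer ({z 0} : Set G)) (centralizer ({z 1} : Set G))
  bad : ∀ i, BadG (centralizer ({z i} : Set G) ⊓ QQ (S : Subgroup G) (V i) (V (i + 1))
    ((S : Subgroup G) ⊓ centralizer (V (i + 1) : Set G))) ((S : Subgroup G) ⊓ centralizer (V (i + 1) : Set G)) (V i)

theorem cent_zp (z : G) : centralizer (zpowers z : Set G) = centralizer ({z} : Set G) := by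
  refine le_antisymm (centralizer_le (Set.singleton_subset_iff.2 (mem_zpowers z))) fun g hg => ?_
  rw [mem_centralizer_iff]
  rintro _ ⟨n, rfl⟩
  have h1 : Commute g z := mem_centralizer_singleton_iff.1 hg
  exact (h1.zpow_right n).eq.symm

namespace PairW

variable [Finite G] {S : Sylow 2 G} {V : Fin 2 → Subgroup G} {z : Fin 2 → G} (s : PairW S V z) (h : RB S)
include s h

theorem sq (i : Fin 2) : ∀ x ∈ V i, x ^ 2 = 1 := by
  intro x hx
  have hC := isLoc_centralizer_zc S (h.ctx.sylow_ne_bot S)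
  exact NotA.FH_sq h.ctx.char2 h.data h.notA ⟨hC, le_rfl⟩ x ((s.wp i).trans (WP_le_FH _ _) hx)

theorem V_le_S (i : Fin 2) : V i ≤ (S : Subgroup G) :=
  ((s.wp i).trans (WP_le_Q h.data)).trans ((isLoc_centralizer_zc S (h.ctx.sylow_ne_bot S)).o2_le S)

omit h in
theorem S_le (i : Fin 2) : (S : Subgroup G) ≤ centralizer (zpowers (z i) : Set G) := by
  rw [cent_zp]
  exact (le_CZ S).trans (centralizer_le (Set.singleton_subset_iff.2 (s.zZ i)))

theorem isLong (i : Fin 2) : IsLong (S : Subgroup G) (centralizer (zpowers (z i) : Set G)) := by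
  refine ⟨isLoc_of_le_normalizer S (s.S_le i) (S.isPGroup'.to_le ?_) ?_ (centralizer_le_normalizer _), ?_⟩
  · exact zpowers_le.2 (s.V_le_S h i (s.zV i))
  · rw [Ne, zpowers_eq_bot]
    exact s.z1 i
  · exact centralizer_le (zpowers_le.2 (s.zZ i))

theorem parS (j : Fin 2) {R : Subgroup G} (hR : IsMinPar (S : Subgroup G) R)
    (hj : R ≤ centralizer (zpowers (z j) : Set G)) (hi : ¬ R ≤ centralizer (zc (S : Subgroup G) : Set G)) :
    IsParS (S : Subgroup G) R := by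
  have h1 : IsPar (S : Subgroup G) R := ⟨hR, ((s.isLong h j).loc.of_le S hR.le hj).o2_ne⟩
  by_contra h2
  exact hi (par_le_CZ S h1 h2)

theorem parV (j : Fin 2) {R : Subgroup G} (hR : IsMinPar (S : Subgroup G) R)
    (hj : R ≤ centralizer (zpowers (z j) : Set G)) (hi : ¬ R ≤ centralizer (zc (S : Subgroup G) : Set G)) :
    R ≤ MZ (S : Subgroup G) ∧ ∀ k, R ≤ normalizer (V k : Set G) := by
  have h1 := s.parS h j hR hj hi
  rw [cent_zp] at hj
  refine ⟨le_MZ h1, fun k => ?_⟩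
  have h2 := s.par j R h1 hj
  rcases Fin.exists_fin_two.1 ⟨k, rfl⟩ with e | e
  · subst e; exact h2.trans inf_le_left
  · subst e; exact h2.trans inf_le_right

/-- **the frame** -/
theorem frY : KL.TwoV.FrY (S : Subgroup G) (MZ (S : Subgroup G) ⊔ normalizer ((S : Subgroup G) : Set G)) V
    (fun i => zpowers (z i)) where
  char2 i := (s.isLong h i).loc.char2 S h.ctx.char2
  sqV := s.sq h
  ZV i := zpowers_le.2 (s.zV i)
  ne i := by
    rw [Ne, zpowers_eq_bot]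
    exact s.z1 i
  Zz i := zpowers_le.2 (s.zZ i)
  syl i := ⟨s.S_le i, S.isPGroup', fun Q _ hQ2 hQ => S.is_maximal' hQ2 hQ⟩
  nT i := by
    refine (le_of_eq (by rw [cent_zp])).trans ((s.nN i).trans ?_)
    rcases Fin.exists_fin_two.1 ⟨i, rfl⟩ with e | e
    · subst e; exact le_rfl
    · subst e; exact le_inf inf_le_right inf_le_left
  nV := s.nS
  VQ i := ((s.wp i).trans (WP_le_FH _ _)).trans (NotA.FH_le_o2 h.data h.notA (s.isLong h i))
  VC i c hc := by
    have h1 := s.isLong h i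
    refine ((conj_le_iff (g := c)).2 (s.wp i)).trans ((conj_WP_le_FH _ hc).trans ?_)
    exact (NotA.FH_comm h.ctx.char2 h.data h.notA h1).trans (centralizer_le ((s.wp i).trans (WP_le_FH _ _)))
  VN i := by
    rw [cent_zp]
    exact s.VN i
  uni i j _ R hR hj hi := (s.parV h j hR hj fun h1 => hi (h1.trans (centralizer_le (zpowers_le.2 (s.zZ i))))).2
  dis := s.dis
  nonloc := by
    rw [cent_zp, cent_zp]
    exact s.nonloc
  nY i := inf_le_right.trans le_sup_right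
  RY i R hR hRi hc := by
    obtain ⟨h1, h2⟩ := s.parV h i hR hRi hc
    exact ⟨h1.trans le_sup_left, h2⟩
  bad i d hd hdY hd0 hd1 hdJ hdo hc := by
    have hdV : ∀ k, d ∈ normalizer (V k : Set G) := by
      intro k
      rcases Fin.exists_fin_two.1 ⟨k, rfl⟩ with e | e
      · subst e; exact hd0
      · subst e; exact hd1
    rw [cent_zp] at hd
    exact s.bad i d ⟨hd, ⟨⟨⟨hdY, hdV i⟩, hdV (i + 1)⟩, hdJ⟩⟩ hdo hc

/-- **some `A ∈ 𝒜(O₂(C_G(Z)))` moves `V i`** -/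
theorem exists_mx (hM : ML.Final.MLK.{u, u}) (hR : RedP.{u, u}) (hE : ML.Ex.Two.Ext.{u, u}) (i : Fin 2) :
    ∃ A, KL.TwoS.Mx (o2 (CZ (S : Subgroup G))) A ∧ ¬ A ≤ centralizer (V i : Set G) := by
  have hK : ∀ i, IsKGroup (centralizer (zpowers (z i) : Set G)) := fun i =>
    ML.GNN.kgroup_of_isLoc h.ctx h.ctx.not_isPGroup (s.isLong h i).loc
  obtain ⟨A, h1, -, -, h2⟩ := (s.frY h).exists_mx hM hR hE hK i
  exact ⟨A, h1, h2⟩

end PairW

end Cfsg.Agent.Omega.NOThreeL.RRed.OneNon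

end

-- merged: Cfsg.Agent.Mrg.Omega.NOThreeL.RRed.OneNonB
section

/-!
# NO-3L, box R, one class, at least two `S`-orbits of blocks (bb #27002, #27099 (I), ruling #27569 (NLP))

`V* = ∏ N b`, `Dec S (MZ S) (Wd S) N E ⊥`, `O b ⊆ N b` with `Orbs`; `J` an `S`-invariant set of blocks.

* `NLP S N O` : for `z₀`, `z₁ ∈ Z` of full support in `J`, `Jᶜ` the pair `C_G(z₀)`, `C_G(z₁)` is nonlocal;
* `SBad S N O` : `BadG` for the vectors of `Z` of full support in `J`;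
* `norm_sup` : `n` permutes the blocks and fixes a vector of full support in `J` ⟹ `n` normalises both products;
* `le_V` : `⨆_{b ∉ J} N b ≤ ⟨z₁ ^ C_G(z₀)⟩`;
* **`mv_set`** : some `A ∈ 𝒜(O₂(C_G(Z)))` moves `⨆_{b ∈ J} N b`;  **`allB`** : and every block, if no `S`-orbit is everything.
-/

set_option autoImplicit false
set_option linter.unusedSectionVars false

namespace Cfsg.Agent.Omega.NOThreeL.RRed.OneNon

open Subgroup Cfsg Cfsg.Agent.ZN Cfsg.Agent.Omega.MinPar Cfsg.Agent.Omega.Frame Cfsg.Agent.Omega.FrameNOFF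
open Cfsg.Agent.Omega.Node.NO3L Cfsg.Agent.Omega.NOThreeL.Basic
open Cfsg.Agent.Omega.NOThreeL.Merge (MZ le_MZ S_le_MZ)
open Cfsg.Agent.Omega.NOThreeL.RTree (RB)
open Cfsg.Agent.Omega.NOThreeL.RZ.TwoC (BadG QQ)
open Cfsg.Agent.Omega.NOThreeL.RRed.Blk
open Cfsg.Agent.Omega.NOThreeL.RZ.TwoC.DecE (Orbs PP)
open Cfsg.Agent.MinSimple.VModule (le_o2 o2_isPGroup o2_le le_normalizer_o2 zc_le_zl mem_zc)
open Cfsg.Agent.Omega.NO3b.EndX (RedP)
open scoped Pointwise

universe u v w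

section defs

variable {G : Type u} [Group G] {κ : Type v}

/-- **the pair form of `nl`** (889 #27569) -/
def NLP (S : Subgroup G) (N : κ → Subgroup G) (O : κ → Set G) : Prop :=
  ∀ J : Set κ, InvJ S N J → J.Nonempty → Jᶜ.Nonempty → ∀ z₀ ∈ FSup N ⊥ O J, z₀ ∈ zc S → ∀ z₁ ∈ FSup N ⊥ O Jᶜ, z₁ ∈ zc S →
    NonLoc (centralizer ({z₀} : Set G)) (centralizer ({z₁} : Set G))

/-- `bad` for the vectors of `Z` of full support in an `S`-invariant set of blocks -/
def SBad (S : Subgroup G) (N : κ → Subgroup G) (O : κ → Set G) : Prop :=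
  ∀ J : Set κ, InvJ S N J → ∀ z ∈ FSup N ⊥ O J, z ∈ zc S → ∀ R B : Subgroup G, R = (⨆ b : J, N b) →
    B = (⨆ b : {b // b ∉ J}, N b) →
    BadG (centralizer ({z} : Set G) ⊓ QQ S R B (S ⊓ centralizer (B : Set G))) (S ⊓ centralizer (B : Set G)) R

end defs

section perm

variable {G : Type u} [Group G] {κ : Type v} {N : κ → Subgroup G} {P : Subgroup G} {J : Set κ}

/-- `P` permutes the `N b` and fixes `z`, which has its full support in `J` -/
theorem mem_of_perm (hP : ∀ n ∈ P, ∀ b, ∃ c, MulAut.conj n • N b = N c)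
    (inj : ∀ b c, N b = N c → b = c) {z : G} (hz : z ∈ ⨆ b : J, N b)
    (hf : ∀ b ∈ J, z ∉ ⨆ m : {m // m ≠ b}, N m) {n : G} (hn : n ∈ P) (hnz : n * z * n⁻¹ = z) {b c : κ} (hb : b ∈ J)
    (hbc : MulAut.conj n • N b = N c) : c ∈ J := by
  by_contra hc
  apply hf b hb
  have h1 : z ∈ ⨆ m : {m // m ≠ c}, N m := by
    refine (iSup_le fun d : J => ?_ : (⨆ b : J, N b) ≤ _) hz
    exact le_iSup (fun m : {m // m ≠ c} => N m) ⟨d.1, fun e => hc (e ▸ d.2)⟩
  have h2 : MulAut.conj n⁻¹ • (⨆ m : {m // m ≠ c}, N m) ≤ ⨆ m : {m // m ≠ b}, N m := by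
    rw [show MulAut.conj n⁻¹ • (⨆ m : {m // m ≠ c}, N m) = ⨆ m : {m // m ≠ c}, MulAut.conj n⁻¹ • N m from
      Subgroup.map_iSup _ _]
    refine iSup_le fun m => ?_
    obtain ⟨d, hd⟩ := hP n⁻¹ (inv_mem hn) m
    rw [hd]
    refine le_iSup (fun m : {m // m ≠ b} => N m) ⟨d, fun e => m.2 ?_⟩
    subst e
    apply inj
    rw [← hbc, ← hd, map_inv, smul_inv_smul]
  have h3 := h2 ((conj_smul rfl).1 h1)
  have e : n⁻¹ * z * n⁻¹⁻¹ = z := by
    have : z = n⁻¹ * (n * z * n⁻¹) * n := by group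
    rw [hnz] at this
    rw [inv_inv]
    exact this.symm
  rwa [e] at h3

/-- **`n` normalises both products** -/
theorem norm_sup (hP : ∀ n ∈ P, ∀ b, ∃ c, MulAut.conj n • N b = N c)
    (inj : ∀ b c, N b = N c → b = c) {z : G} (hz : z ∈ ⨆ b : J, N b)
    (hf : ∀ b ∈ J, z ∉ ⨆ m : {m // m ≠ b}, N m) :
    centralizer ({z} : Set G) ⊓ P ≤
      normalizer ((⨆ b : J, N b : Subgroup G) : Set G) ⊓ normalizer ((⨆ b : {b // b ∉ J}, N b : Subgroup G) : Set G) := by
  have hfix : ∀ n ∈ centralizer ({z} : Set G), n * z * n⁻¹ = z := fun n hn =>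
    mul_inv_eq_iff_eq_mul.2 (mem_centralizer_singleton_iff.1 hn)
  have k1 : ∀ n ∈ centralizer ({z} : Set G) ⊓ P, ∀ x ∈ (⨆ b : J, N b), n * x * n⁻¹ ∈ ⨆ b : J, N b := by
    rintro n ⟨hnz, hn⟩ x hx
    have h1 : MulAut.conj n • (⨆ b : J, N b) ≤ ⨆ b : J, N b := by
      rw [show MulAut.conj n • (⨆ b : J, N b) = ⨆ b : J, MulAut.conj n • N b from Subgroup.map_iSup _ _]
      refine iSup_le fun b => ?_
      obtain ⟨c, hc⟩ := hP n hn b
      rw [hc]
      exact le_iSup (fun b : J => N b) ⟨c, mem_of_perm hP inj hz hf hn (hfix n hnz) b.2 hc⟩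
    exact h1 ((conj_smul rfl).1 hx)
  have k2 : ∀ n ∈ centralizer ({z} : Set G) ⊓ P, ∀ x ∈ (⨆ b : {b // b ∉ J}, N b), n * x * n⁻¹ ∈ ⨆ b : {b // b ∉ J}, N b := by
    rintro n ⟨hnz, hn⟩ x hx
    have h1 : MulAut.conj n • (⨆ b : {b // b ∉ J}, N b) ≤ ⨆ b : {b // b ∉ J}, N b := by
      rw [show MulAut.conj n • (⨆ b : {b // b ∉ J}, N b) = ⨆ b : {b // b ∉ J}, MulAut.conj n • N b from
        Subgroup.map_iSup _ _]
      refine iSup_le fun b => ?_
      obtain ⟨c, hc⟩ := hP n hn b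
      rw [hc]
      refine le_iSup (fun b : {b // b ∉ J} => N b) ⟨c, fun hcJ => b.2 ?_⟩
      refine mem_of_perm hP inj hz hf (inv_mem hn) (hfix _ (inv_mem hnz)) hcJ ?_
      rw [← hc, map_inv, inv_smul_smul]
    exact h1 ((conj_smul rfl).1 hx)
  have key : ∀ {A : Subgroup G}, (∀ n ∈ centralizer ({z} : Set G) ⊓ P, ∀ x ∈ A, n * x * n⁻¹ ∈ A) →
      centralizer ({z} : Set G) ⊓ P ≤ normalizer (A : Set G) := by
    intro A hA n hn
    rw [mem_normalizer_iff]
    refine fun x => ⟨fun hx => hA n hn x hx, fun hx => ?_⟩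
    have h1 := hA n⁻¹ (inv_mem hn) _ hx
    have e : n⁻¹ * (n * x * n⁻¹) * n⁻¹⁻¹ = x := by group
    rwa [e] at h1
  exact le_inf (key k1) (key k2)

end perm

section dec

variable {G : Type u} [Group G] {κ : Type v} {S L U : Subgroup G} {N E : κ → Subgroup G} {O : κ → Set G}
  {J : Set κ}

theorem not_mem_of (h : Dec S L U N E ⊥) (o : Orbs L N E O) {z : G} (hz : z ∈ FSup N ⊥ O J) {b : κ} (hb : b ∈ J) :
    z ∉ ⨆ m : {m // m ≠ b}, N m := by
  intro h1
  obtain ⟨n, hn, hc⟩ := hz.2 b hb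
  have h2 : z ∈ Blk.Co N ⊥ b := (le_sup_left : (⨆ m : {m // m ≠ b}, N m) ≤ Blk.Co N ⊥ b) h1
  have h3 := h.uniq hc (h.comp_one h2)
  exact o.one b (h3 ▸ hn)

/-- `⨆_{b ∉ J} N b ≤ ⟨e ^ C_G(z)⟩` -/
theorem le_V (h : Dec S L U N E ⊥) (o : Orbs L N E O)
    (dif : ∀ b, N b ≤ closure {g | ∃ x ∈ O b, ∃ y ∈ O b, g = y * x⁻¹}) {z e : G} (hz : z ∈ ⨆ b : J, N b)
    (he : e ∈ FSup N ⊥ O Jᶜ) :
    (⨆ b : {b // b ∉ J}, N b) ≤ NoFF.Basic.V (zpowers e) (centralizer ({z} : Set G)) := by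
  refine iSup_le fun b => (dif b).trans ?_
  rw [closure_le]
  rintro g ⟨x, hx, y, hy, rfl⟩
  obtain ⟨n, hn, hc⟩ := he.2 b b.2
  have hEz : E b ≤ centralizer ({z} : Set G) := by
    have h1 : (⨆ b : J, N b) ≤ centralizer (E b : Set G) := iSup_le fun c => by
      rw [le_centralizer_iff]
      exact h.EC b c fun e => b.2 (e ▸ c.2)
    intro t ht
    rw [mem_centralizer_singleton_iff]
    exact mem_centralizer_iff.1 (h1 hz) t ht
  have hco : E b ≤ centralizer (Blk.Co N ⊥ b : Set G) := by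
    rw [le_centralizer_iff]
    refine sup_le (iSup_le fun c => ?_) bot_le
    rw [le_centralizer_iff]
    exact h.EC b c fun e => c.2 e.symm
  -- `t e t⁻¹ = (t n t⁻¹) (n⁻¹ e)`
  have key : ∀ t ∈ E b, t * e * t⁻¹ = (t * n * t⁻¹) * (n⁻¹ * e) := by
    intro t ht
    have h1 : t * (n⁻¹ * e) * t⁻¹ = n⁻¹ * e := Blk.cent (hco ht) hc.2
    calc t * e * t⁻¹ = (t * n * t⁻¹) * (t * (n⁻¹ * e) * t⁻¹) := by group
      _ = (t * n * t⁻¹) * (n⁻¹ * e) := by rw [h1]
  have mem : ∀ t ∈ E b, t * e * t⁻¹ ∈ NoFF.Basic.V (zpowers e) (centralizer ({z} : Set G)) := by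
    intro t ht
    have h1 : MulAut.conj t • zpowers e ≤ NoFF.Basic.V (zpowers e) (centralizer ({z} : Set G)) :=
      NoFF.Basic.Z_le_V (hEz ht)
    exact h1 ((conj_smul rfl).1 (mem_zpowers e))
  obtain ⟨s, hs, hs1⟩ := o.tr b n hn x hx
  obtain ⟨t, ht, ht1⟩ := o.tr b n hn y hy
  have h1 := mul_mem (mem t ht) (inv_mem (mem s hs))
  rw [key t ht, key s hs, hs1, ht1] at h1
  have e1 : y * (n⁻¹ * e) * (x * (n⁻¹ * e))⁻¹ = y * x⁻¹ := by group
  rwa [e1] at h1

/-- restriction of `L` -/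
theorem dec_mono {L' : Subgroup G} (h : Dec S L U N E ⊥) (h1 : L' ≤ L) (hS : S ≤ L') (hE : ∀ b, E b ≤ L')  :
    Dec S L' U N E ⊥ where
  SL := hS
  LU := h1.trans h.LU
  ab := h.ab
  sup := h.sup
  ind := h.ind
  ne := h.ne
  Rnor := h1.trans h.Rnor
  EL := hE
  CE b := (inf_le_inf_right _ h1).trans (h.CE b)
  perm g hg b := h.perm g (h1 hg) b
  EN := h.EN
  EC := h.EC
  ER := h.ER

theorem orbs_mono {L' : Subgroup G} (o : Orbs L N E O) (h1 : L' ≤ L) : Orbs L' N E O where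
  sub := o.sub
  one := o.one
  odd := o.odd
  tr := o.tr
  inv g hg := o.inv g (h1 hg)

end dec

section main

variable {G : Type u} [Group G] [Finite G] {S : Sylow 2 G} {κ : Type v} [Finite κ] {N E : κ → Subgroup G}
  {O : κ → Set G} {J : Set κ}

/-- a vector of `Z` of full support in the `S`-invariant set `J` -/
theorem exists_z (hB : RB S) (h : Dec (S : Subgroup G) (MZ (S : Subgroup G)) (Wd (S : Subgroup G)) N E ⊥)
    (o : Orbs (MZ (S : Subgroup G)) N E O) (hJ : InvJ (S : Subgroup G) N J) :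
    ∃ z ∈ FSup N ⊥ O J, z ∈ zc (S : Subgroup G) := by
  -- `L' = S (⨆ E b)`
  have hEn : ∀ b c, E b ≤ normalizer (N c : Set G) := fun b c => by
    by_cases e : b = c
    · rw [e]; exact h.EN c
    · exact (h.EC b c e).trans (centralizer_le_normalizer _)
  have hJE : ∀ g ∈ ⨆ b, E b, ∀ b c, MulAut.conj g • N b = N c → b = c := by
    intro g hg b c hbc
    have h1 : (⨆ b, E b) ≤ normalizer (N b : Set G) := iSup_le fun a => hEn a b
    rw [RZ.TwoC.DecE.smul_of_norm (h1 hg)] at hbc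
    exact h.Ninj hbc
  have hL : (S : Subgroup G) ⊔ (⨆ b, E b) ≤ MZ (S : Subgroup G) := sup_le h.SL (iSup_le h.EL)
  have h' := dec_mono h hL le_sup_left fun b => (le_iSup E b).trans le_sup_right
  have o' := orbs_mono o hL
  have hJ' : InvJ ((S : Subgroup G) ⊔ (⨆ b, E b)) N J := by
    intro g hg b hb c hbc
    have hn : (S : Subgroup G) ≤ normalizer ((⨆ b, E b : Subgroup G) : Set G) := h.SL.trans h.iSup_normal
    obtain ⟨s, hs, t, ht, rfl⟩ := mem_sup_of hn hg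
    have h1 : MulAut.conj t • N b = N b :=
      RZ.TwoC.DecE.smul_of_norm ((iSup_le fun a => hEn a b : (⨆ b, E b) ≤ normalizer (N b : Set G)) ht)
    rw [map_mul, mul_smul, h1] at hbc
    exact hJ s hs b hb c hbc
  obtain ⟨z, hz, hzS⟩ := exists_fsup h' o' S.isPGroup' hJ'
  have hW : z ∈ Wd (S : Subgroup G) := (iSup_le fun b : J => h.NU b : (⨆ b : J, N b) ≤ _) hz.1
  refine ⟨z, hz, zc_of_fix hB hW fun s hs => ?_⟩
  rw [mul_inv_eq_iff_eq_mul]
  exact (mem_centralizer_singleton_iff.1 (hzS hs))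

theorem compl_eq {J : Set κ} : (⨆ b : {b // b ∉ Jᶜ}, N b) = ⨆ b : J, N b := by
  apply le_antisymm
  · exact iSup_le fun b => le_iSup (fun b : J => N b) ⟨b.1, not_not.1 b.2⟩
  · exact iSup_le fun b => le_iSup (fun b : {b // b ∉ Jᶜ} => N b) ⟨b.1, fun h => h b.2⟩

/-- the two products are disjoint -/
theorem disj_J {J : Set κ} (h : Dec (S : Subgroup G) (MZ (S : Subgroup G)) (Wd (S : Subgroup G)) N E ⊥) :
    (⨆ b : J, N b) ⊓ (⨆ b : {b // b ∉ J}, N b) = ⊥ := by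
  rw [eq_bot_iff]
  rintro x ⟨h1, h2⟩
  rw [mem_bot]
  refine h.ext ((iSup_le fun b : J => le_iSup N b.1 : (⨆ b : J, N b) ≤ _) h1) (one_mem _) fun b => ?_
  refine ⟨1, ?_, h.comp_one (one_mem _)⟩
  by_cases hb : b ∈ J
  · refine h.comp_one ((iSup_le fun c => ?_ : (⨆ b : {b // b ∉ J}, N b) ≤ Blk.Co N ⊥ b) h2)
    exact h.N_le_Co fun e => c.2 (e ▸ hb)
  · refine h.comp_one ((iSup_le fun c => ?_ : (⨆ b : J, N b) ≤ Blk.Co N ⊥ b) h1)
    exact h.N_le_Co fun e => hb (e ▸ c.2)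

/-- an `S`-invariant set of blocks: `S` normalises the product -/
theorem S_le_norm (h : Dec (S : Subgroup G) (MZ (S : Subgroup G)) (Wd (S : Subgroup G)) N E ⊥)
    (hJ : InvJ (S : Subgroup G) N J) : (S : Subgroup G) ≤ normalizer ((⨆ b : J, N b : Subgroup G) : Set G) := by
  have key : ∀ g ∈ (S : Subgroup G), ∀ x ∈ (⨆ b : J, N b), g * x * g⁻¹ ∈ ⨆ b : J, N b := by
    intro g hg x hx
    have h1 : MulAut.conj g • (⨆ b : J, N b) ≤ ⨆ b : J, N b := by
      rw [show MulAut.conj g • (⨆ b : J, N b) = ⨆ b : J, MulAut.conj g • N b from Subgroup.map_iSup _ _]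
      refine iSup_le fun b => ?_
      obtain ⟨c, hc, -⟩ := h.perm g (h.SL hg) b
      rw [hc]
      exact le_iSup (fun b : J => N b) ⟨c, hJ g hg b b.2 c hc⟩
    exact h1 ((conj_smul rfl).1 hx)
  intro g hg
  rw [mem_normalizer_iff]
  refine fun x => ⟨fun hx => key g hg x hx, fun hx => ?_⟩
  have h1 := key g⁻¹ (inv_mem hg) _ hx
  have e : g⁻¹ * (g * x * g⁻¹) * g⁻¹⁻¹ = x := by group
  rwa [e] at h1

/-- the frame for `J` -/
theorem pairW (hB : RB S) (h : Dec (S : Subgroup G) (MZ (S : Subgroup G)) (Wd (S : Subgroup G)) N E ⊥)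
    (o : Orbs (MZ (S : Subgroup G)) N E O)
    (dif : ∀ b, N b ≤ closure {g | ∃ x ∈ O b, ∃ y ∈ O b, g = y * x⁻¹})
    (permN : ∀ g ∈ normalizer ((S : Subgroup G) : Set G), ∀ b, ∃ c, MulAut.conj g • N b = N c)
    (hwp : Wd (S : Subgroup G) ≤ WP (S : Subgroup G)) (hb : SBad (S : Subgroup G) N O)
    (hJ : InvJ (S : Subgroup G) N J) (hne : J.Nonempty) (hne' : Jᶜ.Nonempty) {z₀ z₁ : G} (hz : z₀ ∈ FSup N ⊥ O J)
    (hzZ : z₀ ∈ zc (S : Subgroup G)) (hw : z₁ ∈ FSup N ⊥ O Jᶜ) (hwZ : z₁ ∈ zc (S : Subgroup G))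
    (hn : NonLoc (centralizer ({z₀} : Set G)) (centralizer ({z₁} : Set G))) :
    PairW S ![⨆ b : J, N b, ⨆ b : {b // b ∉ J}, N b] ![z₀, z₁] := by
  have inj : ∀ b c, N b = N c → b = c := fun b c e => h.Ninj e
  have pM : ∀ n ∈ MZ (S : Subgroup G), ∀ b, ∃ c, MulAut.conj n • N b = N c := fun n hn b => by
    obtain ⟨c, hc, -⟩ := h.perm n hn b
    exact ⟨c, hc⟩
  have f0 : ∀ b ∈ J, z₀ ∉ ⨆ m : {m // m ≠ b}, N m := fun b hb => not_mem_of h o hz hb
  have f1 : ∀ b ∈ Jᶜ, z₁ ∉ ⨆ m : {m // m ≠ b}, N m := fun b hb => not_mem_of h o hw hb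
  have hce : (⨆ b : {b // b ∉ Jᶜ}, N b) = ⨆ b : J, N b := compl_eq
  have n0 : ∀ {P : Subgroup G}, (∀ n ∈ P, ∀ b, ∃ c, MulAut.conj n • N b = N c) →
      centralizer ({z₀} : Set G) ⊓ P ≤ normalizer ((⨆ b : J, N b : Subgroup G) : Set G) ⊓
        normalizer ((⨆ b : {b // b ∉ J}, N b : Subgroup G) : Set G) := fun hP => norm_sup hP inj hz.1 f0
  have n1 : ∀ {P : Subgroup G}, (∀ n ∈ P, ∀ b, ∃ c, MulAut.conj n • N b = N c) →
      centralizer ({z₁} : Set G) ⊓ P ≤ normalizer ((⨆ b : J, N b : Subgroup G) : Set G) ⊓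
        normalizer ((⨆ b : {b // b ∉ J}, N b : Subgroup G) : Set G) := fun hP => by
    have h1 := norm_sup hP inj hw.1 f1
    rw [hce] at h1
    exact h1.trans (le_inf inf_le_right inf_le_left)
  have lR : (⨆ b : J, N b) ≤ Wd (S : Subgroup G) := iSup_le fun b => h.NU b
  have lB : (⨆ b : {b // b ∉ J}, N b) ≤ Wd (S : Subgroup G) := iSup_le fun b => h.NU b
  refine ⟨?_, ?_, ?_, ?_, ?_, ?_, ?_, ?_, disj_J h, hn, ?_⟩
  all_goals refine Fin.forall_fin_two.2 ⟨?_, ?_⟩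
  · exact lR.trans hwp
  · exact lB.trans hwp
  · exact hz.1
  · exact hw.1
  · exact hzZ
  · exact hwZ
  · exact fsup_ne_one h o hz hne
  · exact fsup_ne_one h o hw hne'
  · exact S_le_norm h hJ
  · exact S_le_norm h hJ.compl
  · exact n0 permN
  · exact n1 permN
  · intro P hP hPz
    exact (le_inf hPz (le_MZ hP)).trans (n0 pM)
  · intro P hP hPz
    exact (le_inf hPz (le_MZ hP)).trans (n1 pM)
  · exact le_V h o dif hz.1 hw
  · have h1 := le_V h o dif (J := Jᶜ) (z := z₁) (e := z₀) hw.1 (by rw [compl_compl]; exact hz)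
    rw [hce] at h1
    exact h1
  · exact hb J hJ z₀ hz hzZ _ _ rfl rfl
  · exact hb Jᶜ hJ.compl z₁ hw hwZ _ _ rfl hce.symm

/-- **some `A ∈ 𝒜(O₂(C_G(Z)))` moves the product of the blocks of an `S`-invariant set** -/
theorem mv_set (hM : ML.Final.MLK.{u, u}) (hR : RedP.{u, u}) (hE : ML.Ex.Two.Ext.{u, u}) (hB : RB S)
    (h : Dec (S : Subgroup G) (MZ (S : Subgroup G)) (Wd (S : Subgroup G)) N E ⊥)
    (o : Orbs (MZ (S : Subgroup G)) N E O)
    (dif : ∀ b, N b ≤ closure {g | ∃ x ∈ O b, ∃ y ∈ O b, g = y * x⁻¹})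
    (permN : ∀ g ∈ normalizer ((S : Subgroup G) : Set G), ∀ b, ∃ c, MulAut.conj g • N b = N c)
    (hwp : Wd (S : Subgroup G) ≤ WP (S : Subgroup G)) (hb : SBad (S : Subgroup G) N O) (hn : NLP (S : Subgroup G) N O)
    (hJ : InvJ (S : Subgroup G) N J) (hne : J.Nonempty) (hne' : Jᶜ.Nonempty) :
    ∃ A, KL.TwoS.Mx (o2 (CZ (S : Subgroup G))) A ∧ ¬ A ≤ centralizer ((⨆ b : J, N b : Subgroup G) : Set G) := by
  obtain ⟨z₀, hz, hzZ⟩ := exists_z hB h o hJ
  obtain ⟨z₁, hw, hwZ⟩ := exists_z hB h o hJ.compl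
  exact (pairW hB h o dif permN hwp hb hJ hne hne' hz hzZ hw hwZ
    (hn J hJ hne hne' z₀ hz hzZ z₁ hw hwZ)).exists_mx hB hM hR hE 0

/-- **`𝒜(O₂(C_G(Z)))` moves every block** -/
theorem allB (hM : ML.Final.MLK.{u, u}) (hR : RedP.{u, u}) (hE : ML.Ex.Two.Ext.{u, u}) (hB : RB S)
    (h : Dec (S : Subgroup G) (MZ (S : Subgroup G)) (Wd (S : Subgroup G)) N E ⊥)
    (o : Orbs (MZ (S : Subgroup G)) N E O)
    (dif : ∀ b, N b ≤ closure {g | ∃ x ∈ O b, ∃ y ∈ O b, g = y * x⁻¹})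
    (permN : ∀ g ∈ normalizer ((S : Subgroup G) : Set G), ∀ b, ∃ c, MulAut.conj g • N b = N c)
    (hwp : Wd (S : Subgroup G) ≤ WP (S : Subgroup G)) (hb : SBad (S : Subgroup G) N O) (hn : NLP (S : Subgroup G) N O)
    (two : ∀ a : κ, ∃ b, ∀ s ∈ (S : Subgroup G), MulAut.conj s • N a ≠ N b) :
    WideTree.AllB (S : Subgroup G) N := by
  intro a
  set J : Set κ := {c | ∃ s ∈ (S : Subgroup G), MulAut.conj s • N a = N c} with hJd
  have hJ : InvJ (S : Subgroup G) N J := by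
    rintro g hg b ⟨s, hs, hsb⟩ c hc
    refine ⟨g * s, mul_mem hg hs, ?_⟩
    rw [map_mul, mul_smul, hsb, hc]
  have hne : J.Nonempty := ⟨a, 1, one_mem _, by rw [map_one, one_smul]⟩
  have hne' : Jᶜ.Nonempty := by
    obtain ⟨b, hb⟩ := two a
    exact ⟨b, fun ⟨s, hs, h1⟩ => hb s hs h1⟩
  obtain ⟨A, hA, hAm⟩ := mv_set hM hR hE hB h o dif permN hwp hb hn hJ hne hne'
  -- some block of the orbit is moved
  obtain ⟨c, ⟨s, hs, hsc⟩, hc⟩ : ∃ c ∈ J, ¬ A ≤ centralizer (N c : Set G) := by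
    by_contra hcon
    push Not at hcon
    apply hAm
    rw [le_centralizer_iff]
    refine iSup_le fun b => ?_
    rw [le_centralizer_iff]
    exact hcon b b.2
  have hsC : s⁻¹ ∈ CZ (S : Subgroup G) := le_CZ _ (inv_mem hs)
  refine ⟨MulAut.conj s⁻¹ • A, hA.conj ?_, fun h1 => hc ?_⟩
  · rintro _ ⟨x, hx, rfl⟩
    exact conj_of (ZN.le_normalizer_o2 _ hsC) (hA.le hx)
  · intro x hx
    rw [mem_centralizer_iff]
    intro y hy
    have hy' : s⁻¹ * y * s ∈ N a := by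
      have h2 := (conj_smul hsc (x := s⁻¹ * y * s)).2
      apply h2
      have e : s * (s⁻¹ * y * s) * s⁻¹ = y := by group
      rw [e]; exact hy
    have hx' : s⁻¹ * x * s ∈ MulAut.conj s⁻¹ • A := by
      have h2 := (conj_smul (rfl : MulAut.conj s⁻¹ • A = _) (x := x)).1 hx
      rwa [inv_inv] at h2
    have h3 := mem_centralizer_iff.1 (h1 hx') _ hy'
    calc y * x = s * ((s⁻¹ * y * s) * (s⁻¹ * x * s)) * s⁻¹ := by group
      _ = s * ((s⁻¹ * x * s) * (s⁻¹ * y * s)) * s⁻¹ := by rw [h3]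
      _ = x * y := by group

end main

end Cfsg.Agent.Omega.NOThreeL.RRed.OneNon

end

-- merged: Cfsg.Agent.Mrg.Omega.NOThreeL.RRed.FourPIn
section

section


/-!
# Box R, `|Z| = 4`, two orbits of four-group blocks, left case: the instance of `PIn` (helper449's piece (PI))

`TvFin.Full S (MZ S) (Wd S) N E ⊥ Om phi`, `|Om b| = 3`, `TwoO S (MZ S) (Wd S) N E ⊥ z O v`, `N_G(S)` permutes the
`N b`, `P ∈ P*(S)` fixes `v j` and moves `v i`, `J(O₂(C_G(Z)))` moves `V_i`: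

* **`pin_of_two`** : `PIn S (C_G(Z)) P (F_{C(v j)}) (fun b : O i => N b) (fun b => ⟨z b⟩)`.
-/

set_option autoImplicit false
set_option linter.unusedSectionVars false

namespace Cfsg.Agent.Omega.NOThreeL.RRed.FourPIn

open Subgroup Cfsg Cfsg.Agent.ZN Cfsg.Agent.ZN.ChoiceBase
open Cfsg.Agent.Omega.MinPar Cfsg.Agent.Omega.Frame Cfsg.Agent.Omega.FrameNOFF
open Cfsg.Agent.Omega.Node.NO3L Cfsg.Agent.Omega.NOThreeL.Basic Cfsg.Agent.Omega.NOThreeL.RTree
open Cfsg.Agent.Omega.NOThreeL.Merge (MZ)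
open Cfsg.Agent.Omega.NOThreeL.RRed.Blk
open Cfsg.Agent.Omega.KL.TwoS (Rel Lett)
open Cfsg.Agent.Omega.NOThreeL.RWide (PIn RootOn FB)
open scoped Pointwise

universe u v w

variable {G : Type u} [Group G]

theorem mem_zp {z w : G} (hz : z * z = 1) (hw : w ∈ zpowers z) : w = 1 ∨ w = z := by
  obtain ⟨k, rfl⟩ := mem_zpowers_iff.1 hw
  rcases Int.even_or_odd' k with ⟨m, rfl | rfl⟩
  · left
    rw [zpow_mul, zpow_two, hz, one_zpow]
  · right
    rw [zpow_add, zpow_mul, zpow_two, hz, one_zpow, one_mul, zpow_one]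

theorem card_zp {z : G} (hz : z * z = 1) (hz1 : z ≠ 1) : Nat.card (zpowers z) = 2 := by
  rw [Nat.card_zpowers]
  exact orderOf_eq_prime (by rw [pow_two]; exact hz) hz1

theorem fin3 : ∀ s : Finset (Fin 3), Even s.card → s ≠ ∅ → ∃ n : Finset (Fin 3), Even n.card ∧ n ≠ ∅ ∧ n ≠ s ∧
    ∀ t : Finset (Fin 3), Even t.card → t = ∅ ∨ t = s ∨ t = n ∨ t = symmDiff n s := by
  decide

theorem three {Ω : Type w} [Fintype Ω] [DecidableEq Ω] (h3 : Fintype.card Ω = 3) (s : Finset Ω) (hs : Even s.card)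
    (hs0 : s ≠ ∅) : ∃ n : Finset Ω, Even n.card ∧ n ≠ ∅ ∧ n ≠ s ∧
      ∀ t : Finset Ω, Even t.card → t = ∅ ∨ t = s ∨ t = n ∨ t = symmDiff n s := by
  let e : Ω ≃ Fin 3 := Fintype.equivFinOfCardEq h3
  obtain ⟨n, h1, h2, h4, h5⟩ := fin3 (s.map e.toEmbedding) (by rwa [Finset.card_map]) (by simpa using hs0)
  have hn : (n.map e.symm.toEmbedding).map e.toEmbedding = n := by
    rw [Finset.map_map]
    simp
  refine ⟨n.map e.symm.toEmbedding, by rwa [Finset.card_map], by simpa using h2, fun h => h4 ?_, fun t ht => ?_⟩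
  · rw [← h, hn]
  · rcases h5 (t.map e.toEmbedding) (by rwa [Finset.card_map]) with h | h | h | h
    · left; simpa using h
    · right; left; exact Finset.map_injective _ h
    · right; right; left
      refine Finset.map_injective e.toEmbedding ?_
      rw [hn]; exact h
    · right; right; right
      refine Finset.map_injective e.toEmbedding ?_
      rw [h, Finset.map_eq_image _ (symmDiff _ _), Finset.image_symmDiff _ _ e.toEmbedding.injective,
        ← Finset.map_eq_image, ← Finset.map_eq_image, hn]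

theorem four_of_lett {Ω : Type w} [Fintype Ω] [DecidableEq Ω] {V R : Subgroup G} {φ : Finset Ω → G}
    (L : Lett V R φ) (h3 : Fintype.card Ω = 3) {z : G} (hz : z ∈ V) (hz1 : z ≠ 1) :
    ∃ n ∈ V, n ≠ 1 ∧ n ≠ z ∧ ∀ x ∈ V, x = 1 ∨ x = z ∨ x = n ∨ x = n * z := by
  obtain ⟨s, hs, rfl⟩ := (L.mem z).1 hz
  have hs0 : s ≠ ∅ := by
    rintro rfl
    exact hz1 L.phi_empty
  obtain ⟨n, h1, h2, h4, h5⟩ := three h3 s hs hs0
  refine ⟨φ n, (L.mem _).2 ⟨n, h1, rfl⟩, fun h => h2 (L.inj n h1 h), fun h => h4 (L.phi_inj h1 hs h), fun x hx => ?_⟩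
  obtain ⟨t, ht, rfl⟩ := (L.mem x).1 hx
  rcases h5 t ht with rfl | rfl | rfl | rfl
  · exact Or.inl L.phi_empty
  · exact Or.inr (Or.inl rfl)
  · exact Or.inr (Or.inr (Or.inl rfl))
  · exact Or.inr (Or.inr (Or.inr (L.mul n s)))

theorem card_four {V : Subgroup G} {z : G} (hz : z ∈ V) (hz1 : z ≠ 1)
    (h : ∃ n ∈ V, n ≠ 1 ∧ n ≠ z ∧ ∀ x ∈ V, x = 1 ∨ x = z ∨ x = n ∨ x = n * z) (hsq : ∀ x ∈ V, x * x = 1) :
    Nat.card V = 4 := by
  classical
  obtain ⟨n, hn, hn1, hnz, hall⟩ := h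
  have hnz1 : n * z ≠ 1 := by
    intro e
    apply hnz
    calc n = n * (z * z) := by rw [hsq z hz, mul_one]
      _ = (n * z) * z := by group
      _ = z := by rw [e, one_mul]
  have e1 : (V : Set G) = (({1, z, n, n * z} : Finset G) : Set G) := by
    ext x
    simp only [SetLike.mem_coe, Finset.coe_insert, Finset.coe_singleton, Set.mem_insert_iff, Set.mem_singleton_iff]
    constructor
    · exact hall x
    · rintro (rfl | rfl | rfl | rfl)
      · exact one_mem _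
      · exact hz
      · exact hn
      · exact mul_mem hn hz
  have e2 : Nat.card V = (V : Set G).ncard := rfl
  rw [e2, e1, Set.ncard_coe_finset]
  rw [Finset.card_insert_of_notMem, Finset.card_insert_of_notMem, Finset.card_insert_of_notMem, Finset.card_singleton]
  · rw [Finset.mem_singleton]
    intro e
    exact hz1 (mul_eq_left.1 e.symm)
  · rw [Finset.mem_insert, Finset.mem_singleton]
    rintro (e | e)
    · exact hnz e.symm
    · exact hn1 (mul_eq_right.1 e.symm)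
  · rw [Finset.mem_insert, Finset.mem_insert, Finset.mem_singleton]
    rintro (e | e | e)
    · exact hz1 e.symm
    · exact hn1 e.symm
    · exact hnz1 e.symm

section dec

variable {ι : Type v} {S L U : Subgroup G} {N E : ι → Subgroup G}

/-- components of conjugates, for an element which permutes the blocks -/
theorem comp_conj (h : Dec S L U N E ⊥) {g : G} (hp : ∀ b, ∃ c, MulAut.conj g • N b = N c) {b c : ι}
    (hbc : MulAut.conj g • N b = N c) {x n : G} (hn : IsC N ⊥ b x n) :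
    IsC N ⊥ c (g * x * g⁻¹) (g * n * g⁻¹) := by
  have key : MulAut.conj g • Blk.Co N ⊥ b ≤ Blk.Co N ⊥ c := by
    unfold Blk.Co
    rw [smul_sup]
    refine sup_le ?_ ?_
    · rw [show MulAut.conj g • (⨆ d : {d // d ≠ b}, N d) = ⨆ d : {d // d ≠ b}, MulAut.conj g • N d from
        Subgroup.map_iSup _ _]
      refine iSup_le fun d => ?_
      obtain ⟨e, he⟩ := hp d
      rw [he]
      refine h.N_le_Co fun hec => ?_
      rw [hec, ← hbc] at he
      exact d.2 (h.Ninj (smul_left_cancel _ he))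
    · rw [smul_bot]; exact bot_le
  refine ⟨(conj_smul hbc).1 hn.1, ?_⟩
  have e1 : (g * n * g⁻¹)⁻¹ * (g * x * g⁻¹) = g * (n⁻¹ * x) * g⁻¹ := by group
  rw [e1]
  exact key ((conj_smul rfl).1 hn.2)

theorem ind (h : Dec S L U N E ⊥) : iSupIndep N := by
  intro b
  rw [disjoint_iff]
  have h1 := h.ind b
  rw [sup_bot_eq] at h1
  rwa [iSup_subtype'] 

end dec

section main

variable [Finite G] {ι : Type v} [Finite ι] {S : Sylow 2 G} {N E : ι → Subgroup G} {z : ι → G} {O : Fin 2 → Set ι}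
  {v : Fin 2 → G}

theorem VO_eq (N : ι → Subgroup G) (O : Fin 2 → Set ι) (i : Fin 2) :
    VO N O i = ⨆ b : {b // b ∈ O i}, N b := by
  unfold VO
  rw [iSup_subtype']

/-- An element which fixes `v i` and permutes the blocks permutes the pairs `(N b, z b)`, `b ∈ O i`. -/
theorem conj_z {U L : Subgroup G} (t : TwoO S L U N E ⊥ z O v) {g : G}
    (hp : ∀ b, ∃ c, MulAut.conj g • N b = N c) {i : Fin 2} (hg : g * v i * g⁻¹ = v i) {b : ι} (hb : b ∈ O i) {c : ι}
    (hc : MulAut.conj g • N b = N c) : c ∈ O i ∧ g * z b * g⁻¹ = z c := by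
  have h1 := comp_conj t.dec hp hc (t.comp i hb)
  rw [hg] at h1
  have h2 : c ∈ O i := by
    by_contra h3
    exact t.one.z1 b (conj_eq_one_iff.1 (t.dec.uniq h1 (t.comp' i h3)))
  exact ⟨h2, t.dec.uniq h1 (t.comp i h2)⟩

theorem conj_zp {z w g : G} (h : g * z * g⁻¹ = w) : cj g (zpowers z) = zpowers w := by
  have h1 : cj g (zpowers z) = zpowers (MulAut.conj g z) := by
    rw [← MulEquiv.coe_toMonoidHom]
    exact MonoidHom.map_zpowers _ _
  rw [h1, MulAut.conj_apply, h]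

theorem isLong_cent {x : G} (hx : x ∈ zc (S : Subgroup G)) (hx1 : x ≠ 1) :
    IsLong (S : Subgroup G) (centralizer ({x} : Set G)) where
  loc := by
    refine isLoc_of_le_normalizer S (fun s hs => mem_centralizer_singleton_iff.2 ((ChoiceBase.mem_zc.1 hx).2.2 s hs))
      (U := zpowers x) ?_ ?_ ?_
    · refine S.isPGroup'.to_le ?_
      rw [zpowers_le]; exact (ChoiceBase.mem_zc.1 hx).1
    · rw [Ne, zpowers_eq_bot]; exact hx1
    · refine le_trans ?_ (centralizer_le_normalizer _)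
      intro g hg
      refine mem_centralizer_iff.2 fun y hy => ?_
      obtain ⟨k, rfl⟩ := mem_zpowers_iff.1 hy
      have e : Commute x g := (mem_centralizer_singleton_iff.1 hg).symm
      exact (e.zpow_left k).eq
  cz := centralizer_le (Set.singleton_subset_iff.2 hx)

/-- `S`-fixed elements of `⨆ ⟨z b⟩` -/
theorem exists_vec {L : Subgroup G} (t : TwoO S L (Wd (S : Subgroup G)) N E ⊥ z O v) (hWS : Wd (S : Subgroup G) ≤ S)
    (i : Fin 2) : v i ∈ ⨆ b : {b // b ∈ O i}, zpowers (z b) := by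
  have hf : Fact (Nat.Prime 2) := ⟨Nat.prime_two⟩
  have hT : (⨆ b : {b // b ∈ O i}, zpowers (z b)) ≤ ⨆ b ∈ O i, N b := by
    rw [iSup_subtype']
    exact iSup_mono fun b => zpowers_le.2 (t.one.zN b)
  have hTW : (⨆ b : {b // b ∈ O i}, zpowers (z b)) ≤ Wd (S : Subgroup G) := hT.trans (t.VU i)
  have hn : (S : Subgroup G) ≤ normalizer ((⨆ b : {b // b ∈ O i}, zpowers (z b) : Subgroup G) : Set G) := by
    have h1 : ∀ s ∈ (S : Subgroup G), MulAut.conj s • (⨆ b : {b // b ∈ O i}, zpowers (z b)) ≤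
        ⨆ b : {b // b ∈ O i}, zpowers (z b) := by
      intro s hs
      rw [show MulAut.conj s • (⨆ b : {b // b ∈ O i}, zpowers (z b)) =
        ⨆ b : {b // b ∈ O i}, MulAut.conj s • zpowers (z b) from Subgroup.map_iSup _ _]
      refine iSup_le fun b => ?_
      obtain ⟨c, hc, _⟩ := t.dec.perm s (t.dec.SL hs) b
      obtain ⟨h2, h3⟩ := conj_z t (fun b => (t.dec.perm s (t.dec.SL hs) b).imp fun _ h => h.1) (t.vS i s hs) b.2 hc
      have h4 : MulAut.conj s • zpowers (z b) = zpowers (z c) := conj_zp h3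
      rw [h4]
      exact le_iSup (fun b : {b // b ∈ O i} => zpowers (z b)) ⟨c, h2⟩
    exact le_norm_of fun s hs x hx => h1 s hs ((conj_smul rfl).1 hx)
  have hne : (⨆ b : {b // b ∈ O i}, zpowers (z b)) ≠ ⊥ := by
    obtain ⟨b, hb⟩ := (t.orb i).ne
    intro h0
    have h1 : z b ∈ ⨆ b : {b // b ∈ O i}, zpowers (z b) :=
      (le_iSup (fun b : {b // b ∈ O i} => zpowers (z b)) ⟨b, hb⟩) (mem_zpowers _)
    rw [h0] at h1
    exact t.one.z1 b (mem_bot.1 h1)
  have h1 := PLocal.OffenderStep.inf_centralizer_ne_bot _ (S : Subgroup G) (S.isPGroup'.to_le (hTW.trans hWS))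
    S.isPGroup' hn hne
  obtain ⟨c, hc1⟩ := Subgroup.ne_bot_iff_exists_ne_one.1 h1
  have hc1' : (c : G) ≠ 1 := fun h0 => hc1 (Subtype.ext h0)
  have hcS : ∀ s ∈ (S : Subgroup G), s * (c : G) * s⁻¹ = c := fun s hs => by
    rw [mem_centralizer_iff.1 c.2.2 s hs, mul_inv_cancel_right]
  have hcV : (c : G) ∈ ⨆ b ∈ O i, N b := hT c.2.1
  obtain ⟨h2, h3⟩ := t.dec.comp_z t.one (t.orb i) hcV hc1' hcS
  have h4 : (c : G) = v i := t.dec.ext (t.VN i hcV) (t.VN i (t.vV i)) fun b => by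
    by_cases hb : b ∈ O i
    · exact ⟨_, h2 b hb, t.comp i hb⟩
    · exact ⟨_, h3 b hb, t.comp' i hb⟩
  rw [← h4]
  exact c.2.1

end main

section pin

variable [Finite G] {ι : Type u} [Finite ι] {S : Sylow 2 G} {N E : ι → Subgroup G} {z : ι → G} {O : Fin 2 → Set ι}
  {v : Fin 2 → G} {Om : ι → Type u} [∀ i, Fintype (Om i)] [∀ i, DecidableEq (Om i)] {phi : ∀ i, Finset (Om i) → G}

/-- best offenders of `S` on `V_i` -/
theorem fb (B : RB S) (F : TvFin.Full (S : Subgroup G) (MZ (S : Subgroup G)) (Wd (S : Subgroup G)) N E ⊥ Om phi)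
    (t : TwoO S (MZ (S : Subgroup G)) (Wd (S : Subgroup G)) N E ⊥ z O v) (h3 : ∀ b, Fintype.card (Om b) = 3)
    (i : Fin 2) {A : Subgroup G} (hA : A ≤ S)
    (hb : IsBestOffenderOn 2 (⨆ b : {b // b ∈ O i}, N b) A) :
    FB A (fun b : {b // b ∈ O i} => N b) (fun b => z b) where
  ab x hx y hy := by
    have h1 : (⨆ b : {b // b ∈ O i}, N b) ≤ Wd (S : Subgroup G) := by
      rw [← VO_eq]; exact t.VU i
    exact t.dec.ucomm (h1 hx) (h1 hy)
  ind := (ind t.dec).comp Subtype.val_injective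
  zN b := t.one.zN b
  z1 b := t.one.z1 b
  sq b n hn := wsq B n (t.dec.NU b hn)
  four b := four_of_lett (F.lett b) (h3 b) (t.one.zN b) (t.one.z1 b)
  perm f hf b := by
    obtain ⟨c, hc, _⟩ := t.dec.perm f (t.dec.SL (hA hf)) b
    exact ⟨⟨c, (t.orb i).inv f (hA hf) b b.2 c hc⟩, hc⟩
  fix f hf b hfb := by
    have hz : f * z b * f⁻¹ = z b :=
      (conj_z t (fun b => (t.dec.perm f (t.dec.SL (hA hf)) b).imp fun _ h => h.1) (t.vS i f (hA hf)) b.2 hfb).2
    refine ⟨hz, fun n hn => ?_⟩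
    obtain ⟨m, hm, hm1, hmz, hall⟩ := four_of_lett (F.lett b) (h3 b) (t.one.zN b) (t.one.z1 b)
    have hzz := wsq B _ (t.dec.NU b (t.one.zN b))
    have hfn : f * n * f⁻¹ ∈ N b := (conj_smul (show MulAut.conj f • N b = N b from hfb)).1 hn
    have hinj : ∀ x y : G, f * x * f⁻¹ = f * y * f⁻¹ → x = y := fun x y h => mul_left_cancel (mul_right_cancel h)
    rcases hall n hn with rfl | rfl | hn' | hn'
    · left; group
    · left; exact hz
    · rcases hall _ hfn with h | h | h | h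
      · exact absurd (conj_eq_one_iff.1 h) (by rw [hn']; exact hm1)
      · exact absurd (hinj _ _ (h.trans hz.symm)) (by rw [hn']; exact hmz)
      · left; rw [h, hn']
      · right; rw [h, hn']
    · rcases hall _ hfn with h | h | h | h
      · refine absurd (conj_eq_one_iff.1 h) (fun e => hmz ?_)
        rw [hn'] at e
        calc m = (m * z b) * z b := by rw [mul_assoc, hzz, mul_one]
          _ = z b := by rw [e, one_mul]
      · refine absurd (hinj _ _ (h.trans hz.symm)) (fun e => hm1 ?_)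
        rw [hn'] at e
        exact mul_eq_right.1 e
      · right; rw [h, hn', mul_assoc, hzz, mul_one]
      · left; rw [h, hn']
  best := hb

/-- **The instance of `PIn`.** -/
theorem pin_of_two (B : RB S)
    (F : TvFin.Full (S : Subgroup G) (MZ (S : Subgroup G)) (Wd (S : Subgroup G)) N E ⊥ Om phi)
    (t : TwoO S (MZ (S : Subgroup G)) (Wd (S : Subgroup G)) N E ⊥ z O v) (h3 : ∀ b, Fintype.card (Om b) = 3)
    (permN : ∀ g ∈ normalizer ((S : Subgroup G) : Set G), ∀ b, ∃ c, MulAut.conj g • N b = N c) {i j : Fin 2}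
    (hij : i ≠ j) {P : Subgroup G} (hP : IsParS (S : Subgroup G) P) (hj : P ≤ centralizer ({v j} : Set G))
    (hi : ¬ P ≤ centralizer ({v i} : Set G))
    (mov : ∃ A ∈ AA (o2 (centralizer (zc (S : Subgroup G) : Set G))), ¬ A ≤ centralizer (VO N O i : Set G)) :
    PIn S (centralizer (zc (S : Subgroup G) : Set G)) P (FH (S : Subgroup G) (centralizer ({v j} : Set G)))
      (fun b : {b // b ∈ O i} => N b) (fun b => zpowers (z b)) := by
  have hS1 : (S : Subgroup G) ≠ ⊥ := B.ctx.sylow_ne_bot S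
  have hv : ∀ k, v k ∈ zc (S : Subgroup G) := fun k => zc_of_fix B (t.VU k (t.vV k)) (t.vS k)
  have hlong := isLong_cent (hv j) (t.v1 j)
  have hCS : o2 (CZ (S : Subgroup G)) ≤ (S : Subgroup G) := (isLoc_centralizer_zc S hS1).o2_le S
  have hj' := TwoO.le_cent_iff.1 hj
  have hi' : ∃ r ∈ P, r * v i * r⁻¹ ≠ v i := by
    by_contra hcon; push Not at hcon; exact hi (TwoO.le_cent_iff.2 hcon)
  have hmin := hP.toIsMinPar
  have huni := t.uni hij (le_MZ hP) hmin hj' hi' i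
  have hVP : VO N O i ≤ zl (S : Subgroup G) P := by
    refine le_trans (t.irr hij (le_MZ hP) hmin hj' hi' (W := VO N O i ⊓ zl (S : Subgroup G) P) inf_le_left
      (le_norm_of fun r hr x hx => mem_inf.2 ⟨conj_of (huni hr) hx.1,
      conj_of (Cfsg.Agent.MinSimple.VModule.le_normalizer_zl _ _ hr) hx.2⟩) ?_) inf_le_right
    intro h
    have h2 : v i ∈ VO N O i ⊓ zl (S : Subgroup G) P :=
      mem_inf.2 ⟨t.vV i, Cfsg.Agent.MinSimple.VModule.zc_le_zl _ _ (hv i)⟩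
    rw [h, mem_bot] at h2
    exact t.v1 i h2
  have hNV : ∀ b : {b // b ∈ O i}, N b ≤ VO N O i := fun b => le_iSup₂_of_le (f := fun b (_ : b ∈ O i) => N b) b.1 b.2 le_rfl
  have hW : ∀ b : {b // b ∈ O i}, N b ≤ WP (S : Subgroup G) := fun b =>
    (hNV b).trans (hVP.trans (zl_le_WP hP))
  have hWQ : WP (S : Subgroup G) ≤ o2 (CZ (S : Subgroup G)) := WP_le_Q B.data
  have hab := NotA.FH_comm B.ctx.char2 B.data B.notA hlong
  refine
    { SD := le_CZ S
      VO := fun b => (hW b).trans hWQ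
      sq := fun b x hx => wsq B x (t.dec.NU b hx)
      noff := fun x hx b c y hy w hw => ?_
      ind := (ind t.dec).comp Subtype.val_injective
      ZV := fun b => zpowers_le.2 (t.one.zN b)
      Zne := fun b => by rw [Ne, zpowers_eq_bot]; exact t.one.z1 b
      card := fun b => ?_
      perm := fun s hs b => ?_
      trans := fun b c => (t.orb i).tr b b.2 c c.2
      root := fun b g hg hc => ?_
      ffp := fun A hA hb b => (fb B F t h3 i hA hb).rootOn b
      mov := ?_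
      Pmin := hmin
      PV := ?_
      irr := fun U hU hPU hne => ?_
      PN := hj.trans (le_normalizer_FH _ _)
      DN := (centralizer_le (Set.singleton_subset_iff.2 (hv j))).trans (le_normalizer_FH _ _)
      VN := fun b => (hW b).trans (WP_le_FH _ _)
      NO := (NotA.FH_le_o2 B.data B.notA hlong).trans (hlong.o2_le S)
      Nsq := fun n hn => by
        have := NotA.FH_sq B.ctx.char2 B.data B.notA hlong n hn
        rwa [pow_two] at this
      Nab := fun m hm n hn => mem_centralizer_iff.1 (hab hn) m hm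
      vec := ⟨v i, exists_vec t (WS B) i, fun x hx => (mem_centralizer_iff.1 hx _ (hv i)).symm, fun b hb => ?_⟩ }
  · -- noff
    have h1 : y ∈ FH (S : Subgroup G) (centralizer ({v j} : Set G)) := WP_le_FH _ _ (hW b hy)
    have h2 : w ∈ WP (S : Subgroup G) := by
      rw [← conj_WP hx]
      obtain ⟨y, hy, rfl⟩ := hw
      exact ⟨y, hW c hy, rfl⟩
    exact mem_centralizer_iff.1 (hab (WP_le_FH _ _ h2)) y h1
  · -- card
    rw [card_zp (wsq B _ (t.dec.NU b (t.one.zN b))) (t.one.z1 b),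
      card_four (t.one.zN b) (t.one.z1 b) (four_of_lett (F.lett b) (h3 b) (t.one.zN b) (t.one.z1 b))
        fun x hx => wsq B x (t.dec.NU b hx)]
    norm_num
  · -- perm
    obtain ⟨c, hc⟩ := permN s hs.1 b
    have h1 : s * v i * s⁻¹ = v i := by
      rw [← mem_centralizer_iff.1 hs.2 _ (hv i), mul_inv_cancel_right]
    obtain ⟨h2, h4⟩ := conj_z t (permN s hs.1) h1 b.2 hc
    exact ⟨⟨c, h2⟩, hc, conj_zp h4⟩
  · -- root
    have hzz := wsq B _ (t.dec.NU b (t.one.zN b))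
    by_cases h : ∀ x ∈ N b, g * x = x * g
    · exact Or.inl h
    · right
      push Not at h
      obtain ⟨x, hx, hgx⟩ := h
      intro y hy
      rcases mem_zp hzz hy with rfl | rfl
      · exact ⟨1, one_mem _, by group⟩
      · refine ⟨x, hx, (mem_zp hzz (hc x hx)).resolve_left fun e => hgx ?_⟩
        exact mul_inv_eq_iff_eq_mul.1 (mul_inv_eq_one.1 e)
  · -- mov
    rw [← VO_eq]; exact mov
  · rw [← VO_eq]; exact huni
  · rw [← VO_eq] at hU ⊢
    exact le_antisymm hU (t.irr hij (le_MZ hP) hmin hj' hi' hU hPU hne)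
  · -- vec
    have h1 : (⨆ (c : {b // b ∈ O i}) (_ : c ≠ b), N c) ≤ Blk.Co N ⊥ b := iSup₂_le fun c hc =>
      t.dec.N_le_Co fun e => hc (Subtype.ext e)
    exact t.one.z1 b (t.dec.uniq (t.comp i b.2) (t.dec.comp_one (h1 hb)))

end pin

end Cfsg.Agent.Omega.NOThreeL.RRed.FourPIn

end

section


/-!
# Box R, `|Z| = 4`, two orbits of four-group blocks, left case: `C_G(Z)` permutes the points `z b`

THEOREM PERM+ (helper278: `RWide.PIn.permD`) for the instance `FourPIn.pin_of_two`.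
-/

set_option autoImplicit false
set_option linter.unusedSectionVars false

namespace Cfsg.Agent.Omega.NOThreeL.RRed.FourPIn

open Subgroup Cfsg Cfsg.Agent.ZN Cfsg.Agent.ZN.ChoiceBase
open Cfsg.Agent.Omega.MinPar Cfsg.Agent.Omega.Frame Cfsg.Agent.Omega.FrameNOFF
open Cfsg.Agent.Omega.Node.NO3L Cfsg.Agent.Omega.NOThreeL.Basic Cfsg.Agent.Omega.NOThreeL.RTree
open Cfsg.Agent.Omega.NOThreeL.Merge (MZ)
open Cfsg.Agent.Omega.NOThreeL.RRed.Blk
open Cfsg.Agent.Omega.NOThreeL.RWide (conj_mem_cj)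
open scoped Pointwise

universe u

variable {G : Type u} [Group G] [Finite G] {ι : Type u} [Finite ι] {S : Sylow 2 G} {N E : ι → Subgroup G} {z : ι → G}
  {O : Fin 2 → Set ι} {v : Fin 2 → G} {Om : ι → Type u} [∀ i, Fintype (Om i)] [∀ i, DecidableEq (Om i)]
  {phi : ∀ i, Finset (Om i) → G}

/-- **`C_G(Z)` permutes the points `z b`, `b ∈ O i`.** -/
theorem permD_two (B : RB S)
    (F : TvFin.Full (S : Subgroup G) (MZ (S : Subgroup G)) (Wd (S : Subgroup G)) N E ⊥ Om phi)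
    (t : TwoO S (MZ (S : Subgroup G)) (Wd (S : Subgroup G)) N E ⊥ z O v) (h3 : ∀ b, Fintype.card (Om b) = 3)
    (permN : ∀ g ∈ normalizer ((S : Subgroup G) : Set G), ∀ b, ∃ c, MulAut.conj g • N b = N c) {i j : Fin 2}
    (hij : i ≠ j) {P : Subgroup G} (hP : IsParS (S : Subgroup G) P) (hj : P ≤ centralizer ({v j} : Set G))
    (hi : ¬ P ≤ centralizer ({v i} : Set G))
    (mov : ∃ A ∈ AA (o2 (centralizer (zc (S : Subgroup G) : Set G))), ¬ A ≤ centralizer (VO N O i : Set G)) :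
    ∀ x ∈ centralizer (zc (S : Subgroup G) : Set G), ∀ b ∈ O i, ∃ c ∈ O i, x * z b * x⁻¹ = z c := by
  intro x hx b hb
  obtain ⟨c, hc⟩ := (pin_of_two B F t h3 permN hij hP hj hi mov).permD x hx ⟨b, hb⟩
  refine ⟨c, c.2, (mem_zp (wsq B _ (t.dec.NU c (t.one.zN c))) ?_).resolve_left
    fun e => t.one.z1 b (conj_eq_one_iff.1 e)⟩
  have h1 : x * z b * x⁻¹ ∈ cj x (zpowers (z b)) := conj_mem_cj (mem_zpowers _)
  rw [hc] at h1
  exact h1

end Cfsg.Agent.Omega.NOThreeL.RRed.FourPIn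

end

end

-- merged: Cfsg.Agent.Mrg.Omega.NOThreeL.RRed.SBadNat
section

section


/-!
# Box R: `SBad` for natural blocks, helper314

* **`sBad_nat`** : `OneNon.SBad S N {N b - 1}` over `NBs`, `Src` (helper391, helper739).
-/

set_option autoImplicit false

namespace Cfsg.Agent.Omega.NOThreeL.RRed.HBadNat

open Subgroup Cfsg
open Cfsg.Agent.Omega.NOThreeL.RRed.WideTree (NBs Src)
open Cfsg.Agent.Omega.NOThreeL.RTree (RB)

universe u

variable {G : Type u} [Group G] [Finite G] {S : Sylow 2 G} {ι : Type u} {N E D l : ι → Subgroup G} {q : ι → ℕ}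

/-- **`SBad` for natural blocks** -/
theorem sBad_nat (B : RB S) (hn : NBs (S : Subgroup G) N E D l q) (hs : Src (S : Subgroup G) N l q) :
    OneNon.SBad (S : Subgroup G) N (fun b => {x | x ∈ N b ∧ x ≠ 1}) :=
  fun _ _ _ hz hzc _ _ hR hC => bad_nat B hn hs hz hzc hR hC

end Cfsg.Agent.Omega.NOThreeL.RRed.HBadNat

end

section


/-!
# NO-3L, box R, `FourOf`, the left case: the frame `Lf`, `B = C_S(Z_J)`, `Z_J = ∏ ⟨z b⟩`

* `Lf S N E z O v` : the left case: two orbits of natural blocks of order 4, `𝒜(O)` acts through `⨆ E b` and moves every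
  block by a transvection, `D = C_G(Z)` permutes the `z b` (PERM+);
* `comp_ZJ`, `mem_ZJ` : `Z_J` = the elements of `V*` with components `1` or `z b`;
* `LJ O` = intersection of all members of `𝒜(O)`;
* `Lf.pure`, `Lf.A_le_B`, `Lf.sylB`, `Lf.D_norm`, `Lf.OJ_le`, `Lf.mx_iff` : `𝒜(O) = 𝒜(O_J)`.
-/

set_option autoImplicit false
set_option linter.unusedSectionVars false

namespace Cfsg.Agent.Omega.NOThreeL.RRed.FourLf

open Subgroup Cfsg Cfsg.Agent.ZN Cfsg.Agent.Omega.MinPar Cfsg.Agent.Omega.Frame Cfsg.Agent.Omega.FrameNOFF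
open Cfsg.Agent.Omega.Node.NO3L Cfsg.Agent.Omega.NOThreeL.Basic Cfsg.Agent.Omega.NOThreeL.RTree
open Cfsg.Agent.Omega.NOThreeL.Merge (MZ le_MZ S_le_MZ)
open Cfsg.Agent.Omega.FFThm (ElemM OffM NoOverM)
open Cfsg.Agent.Omega.KL.TwoS (Rel Lett relIndex_le_of_sup relIndex_card comm_of_sq sq_sup NN)
open Cfsg.Agent.Omega.OM.KTwo (CC QQ)
open Cfsg.Agent.Omega.NOThreeL.RRed.Blk
open Cfsg.Agent.Omega.NOThreeL.RRed.FourLeft
open Cfsg.Agent.Omega.NoFF.Basic (comm_symm comm_mono mem_conj conj_le_iff conj_conj)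
open Cfsg.Agent.Omega.NoFF.ThmJFam (card_sup_inf card_conj)
open Cfsg.Agent.MinSimple.VModule (oddGen oddGen_le mem_oddGen le_normalizer_oddGen)
open Cfsg.Agent.MinSimple.MinParabolic (IsMinPar)
open Cfsg.Agent.ZN.ChoiceSit (Syl)
open scoped Pointwise

universe u

variable {G : Type u} [Group G]

/-! ### `LJ` -/

/-- the intersection of the members of `𝒜(O)` -/
def LJ (O : Subgroup G) : Subgroup G := sInf {A | KL.TwoS.Mx O A}

theorem LJ_le_mem {O A : Subgroup G} (h : KL.TwoS.Mx O A) : LJ O ≤ A := sInf_le h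

section LJ

variable [Finite G]

theorem LJ_le (O : Subgroup G) : LJ O ≤ O := by
  obtain ⟨A, hA⟩ := KL.TwoS.Mx.exists_mx O
  exact (LJ_le_mem hA).trans hA.le

theorem LJ_sq {O : Subgroup G} : ∀ x ∈ LJ O, x ^ 2 = 1 := by
  obtain ⟨A, hA⟩ := KL.TwoS.Mx.exists_mx O
  exact fun x hx => hA.sq x (LJ_le_mem hA hx)

theorem mem_LJ {O : Subgroup G} {x : G} (hx : x ∈ O) (h2 : x ^ 2 = 1)
    (h : ∀ A, KL.TwoS.Mx O A → ∀ a ∈ A, a * x = x * a) : x ∈ LJ O := by
  rw [LJ, mem_sInf]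
  intro A hA
  have h1 : zpowers x ≤ A := by
    refine hA.le_of_comm (by rw [zpowers_le]; exact hx) ?_ ?_
    · rintro _ ⟨k, rfl⟩
      change (x ^ k) ^ 2 = 1
      rw [← zpow_natCast, ← zpow_mul, mul_comm, zpow_mul, zpow_natCast, h2, one_zpow]
    · rw [zpowers_le, mem_centralizer_iff]
      exact h A hA
  exact h1 (mem_zpowers x)

theorem LJ_norm (O : Subgroup G) : normalizer (O : Set G) ≤ normalizer (LJ O : Set G) := by
  have key : ∀ g ∈ normalizer (O : Set G), ∀ x ∈ LJ O, g * x * g⁻¹ ∈ LJ O := by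
    intro g hg x hx
    rw [LJ, mem_sInf]
    intro A hA
    have h1 : MulAut.conj g⁻¹ • A ≤ O := by
      have h2 := (conj_le_iff (g := g⁻¹)).2 hA.le
      rwa [Blk.smul_of_mem (inv_mem hg)] at h2
    have h3 := LJ_le_mem (hA.conj h1) hx
    rw [mem_conj] at h3
    simpa using h3
  exact le_norm_of key

end LJ

/-! ### `Z_J` -/

section ZJ

variable {S M U : Subgroup G} {I : Type u} {N E : I → Subgroup G} {z : I → G}

theorem comp_ZJ (D : Dec S M U N E ⊥) (o : One S M U N E z) (sq : ∀ x ∈ U, x * x = 1) {x : G}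
    (hx : x ∈ closure (Set.range z)) : ∀ b, ∃ n, IsC N ⊥ b x n ∧ (n = 1 ∨ n = z b) := by
  have hz2 : ∀ b, z b * z b = 1 := fun b => sq _ (D.NU b (o.zN b))
  induction hx using closure_induction with
  | mem x hx =>
    obtain ⟨c, rfl⟩ := hx
    intro b
    by_cases hb : c = b
    · subst hb
      exact ⟨z c, D.comp_self (o.zN c), Or.inr rfl⟩
    · exact ⟨1, D.comp_ne hb (o.zN c), Or.inl rfl⟩
  | one => exact fun b => ⟨1, D.comp_one (one_mem _), Or.inl rfl⟩
  | mul x y _ _ hx hy =>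
    intro b
    obtain ⟨n, hn, h1⟩ := hx b
    obtain ⟨m, hm, h2⟩ := hy b
    refine ⟨n * m, D.comp_mul hn hm, ?_⟩
    rcases h1 with rfl | rfl <;> rcases h2 with rfl | rfl
    · exact Or.inl (one_mul _)
    · exact Or.inr (one_mul _)
    · exact Or.inr (mul_one _)
    · exact Or.inl (hz2 b)
  | inv x _ hx =>
    intro b
    obtain ⟨n, hn, h1⟩ := hx b
    refine ⟨n⁻¹, D.comp_inv hn, ?_⟩
    rcases h1 with rfl | rfl
    · exact Or.inl inv_one
    · exact Or.inr (inv_eq_of_mul_eq_one_right (hz2 b))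

theorem mem_ZJ [Finite I] (D : Dec S M U N E ⊥) (o : One S M U N E z) {x : G} (hx : x ∈ U)
    (h : ∀ b, ∃ n, IsC N ⊥ b x n ∧ (n = 1 ∨ n = z b)) : x ∈ closure (Set.range z) := by
  classical
  have := Fintype.ofFinite I
  have key : ∀ s : Finset I, ∃ y ∈ closure (Set.range z), ∀ b, (b ∈ s → ∃ n, IsC N ⊥ b x n ∧ IsC N ⊥ b y n) ∧
      (b ∉ s → IsC N ⊥ b y 1) := by
    intro s
    induction s using Finset.induction_on with
    | empty => exact ⟨1, one_mem _, fun b => ⟨fun hb => absurd hb (by simp), fun _ => D.comp_one (one_mem _)⟩⟩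
    | insert a s ha ih =>
      obtain ⟨y, hy, hyb⟩ := ih
      obtain ⟨n, hn, hn1⟩ := h a
      have hnZ : n ∈ closure (Set.range z) := by
        rcases hn1 with rfl | rfl
        · exact one_mem _
        · exact subset_closure ⟨a, rfl⟩
      refine ⟨y * n, mul_mem hy hnZ, fun b => ⟨fun hb => ?_, fun hb => ?_⟩⟩
      · by_cases hba : b = a
        · subst hba
          have h1 := D.comp_mul ((hyb b).2 ha) (D.comp_self hn.1)
          rw [one_mul] at h1
          exact ⟨n, hn, h1⟩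
        · have hbs : b ∈ s := (Finset.mem_insert.1 hb).resolve_left hba
          obtain ⟨m, hm, hm'⟩ := (hyb b).1 hbs
          have h1 := D.comp_mul hm' (D.comp_ne (Ne.symm hba) hn.1)
          rw [mul_one] at h1
          exact ⟨m, hm, h1⟩
      · have hba : b ≠ a := fun e => hb (e ▸ Finset.mem_insert_self _ _)
        have hbs : b ∉ s := fun e => hb (Finset.mem_insert_of_mem e)
        have h1 := D.comp_mul ((hyb b).2 hbs) (D.comp_ne (Ne.symm hba) hn.1)
        rwa [one_mul] at h1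
  obtain ⟨y, hy, hyb⟩ := key Finset.univ
  have hsup : (⨆ b, N b) = U := by
    have := D.sup
    rwa [sup_bot_eq] at this
  have hyU : y ∈ ⨆ b, N b := by
    have h1 : closure (Set.range z) ≤ ⨆ b, N b := by
      rw [closure_le]
      rintro _ ⟨b, rfl⟩
      exact (le_iSup N b) (o.zN b)
    exact h1 hy
  have e : x = y := D.ext (by rw [hsup]; exact hx) hyU fun b => (hyb b).1 (Finset.mem_univ b)
  rw [e]; exact hy

end ZJ

/-! ### The left case -/

/-- `O = O₂(C_G(Z))` -/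
abbrev OO (S : Subgroup G) : Subgroup G := o2 (centralizer (zc S : Set G))

/-- `Z_J` -/
abbrev ZJ {I : Type u} (z : I → G) : Subgroup G := closure (Set.range z)

/-- `B = C_S(Z_J)` -/
abbrev BB (S : Subgroup G) {I : Type u} (z : I → G) : Subgroup G := S ⊓ centralizer (ZJ z : Set G)

/-- **The left case.** -/
structure Lf [Finite G] (S : Sylow 2 G) {I : Type u} (N E : I → Subgroup G) (z : I → G) (O : Fin 2 → Set I)
    (v : Fin 2 → G) : Prop where
  rb : RB S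
  tw : TwoO S (MZ (S : Subgroup G)) (Wd (S : Subgroup G)) N E ⊥ z O v
  inn : Inn (MZ (S : Subgroup G)) N E
  T : TwoV (S : Subgroup G) (VO N O) v
  ex : ∀ i j, i ≠ j → ∃ R, IsParS (S : Subgroup G) R ∧ R ≤ centralizer ({v j} : Set G) ∧
    ¬ R ≤ centralizer ({v i} : Set G)
  h4 : ∀ b, Nat.card (N b) = 4
  no : NoOverM (Wd (S : Subgroup G)) (S : Subgroup G)
  AE : ∀ A, KL.TwoS.Mx (OO (S : Subgroup G)) A → A ≤ ⨆ b, E b
  tv : ∀ b, ∃ A, KL.TwoS.Mx (OO (S : Subgroup G)) A ∧ ∃ t ∈ A, t ∈ E b ∧ t ∉ centralizer (N b : Set G)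
  perm : ∀ d ∈ centralizer (zc (S : Subgroup G) : Set G), ∀ b, ∃ c, d * z b * d⁻¹ = z c

namespace Lf

variable [Finite G] {S : Sylow 2 G} {I : Type u} [Finite I] {N E : I → Subgroup G} {z : I → G} {O : Fin 2 → Set I}
  {v : Fin 2 → G} (h : Lf S N E z O v)
include h

theorem fr : KL.TwoS.Fr (S : Subgroup G) (VO N O) v := h.T.fr h.rb

theorem OS : OO (S : Subgroup G) ≤ (S : Subgroup G) := h.fr.O_le_T

theorem usq : ∀ x ∈ Wd (S : Subgroup G), x * x = 1 := fun x hx => wsq h.rb x hx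

theorem usq' : ∀ x ∈ Wd (S : Subgroup G), x ^ 2 = 1 := fun x hx => by rw [pow_two]; exact h.usq x hx

theorem NV {i : Fin 2} {b : I} (hb : b ∈ O i) : N b ≤ VO N O i := le_iSup₂_of_le b hb le_rfl

theorem VOO (i : Fin 2) : VO N O i ≤ OO (S : Subgroup G) := (h.fr.VQ i).trans (h.fr.Q_le_O i)

theorem UO : Wd (S : Subgroup G) ≤ OO (S : Subgroup G) := by
  have h1 := h.tw.dec.sup
  rw [sup_bot_eq] at h1
  rw [← h1]
  refine iSup_le fun b => ?_
  rcases h.tw.cov b with hb | hb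
  · exact (h.NV hb).trans (h.VOO 0)
  · exact (h.NV hb).trans (h.VOO 1)

/-- **pure members of `𝒜(O)`** -/
theorem pure (b : I) : ∃ A, KL.TwoS.Mx (OO (S : Subgroup G)) A ∧ ¬ A ≤ centralizer (N b : Set G) ∧
    ∀ c, c ≠ b → A ≤ centralizer (N c : Set G) := by
  obtain ⟨A, hA, t, ht, htE, htb⟩ := h.tv b
  obtain ⟨A', h1, h2, h3, -⟩ := exists_pure h.tw.dec h.inn h.tw.one h.OS h.UO h.usq' h.no hA (h.AE A hA) (h.h4 b) ht
    htE htb
  exact ⟨A', h1, h2, h3⟩

theorem A_fix {A : Subgroup G} (hA : KL.TwoS.Mx (OO (S : Subgroup G)) A) {a : G} (ha : a ∈ A) (b : I) :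
    a * z b * a⁻¹ = z b := z_fix h.tw.dec h.inn h.tw.one (h.OS (hA.le ha)) (h.AE A hA ha) b

theorem zU (b : I) : z b ∈ Wd (S : Subgroup G) := h.tw.dec.NU b (h.tw.one.zN b)

theorem ZJU : ZJ z ≤ Wd (S : Subgroup G) := by
  rw [closure_le]
  rintro _ ⟨b, rfl⟩
  exact h.zU b

theorem v_mem (i : Fin 2) : v i ∈ ZJ z := by
  refine mem_ZJ h.tw.dec h.tw.one (h.tw.VU i (h.tw.vV i)) fun b => ?_
  by_cases hb : b ∈ O i
  · exact ⟨_, h.tw.comp i hb, Or.inr rfl⟩
  · exact ⟨_, h.tw.comp' i hb, Or.inl rfl⟩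

theorem zcZJ : zc (S : Subgroup G) ≤ ZJ z := by
  intro x hx
  rcases (h.tw.zS h.rb x).1 hx with rfl | rfl | rfl | rfl
  · exact one_mem _
  · exact h.v_mem 0
  · exact h.v_mem 1
  · exact mul_mem (h.v_mem 0) (h.v_mem 1)

theorem WS' : Wd (S : Subgroup G) ≤ (S : Subgroup G) := h.UO.trans h.OS

/-- `x ∈ B` iff it fixes all `z b` -/
theorem mem_BB {x : G} (hx : x ∈ (S : Subgroup G)) (hz : ∀ b, x * z b * x⁻¹ = z b) : x ∈ BB (S : Subgroup G) z := by
  refine ⟨hx, ?_⟩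
  have h1 : ZJ z ≤ centralizer ({x} : Set G) := by
    rw [closure_le]
    rintro _ ⟨b, rfl⟩
    exact mem_centralizer_singleton_iff.2 (mul_inv_eq_iff_eq_mul.1 (hz b)).symm
  exact mem_centralizer_iff.2 fun y hy => mem_centralizer_singleton_iff.1 (h1 hy)

theorem B_fix {x : G} (hx : x ∈ BB (S : Subgroup G) z) (b : I) : x * z b * x⁻¹ = z b :=
  cent hx.2 (subset_closure ⟨b, rfl⟩)

theorem A_le_B {A : Subgroup G} (hA : KL.TwoS.Mx (OO (S : Subgroup G)) A) : A ≤ BB (S : Subgroup G) z :=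
  fun _ ha => h.mem_BB (h.OS (hA.le ha)) (h.A_fix hA ha)

theorem U_le_B : Wd (S : Subgroup G) ≤ BB (S : Subgroup G) z := fun _ hx =>
  ⟨h.WS' hx, (h.tw.dec.ab.trans (centralizer_le h.ZJU)) hx⟩

/-- `C_G(Z_J) ≤ C_G(Z)` is normalised by `C_G(Z)` -/
theorem D_norm : centralizer (zc (S : Subgroup G) : Set G) ≤ normalizer (ZJ z : Set G) := by
  refine le_norm_of fun d hd x hx => ?_
  induction hx using closure_induction with
  | mem x hx =>
    obtain ⟨b, rfl⟩ := hx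
    obtain ⟨c, hc⟩ := h.perm d hd b
    rw [hc]; exact subset_closure ⟨c, rfl⟩
  | one => rw [mul_one, mul_inv_cancel]; exact one_mem _
  | mul x y _ _ hx hy =>
    have e : d * (x * y) * d⁻¹ = (d * x * d⁻¹) * (d * y * d⁻¹) := by group
    rw [e]; exact mul_mem hx hy
  | inv x _ hx =>
    have e : d * x⁻¹ * d⁻¹ = (d * x * d⁻¹)⁻¹ := by group
    rw [e]; exact inv_mem hx

theorem CJ_le : centralizer (ZJ z : Set G) ≤ centralizer (zc (S : Subgroup G) : Set G) := centralizer_le h.zcZJ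

theorem D_norm' : centralizer (zc (S : Subgroup G) : Set G) ≤
    normalizer ((centralizer (ZJ z : Set G) : Subgroup G) : Set G) := TC.LemZ.norm_cent h.D_norm

theorem sylB : Syl (BB (S : Subgroup G) z) (centralizer (ZJ z : Set G)) := by
  have h1 : Syl (S : Subgroup G) (centralizer (zc (S : Subgroup G) : Set G)) := h.fr.syl_D
  exact syl_inf_of h1 h.CJ_le h.D_norm'

/-- `O_J ≤ O` -/
theorem OJ_le : o2 (centralizer (ZJ z : Set G)) ≤ OO (S : Subgroup G) :=
  MinSimple.VModule.le_o2 ((MinSimple.VModule.o2_le _).trans h.CJ_le) (MinSimple.VModule.o2_isPGroup _)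
    (h.D_norm'.trans (ZN.normalizer_le_normalizer_o2 _))

theorem O_inf_le : OO (S : Subgroup G) ⊓ centralizer (ZJ z : Set G) ≤ o2 (centralizer (ZJ z : Set G)) := by
  refine MinSimple.VModule.le_o2 inf_le_right ((MinSimple.VModule.o2_isPGroup _).to_le inf_le_left) ?_
  have h1 : centralizer (ZJ z : Set G) ≤ normalizer (OO (S : Subgroup G) : Set G) :=
    h.CJ_le.trans (le_normalizer_o2 _)
  refine le_norm_of fun g hg x hx => ⟨conj_of (h1 hg) hx.1, ?_⟩
  exact (centralizer (ZJ z : Set G)).mul_mem ((centralizer (ZJ z : Set G)).mul_mem hg hx.2)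
    ((centralizer (ZJ z : Set G)).inv_mem hg)

/-- `𝒜(O) = 𝒜(O_J)` -/
theorem mx_iff {A : Subgroup G} : KL.TwoS.Mx (o2 (centralizer (ZJ z : Set G))) A ↔ KL.TwoS.Mx (OO (S : Subgroup G)) A := by
  constructor
  · intro hA
    obtain ⟨A', hA'⟩ := KL.TwoS.Mx.exists_mx (OO (S : Subgroup G))
    have h1 : A' ≤ o2 (centralizer (ZJ z : Set G)) := (le_inf hA'.le ((h.A_le_B hA').trans inf_le_right)).trans h.O_inf_le
    exact hA'.of_card (hA.le.trans h.OJ_le) hA.sq (hA.max A' h1 hA'.sq)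
  · intro hA
    have h1 : A ≤ o2 (centralizer (ZJ z : Set G)) := (le_inf hA.le ((h.A_le_B hA).trans inf_le_right)).trans h.O_inf_le
    exact ⟨h1, hA.sq, fun B hB hB2 => hA.max B (hB.trans h.OJ_le) hB2⟩

end Lf

end Cfsg.Agent.Omega.NOThreeL.RRed.FourLf

end

section


/-!
# NO-3L, box R, `FourOf`, the left case: the frame `Lf` holds

* `mx_AA` : `Mx O A` is membership in `AA O`;
* `best_mx` : members of `𝒜(O)` are best offenders on `V*`;
* `gen_mx` : and generated by the elements which act on `V*` as transvections or trivially (930's `TvExa.gen_tv`);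
* `perm_z` : `C_G(Z)` permutes the `z b` (THEOREM PERM+ for both orbits);
* **`lf_of`** : the hypotheses of `FourTwoP.FourLeft` imply `FourLf.Lf`.
-/

set_option autoImplicit false
set_option linter.unusedSectionVars false

namespace Cfsg.Agent.Omega.NOThreeL.RRed.FourLfOf

open Subgroup Cfsg Cfsg.Agent.ZN Cfsg.Agent.Omega.MinPar Cfsg.Agent.Omega.Frame Cfsg.Agent.Omega.FrameNOFF
open Cfsg.Agent.Omega.Node.NO3L Cfsg.Agent.Omega.NOThreeL.Basic Cfsg.Agent.Omega.NOThreeL.RTree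
open Cfsg.Agent.Omega.NOThreeL.Merge (MZ le_MZ S_le_MZ)
open Cfsg.Agent.Omega.NO1.BestOff (Best)
open Cfsg.Agent.Omega.FFThm (ElemM OffM NoOverM)
open Cfsg.Agent.Omega.NOThreeL.RRed.TvFin (TvV Full)
open Cfsg.Agent.Omega.NOThreeL.RRed.FourTree
open Cfsg.Agent.Omega.NOThreeL.RRed.FourTwoO
open Cfsg.Agent.Omega.NOThreeL.RRed.FourTwoP
open Cfsg.Agent.Omega.NOThreeL.RRed.Blk
open Cfsg.Agent.ZN.ChoiceBase (AA)
open scoped Pointwise

universe u

variable {G : Type u} [Group G]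

theorem mx_AA [Finite G] {O A : Subgroup G} (h : KL.TwoS.Mx O A) : A ∈ AA O := by
  refine ⟨⟨⟨⟨fun a b => Subtype.ext ?_⟩⟩, h.sq⟩, h.le, fun B hB hBO => h.max B hBO hB.2⟩
  exact mem_centralizer_iff.1 (h.comm b.2) a a.2

variable [Finite G] {S : Sylow 2 G} {I : Type u} [Finite I] {N E : I → Subgroup G} {Om : I → Type u}
  [∀ i, Fintype (Om i)] [∀ i, DecidableEq (Om i)] {phi : ∀ i, Finset (Om i) → G} {z : I → G} {O : Fin 2 → Set I}
  {v : Fin 2 → G}

theorem Wd_le (T : TwoV (S : Subgroup G) (VO N O) v) (B : RB S)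
    (t : TwoO S (MZ (S : Subgroup G)) (Wd (S : Subgroup G)) N E ⊥ z O v) :
    Wd (S : Subgroup G) ≤ o2 (centralizer (zc (S : Subgroup G) : Set G)) := by
  have h1 := t.dec.sup
  rw [sup_bot_eq] at h1
  rw [← h1]
  refine iSup_le fun b => ?_
  rcases t.cov b with hb | hb
  · exact (le_iSup₂_of_le (f := fun b (_ : b ∈ O 0) => N b) b hb le_rfl).trans (VO_le B T 0)
  · exact (le_iSup₂_of_le (f := fun b (_ : b ∈ O 1) => N b) b hb le_rfl).trans (VO_le B T 1)

theorem best_mx (B : RB S) (hW : Wd (S : Subgroup G) ≤ o2 (centralizer (zc (S : Subgroup G) : Set G)))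
    {A : Subgroup G} (hA : KL.TwoS.Mx (o2 (centralizer (zc (S : Subgroup G) : Set G))) A) :
    Best (Wd (S : Subgroup G)) A := FourNoK2.best_of_AA (FourNoK2.elem_Wd B) hW (mx_AA hA)

/-- generated by transvections -/
theorem gen_best (h : Four S) (hF : ¬ Fld S) (hB : Bks S N E ⊥ Om phi) {A : Subgroup G} (hS : A ≤ (S : Subgroup G))
    (hb : Best (Wd (S : Subgroup G)) A) :
    A ≤ closure {t | t ∈ A ∧ ∃ c ∈ Wd (S : Subgroup G), TvV (Wd (S : Subgroup G)) c t} := by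
  obtain ⟨P, A₀, hg⟩ := exists_gOne_rr h.toRB h.rr
  have hA : A ≤ MZ (S : Subgroup G) := hS.trans (S_le_MZ h.toRB.ctx h.toRB.full)
  have hL := Merge.isLoc_MZ h.toRB.ctx h.toRB.full h.toRB.data.noff
  refine TvExa.gen_tv hB.toFull hg.no (fun X hX hm => ?_) A hA (S.isPGroup'.to_le hS) hb.toElemM
    (TvExa.exa_of_best hg.no hA hb)
  obtain ⟨t, ht, c, hc', hn, htv, -⟩ := TvAtom.mx_tv h.toRB.ctx.char2 hL (gen_MZ S) hF hX hm
  exact ⟨t, ht, c, hc', hn, htv⟩

/-- **`C_G(Z)` permutes the points `z b`.** -/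
theorem perm_z (B : RB S) (F : Full (S : Subgroup G) (MZ (S : Subgroup G)) (Wd (S : Subgroup G)) N E ⊥ Om phi)
    (hno : ∀ R, IsParS (S : Subgroup G) R → ¬ R ≤ normalizer (((S : Subgroup G) ⊓ ⨆ b, E b : Subgroup G) : Set G))
    (t : TwoO S (MZ (S : Subgroup G)) (Wd (S : Subgroup G)) N E ⊥ z O v) (h3 : ∀ b, Fintype.card (Om b) = 3)
    (hmv : ∀ b, ∃ A, KL.TwoS.Mx (o2 (centralizer (zc (S : Subgroup G) : Set G))) A ∧
      ¬ A ≤ centralizer (N b : Set G)) :
    ∀ d ∈ centralizer (zc (S : Subgroup G) : Set G), ∀ b, ∃ c, d * z b * d⁻¹ = z c := by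
  have key : ∀ i j : Fin 2, i ≠ j → ∀ d ∈ centralizer (zc (S : Subgroup G) : Set G), ∀ b ∈ O i,
      ∃ c, d * z b * d⁻¹ = z c := by
    intro i j hij d hd b hb
    obtain ⟨P, hP, hj, hi⟩ := FourTwoO.ex B t hno hij
    obtain ⟨A, hA, hA'⟩ := hmv b
    obtain ⟨c, -, hc⟩ := FourPIn.permD_two B F t h3 (FourPermN.permN F) hij hP hj hi
      ⟨A, mx_AA hA, fun h => hA' (h.trans (centralizer_le
        (le_iSup₂_of_le (f := fun b (_ : b ∈ O i) => N b) b hb le_rfl)))⟩ d hd b hb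
    exact ⟨c, hc⟩
  intro d hd b
  rcases t.cov b with hb | hb
  · exact key 0 1 (by decide) d hd b hb
  · exact key 1 0 (by decide) d hd b hb

/-- **The frame `Lf`.** -/
theorem lf_of (h : Four S) (hF : ¬ Fld S) (hB : Bks S N E ⊥ Om phi)
    (hno : ∀ R, IsParS (S : Subgroup G) R → ¬ R ≤ normalizer (((S : Subgroup G) ⊓ ⨆ b, E b : Subgroup G) : Set G))
    (t : TwoO S (MZ (S : Subgroup G)) (Wd (S : Subgroup G)) N E ⊥ z O v) (h3 : ∀ b, Fintype.card (Om b) = 3)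
    (hmv : ∀ b, ∃ A, KL.TwoS.Mx (o2 (centralizer (zc (S : Subgroup G) : Set G))) A ∧
      ¬ A ≤ centralizer (N b : Set G)) : FourLf.Lf S N E z O v := by
  have T := twoV h.toRB t hno
  have hW := Wd_le T h.toRB t
  exact
    { rb := h.toRB
      tw := t
      inn := FourTwoO.inn hB.toFull
      T := T
      ex := fun i j hij => FourTwoO.ex h.toRB t hno hij
      h4 := fun b => FourLeft.card_N (hB.lett b) (h3 b)
      no := FourNoK2.noOver h.toRB h.rr
      AE := fun A hA => bestE_of h hF hB A (hA.le.trans (o2_le_S S)) (best_mx h.toRB hW hA)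
      tv := fun b => by
        obtain ⟨A, hA, hne⟩ := hmv b
        have hAS := hA.le.trans (o2_le_S S)
        obtain ⟨x, hx, hxE, hxb, -⟩ := FourLeft.exists_tv hB.toFull (hAS.trans (S_le_MZ h.toRB.ctx h.toRB.full))
          (gen_best h hF hB hAS (best_mx h.toRB hW hA)) hne
        exact ⟨A, hA, x, hx, hxE, hxb⟩
      perm := perm_z h.toRB hB.toFull hno t h3 hmv }

end Cfsg.Agent.Omega.NOThreeL.RRed.FourLfOf

end

end
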