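import Cfsg.Agent.Mrg.Omega.NOThreeL.RLev.ExistsLev
import Cfsg.Agent.Mrg.Omega.FrameI
import Cfsg.Agent.Mrg.Omega.NOThreeL.RLev.HatMk
import Cfsg.Agent.Mrg.Omega.NOThreeL.RRed.QFr.NatCor
import Cfsg.Agent.Mrg.Omega.NOThreeL.RRed.HBadNat
import Cfsg.Agent.Mrg.Omega.OM.SwapV.Torus.Main
import Cfsg.Agent.Mrg.Omega.NOThreeL.RLev.LowZc
import Cfsg.Agent.Mrg.Omega.NOThreeL.RRed.BQ.VX
import Cfsg.Agent.Mrg.Omega.NOThreeL.RLev.VXmod
import Cfsg.Agent.Mrg.Omega.NOThreeL.QWR.Sw.Base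
import Cfsg.Agent.Mrg.Omega.NOThreeL.QWR.LowQ
import Cfsg.Agent.Mrg.Omega.OM.SwapV.Q.Main
import Cfsg.Agent.Mrg.Omega.NOThreeL.RRed.QFr.FrameD
import Cfsg.Agent.Mrg.Omega.NOThreeL.QWR.LowM
import Cfsg.Agent.Mrg.Omega.NOThreeL.RRed.BFr.Top
import Cfsg.Agent.Mrg.Omega.NOThreeL.RRed.WideTree
import Cfsg.Agent.Mrg.Omega.NOThreeL.RRed.FourTree
import Cfsg.Agent.Mrg.Omega.NOThreeL.RRed.TvOrbs
import Cfsg.Agent.Mrg.Omega.NOThreeL.RRed.QFr.Inst
import Cfsg.Agent.Mrg.Omega.NOThreeL.RRed.QFr.Zj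
import Cfsg.Agent.Mrg.Omega.NOThreeL.RRed.BFr.NlEndQ
import Cfsg.Agent.Mrg.Omega.NOThreeL.QWR.RQOf
import Cfsg.Agent.Mrg.Omega.NOThreeL.RRed.SBadNat
import Cfsg.Agent.Mrg.Omega.NOThreeL.RRed.OneManyOf
import Cfsg.Agent.Mrg.Omega.OM.SwapV.Q.Def
import Cfsg.Agent.Mrg.Omega.NOThreeL.RRed.BFr.VSup
import Cfsg.Agent.Mrg.Omega.NOThreeL.RTree
import Cfsg.Agent.Mrg.Omega.NOThreeL.RWide.DPNat
import Cfsg.Agent.Mrg.Omega.OM.SwapV.Q.Neg

-- merged: Cfsg.Agent.Mrg.Omega.NOThreeL.RLev.LevQ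
section

/-!
# Box R of NO-3L: the level `(W^, V^)` has no over-offender (text #27445 (1), helper553)

`K = W^`, `X = V^`, `V = V* = zl S (YS S)`.

* `exists_act` : if `S` does not over-offend `V*`, then `S` does not over-offend `X`, and some `A ≤ S` moves `V*`,
  is exact on `V*`, `C_A(V*) = C_A(X)`, `X = V* C_X(A)`, and `A / C_A(X)` is minimal among the exact subgroups of `A`;
* `cs` : `C_S(X) = K`.
-/

set_option autoImplicit false
set_option linter.unusedSectionVars false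

namespace Cfsg.Agent.Omega.NOThreeL.RLev.LevQ

open Subgroup Cfsg Cfsg.Agent.Omega.MinPar Cfsg.Agent.Omega.Frame Cfsg.Agent.Omega.FrameNOFF
open Cfsg.Agent.ZN (o2 zc zl jj)
open Cfsg.Agent.ZN.ChoiceBase hiding mem_zc
open Cfsg.Agent.Omega.NO3b.Wc (WC WH ML VL)
open Cfsg.Agent.Omega.NOThreeL.Star (YS le_YS S_le_YS)
open Cfsg.Agent.Omega.FFThm (ElemM OffM NoOverM)
open Cfsg.Agent.Omega.NO1.BestOff (Best ElemM.mono)

universe u

variable {G : Type u} [Group G]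

section cards

theorem ri (H A : Subgroup G) [Finite G] : H.relIndex A * Nat.card ↥(A ⊓ H) = Nat.card A := by
  have e := relIndex_inf_mul_relIndex (⊥ : Subgroup G) H A
  rw [relIndex_bot_left, bot_inf_eq, relIndex_bot_left, mul_comm, inf_comm] at e
  exact e

/-- `|W| |K| ≤ |J| |W ∩ K|` -/
theorem card_mul_le [Finite G] {W K J : Subgroup G} (hW : W ≤ J) (hK : K ≤ J) :
    Nat.card W * Nat.card K ≤ Nat.card J * Nat.card ↥(W ⊓ K) := by
  have h4 := ri K J
  rw [inf_eq_right.2 hK] at h4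
  have h3 := ri K W
  have hne : K.relIndex J ≠ 0 := by
    intro h0
    rw [h0, zero_mul] at h4
    exact Nat.card_pos.ne h4
  have h2 : K.relIndex W ≤ K.relIndex J := relIndex_le_of_le_right hW hne
  calc Nat.card W * Nat.card K = K.relIndex W * (Nat.card ↥(W ⊓ K) * Nat.card K) := by rw [← h3]; ring
    _ ≤ K.relIndex J * (Nat.card ↥(W ⊓ K) * Nat.card K) := Nat.mul_le_mul_right _ h2
    _ = Nat.card J * Nat.card ↥(W ⊓ K) := by rw [← h4]; ring

/-- equality in `card_mul_le` -/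
theorem le_sup_of_card [Finite G] {W K J : Subgroup G} (hW : W ≤ J) (hK : K ≤ J)
    (h : Nat.card J * Nat.card ↥(W ⊓ K) ≤ Nat.card W * Nat.card K) : J ≤ W ⊔ K := by
  have h1 := card_mul_le (J := W ⊔ K) (le_sup_left : W ≤ W ⊔ K) (le_sup_right : K ≤ W ⊔ K)
  have h2 : Nat.card J ≤ Nat.card ↥(W ⊔ K) := Nat.le_of_mul_le_mul_right (h.trans h1) Nat.card_pos
  exact (Subgroup.eq_of_le_of_card_ge (sup_le hW hK) h2).ge

end cards

section fam

variable {X A : Subgroup G} {n : G}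

theorem cj_cent (hn : n ∈ normalizer (X : Set G)) : cj n (centralizer (X : Set G)) = centralizer (X : Set G) := by
  rw [cj_centralizer, cj_eq_of_mem_normalizer hn]

theorem elemM_cj (h : ElemM X A) (hn : n ∈ normalizer (X : Set G)) : ElemM X (cj n A) where
  sq := by
    rintro _ ⟨a, ha, rfl⟩
    have h1 : n * a ^ 2 * n⁻¹ ∈ cj n (centralizer (X : Set G)) := ⟨_, h.sq a ha, rfl⟩
    rw [cj_cent hn] at h1
    have e : (MulAut.conj n).toMonoidHom a ^ 2 = n * a ^ 2 * n⁻¹ := by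
      change (n * a * n⁻¹) ^ 2 = _
      rw [pow_two, pow_two]; group
    rw [e]
    exact h1
  comm := by
    rintro _ ⟨a, ha, rfl⟩ _ ⟨b, hb, rfl⟩
    have h1 : n * (a * b * a⁻¹ * b⁻¹) * n⁻¹ ∈ cj n (centralizer (X : Set G)) := ⟨_, h.comm a ha b hb, rfl⟩
    rw [cj_cent hn] at h1
    have e : (MulAut.conj n).toMonoidHom a * (MulAut.conj n).toMonoidHom b * ((MulAut.conj n).toMonoidHom a)⁻¹ *
        ((MulAut.conj n).toMonoidHom b)⁻¹ = n * (a * b * a⁻¹ * b⁻¹) * n⁻¹ := by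
      change n * a * n⁻¹ * (n * b * n⁻¹) * (n * a * n⁻¹)⁻¹ * (n * b * n⁻¹)⁻¹ = _
      group
    rw [e]
    exact h1

theorem card_cent_cj (hn : n ∈ normalizer (X : Set G)) :
    Nat.card ↥(X ⊓ centralizer (cj n A : Set G)) = Nat.card ↥(X ⊓ centralizer (A : Set G)) := by
  have e : X ⊓ centralizer (cj n A : Set G) = cj n (X ⊓ centralizer (A : Set G)) := by
    rw [cj_inf, cj_centralizer, cj_eq_of_mem_normalizer hn]
  rw [e, card_cj]

theorem card_inf_cj (hn : n ∈ normalizer (X : Set G)) :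
    Nat.card ↥(cj n A ⊓ centralizer (X : Set G)) = Nat.card ↥(A ⊓ centralizer (X : Set G)) := by
  have e : cj n A ⊓ centralizer (X : Set G) = cj n (A ⊓ centralizer (X : Set G)) := by
    rw [cj_inf, cj_cent hn]
  rw [e, card_cj]

end fam

variable [Finite G] {S : Sylow 2 G} {K X : Subgroup G}

/-- `C_S(X) = K` -/
theorem cs (h : TopLev S K X) : (S : Subgroup G) ⊓ centralizer (X : Set G) ≤ K := by
  refine h.max _ (h.wc_of (le_inf h.le_S h.centX) inf_le_left fun g hg hgS => ?_)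
    (inf_le_right.trans (centralizer_le h.VX))
  refine le_inf hgS ?_
  rw [cj_inf, cj_centralizer, cj_eq_of_mem_normalizer (h.Xn hg)]
  exact inf_le_right

/-- **#27445 (1).** -/
theorem exists_act (h : TopLev S K X)
    (no : NoOverM (zl (S : Subgroup G) (YS (S : Subgroup G))) (S : Subgroup G)) :
    NoOverM X (S : Subgroup G) ∧ ∃ A ≤ (S : Subgroup G), ElemM X A ∧
      ¬ A ≤ centralizer (zl (S : Subgroup G) (YS (S : Subgroup G)) : Set G) ∧
      A ⊓ centralizer (zl (S : Subgroup G) (YS (S : Subgroup G)) : Set G) ≤ centralizer (X : Set G) ∧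
      X ≤ zl (S : Subgroup G) (YS (S : Subgroup G)) ⊔ (X ⊓ centralizer (A : Set G)) ∧
      Nat.card A * Nat.card ↥(zl (S : Subgroup G) (YS (S : Subgroup G)) ⊓ centralizer (A : Set G)) =
        Nat.card (zl (S : Subgroup G) (YS (S : Subgroup G))) *
          Nat.card ↥(A ⊓ centralizer (zl (S : Subgroup G) (YS (S : Subgroup G)) : Set G)) ∧
      ∀ A' ≤ A, ¬ A' ≤ centralizer (zl (S : Subgroup G) (YS (S : Subgroup G)) : Set G) →
        Nat.card A' * Nat.card ↥(zl (S : Subgroup G) (YS (S : Subgroup G)) ⊓ centralizer (A' : Set G)) =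
          Nat.card (zl (S : Subgroup G) (YS (S : Subgroup G))) *
            Nat.card ↥(A' ⊓ centralizer (zl (S : Subgroup G) (YS (S : Subgroup G)) : Set G)) →
        A ≤ A' ⊔ (A ⊓ centralizer (zl (S : Subgroup G) (YS (S : Subgroup G)) : Set G)) := by
  classical
  set V := zl (S : Subgroup G) (YS (S : Subgroup G)) with hV
  have hVX : V ≤ X := h.VX
  let a : Subgroup G → ℕ := fun A => (centralizer (X : Set G)).relIndex A
  let f : Subgroup G → ℕ := fun A => a A * Nat.card ↥(X ⊓ centralizer (A : Set G))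
  have ha : ∀ A : Subgroup G, a A * Nat.card ↥(A ⊓ centralizer (X : Set G)) = Nat.card A := fun A => ri _ A
  have hapos : ∀ A, 0 < a A := fun A => by
    refine Nat.pos_of_ne_zero fun h0 => ?_
    have := ha A
    rw [h0, zero_mul] at this
    exact Nat.card_pos.ne this
  have hf : ∀ A : Subgroup G, Nat.card A * Nat.card ↥(X ⊓ centralizer (A : Set G)) =
      f A * Nat.card ↥(A ⊓ centralizer (X : Set G)) := fun A => by
    change _ = a A * _ * _
    rw [← ha A]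
    ring
  -- trivial action
  have hf1 : ∀ A, A ≤ centralizer (X : Set G) → f A = Nat.card X := by
    intro A hA
    have h1 : X ⊓ centralizer (A : Set G) = X := inf_eq_left.2 (NO3b.EZero.cent_symm hA)
    have h2 := hf A
    rw [h1, inf_eq_left.2 hA, mul_comm] at h2
    exact (Nat.eq_of_mul_eq_mul_right Nat.card_pos h2).symm
  -- the maximum
  obtain ⟨A₁, ⟨hA₁, hA₁e⟩, hmax⟩ := Set.exists_max_image {A : Subgroup G | A ≤ (S : Subgroup G) ∧ ElemM X A}
    f (Set.toFinite _) ⟨⊥, bot_le, fun a ha => by rw [mem_bot.1 ha]; simp, fun a ha b hb => by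
      rw [mem_bot.1 ha, mem_bot.1 hb]; simp⟩
  -- some best offender
  obtain ⟨A₀, hA₀, hA₀e, hA₀n, hA₀f⟩ : ∃ A₀ ≤ (S : Subgroup G), ElemM X A₀ ∧ ¬ A₀ ≤ centralizer (X : Set G) ∧
      Nat.card X ≤ f A₀ := by
    by_contra hcon
    push Not at hcon
    refine h.mv (sup_le (inf_le_right.trans (centralizer_le hVX)) (sSup_le fun A hA => ?_))
    by_contra hAV
    have hAX : ¬ A ≤ centralizer (X : Set G) := fun h1 => hAV (h1.trans (centralizer_le hVX))
    have h1 := hcon A hA.1 hA.2.toElemM hAX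
    have h2 := hA.2.max (A ⊓ centralizer (X : Set G)) inf_le_left le_rfl
    have h3 : X ⊓ centralizer ((A ⊓ centralizer (X : Set G) : Subgroup G) : Set G) = X :=
      inf_eq_left.2 (NO3b.EZero.cent_symm inf_le_right)
    rw [h3, hf A, mul_comm] at h2
    exact absurd (Nat.le_of_mul_le_mul_right h2 Nat.card_pos) (not_le.2 h1)
  obtain ⟨A₂, hA₂, hA₂e, hA₂n, hA₂f⟩ : ∃ A ≤ (S : Subgroup G), ElemM X A ∧ ¬ A ≤ centralizer (X : Set G) ∧
      f A = f A₁ := by
    by_cases h1 : A₁ ≤ centralizer (X : Set G)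
    · refine ⟨A₀, hA₀, hA₀e, hA₀n, le_antisymm (hmax A₀ ⟨hA₀, hA₀e⟩) ?_⟩
      rw [hf1 A₁ h1]
      exact hA₀f
    · exact ⟨A₁, hA₁, hA₁e, h1, rfl⟩
  obtain ⟨A₃, ⟨hA₃, hA₃e, hA₃n, hA₃f⟩, hmin⟩ := Set.exists_min_image
    {A : Subgroup G | A ≤ (S : Subgroup G) ∧ ElemM X A ∧ ¬ A ≤ centralizer (X : Set G) ∧ f A = f A₁}
    a (Set.toFinite _) ⟨A₂, hA₂, hA₂e, hA₂n, hA₂f⟩
  -- the family
  obtain ⟨B, ⟨-, hBe, hBn, hBf, hBa⟩, hBS, hBV⟩ := h.prinS
    {A : Subgroup G | True ∧ ElemM X A ∧ ¬ A ≤ centralizer (X : Set G) ∧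
      Nat.card A * Nat.card ↥(X ⊓ centralizer (A : Set G)) = f A₁ * Nat.card ↥(A ⊓ centralizer (X : Set G)) ∧
      Nat.card A = a A₃ * Nat.card ↥(A ⊓ centralizer (X : Set G))}
    (by
      rintro A ⟨-, h1, h2, h3, h4⟩ m hm
      have hmX := h.Xn hm
      refine ⟨trivial, elemM_cj h1 hmX, fun h5 => h2 ?_, ?_, ?_⟩
      · have h6 : cj m A ≤ cj m (centralizer (X : Set G)) := by rw [cj_cent hmX]; exact h5
        have h7 := cj_mono m⁻¹ h6
        rwa [cj_inv_cj, cj_inv_cj] at h7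
      · rw [card_cj, card_cent_cj hmX, card_inf_cj hmX]
        exact h3
      · rw [card_cj, card_inf_cj hmX]
        exact h4)
    ⟨A₃, ⟨trivial, hA₃e, hA₃n, by rw [← hA₃f]; exact hf A₃, (ha A₃).symm⟩, hA₃, hA₃n⟩
  have hBf' : f B = f A₁ := Nat.eq_of_mul_eq_mul_right Nat.card_pos ((hf B).symm.trans hBf)
  have hBa' : a B = a A₃ := Nat.eq_of_mul_eq_mul_right Nat.card_pos ((ha B).trans hBa)
  set B₁ : Subgroup G := B ⊓ centralizer (V : Set G) with hB₁
  have hB₁S : B₁ ≤ (S : Subgroup G) := inf_le_left.trans hBS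
  have hB₁e : ElemM X B₁ := ElemM.mono hBe inf_le_left
  have hB₁X : B₁ ⊓ centralizer (X : Set G) = B ⊓ centralizer (X : Set G) := by
    refine le_antisymm (inf_le_inf_right _ inf_le_left) (le_inf (le_inf inf_le_left ?_) inf_le_right)
    exact inf_le_right.trans (centralizer_le hVX)
  have hVB : V ⊓ (X ⊓ centralizer (B : Set G)) = V ⊓ centralizer (B : Set G) := by
    rw [← inf_assoc, inf_eq_left.2 hVX]
  have i1 : Nat.card V * Nat.card ↥(X ⊓ centralizer (B : Set G)) ≤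
      Nat.card ↥(X ⊓ centralizer (B₁ : Set G)) * Nat.card ↥(V ⊓ centralizer (B : Set G)) := by
    rw [← hVB]
    refine card_mul_le (le_inf hVX (NO3b.EZero.cent_symm inf_le_right)) (inf_le_inf_left _ (centralizer_le ?_))
    exact_mod_cast (inf_le_left : B₁ ≤ B)
  have i2 : Nat.card B * Nat.card ↥(V ⊓ centralizer (B : Set G)) ≤ Nat.card V * Nat.card B₁ :=
    no B hBS ⟨fun x hx => centralizer_le hVX (hBe.sq x hx), fun x hx y hy => centralizer_le hVX (hBe.comm x hx y hy)⟩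
  have i3 : f B₁ ≤ f B := by rw [hBf']; exact hmax B₁ ⟨hB₁S, hB₁e⟩
  have hc0 : 0 < Nat.card ↥(B ⊓ centralizer (X : Set G)) := Nat.card_pos
  have e1 := ha B
  have e2 := ha B₁
  rw [hB₁X] at e2
  -- `a(B) |C_V(B)| ≤ |V| a(B₁)`
  have i4 : a B * Nat.card ↥(V ⊓ centralizer (B : Set G)) ≤ Nat.card V * a B₁ := by
    rw [← e1, ← e2] at i2
    refine Nat.le_of_mul_le_mul_right ?_ hc0
    calc a B * Nat.card ↥(V ⊓ centralizer (B : Set G)) * Nat.card ↥(B ⊓ centralizer (X : Set G))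
        = a B * Nat.card ↥(B ⊓ centralizer (X : Set G)) * Nat.card ↥(V ⊓ centralizer (B : Set G)) := by ring
      _ ≤ Nat.card V * (a B₁ * Nat.card ↥(B ⊓ centralizer (X : Set G))) := i2
      _ = Nat.card V * a B₁ * Nat.card ↥(B ⊓ centralizer (X : Set G)) := by ring
  have hcV : 0 < Nat.card ↥(V ⊓ centralizer (B : Set G)) := Nat.card_pos
  have hcX : 0 < Nat.card ↥(X ⊓ centralizer (B : Set G)) := Nat.card_pos
  have c1 : a B * Nat.card ↥(X ⊓ centralizer (B : Set G)) * Nat.card ↥(V ⊓ centralizer (B : Set G)) ≤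
      a B₁ * (Nat.card V * Nat.card ↥(X ⊓ centralizer (B : Set G))) := by
    calc a B * Nat.card ↥(X ⊓ centralizer (B : Set G)) * Nat.card ↥(V ⊓ centralizer (B : Set G))
        = a B * Nat.card ↥(V ⊓ centralizer (B : Set G)) * Nat.card ↥(X ⊓ centralizer (B : Set G)) := by ring
      _ ≤ Nat.card V * a B₁ * Nat.card ↥(X ⊓ centralizer (B : Set G)) := Nat.mul_le_mul_right _ i4
      _ = a B₁ * (Nat.card V * Nat.card ↥(X ⊓ centralizer (B : Set G))) := by ring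
  have c2 : a B₁ * (Nat.card V * Nat.card ↥(X ⊓ centralizer (B : Set G))) ≤
      f B₁ * Nat.card ↥(V ⊓ centralizer (B : Set G)) := by
    calc a B₁ * (Nat.card V * Nat.card ↥(X ⊓ centralizer (B : Set G)))
        ≤ a B₁ * (Nat.card ↥(X ⊓ centralizer (B₁ : Set G)) * Nat.card ↥(V ⊓ centralizer (B : Set G))) :=
          Nat.mul_le_mul_left _ i1
      _ = f B₁ * Nat.card ↥(V ⊓ centralizer (B : Set G)) := by rw [← mul_assoc]
  have c3 : f B₁ * Nat.card ↥(V ⊓ centralizer (B : Set G)) ≤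
      a B * Nat.card ↥(X ⊓ centralizer (B : Set G)) * Nat.card ↥(V ⊓ centralizer (B : Set G)) :=
    Nat.mul_le_mul_right _ i3
  -- the equalities
  have q1 : f B₁ = f B := by
    refine le_antisymm i3 (Nat.le_of_mul_le_mul_right (c1.trans c2) hcV)
  have q2 : a B * Nat.card ↥(V ⊓ centralizer (B : Set G)) = Nat.card V * a B₁ := by
    refine le_antisymm i4 ?_
    refine Nat.le_of_mul_le_mul_right ?_ hcX
    calc Nat.card V * a B₁ * Nat.card ↥(X ⊓ centralizer (B : Set G))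
        = a B₁ * (Nat.card V * Nat.card ↥(X ⊓ centralizer (B : Set G))) := by ring
      _ ≤ a B * Nat.card ↥(X ⊓ centralizer (B : Set G)) * Nat.card ↥(V ⊓ centralizer (B : Set G)) := c2.trans c3
      _ = a B * Nat.card ↥(V ⊓ centralizer (B : Set G)) * Nat.card ↥(X ⊓ centralizer (B : Set G)) := by ring
  have q3 : Nat.card ↥(X ⊓ centralizer (B₁ : Set G)) * Nat.card ↥(V ⊓ centralizer (B : Set G)) ≤
      Nat.card V * Nat.card ↥(X ⊓ centralizer (B : Set G)) := by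
    refine Nat.le_of_mul_le_mul_left ?_ (hapos B₁)
    calc a B₁ * (Nat.card ↥(X ⊓ centralizer (B₁ : Set G)) * Nat.card ↥(V ⊓ centralizer (B : Set G)))
        = f B₁ * Nat.card ↥(V ⊓ centralizer (B : Set G)) := by rw [← mul_assoc]
      _ ≤ _ := c3
      _ ≤ _ := c1
  -- `B₁` centralises `X`
  have hB₁c : B₁ ≤ centralizer (X : Set G) := by
    by_contra hcon
    have h1 : a B ≤ a B₁ := by rw [hBa']; exact hmin B₁ ⟨hB₁S, hB₁e, hcon, q1.trans hBf'⟩
    have h2 : Nat.card ↥(V ⊓ centralizer (B : Set G)) < Nat.card V := by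
      refine lt_of_le_of_ne (Subgroup.card_le_of_le inf_le_left) fun h3 => hBV ?_
      have h4 : V ⊓ centralizer (B : Set G) = V := Subgroup.eq_of_le_of_card_ge inf_le_left h3.ge
      exact NO3b.EZero.cent_symm (inf_eq_left.1 h4)
    have h3 : a B * Nat.card ↥(V ⊓ centralizer (B : Set G)) < Nat.card V * a B₁ := by
      calc a B * Nat.card ↥(V ⊓ centralizer (B : Set G)) ≤ a B₁ * Nat.card ↥(V ⊓ centralizer (B : Set G)) :=
            Nat.mul_le_mul_right _ h1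
        _ < a B₁ * Nat.card V := Nat.mul_lt_mul_of_pos_left h2 (hapos B₁)
        _ = Nat.card V * a B₁ := mul_comm _ _
    exact absurd q2 h3.ne
  have hXB₁ : X ⊓ centralizer (B₁ : Set G) = X := inf_eq_left.2 (NO3b.EZero.cent_symm hB₁c)
  have hfX : f A₁ = Nat.card X := by rw [← hBf', ← q1, hf1 B₁ hB₁c]
  have hB₁eq : B ⊓ centralizer (X : Set G) = B₁ := by
    rw [← hB₁X]; exact inf_eq_left.2 hB₁c
  rw [hXB₁] at q3
  refine ⟨fun A hA hAe => ?_, B, hBS, hBe, hBV, hB₁c, ?_, ?_, fun A' hA' hA'V hA'x => ?_⟩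
  · rw [hf A, ← hfX]
    exact Nat.mul_le_mul_right _ (hmax A ⟨hA, hAe⟩)
  · refine le_sup_of_card hVX inf_le_left ?_
    rw [hVB]
    exact q3
  · have h1 : Nat.card B = a B * Nat.card B₁ := by rw [← e1, hB₁eq]
    have h2 : a B₁ = 1 := by
      have := e2
      rw [hB₁eq] at this
      exact Nat.eq_of_mul_eq_mul_right Nat.card_pos (by rw [this, one_mul])
    rw [h2, mul_one] at q2
    rw [h1]
    calc a B * Nat.card B₁ * Nat.card ↥(V ⊓ centralizer (B : Set G))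
        = a B * Nat.card ↥(V ⊓ centralizer (B : Set G)) * Nat.card B₁ := by ring
      _ = Nat.card V * Nat.card B₁ := by rw [q2]
  · have hA'S : A' ≤ (S : Subgroup G) := hA'.trans hBS
    have hA'e : ElemM X A' := ElemM.mono hBe hA'
    have hA'c : A' ⊓ centralizer (V : Set G) ≤ centralizer (X : Set G) := (inf_le_inf_right _ hA').trans hB₁c
    have hA'i : A' ⊓ centralizer (X : Set G) = A' ⊓ centralizer (V : Set G) :=
      le_antisymm (inf_le_inf_left _ (centralizer_le hVX)) (le_inf inf_le_left hA'c)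
    have g1 := ha A'
    rw [hA'i] at g1
    -- `a(A') |C_V(A')| = |V|`
    have g2 : a A' * Nat.card ↥(V ⊓ centralizer (A' : Set G)) = Nat.card V := by
      refine Nat.eq_of_mul_eq_mul_right (Nat.card_pos (α := ↥(A' ⊓ centralizer (V : Set G)))) ?_
      rw [← hA'x, ← g1]
      ring
    have g3 : Nat.card ↥(V ⊓ centralizer (A' : Set G)) * Nat.card ↥(X ⊓ centralizer (B : Set G)) ≤
        Nat.card ↥(X ⊓ centralizer (A' : Set G)) * Nat.card ↥(V ⊓ centralizer (B : Set G)) := by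
      have hcc : centralizer (B : Set G) ≤ centralizer (A' : Set G) := centralizer_le (by exact_mod_cast hA')
      have e : (V ⊓ centralizer (A' : Set G)) ⊓ (X ⊓ centralizer (B : Set G)) = V ⊓ centralizer (B : Set G) := by
        apply le_antisymm
        · exact le_inf (inf_le_left.trans inf_le_left) (inf_le_right.trans inf_le_right)
        · exact le_inf (inf_le_inf_left _ hcc) (inf_le_inf_right _ hVX)
      rw [← e]
      exact card_mul_le (inf_le_inf_right _ hVX) (inf_le_inf_left _ hcc)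
    have g4 : Nat.card X ≤ f A' := by
      refine Nat.le_of_mul_le_mul_right ?_ hcV
      calc Nat.card X * Nat.card ↥(V ⊓ centralizer (B : Set G))
          ≤ Nat.card V * Nat.card ↥(X ⊓ centralizer (B : Set G)) := q3
        _ = a A' * (Nat.card ↥(V ⊓ centralizer (A' : Set G)) * Nat.card ↥(X ⊓ centralizer (B : Set G))) := by
            rw [← g2]; ring
        _ ≤ a A' * (Nat.card ↥(X ⊓ centralizer (A' : Set G)) * Nat.card ↥(V ⊓ centralizer (B : Set G))) :=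
            Nat.mul_le_mul_left _ g3
        _ = f A' * Nat.card ↥(V ⊓ centralizer (B : Set G)) := by rw [← mul_assoc]
    have g5 : f A' = f A₁ := le_antisymm (hmax A' ⟨hA'S, hA'e⟩) (hfX.trans_le g4)
    have g6 : a B ≤ a A' := by
      rw [hBa']
      exact hmin A' ⟨hA'S, hA'e, fun h1 => hA'V (h1.trans (centralizer_le hVX)), g5⟩
    refine le_sup_of_card hA' inf_le_left ?_
    have g7 : A' ⊓ B₁ = A' ⊓ centralizer (V : Set G) := by
      rw [hB₁, ← inf_assoc, inf_eq_left.2 hA']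
    rw [g7, ← g1]
    calc Nat.card B * Nat.card ↥(A' ⊓ centralizer (V : Set G))
        = a B * Nat.card B₁ * Nat.card ↥(A' ⊓ centralizer (V : Set G)) := by rw [← e1, hB₁eq]
      _ ≤ a A' * Nat.card B₁ * Nat.card ↥(A' ⊓ centralizer (V : Set G)) := by gcongr
      _ = a A' * Nat.card ↥(A' ⊓ centralizer (V : Set G)) * Nat.card B₁ := by ring

end Cfsg.Agent.Omega.NOThreeL.RLev.LevQ

end

-- merged: Cfsg.Agent.Mrg.Omega.NOThreeL.RLev.NoOverTop
section

/-!
# No over-offender at the top level (helper443)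

* `TopLev.noOver`, `TopLev.noOver_of`, `TopLev.noOver_S` : no over-offender on `X` if `TopLev S K X`;
* `noOver_YS` : no over-offender on `V*` in `⟨P*(S)⟩`.
-/

set_option autoImplicit false
set_option linter.unusedSectionVars false

namespace Cfsg.Agent.Omega.NOThreeL.RLev

open Subgroup Cfsg
open Cfsg.Agent.ZN (o2 zc zl jj)
open Cfsg.Agent.Omega.MinPar Cfsg.Agent.Omega.Frame
open Cfsg.Agent.Omega.FFThm (ElemM OffM NoOverM)
open Cfsg.Agent.Omega.NOThreeL.VF (fM)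
open Cfsg.Agent.Omega.NOThreeL.Star (YS le_YS)

universe u

variable {G : Type u} [Group G] [Finite G] {S : Sylow 2 G} {K X : Subgroup G}

theorem TopLev.noOver_of (h : TopLev S K X) (hc : IsCharacteristicTwoType G) {M : Subgroup G}
    (SM : (S : Subgroup G) ≤ M) (hM : M ≤ normalizer (X : Set G)) : NoOverM X M :=
  NoOverHat.noOver_hat' hc h.wc h.max h.Xn h.VX h.centX SM hM

/-- **No over-offender at the top level.** -/
theorem TopLev.noOver (h : TopLev S K X) (hc : IsCharacteristicTwoType G) :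
    NoOverM X (normalizer (K : Set G)) :=
  h.noOver_of hc h.toLev.S_norm h.Xn

theorem TopLev.noOver_S (h : TopLev S K X) (hc : IsCharacteristicTwoType G) : NoOverM X (S : Subgroup G) :=
  h.noOver_of hc le_rfl (h.toLev.S_norm.trans h.Xn)

theorem TopLev.fM_le (h : TopLev S K X) (hc : IsCharacteristicTwoType G) {A : Subgroup G}
    (hA : A ≤ (S : Subgroup G)) (hE : ElemM X A) : fM X A ≤ Nat.card X :=
  NoOverHat.fM_le_S hc h.wc h.max h.Xn h.VX h.centX
    (fun _ hP _ hA hE => NoOverHat.no_par StarEnd.stmtM hc hP hA hE) hA hE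

/-- **No over-offender on `V*`.** -/
theorem noOver_YS (hc : IsCharacteristicTwoType G) (hM : IsLoc (S : Subgroup G) (YS (S : Subgroup G))) :
    NoOverM (zl (S : Subgroup G) (YS (S : Subgroup G))) (YS (S : Subgroup G)) := by
  by_cases hoff : ∃ A ≤ YS (S : Subgroup G), OffM (zl (S : Subgroup G) (YS (S : Subgroup G))) A
  · exact (VF.one StarEnd.stmtM hc S hM (sSup_le fun P hP => le_sSup ⟨hP, le_YS hP⟩) hoff).1
  · intro A hA hE
    by_contra hcon
    refine hoff ⟨A, hA, hE, fun h => hcon ?_, (not_le.1 hcon).le⟩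
    rw [inf_eq_left.2 h, inf_eq_left.2 (le_centralizer_iff.1 h), mul_comm]

end Cfsg.Agent.Omega.NOThreeL.RLev

end

-- merged: Cfsg.Agent.Mrg.Omega.NOThreeL.RRed.QFr.OfNBs
section

/-!
# NO-3L, box R: the natural blocks `Bq` from `NBs` + `Src` (v5) of one class, all `q b = q ≥ 4`

* **`bq_of`** : `NBs S N E D l (fun _ => q)`, `Src`, `CM S (fun _ => V*)` (one class), `q ≥ 4`, `f : κ ≃ ι` ⟹
  `Bq S ⟨P*(S)⟩ V* (N ∘ f) (D ∘ f) (l ∘ f) (fun k => ∏_{j ≠ k} N (f j)) q`.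
-/

set_option autoImplicit false
set_option linter.unusedSectionVars false

namespace Cfsg.Agent.Omega.NOThreeL.RRed.QFr.OfNBs

open Subgroup Cfsg Cfsg.Agent.ZN Cfsg.Agent.ZN.ChoiceBase
open Cfsg.Agent.Omega.SQ1.Bau (elem_comm)
open Cfsg.Agent.Omega.OM.SwapV.Q (CorA)
open Cfsg.Agent.Omega.NOThreeL.RTree
open Cfsg.Agent.Omega.NOThreeL.Merge (MZ)
open Cfsg.Agent.Omega.NOThreeL.RRed.WideTree (NatBlk NBs Src CM)
open Cfsg.Agent.Omega.NOThreeL.RRed.Blk (IsC)

universe u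

variable {G : Type u} [Group G] [Finite G] {S : Sylow 2 G} {ι : Type u} {N E D l : ι → Subgroup G} {q : ℕ}
  {κ : Type}

/-- one class: `⟨P*(S)⟩` is transitive on the blocks -/
theorem tr_of (h : NBs (S : Subgroup G) N E D l (fun _ => q))
    (hc : CM (S : Subgroup G) (fun _ : PUnit.{u + 1} => Wd (S : Subgroup G))) (i j : ι) :
    ∃ g ∈ MZ (S : Subgroup G), cj g (N i) = N j := by
  by_contra hcon
  push Not at hcon
  let T := {k : ι // ∃ g ∈ MZ (S : Subgroup G), cj g (N i) = N k}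
  have hinv : MZ (S : Subgroup G) ≤ normalizer ((⨆ k : T, N k.1 : Subgroup G) : Set G) := by
    have key : ∀ g ∈ MZ (S : Subgroup G), cj g (⨆ k : T, N k.1) ≤ ⨆ k : T, N k.1 := by
      intro g hg
      rw [show cj g (⨆ k : T, N k.1) = ⨆ k : T, cj g (N k.1) from Subgroup.map_iSup _ _]
      refine iSup_le fun k => ?_
      obtain ⟨c, hc', -⟩ := h.dec.perm g hg k.1
      have hc2 : cj g (N k.1) = N c := hc'
      obtain ⟨x, hx, hxk⟩ := k.2
      rw [hc2]
      exact le_iSup (fun k : T => N k.1) ⟨c, g * x, mul_mem hg hx, by rw [← cj_cj, hxk, hc2]⟩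
    intro g hg
    rw [mem_normalizer_iff_cj]
    refine le_antisymm (key g hg) ?_
    have h1 := cj_mono g (key g⁻¹ (inv_mem hg))
    rwa [cj_cj_inv] at h1
  have hne : (⨆ k : T, N k.1) ≠ ⊥ := by
    intro e
    apply h.dec.ne i
    rw [eq_bot_iff, ← e]
    exact le_iSup (fun k : T => N k.1) ⟨i, 1, one_mem _, cj_one _⟩
  have hU : (⨆ k : T, N k.1) ≤ Wd (S : Subgroup G) := iSup_le fun k => h.dec.NU k.1
  have h1 := hc.irr PUnit.unit _ hU hinv hne
  have h2 : N j ≤ N j ⊓ ((⨆ c : {c // c ≠ j}, N c) ⊔ ⊥) := by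
    refine le_inf le_rfl ((h.dec.NU j).trans (h1.trans ?_))
    refine iSup_le fun k => ?_
    refine (le_iSup (fun c : {c // c ≠ j} => N c) ⟨k.1, ?_⟩).trans le_sup_left
    rintro e
    obtain ⟨g, hg, hgk⟩ := k.2
    exact hcon g hg (by rw [hgk, e])
  rw [h.dec.ind j] at h2
  exact h.dec.ne j (le_bot_iff.1 h2)

theorem card_line {S D N l : Subgroup G} {F : Type} [Field F] [Finite F] {e : G → Fin 2 → F}
    (h : NatBlk S D N l F e) : ∃ z ∈ l, z ≠ 1 := by
  obtain ⟨v, hv, he⟩ := h.sur ![1, 0]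
  refine ⟨v, (h.line v).2 ⟨hv, by rw [he]; rfl⟩, ?_⟩
  rintro rfl
  have h2 := h.mul 1 (one_mem _) 1 (one_mem _)
  rw [mul_one] at h2
  have h3 : e 1 = 0 := left_eq_add.1 h2
  rw [h3] at he
  have h4 := congrFun he 0
  simp at h4

theorem line_le {S D N l : Subgroup G} {F : Type} [Field F] [Finite F] {e : G → Fin 2 → F}
    (h : NatBlk S D N l F e) : l ≤ N := fun v hv => ((h.line v).1 hv).1

/-- the lines determine the blocks -/
theorem l_inj {q : ι → ℕ} (h : NBs (S : Subgroup G) N E D l q) {b c : ι} (e : l b = l c) : b = c := by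
  by_contra hbc
  obtain ⟨F, _, _, _, eb, -, hb⟩ := h.nat b
  obtain ⟨F', _, _, _, ec, -, hc⟩ := h.nat c
  obtain ⟨z, hz, hz1⟩ := card_line hb
  have h2 : z ∈ N b ⊓ ((⨆ c : {c // c ≠ b}, N c) ⊔ ⊥) := mem_inf.2 ⟨line_le hb hz, by
    rw [e] at hz
    exact ((le_iSup (fun d : {d // d ≠ b} => N d) ⟨c, fun e' => hbc e'.symm⟩).trans le_sup_left) (line_le hc hz)⟩
  rw [h.dec.ind b, mem_bot] at h2
  exact hz1 h2

/-- **The natural blocks `Bq` of one class.** -/
theorem bq_of (B : RB S) (h : NBs (S : Subgroup G) N E D l (fun _ => q))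
    (hs : Src (S : Subgroup G) N l (fun _ => q)) (hq : 4 ≤ q)
    (hc : CM (S : Subgroup G) (fun _ : PUnit.{u + 1} => Wd (S : Subgroup G))) [Finite κ] (f : κ ≃ ι) :
    Bq S (MZ (S : Subgroup G)) (Wd (S : Subgroup G)) (fun k => N (f k)) (fun k => D (f k)) (fun k => l (f k))
      (fun k => ⨆ j : {j // j ≠ k}, N (f j)) q := by
  have hfin : Finite ι := Finite.of_equiv κ f
  have hNV : ∀ i, N i ≤ Wd (S : Subgroup G) := h.dec.NU
  have hC : ∀ k : κ, (⨆ j : {j // j ≠ k}, N (f j)) = (⨆ c : {c // c ≠ f k}, N c) := by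
    intro k
    apply le_antisymm
    · exact iSup_le fun j => le_iSup (fun c : {c // c ≠ f k} => N c) ⟨f j, fun e => j.2 (f.injective e)⟩
    · refine iSup_le fun c => ?_
      have h1 : N (c : ι) = N (f (f.symm c)) := by rw [f.apply_symm_apply]
      rw [h1]
      exact le_iSup (fun j : {j // j ≠ k} => N (f j)) ⟨f.symm c, fun e => c.2 ((f.symm_apply_eq).1 e)⟩
  have hCo : ∀ k : κ, (⨆ j : {j // j ≠ k}, N (f j)) = Blk.Co N ⊥ (f k) := by
    intro k
    rw [hC k, Blk.Co, sup_bot_eq]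
  have hDM : ∀ i, D i ≤ MZ (S : Subgroup G) := fun i => (h.DE i).trans (h.dec.EL i)
  exact
  { SM := h.dec.SL
    VS := WS B
    MV := fun g hg v hv => (mem_normalizer_iff.1 (h.dec.LU hg) v).1 hv
    MQ := BFr.StageQ.MQ
    el := BFr.StageQ.W_elem B
    NV := fun k => hNV _
    CV := fun k => iSup_le fun j => hNV _
    WC := fun k v hv => by
      obtain ⟨n, hn⟩ := h.dec.ex_comp (f k) hv
      refine ⟨n, hn.1, n⁻¹ * v, ?_, by group⟩
      rw [hCo k]
      exact hn.2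
    dir := fun k => by
      rw [hCo k]
      exact h.dec.ind (f k)
    C0 := fun x hx hxC => by
      have h1 := h.dec.mem_R hx fun b => by
        have h2 := hxC (f.symm b)
        rw [hCo, f.apply_symm_apply] at h2
        exact h.dec.comp_one h2
      exact mem_bot.1 h1
    WjC := fun i j hij => le_iSup (fun j : {j // j ≠ i} => N (f j)) ⟨j, fun e => hij e.symm⟩
    sup := by
      have h1 := h.dec.sup
      rw [sup_bot_eq] at h1
      rw [← h1]
      exact iSup_le fun i => by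
        have h2 : N i = N (f (f.symm i)) := by rw [f.apply_symm_apply]
        rw [h2]
        exact le_iSup (fun k => N (f k)) (f.symm i)
    Csup := fun i => le_rfl
    perm := fun g hg i => by
      obtain ⟨c, h1, -, h3⟩ := h.dec.perm' hg (f i)
      have h1' : cj g (N (f i)) = N (f (f.symm c)) := by rw [f.apply_symm_apply]; exact h1
      refine ⟨f.symm c, h1', le_antisymm ?_ ?_⟩
      · rw [hCo (f.symm c), hCo i, f.apply_symm_apply]
        rintro _ ⟨x, hx, rfl⟩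
        exact h3 x hx
      · obtain ⟨d, g1, -, g3⟩ := h.dec.perm' (inv_mem hg) c
        have g1' : cj g⁻¹ (N c) = N d := g1
        have e1 : cj g⁻¹ (N c) = N (f i) := by
          have h1'' : cj g (N (f i)) = N c := h1
          rw [← h1'', cj_cj, inv_mul_cancel, cj_one]
        have e2 : d = f i := h.dec.Ninj (by rw [← g1', e1])
        subst e2
        rw [hCo (f.symm c), hCo i, f.apply_symm_apply]
        intro x hx
        refine ⟨g⁻¹ * x * g⁻¹⁻¹, g3 x hx, ?_⟩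
        show g * (g⁻¹ * x * g⁻¹⁻¹) * g⁻¹ = x
        group
    permS := fun s hs' i => by
      obtain ⟨c, h1, h2, h3⟩ := h.sD s hs' (f i)
      refine ⟨f.symm c, ?_, ?_, ?_⟩
      · rw [f.apply_symm_apply]; exact h1
      · rw [f.apply_symm_apply]; exact h3
      · rw [f.apply_symm_apply]; exact h2
    tr := fun i j => tr_of h hc (f i) (f j)
    DM := fun i => hDM _
    DC := fun i d hd c hc' => by
      have h1 : (⨆ j : {j // j ≠ i}, N (f j)) ≤ centralizer ({d} : Set G) := iSup_le fun j v hv => by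
        refine mem_centralizer_singleton_iff.2 ?_
        have h2 := h.dec.EC (f i) (f j) (fun e => j.2 (f.injective e).symm) (h.DE _ hd)
        exact mem_centralizer_iff.1 h2 v hv
      exact (mem_centralizer_singleton_iff.1 (h1 hc')).symm
    q4 := hq
    nat := fun i => by
      obtain ⟨F, i1, i2, i3, e, hF, hn⟩ := h.nat (f i)
      obtain ⟨e', h1, h2⟩ := corA_of S.2 hn ((h.DE _).trans (h.dec.EN _)) fun s hs' hsl => by
        obtain ⟨c, g1, g2, g3⟩ := h.sD s hs' (f i)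
        have g3' : cj s (l (f i)) = l c := g3
        have e1 : c = f i := l_inj h (by rw [← g3', hsl])
        subst e1
        have hsN : s ∈ normalizer (N (f i) : Set G) := (mem_normalizer_iff_cj).2 g1
        exact ⟨hsN, (SemiNB.nbs_norm h h.sD hs' hsN).1⟩
      exact ⟨F, i1, i2, i3, e', hF, h1, h2⟩
    off := fun A hA hE hb i => OffOf.off_of hs hNV A hA hE hb (f i) }

end Cfsg.Agent.Omega.NOThreeL.RRed.QFr.OfNBs

end

-- merged: Cfsg.Agent.Mrg.Omega.NOThreeL.RLev.VXStep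
section

/-!
# Box R of NO-3L, natural blocks of one class: the top level is `(Q, V*)` (#27445, helper553; typed by helper540)

* **`vx_step`** : `TopLev S K X` ⟹ `X = V*`, `K = Q := S ⊓ C(V*)`.
-/

set_option autoImplicit false
set_option linter.unusedSectionVars false

namespace Cfsg.Agent.Omega.NOThreeL.RLev.VXStep

open Subgroup Cfsg Cfsg.Agent.Omega.MinPar Cfsg.Agent.Omega.Frame
open Cfsg.Agent.ZN (o2 zc zl jj)
open Cfsg.Agent.ZN.ChoiceBase hiding mem_zc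
open Cfsg.Agent.PLocal.ThompsonJ (isElementaryAbelian_iff)
open Cfsg.Agent.Omega.FFThm (ElemM NoOverM)
open Cfsg.Agent.Omega.NOThreeL.Star (YS le_YS S_le_YS)
open Cfsg.Agent.Omega.NOThreeL.RTree (RB)
open Cfsg.Agent.Omega.NOThreeL.Merge (MZ)
open Cfsg.Agent.Omega.NOThreeL.RRed (Wd)
open Cfsg.Agent.Omega.NOThreeL.RRed.WideTree (NBs Src CM)
open Cfsg.Agent.Omega.NOThreeL.RRed.QFr (Bq)
open Cfsg.Agent.Omega.NOThreeL.RWide (RootOn)
open Cfsg.Agent.MinSimple.VModule (mem_zc)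

universe u

variable {G : Type u} [Group G] [Finite G] {S : Sylow 2 G} {ι : Type u} {N E D l : ι → Subgroup G} {q : ℕ}

/-- **natural blocks of one class: `X = V*`, `K = Q`.** -/
theorem vx_step [Finite ι] (B : RB S) (h : NBs (S : Subgroup G) N E D l (fun _ => q))
    (hs : Src (S : Subgroup G) N l (fun _ => q)) (hq : 4 ≤ q)
    (hc : CM (S : Subgroup G) (fun _ : PUnit.{u + 1} => Wd (S : Subgroup G))) {K X : Subgroup G} (t : TopLev S K X) :
    X = Wd (S : Subgroup G) ∧ K = (S : Subgroup G) ⊓ centralizer (Wd (S : Subgroup G) : Set G) := by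
  have hne : Nonempty ι := by
    by_contra hcon
    rw [not_nonempty_iff] at hcon
    apply t.mv
    have h1 : zl (S : Subgroup G) (YS (S : Subgroup G)) = ⊥ := by
      show Wd (S : Subgroup G) = ⊥
      rw [← h.dec.sup, iSup_of_empty, sup_bot_eq]
    rw [h1]
    exact fun x _ => mem_centralizer_iff.2 fun y hy => by rw [mem_bot.1 hy, one_mul, mul_one]
  have no : NoOverM (Wd (S : Subgroup G)) (S : Subgroup G) := RRed.QFr.MinOne.no_S B hs
  obtain ⟨noX, A, hA, hE, hmv, hAC, hXA, ex, min⟩ := LevQ.exists_act t no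
  have hVX : Wd (S : Subgroup G) ≤ X := t.VX
  have hEV : ElemM (Wd (S : Subgroup G)) A :=
    ⟨fun a ha => centralizer_le hVX (hE.sq a ha), fun a ha b hb => centralizer_le hVX (hE.comm a ha b hb)⟩
  have tt := RRed.QFr.MinOne.tt_of no hA hEV hmv ex min
  obtain ⟨b, hb, hoth, R, hcard, -⟩ := RRed.QFr.MinOne.min_one B h hs hA tt
  obtain ⟨n, ⟨f⟩⟩ := Finite.exists_equiv_fin ι
  have bq := RRed.QFr.OfNBs.bq_of B h hs hq hc f.symm
  have hXc : ∀ x ∈ X, ∀ y ∈ X, x * y = y * x := fun x hx y hy =>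
    ((mem_zc.1 (t.Xle hx)).2.1 y (mem_zc.1 (t.Xle hy)).1).symm
  have hX2 : ∀ x ∈ X, x ^ 2 = 1 := fun x hx => (mem_zc.1 (t.Xle hx)).2.2
  have elX : IsElementaryAbelian 2 X := isElementaryAbelian_iff.2 ⟨hXc, hX2⟩
  have hXS : X ≤ (S : Subgroup G) := fun x hx => t.le_S (mem_zc.1 (t.Xle hx)).1
  have hYX : MZ (S : Subgroup G) ≤ normalizer (X : Set G) := t.YK.trans t.Xn
  have hMX : ∀ m ∈ MZ (S : Subgroup G), ∀ x ∈ X, m * x * m⁻¹ ∈ X := fun m hm x hx =>
    (mem_normalizer_iff.1 (hYX hm) x).1 hx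
  have hsup : Wd (S : Subgroup G) ≤ N b ⊔ ⨆ c : {c // c ≠ b}, N c := by
    rw [← h.dec.sup, sup_bot_eq]
    refine iSup_le fun c => ?_
    by_cases hcb : c = b
    · rw [hcb]; exact le_sup_left
    · exact (le_iSup (fun c : {c // c ≠ b} => N c) ⟨c, hcb⟩).trans le_sup_right
  have hcent : A ≤ centralizer ((⨆ c : {c // c ≠ b}, N c : Subgroup G) : Set G) := by
    rw [le_centralizer_iff]
    refine iSup_le fun c => ?_
    rw [le_centralizer_iff]
    exact hoth c.1 c.2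
  have hlN : l b ≤ N b := by
    obtain ⟨F, _, _, _, e, -, hn⟩ := h.nat b
    exact RRed.QFr.OfNBs.line_le hn
  have hZV : zc (S : Subgroup G) ≤ Wd (S : Subgroup G) := MinSimple.VModule.zc_le_zl _ _
  have hQ := VXmod.Q_cent_root S (Y := MZ (S : Subgroup G)) (fun x hx => by rw [← pow_two]; exact hX2 x hx) hXc hVX
    h.dec.SL hYX h.dec.LU (hc.irr PUnit.unit)
    (fun x hx => hZV (mem_zc.2 ⟨hXS hx.1, fun y hy => mem_centralizer_iff.1 hx.2 y hy, hX2 x hx.1⟩)) hA hmv hsup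
    (h.dec.NU b) (iSup_le fun c => h.dec.NU c.1) R hlN hcent hXA noX
  have h1 := RRed.BQ.vx_bq bq hVX elX hXS hMX hZV noX ⟨A, hA, hE, hmv, hAC, hXA, ex⟩ hQ
  have hX : X = Wd (S : Subgroup G) := le_antisymm h1 hVX
  exact ⟨hX, le_antisymm (le_inf t.le_S t.cent) ((le_inf inf_le_left hQ).trans (LevQ.cs t))⟩

/-- **`VX S`** -/
theorem vx [Finite ι] (B : RB S) (h : NBs (S : Subgroup G) N E D l (fun _ => q))
    (hs : Src (S : Subgroup G) N l (fun _ => q)) (hq : 4 ≤ q)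
    (hc : CM (S : Subgroup G) (fun _ : PUnit.{u + 1} => Wd (S : Subgroup G))) : VX S :=
  fun _ _ t => vx_step B h hs hq hc t

end Cfsg.Agent.Omega.NOThreeL.RLev.VXStep

end

-- merged: Cfsg.Agent.Mrg.Omega.NOThreeL.QWR.GlueQ
section

/-!
# NO-3L, box R, one class, top level `(Q, V*)`, `q ≥ 4`: the local case

* `NQ S Q M`; `nQ_of_norm`, `nQ_of_blk` : its two sources;
* **`cz_le`** : THEOREM SW at `(Q, V)` : `C_G(Z_J), L i, N_G(B) ≤ M` and all minimal parabolics over `T ≥ B` with `Q ≤ O₂(Y)`,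
  which move `Ω₁Z(T)`, in `M` : `C_G(Z) ≤ M`;
* `ltV_top` : `LtV S V* Q` from 461's `TopH`, `TopQ`;
* **`false_top`** : no local group `M ≥ C_G(Z_J), MZ S, N_G(B)` with these properties exists.
-/

set_option autoImplicit false
set_option linter.unusedSectionVars false

namespace Cfsg.Agent.Omega.NOThreeL.QWR.GlueQ

open Subgroup Cfsg Cfsg.Agent.ZN.ChoiceBase Cfsg.Agent.ZN.ChoiceSit Cfsg.Agent.Omega.MinPar Cfsg.Agent.Omega.Frame
open Cfsg.Agent.ZN (jj zj bau zc zl o2)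
open Cfsg.Agent.MinSimple.MinParabolic (IsMinPar)
open Cfsg.Agent.MinSimple.VModule (oddGen oddGen_le)
open Cfsg.Agent.Omega.NO3S.Level (lev Lev nxt)
open Cfsg.Agent.Omega.OM.SwapK (WL BK ZK)
open Cfsg.Agent.Omega.OM.SwapV.Q (Cor Gr)
open Cfsg.Agent.Omega.OM.Lev.Uni (FrL)
open Cfsg.Agent.Omega.NOThreeL.RTree (RB)
open Cfsg.Agent.Omega.NOThreeL.Merge (MZ)
open Cfsg.Agent.Omega.NOThreeL.RRed (Wd)
open Cfsg.Agent.Omega.NOThreeL.QWR.Sw (LtV OffR AbQ)
open Cfsg.Agent.Omega.NOThreeL.QWR.LowQEnd (TQ offQ_of)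
open Cfsg.Agent.Omega.NOThreeL.RRed.QFr.Top (Qv TopH TopQ)

universe u

variable {G : Type u} [Group G] [Finite G]

/-- The minimal parabolics over `T ≥ B` with `Q ≤ O₂(Y)`, `nxt S Q ≰ O₂(Y)`, which move `Ω₁Z(T)`, lie in `M`. -/
def NQ (S : Sylow 2 G) (Q M : Subgroup G) : Prop :=
  ∀ T Y : Subgroup G, Syl T Y → BK (S : Subgroup G) Q ≤ T → IsMinPar T Y → Y ⊓ centralizer (o2 Y : Set G) ≤ o2 Y →
    Q ≤ o2 Y → ¬ nxt (S : Subgroup G) Q ≤ o2 Y → ¬ Y ≤ centralizer (zc T : Set G) → Y ≤ M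

section nq

variable {S : Sylow 2 G} {Q M : Subgroup G}

/-- `NQ` from `N_G(Q) ≤ M` -/
theorem nQ_of_norm (wl : WL S Q) (hM : normalizer (Q : Set G) ≤ M) : NQ S Q M :=
  fun _ Y _ _ _ _ hn _ _ => ((le_normalizer_o2 Y).trans fun _ hy => mem_normalizer_iff_cj.2
    (OM.LevD.norm_of_wc wl.wc (isPGroup_o2 Y) hn hy)).trans hM

/-- `NQ` from the FF-blocks over `B` which normalise `Q` -/
theorem nQ_of_blk (wl : WL S Q) (hN : normalizer (BK (S : Subgroup G) Q : Set G) ≤ M)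
    (hF : ∀ L' V' : Subgroup G, OM.LevB.FBlk (BK (S : Subgroup G) Q) L' V' → L' ≤ normalizer (Q : Set G) → L' ≤ M) :
    NQ S Q M := fun T Y hT hB hP hch hn hK' hZ => by
  obtain ⟨L', V', hL, hb, hle⟩ := wl.exists_fblk hT hB hP hch hn hK' hZ
  have hYQ : Y ≤ normalizer (Q : Set G) := (le_normalizer_o2 Y).trans fun _ hy =>
    mem_normalizer_iff_cj.2 (OM.LevD.norm_of_wc wl.wc (isPGroup_o2 Y) hn hy)
  exact hle.trans (sup_le ((LowQEnd.norm_of_wcB wl.wcB hT.2.1 hB).trans hN) (hF L' V' hb (hL.trans hYQ)))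

end nq

section sw

variable {ι : Type} [Finite ι] {S : Sylow 2 G} {V Q M : Subgroup G} {L W Z C A : ι → Subgroup G} {q : ℕ}

/-- **THEOREM SW at the top level, `q ≥ 4`.** -/
theorem cz_le [Nonempty ι] (h : LtV S V Q)
    (fr : FrL (BK (S : Subgroup G) Q) Q V V (ZK (S : Subgroup G) Q) L W Z C A q) (hq : 4 ≤ q) (ho : OffR S V Q)
    (perm : ∀ s ∈ (S : Subgroup G), ∀ i j, cj s (Z i) = Z j → cj s (W i) = W j ∧ cj s (C i) = C j)
    (co : ∀ i, ∃ (F : Type) (_ : Field F) (_ : Finite F) (_ : CharP F 2), Nat.card F = q ∧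
      ∃ e : G → F × F, Cor F (S : Subgroup G) (BK (S : Subgroup G) Q) L W Z i e)
    (hL : ∀ i, L i ≤ M) (hD : centralizer (ZK (S : Subgroup G) Q : Set G) ≤ M)
    (hN : normalizer (BK (S : Subgroup G) Q : Set G) ≤ M) (nQ : NQ S Q M) :
    centralizer (zc (S : Subgroup G) : Set G) ≤ M := by
  have hS1 : (S : Subgroup G) ≠ ⊥ := by
    intro e
    apply Sw.LtV.V_ne fr
    rw [eq_bot_iff, ← e]
    exact h.VB.trans h.lb.BS
  refine (h.abQ fr ho perm co).gr.cz_leC (fun _ => hq) (fun _ _ h => h) hS1 fr.zcB.le ?_ hL hD hN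
  have h1 := (TQ.of_ltv h fr).bmh_of (M := M) (K := nxt (S : Subgroup G) Q) hq hN (offQ_of ho) nQ 1 (one_mem _)
  rwa [cj_one] at h1

end sw

section top

variable {ι : Type} [Finite ι] {S : Sylow 2 G} {M : Subgroup G} {L W Z C A : ι → Subgroup G} {q : ℕ}

/-- `Q` is a level -/
theorem wl_of (h : TopH S) (hj : jj (S : Subgroup G) ≤ Qv S) : WL S (Qv S) where
  wc := h.wc
  lev := ⟨inf_le_left, hj, fun _ h1 h2 _ hg => mem_normalizer_iff_cj.2
    (OM.LevD.norm_of_wc h.wc (S.isPGroup'.to_le h2) h1 hg)⟩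

/-- **`LtV S V* Q`.** -/
theorem ltV_top (B : RB S) (h : TopH S) (hj : jj (S : Subgroup G) ≤ Qv S) (t : TopQ S L W Z C A q) :
    LtV S (Wd (S : Subgroup G)) (Qv S) where
  wl := wl_of h hj
  zcQ := h.zc
  char2 := B.ctx.char2
  low := t.low
  noff := t.noff

/-- **The local case at the top level, `q ≥ 4`, is impossible.** -/
theorem false_top [Nonempty ι] (B : RB S) (h : TopH S) (hj : jj (S : Subgroup G) ≤ Qv S) (t : TopQ S L W Z C A q)
    (hq : 4 ≤ q) (ho : OffR S (Wd (S : Subgroup G)) (Qv S)) (hl : IsLoc (S : Subgroup G) M)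
    (hD : centralizer (ZK (S : Subgroup G) (Qv S) : Set G) ≤ M) (hY : MZ (S : Subgroup G) ≤ M)
    (hN : normalizer (BK (S : Subgroup G) (Qv S) : Set G) ≤ M) (nQ : NQ S (Qv S) M) : False := by
  have h1 := cz_le (ltV_top B h hj t) t.fr hq ho t.perm t.co (fun i => (t.LM i).trans hY) hD hN nQ
  exact hl.o2_ne (Merge.nonLoc_MZ B.ctx B.full (o2 M) (isPGroup_o2 M) (hY.trans (le_normalizer_o2 M))
    (h1.trans (le_normalizer_o2 M)))

end top

end Cfsg.Agent.Omega.NOThreeL.QWR.GlueQ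

end

-- merged: Cfsg.Agent.Mrg.Omega.NOThreeL.QWR.OffOf
section

section


/-!
# THEOREM QW at the top level `(Q, V*)` in the form `OffR` (box R, one class, any `q`)

* `zz_eq`, `bb_eq` : the bridge between `QWR.{ZZ, BB}` and `SwapK.{ZK, BK}`;
* **`offR_of`** : `Sw.OffR S V* Q` from THEOREM QW, for one group `M ≥ C_G(Z_J), MZ S` with `⟨V*^F⟩ ≤ O₂(M)` for the pairs
  under `(neg)`.
-/

set_option autoImplicit false
set_option linter.unusedSectionVars false

namespace Cfsg.Agent.Omega.NOThreeL.QWR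

open Subgroup Cfsg Cfsg.Agent.ZN.ChoiceBase Cfsg.Agent.ZN.ChoiceSit Cfsg.Agent.Omega.MinPar Cfsg.Agent.Omega.Frame
open Cfsg.Agent.ZN (jj zc zl o2)
open Cfsg.Agent.Omega.FrameNOFF (CZ)
open Cfsg.Agent.MinSimple.MinParabolic (IsMinPar)
open Cfsg.Agent.MinSimple.VModule (oddGen)
open Cfsg.Agent.Omega.NO1.BestOff (Best)
open Cfsg.Agent.Omega.NO3b.EZero (cl)
open Cfsg.Agent.Omega.NO3S.CaseLW.QWc (Neg)
open Cfsg.Agent.Omega.OM.SwapK (WL BK ZK)
open Cfsg.Agent.Omega.NO3S.Level (nxt Lev)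
open Cfsg.Agent.Omega.NOThreeL.Merge (MZ)
open Cfsg.Agent.Omega.NOThreeL.RRed (Wd)
open Cfsg.Agent.Omega.NOThreeL.QWR.FrTop (QT)

universe u

variable {G : Type u} [Group G] [Finite G] {S : Sylow 2 G}

/-- `ZZ = ZK` at the level `(Q, V*)` -/
theorem zz_eq (hl : Lev (S : Subgroup G) (QT (S : Subgroup G))) (hz : zc (QT (S : Subgroup G)) = Wd (S : Subgroup G)) :
    ZZ (S : Subgroup G) (MZ (S : Subgroup G)) = ZK (S : Subgroup G) (QT (S : Subgroup G)) := by
  rw [FrTop.zk_eq hl hz, ← FrTop.nxtX_zc, hz]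
  rfl

/-- `BB = BK` at the level `(Q, V*)` -/
theorem bb_eq (hl : Lev (S : Subgroup G) (QT (S : Subgroup G))) (hz : zc (QT (S : Subgroup G)) = Wd (S : Subgroup G)) :
    BB (S : Subgroup G) (MZ (S : Subgroup G)) = BK (S : Subgroup G) (QT (S : Subgroup G)) := by
  unfold BB
  rw [zz_eq hl hz]
  rfl

/-- the pairs of `OffR` satisfy `WR` -/
theorem wr_of (rq : RQ S (MZ (S : Subgroup G))) (hl : Lev (S : Subgroup G) (QT (S : Subgroup G)))
    (hz : zc (QT (S : Subgroup G)) = Wd (S : Subgroup G)) {T F : Subgroup G} (hT : Syl T F)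
    (hB : BK (S : Subgroup G) (QT (S : Subgroup G)) ≤ T) (hTS : T ≤ (S : Subgroup G)) (hP : IsMinPar T F)
    (hch : F ⊓ centralizer (o2 F : Set G) ≤ o2 F) (hj : jj (S : Subgroup G) ≤ o2 F)
    (hQ : ¬ QT (S : Subgroup G) ≤ o2 F)
    (hmv : ¬ oddGen F ≤ centralizer (ZK (S : Subgroup G) (QT (S : Subgroup G)) : Set G)) :
    WR S (MZ (S : Subgroup G)) T F where
  rq := rq
  TS := hTS
  QT := by
    refine le_trans ?_ hB
    rw [← bb_eq hl hz]
    exact inf_le_inf le_rfl (centralizer_le (by exact_mod_cast (inf_le_left :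
      ZZ (S : Subgroup G) (MZ (S : Subgroup G)) ≤ zl (S : Subgroup G) (MZ (S : Subgroup G)))))
  syl := hT
  min := hP
  c2 := hch
  mvL := fun h => hmv (h.trans (centralizer_le (by
    have h1 : ZK (S : Subgroup G) (FrTop.QT (S : Subgroup G)) ≤ zl (S : Subgroup G) (MZ (S : Subgroup G)) := by
      rw [← zz_eq hl hz]
      exact inf_le_left
    exact_mod_cast h1)))
  nQ := hQ
  jY := hj

/-- **THEOREM QW in the form of helper587's `OffR`.** -/
theorem offR_of (rq : RQ S (MZ (S : Subgroup G))) (hl : Lev (S : Subgroup G) (QT (S : Subgroup G)))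
    (hz : zc (QT (S : Subgroup G)) = Wd (S : Subgroup G)) {M : Subgroup G}
    (hM : centralizer (ZK (S : Subgroup G) (QT (S : Subgroup G)) : Set G) ≤ M) (hP : MZ (S : Subgroup G) ≤ M)
    (hUM : ∀ T F : Subgroup G, WR S (MZ (S : Subgroup G)) T F → BB (S : Subgroup G) (MZ (S : Subgroup G)) ≤ T →
      F ≤ CZ (S : Subgroup G) → ¬ oddGen F ≤ centralizer (ZZ (S : Subgroup G) (MZ (S : Subgroup G)) : Set G) →
      Neg T F (cl (Wd (S : Subgroup G)) F) → cl (Wd (S : Subgroup G)) F ≤ o2 M) :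
    Sw.OffR S (Wd (S : Subgroup G)) (QT (S : Subgroup G)) := by
  intro T F hT hB hTS hmin hch hF hj hQ hmv
  have h := wr_of rq hl hz hT hB hTS hmin hch hj hQ hmv
  have hB' : BB (S : Subgroup G) (MZ (S : Subgroup G)) ≤ T := (bb_eq hl hz).le.trans hB
  have hmv' : ¬ oddGen F ≤ centralizer (ZZ (S : Subgroup G) (MZ (S : Subgroup G)) : Set G) := by
    rwa [zz_eq hl hz]
  obtain ⟨A, h1, h2, -, h3⟩ := exists_best_odd h hB' (M := M) (by rwa [zz_eq hl hz]) hP hmv'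
    (hUM T F h hB' hF hmv')
  exact ⟨A, h1, h2, h3⟩

end Cfsg.Agent.Omega.NOThreeL.QWR

end

section


/-!
# NO-3L, box R, one class, top level `(Q, V*)`, `q ≥ 4`: the local case, from THEOREM QW

* **`top_false_q`** : no local group `M ≥ C_G(Z_J), MZ S, N_G(B)` with `NQ S Q M` and `⟨V*^F⟩ ≤ O₂(M)` for all
  `F ≤ C_G(Z)` exists;
* `top_false_nV` : the same with `N_G(V*) ≤ M`; `top_false_blk` : with the FF-blocks over `B` which normalise `Q` in `M`.
-/

set_option autoImplicit false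
set_option linter.unusedSectionVars false

namespace Cfsg.Agent.Omega.NOThreeL.QWR.GlueQ

open Subgroup Cfsg Cfsg.Agent.ZN.ChoiceBase Cfsg.Agent.ZN.ChoiceSit Cfsg.Agent.Omega.MinPar Cfsg.Agent.Omega.Frame
open Cfsg.Agent.ZN (jj zj bau zc zl o2)
open Cfsg.Agent.Omega.FrameNOFF (CZ)
open Cfsg.Agent.Omega.NO3b.EZero (cl)
open Cfsg.Agent.Omega.NO3S.Level (lev Lev nxt)
open Cfsg.Agent.Omega.OM.SwapK (WL BK ZK)
open Cfsg.Agent.Omega.NOThreeL.RTree (RB)
open Cfsg.Agent.Omega.NOThreeL.Merge (MZ)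
open Cfsg.Agent.Omega.NOThreeL.RRed (Wd)
open Cfsg.Agent.Omega.NOThreeL.RRed.QFr.Top (Qv TopH TopQ)

universe u

variable {G : Type u} [Group G] [Finite G] {ι : Type} [Finite ι] {S : Sylow 2 G} {M : Subgroup G}
  {L W Z C A : ι → Subgroup G} {q : ℕ}

/-- **The local case at the top level, `q ≥ 4`, is impossible.** -/
theorem top_false_q [Nonempty ι] (B : RB S) (rq : RQ S (MZ (S : Subgroup G))) (th : TopH S)
    (tq : TopQ S L W Z C A q) (hq : 4 ≤ q) (hl : IsLoc (S : Subgroup G) M)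
    (hD : centralizer (ZK (S : Subgroup G) (Qv S) : Set G) ≤ M) (hY : MZ (S : Subgroup G) ≤ M)
    (hN : normalizer (BK (S : Subgroup G) (Qv S) : Set G) ≤ M) (nQ : NQ S (Qv S) M)
    (hU : ∀ F ≤ CZ (S : Subgroup G), cl (Wd (S : Subgroup G)) F ≤ o2 M) : False :=
  have hj : jj (S : Subgroup G) ≤ Qv S := rq.jQ
  false_top B th hj tq hq
    (offR_of rq (wl_of th hj).lev th.zc hD hY fun _ F _ _ hF _ _ => hU F hF) hl hD hY hN nQ

/-- The same with `N_G(V*) ≤ M`. -/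
theorem top_false_nV [Nonempty ι] (B : RB S) (rq : RQ S (MZ (S : Subgroup G))) (th : TopH S)
    (tq : TopQ S L W Z C A q) (hq : 4 ≤ q) (hl : IsLoc (S : Subgroup G) M)
    (nV : normalizer (Wd (S : Subgroup G) : Set G) ≤ M)
    (hD : centralizer (ZK (S : Subgroup G) (Qv S) : Set G) ≤ M)
    (hU : ∀ F ≤ CZ (S : Subgroup G), cl (Wd (S : Subgroup G)) F ≤ o2 M) : False := by
  have hj : jj (S : Subgroup G) ≤ Qv S := rq.jQ
  have wl := wl_of th hj
  have h1 : normalizer (Qv S : Set G) ≤ normalizer (Wd (S : Subgroup G) : Set G) := by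
    have h2 := NO3S.Level.normalizer_le_zc (Qv S)
    rwa [th.zc] at h2
  exact top_false_q B rq th tq hq hl hD (RRed.le_norm_Wd.trans nV) ((wl.norm_B.trans h1).trans nV)
    (nQ_of_norm wl (h1.trans nV)) hU

/-- The same with the FF-blocks over `B` which normalise `Q` (`KQ ≤ M`). -/
theorem top_false_blk [Nonempty ι] (B : RB S) (rq : RQ S (MZ (S : Subgroup G))) (th : TopH S)
    (tq : TopQ S L W Z C A q) (hq : 4 ≤ q) (hl : IsLoc (S : Subgroup G) M)
    (hD : centralizer (ZK (S : Subgroup G) (Qv S) : Set G) ≤ M) (hY : MZ (S : Subgroup G) ≤ M)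
    (hN : normalizer (BK (S : Subgroup G) (Qv S) : Set G) ≤ M)
    (hF : ∀ L' V' : Subgroup G, OM.LevB.FBlk (BK (S : Subgroup G) (Qv S)) L' V' →
      L' ≤ normalizer (Qv S : Set G) → L' ≤ M)
    (hU : ∀ F ≤ CZ (S : Subgroup G), cl (Wd (S : Subgroup G)) F ≤ o2 M) : False :=
  top_false_q B rq th tq hq hl hD hY hN (nQ_of_blk (wl_of th rq.jQ) hN hF) hU

end Cfsg.Agent.Omega.NOThreeL.QWR.GlueQ

end

end

-- merged: Cfsg.Agent.Mrg.Omega.NOThreeL.QWR.WdLe
section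

/-!
# NO-3L, box R: `V* ≤ ⟨Z^L⟩` if the groups of all blocks lie in `L`

* `wd_le_zl_of` : over 455's `Dec` + `Orbs` (letters, naturals, mixed);
* `wd_le_zl_nbs` : natural blocks (`NBs`), `D b ≤ L`;
* `wd_le_zl_bks` : letter blocks (`Bks`), `E b ≤ L`.
-/

set_option autoImplicit false

namespace Cfsg.Agent.Omega.NOThreeL.QWR

open Subgroup Cfsg Cfsg.Agent.ZN
open Cfsg.Agent.Omega.NOThreeL.Merge (MZ)
open Cfsg.Agent.Omega.NOThreeL.RTree (RB)
open Cfsg.Agent.Omega.NOThreeL.RRed (Wd)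
open Cfsg.Agent.Omega.NOThreeL.RRed.Blk
open Cfsg.Agent.Omega.NOThreeL.RRed.WideTree (NatBlk NBs)
open Cfsg.Agent.Omega.NOThreeL.RZ.TwoC.DecE (Orbs PP)
open Cfsg.Agent.Omega.NOThreeL.RRed.FullSup (exists_full nbs_orbs nbs_hdif)
open scoped Pointwise

universe u v

variable {G : Type u} [Group G] [Finite G] {S : Sylow 2 G} {ι : Type v} [Finite ι] {N E D : ι → Subgroup G}
  {O : ι → Set G} {L : Subgroup G}

/-- **`V* ≤ ⟨Z^L⟩`** -/
theorem wd_le_zl_of (hB : RB S) (h : Dec (S : Subgroup G) (MZ (S : Subgroup G)) (Wd (S : Subgroup G)) N E ⊥)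
    (o : Orbs (MZ (S : Subgroup G)) N E O) (DC : ∀ b c, b ≠ c → D b ≤ centralizer (N c : Set G))
    (tr : ∀ b, ∀ x ∈ O b, ∀ y ∈ O b, ∃ g ∈ D b, g * x * g⁻¹ = y)
    (dif : ∀ b, N b ≤ closure {g | ∃ x ∈ O b, ∃ y ∈ O b, g = y * x⁻¹}) (hD : ∀ b, D b ≤ L) :
    Wd (S : Subgroup G) ≤ zl (S : Subgroup G) L := by
  rw [← h.sup, sup_bot_eq]
  refine iSup_le fun b => (dif b).trans ?_
  rw [closure_le]
  rintro _ ⟨x, hx, y, hy, rfl⟩
  obtain ⟨z, hz, hz2, -⟩ := exists_full hB h o (J := Set.univ) (fun _ _ _ _ _ _ => trivial) ⟨b, trivial⟩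
  obtain ⟨n, hn, hnN, hw⟩ := hz.2 b trivial
  obtain ⟨g, hg, hgx⟩ := tr b n hn x hx
  obtain ⟨k, hk, hky⟩ := tr b n hn y hy
  have hC : D b ≤ centralizer (Co N ⊥ b : Set G) := by
    rw [le_centralizer_iff]
    refine sup_le (iSup_le fun c => ?_) bot_le
    rw [le_centralizer_iff]
    exact DC b c (Ne.symm c.2)
  have key : ∀ d ∈ D b, d * z * d⁻¹ = d * n * d⁻¹ * (n⁻¹ * z) := by
    intro d hd
    have h1 := mem_centralizer_iff.1 (hC hd) _ hw
    calc d * z * d⁻¹ = d * n * (n⁻¹ * z * d⁻¹) := by group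
      _ = d * n * (d⁻¹ * (d * (n⁻¹ * z)) * d⁻¹) := by group
      _ = d * n * (d⁻¹ * (n⁻¹ * z * d) * d⁻¹) := by rw [h1]
      _ = d * n * d⁻¹ * (n⁻¹ * z) := by group
  have hmem : ∀ d ∈ D b, d * z * d⁻¹ ∈ zl (S : Subgroup G) L := fun d hd =>
    (mem_normalizer_iff.1 (MinSimple.VModule.le_normalizer_zl _ L (hD b hd)) z).1
      (MinSimple.VModule.zc_le_zl _ L hz2.2)
  have h3 : y * x⁻¹ = k * z * k⁻¹ * (g * z * g⁻¹)⁻¹ := by
    rw [key k hk, key g hg, hgx, hky]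
    group
  rw [h3]
  exact mul_mem (hmem k hk) (inv_mem (hmem g hg))

end Cfsg.Agent.Omega.NOThreeL.QWR

namespace Cfsg.Agent.Omega.NOThreeL.QWR

open Subgroup Cfsg Cfsg.Agent.ZN
open Cfsg.Agent.Omega.NOThreeL.Merge (MZ)
open Cfsg.Agent.Omega.NOThreeL.RTree (RB)
open Cfsg.Agent.Omega.NOThreeL.RRed (Wd)
open Cfsg.Agent.Omega.NOThreeL.RRed.Blk
open Cfsg.Agent.Omega.NOThreeL.RRed.WideTree (NatBlk NBs)
open Cfsg.Agent.Omega.NOThreeL.RRed.FullSup (nbs_orbs nbs_hdif)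

universe u

variable {G : Type u} [Group G] [Finite G] {S : Sylow 2 G} {ι : Type u} [Finite ι] {N E D l : ι → Subgroup G}
  {q : ι → ℕ} {L : Subgroup G}

/-- natural blocks -/
theorem wd_le_zl_nbs (hB : RB S) (h : NBs (S : Subgroup G) N E D l q) (hD : ∀ b, D b ≤ L) :
    Wd (S : Subgroup G) ≤ zl (S : Subgroup G) L := by
  refine wd_le_zl_of hB h.dec (nbs_orbs h) (D := D) (fun b c hbc => (h.DE b).trans (h.dec.EC b c hbc)) (fun b => ?_)
    (nbs_hdif h) hD
  obtain ⟨F, _, _, _, e, -, hn⟩ := h.nat b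
  intro x hx y hy
  exact RRed.FullSup.NatBlk_trans hn ((h.DE b).trans (h.dec.EN b)) hx.1 hx.2 hy.1 hy.2

variable {I : Type u} [Finite I] {N' E' : I → Subgroup G} {Om : I → Type u} [∀ i, Fintype (Om i)]
  [∀ i, DecidableEq (Om i)] {phi : ∀ i, Finset (Om i) → G}

/-- letter blocks -/
theorem wd_le_zl_bks (hB : RB S) (h : RRed.FourTree.Bks S N' E' ⊥ Om phi) (hE : ∀ b, E' b ≤ L) :
    Wd (S : Subgroup G) ≤ zl (S : Subgroup G) L :=
  wd_le_zl_of hB h.toDec (RRed.TvTr.orbs h.toFull) (D := E') (fun b c hbc => h.toDec.EC b c hbc)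
    (fun i _ hx _ hy => (RRed.TvTr.orbs h.toFull).tr i _ hx _ hy) (RRed.TvTr.hdif h.toFull) hE

end Cfsg.Agent.Omega.NOThreeL.QWR

end

-- merged: Cfsg.Agent.Mrg.Omega.NOThreeL.RRed.QFr.TopOf
section

section


/-!
# NO-3L, box R, natural blocks, `q ≥ 4` : the frame at `(Q, V*)` from `NBs` + `Src` (v5) of one class
-/

set_option autoImplicit false
set_option linter.unusedSectionVars false

namespace Cfsg.Agent.Omega.NOThreeL.RRed.QFr.Top

open Subgroup Cfsg Cfsg.Agent.ZN.ChoiceBase Cfsg.Agent.Omega.MinPar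
open Cfsg.Agent.ZN (zc zl o2 jj)
open Cfsg.Agent.Omega.NO3S.OneLine (bo)
open Cfsg.Agent.Omega.NOThreeL.RTree
open Cfsg.Agent.Omega.NOThreeL.Merge (MZ)
open Cfsg.Agent.Omega.NOThreeL.RRed.WideTree (NBs Src CM)

universe u

variable {G : Type u} [Group G] [Finite G] {S : Sylow 2 G} {ι : Type u} {N E D l : ι → Subgroup G} {q : ℕ}

/-- `Fin n ≃ ι` -/
theorem exists_equiv [Finite ι] : ∃ _ : Fin (Nat.card ι) ≃ ι, True := ⟨(Finite.equivFin ι).symm, trivial⟩

/-- **The frame at `(Q, V*)`.** -/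
theorem topQ_of [Nonempty ι] (B : RB S) (h : NBs (S : Subgroup G) N E D l (fun _ => q))
    (hs : Src (S : Subgroup G) N l (fun _ => q)) (hq : 4 ≤ q)
    (hc : CM (S : Subgroup G) (fun _ : PUnit.{u + 1} => Wd (S : Subgroup G))) (t : TopH S) {κ : Type} [Finite κ]
    (f : κ ≃ ι) : ∃ Lb A : κ → Subgroup G,
      TopQ S Lb (fun k => N (f k)) (fun k => l (f k)) (fun k => ⨆ j : {j // j ≠ k}, N (f j)) A q ∧
        ∀ i, A i ∈ bo (S : Subgroup G) (Wd (S : Subgroup G)) :=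
  exists_top B (OfNBs.bq_of B h hs hq hc f) t (exists_off hs) (wd_sup h hs)

end Cfsg.Agent.Omega.NOThreeL.RRed.QFr.Top

end

section


/-!
# NO-3L, box R, natural blocks, `q ≥ 4`, one class : `NLY` at the standard levels

`NLY` : no 2-group `≠ 1` is normalised by all `C_G(∏_{c ≠ b} l c)`.

* `exists_neg`, `exists_lev` : the ground frames from `Bq` (no further input);
* `nlY_bq` : over `Bq`; **`nlY`** : over `NBs` + `Src` of one class, if `J(S)` moves `V*` or `Stg S n` for some `n`.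
-/

set_option autoImplicit false
set_option linter.unusedSectionVars false

namespace Cfsg.Agent.Omega.NOThreeL.RRed.QFr.NonY

open Subgroup Cfsg Cfsg.Agent.Omega.MinPar Cfsg.Agent.Omega.Frame Cfsg.Agent.ZN.ChoiceBase
open Cfsg.Agent.ZN (jj zj bau zc zl o2)
open Cfsg.Agent.Omega.NO3S.OneLine (bo)
open Cfsg.Agent.Omega.NO3S.Level (lev)
open Cfsg.Agent.Omega.OM.SwapL (BL ZL)
open Cfsg.Agent.Omega.OM.SwapV.Q
open Cfsg.Agent.Omega.NOThreeL.RTree
open Cfsg.Agent.Omega.NOThreeL.Merge (MZ)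
open Cfsg.Agent.Omega.NOThreeL.RRed.BFr.StageQ (Stg lvQ_neg le_zjQ)
open Cfsg.Agent.Omega.NOThreeL.RRed.WideTree (NBs Src CM)

universe u

variable {G : Type u} [Group G] [Finite G] {S : Sylow 2 G}

section bq

variable {κ : Type} [Finite κ] {N D l C : κ → Subgroup G} {q : ℕ}

/-- **The ground frame at stage `-1`.** -/
theorem exists_neg (B : RB S) (b : Bq S (MZ (S : Subgroup G)) (Wd (S : Subgroup G)) N D l C q)
    (hP : ∀ i, ∃ P, IsParS (S : Subgroup G) P ∧ N i ≤ zl (S : Subgroup G) P)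
    (hj : ¬ jj (S : Subgroup G) ≤ centralizer (Wd (S : Subgroup G) : Set G)) :
    ∃ Lb A : κ → Subgroup G, (∀ i, Lb i ≤ MZ (S : Subgroup G)) ∧ (∀ i, A i ∈ AA (S : Subgroup G)) ∧
      NegQ S (Wd (S : Subgroup G)) ((S : Subgroup G) ⊓ centralizer (Wd (S : Subgroup G) : Set G)) Lb N l C A q := by
  exact negQ_of B b hP hj

/-- **The ground frame at stage `n`.** -/
theorem exists_lev (B : RB S) (b : Bq S (MZ (S : Subgroup G)) (Wd (S : Subgroup G)) N D l C q)
    (hP : ∀ i, ∃ P, IsParS (S : Subgroup G) P ∧ N i ≤ zl (S : Subgroup G) P) {n : ℕ} (h : Stg S n) :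
    ∃ Lb A : κ → Subgroup G, (∀ i, Lb i ≤ MZ (S : Subgroup G)) ∧
      (∀ i, A i ∈ bo (S : Subgroup G) (zc (lev (S : Subgroup G) n))) ∧
      LnQ S (Wd (S : Subgroup G)) ((S : Subgroup G) ⊓ centralizer (Wd (S : Subgroup G) : Set G)) n Lb N l C A q := by
  exact lnQ_of B b hP h

/-- **`NLY` over `Bq`.** -/
theorem nlY_bq [Nonempty κ] (B : RB S) (b : Bq S (MZ (S : Subgroup G)) (Wd (S : Subgroup G)) N D l C q)
    (hP : ∀ i, ∃ P, IsParS (S : Subgroup G) P ∧ N i ≤ zl (S : Subgroup G) P)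
    (h2 : ∀ i : κ, ∃ j, j ≠ i)
    (hl : ¬ jj (S : Subgroup G) ≤ centralizer (Wd (S : Subgroup G) : Set G) ∨ ∃ n, Stg S n)
    {U : Subgroup G} (hU : IsPGroup 2 U)
    (hY : ∀ i, centralizer ((⨆ c : {c // c ≠ i}, l c.1 : Subgroup G) : Set G) ≤ normalizer (U : Set G)) : U = ⊥ := by
  rcases hl with hj | ⟨n, hn⟩
  · obtain ⟨Lb, A, -, -, h⟩ := exists_neg B b hP hj
    refine BFr.NlEndQ.nl_neg B h b.q4 h2 hU fun i => (centralizer_le ?_).trans (hY i)
    have h1 : (⨆ c : {c // c ≠ i}, l c) ≤ zj (S : Subgroup G) ⊓ C i :=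
      iSup_le fun c => le_inf (h.fr.Z_le c) ((b.lN c).trans (b.WjC i c (Ne.symm c.2)))
    exact_mod_cast h1
  · obtain ⟨Lb, A, -, -, h⟩ := exists_lev B b hP hn
    refine BFr.NlEndQ.nl_lev B h b.q4 hU fun i => (centralizer_le ?_).trans (hY i)
    have h1 : (⨆ c : {c // c ≠ i}, l c) ≤ ZL (S : Subgroup G) n ⊓ C i :=
      iSup_le fun c => le_inf (h.fr.Z_le c) ((b.lN c).trans (b.WjC i c (Ne.symm c.2)))
    exact_mod_cast h1

end bq

section nbs

variable {ι : Type u} {N E D l : ι → Subgroup G} {q : ℕ}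

/-- every block lies in some `V_P` -/
theorem par_of {q : ι → ℕ} (hs : Src (S : Subgroup G) N l q) (b : ι) :
    ∃ P, IsParS (S : Subgroup G) P ∧ N b ≤ zl (S : Subgroup G) P := by
  obtain ⟨P, hP, F, _, _, _, k, -, M, hb, -, ⟨j, e, -, -⟩, -⟩ := hs.mov b
  exact ⟨P, hP.1, by rw [e]; exact NO3S.KeyRad.blk_le hb j⟩

/-- **`NLY` at the standard levels.** -/
theorem nlY [Finite ι] (B : RB S) (h : NBs (S : Subgroup G) N E D l (fun _ => q))
    (hs : Src (S : Subgroup G) N l (fun _ => q)) (hq : 4 ≤ q)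
    (hc : CM (S : Subgroup G) (fun _ : PUnit.{u + 1} => Wd (S : Subgroup G))) (h2 : 2 ≤ Nat.card ι)
    (hl : ¬ jj (S : Subgroup G) ≤ centralizer (Wd (S : Subgroup G) : Set G) ∨ ∃ n, Stg S n)
    {U : Subgroup G} (hU : IsPGroup 2 U)
    (hY : ∀ b, centralizer ((⨆ c : {c // c ≠ b}, l c.1 : Subgroup G) : Set G) ≤ normalizer (U : Set G)) : U = ⊥ := by
  obtain ⟨f, -⟩ := Top.exists_equiv (ι := ι)
  have hne : Nonempty (Fin (Nat.card ι)) := ⟨⟨0, by omega⟩⟩
  refine nlY_bq B (OfNBs.bq_of B h hs hq hc f) (fun i => par_of hs (f i)) (fun i => ?_) hl hU fun i =>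
    (centralizer_le ?_).trans (hY (f i))
  · by_contra hcon
    push Not at hcon
    have : Subsingleton (Fin (Nat.card ι)) := ⟨fun a b => (hcon a).trans (hcon b).symm⟩
    have h3 := Finite.card_le_one_iff_subsingleton.2 this
    rw [Nat.card_eq_fintype_card, Fintype.card_fin] at h3
    omega
  · have h1 : (⨆ c : {c // c ≠ i}, l (f c)) ≤ ⨆ c : {c // c ≠ f i}, l c :=
      iSup_le fun c => le_iSup (fun c : {c // c ≠ f i} => l c) ⟨f c, fun e => c.2 (f.injective e)⟩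
    have h2 : (⨆ c : {c // c ≠ f i}, l c) ≤ ⨆ c : {c // c ≠ i}, l (f c) := iSup_le fun c => by
      have h4 : l (c : ι) = l (f (f.symm c)) := by rw [f.apply_symm_apply]
      rw [h4]
      exact le_iSup (fun c : {c // c ≠ i} => l (f c)) ⟨f.symm c, fun e => c.2 ((f.symm_apply_eq).1 e)⟩
    first | exact_mod_cast h2 | exact_mod_cast h1

end nbs

end Cfsg.Agent.Omega.NOThreeL.RRed.QFr.NonY

end

end

-- merged: Cfsg.Agent.Mrg.Omega.NOThreeL.QWR.TopQOf
section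

/-!
# NO-3L, box R, one class, natural blocks, `q ≥ 4`, the top level `(Q, V*)`: the local case is impossible

* `false_of_loc` : no local group `L ≥ C_G(Z), KQ` with `V* ≤ V_L` exists (`M := N_G(O₂(KQ))`);
* **`topQ_false`** : `J(S)` centralises `V*`, `L ≥ C_G(Z)` local, and either all `C_G(l c : c ≠ b) ≤ L`, or `8 ≤ q` and all
  `D b ≤ L` : contradiction.
-/

set_option autoImplicit false
set_option linter.unusedSectionVars false

namespace Cfsg.Agent.Omega.NOThreeL.QWR.TopQOf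

open Subgroup Cfsg Cfsg.Agent.ZN.ChoiceBase Cfsg.Agent.ZN.ChoiceSit Cfsg.Agent.Omega.MinPar Cfsg.Agent.Omega.Frame
open Cfsg.Agent.ZN (jj zj bau zc zl o2)
open Cfsg.Agent.Omega.FrameNOFF (CZ)
open Cfsg.Agent.Omega.ML.Final (MLK)
open Cfsg.Agent.Omega.NO3b.EZero (cl cl_le)
open Cfsg.Agent.Omega.NO3S.Level (lev Lev nxt)
open Cfsg.Agent.Omega.OM.SwapK (WL BK ZK)
open Cfsg.Agent.Omega.OM.SwapV.Q.UniK (KQ cent_le_KQ)
open Cfsg.Agent.Omega.NOThreeL.RTree (RB)
open Cfsg.Agent.Omega.NOThreeL.Merge (MZ)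
open Cfsg.Agent.Omega.NOThreeL.RRed (Wd)
open Cfsg.Agent.Omega.NOThreeL.RRed.WideTree (NBs Src Wide CM)
open Cfsg.Agent.Omega.NO3b.EndX (AbsP)
open Cfsg.Agent.Omega.NOThreeL.RRed.QFr.Top (Qv TopH TopQ mz_le)
open Cfsg.Agent.Omega.NOThreeL.QWR.GlueQ (top_false_q NQ)

universe u

variable {G : Type u} [Group G] [Finite G] {S : Sylow 2 G} {X : Subgroup G}

section loc

variable {ι : Type} [Finite ι] {L W Z C A : ι → Subgroup G} {q : ℕ}

/-- **The local case from `KQ ≤ X`, `V* ≤ V_X`.** -/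
theorem false_of_loc [Nonempty ι] (B : RB S) (rq : RQ S (MZ (S : Subgroup G))) (th : TopH S)
    (tq : TopQ S L W Z C A q) (hq : 4 ≤ q) (hl : IsLoc (S : Subgroup G) X) (hz : CZ (S : Subgroup G) ≤ X)
    (hK : KQ (S : Subgroup G) (Qv S) ≤ X) (hW : Wd (S : Subgroup G) ≤ zl (S : Subgroup G) X) : False := by
  have wl : WL S (Qv S) := GlueQ.wl_of th rq.jQ
  have hS : Syl (S : Subgroup G) X := ⟨hl.le, S.isPGroup', fun Q _ h2 h3 => S.3 h2 h3⟩
  have hzl : zl (S : Subgroup G) X ≤ zc (o2 X) :=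
    MinSimple.VModule.zl_le_zc hl.le S.isPGroup' (syl_not_dvd hS) (hl.char2 S B.ctx.char2)
  have hZW : ZK (S : Subgroup G) (Qv S) ≤ Wd (S : Subgroup G) := by
    rw [← th.zc]
    exact wl.lev.zc_le_zc (NO3S.Level.le_nxt wl.lev.le) (NO3S.Level.nxt_le _ _)
  have hc : o2 X ≤ centralizer (ZK (S : Subgroup G) (Qv S) : Set G) :=
    (NO3S.Level.le_centralizer_zc _).trans (centralizer_le (by exact_mod_cast hZW.trans (hW.trans hzl)))
  have ho : o2 X ≤ o2 (KQ (S : Subgroup G) (Qv S)) := OM.SwapV.Q.UniK.o2_le_KQ hK hc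
  obtain ⟨h1, h2, h3⟩ := OM.SwapV.Q.UniK.dich wl (tq.frK th) tq.nQ (isPGroup_o2 X) hl.o2_ne
    (hK.trans (le_normalizer_o2 X))
  set M : Subgroup G := normalizer (o2 (KQ (S : Subgroup G) (Qv S)) : Set G) with hM
  have hN : normalizer (BK (S : Subgroup G) (Qv S) : Set G) ≤ M := le_sup_right.trans h3
  have hKM : KQ (S : Subgroup G) (Qv S) ≤ M := le_sup_left.trans h3
  have hoM : o2 (KQ (S : Subgroup G) (Qv S)) ≤ o2 M := le_o2 (isPGroup_o2 _) le_normalizer le_rfl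
  have hlM : IsLoc (S : Subgroup G) M := by
    refine ⟨(wl.lb.two_le S.isPGroup' wl.lb.BS).trans hN, fun e => h1 ?_⟩
    rw [eq_bot_iff, ← e]
    exact hoM
  refine top_false_q B rq th tq hq hlM (cent_le_KQ.trans hKM) ((mz_le B wl).trans h3) hN ?_ fun F hF => ?_
  · exact fun T Y hT hB hP hch hn _ hZ => (OM.SwapV.Q.UniK.par_le wl hT hB hP hch hn hZ).trans h3
  · have hn : X ≤ normalizer (zl (S : Subgroup G) X : Set G) := ZN.le_normalizer_zl _ _
    exact (((cl_le fun f hf => by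
      have h4 := cj_mono f hW
      rwa [cj_eq_of_mem_normalizer (hn (hz (hF hf)))] at h4).trans (hzl.trans (zc_le _))).trans ho).trans hoM

end loc

section nbs

variable {ι : Type u} [Finite ι] {N E D l : ι → Subgroup G} {q : ℕ}

/-- `TopQ B` of helper739, over the top level `TopH S`. -/
theorem topQ_false (ml : MLK.{u, u}) (ha : AbsP.{u, u}) (h : Wide S)
    (hC : CM (S : Subgroup G) (fun _ : PUnit.{u + 1} => Wd (S : Subgroup G)))
    (hN : NBs (S : Subgroup G) N E D l (fun _ => q)) (hs : Src (S : Subgroup G) N l (fun _ => q)) (hq : 4 ≤ q)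
    (hj : jj (S : Subgroup G) ≤ centralizer (Wd (S : Subgroup G) : Set G)) (th : TopH S)
    (hl : IsLoc (S : Subgroup G) X) (hz : CZ (S : Subgroup G) ≤ X)
    (hor : (∀ b, centralizer ((⨆ c : {c : ι // c ≠ b}, l c : Subgroup G) : Set G) ≤ X) ∨
      (8 ≤ q ∧ ∀ b, D b ≤ X)) : False := by
  classical
  have B : RB S := h.toRB
  have wl : WL S (Qv S) := RRed.QFr.Top.wl_of th hj
  have rq : RQ S (MZ (S : Subgroup G)) := RQOf.rq_src ml ha h hC hN hs hj th.wc th.zc.le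
  -- `Z ≤ Z_J ≤ V*`
  have hzZ : zc (S : Subgroup G) ≤ ZK (S : Subgroup G) (Qv S) := wl.lev.next.zc_le
  have hZW : ZK (S : Subgroup G) (Qv S) ≤ Wd (S : Subgroup G) := by
    rw [← th.zc]
    exact wl.lev.zc_le_zc (NO3S.Level.le_nxt wl.lev.le) (NO3S.Level.nxt_le _ _)
  have hne : Nonempty ι := by
    by_contra hcon
    have hI : IsEmpty ι := not_nonempty_iff.1 hcon
    have h1 := hN.dec.sup
    rw [iSup_of_empty, bot_sup_eq] at h1
    have h2 : zc (S : Subgroup G) = ⊥ := by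
      rw [eq_bot_iff, h1]
      exact hzZ.trans hZW
    have h3 := h.four_le
    rw [h2, Subgroup.card_bot] at h3
    omega
  set f : Fin (Nat.card ι) ≃ ι := (Finite.equivFin ι).symm with hf
  have hne' : Nonempty (Fin (Nat.card ι)) := ⟨f.symm hne.some⟩
  obtain ⟨Lb, A, tq, -, hLD⟩ := RRed.QFr.Top.exists_top' B (RRed.QFr.OfNBs.bq_of B hN hs hq hC f) th
    (RRed.QFr.Top.exists_off hs) (RRed.QFr.Top.wd_sup hN hs)
  have hD : centralizer (ZK (S : Subgroup G) (Qv S) : Set G) ≤ X := (centralizer_le hzZ).trans hz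
  have hDX : ∀ b, D b ≤ X := by
    rcases hor with h1 | h1
    · refine fun b => le_trans (le_centralizer_iff.1 (iSup_le fun c => le_centralizer_iff.1 ?_)) (h1 b)
      refine ((hN.DE b).trans (hN.dec.EC b c (Ne.symm c.2))).trans (centralizer_le ?_)
      exact_mod_cast RRed.GOne.l_le hN c
    · exact h1.2
  have hK : KQ (S : Subgroup G) (Qv S) ≤ X := by
    rcases hor with h1 | h1
    · refine tq.kq_le th wl fun i => le_trans (centralizer_le ?_) (h1 (f i))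
      have h2 : (⨆ c : {c : ι // c ≠ f i}, l c : Subgroup G) ≤ ⨆ j : {j // j ≠ i}, l (f j) := by
        refine iSup_le fun c => ?_
        have h3 : l (c : ι) = l (f (f.symm c)) := by rw [f.apply_symm_apply]
        rw [h3]
        exact le_iSup (fun j : {j // j ≠ i} => l (f j)) ⟨f.symm c, fun e => c.2 (f.symm_apply_eq.1 e)⟩
      exact_mod_cast h2
    · exact tq.kq_leD th wl h1.1 hLD hD fun i => h1.2 (f i)
  exact false_of_loc B rq th tq hq hl hz hK (wd_le_zl_nbs B hN hDX)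

end nbs

end Cfsg.Agent.Omega.NOThreeL.QWR.TopQOf

end

-- merged: Cfsg.Agent.Mrg.Omega.NOThreeL.RRed.OneNonC
section

/-!
# NO-3L, box R, natural blocks with at least two `S`-orbits: `AllB` from `NLP` (bb #27569, #27798)

* `wd_le_wp` : `V* ≤ WP S`;  **`allB_nbs`** : `NBs`, `Src`, `SBad`, `NLP` give `AllB`;
* `NLY S l` (571, 24) and `nlp_of_nly` : `NLY ⟹ NLP`;
* `NLYL S l` : the form with local `L ≥ C_G(Z)`, `nlp_of_nlyl`.
-/

set_option autoImplicit false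
set_option linter.unusedSectionVars false

namespace Cfsg.Agent.Omega.NOThreeL.RRed.OneNon

open Subgroup Cfsg Cfsg.Agent.ZN Cfsg.Agent.Omega.MinPar Cfsg.Agent.Omega.Frame Cfsg.Agent.Omega.FrameNOFF
open Cfsg.Agent.Omega.Node.NO3L Cfsg.Agent.Omega.NOThreeL.Basic
open Cfsg.Agent.Omega.NOThreeL.Merge (MZ le_MZ S_le_MZ)
open Cfsg.Agent.Omega.NOThreeL.RTree (RB)
open Cfsg.Agent.Omega.NOThreeL.RRed.Blk
open Cfsg.Agent.Omega.NOThreeL.RRed.WideTree (NBs Src NatBlk)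
open Cfsg.Agent.Omega.NO3b.EndX (RedP)
open scoped Pointwise

universe u v w

/-- `O b = N b ∖ {1}` -/
abbrev Osh {G : Type u} [Group G] {κ : Type v} (N : κ → Subgroup G) (b : κ) : Set G := {x | x ∈ N b ∧ x ≠ 1}

/-- **`nl`, form (Y)** (571 #27487): no 2-group `≠ 1` is normalised by all `C_G(l c : c ≠ b)` -/
def NLY {G : Type u} [Group G] {κ : Type v} (l : κ → Subgroup G) : Prop :=
  ∀ U : Subgroup G, IsPGroup 2 U → (∀ b, centralizer ((⨆ c : {c : κ // c ≠ b}, l c : Subgroup G) : Set G) ≤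
    normalizer (U : Set G)) → U = ⊥

/-- **`nl`, form (N1)** (24 #27588) -/
def NLYL {G : Type u} [Group G] (S : Subgroup G) {κ : Type v} (l : κ → Subgroup G) : Prop :=
  ∀ L : Subgroup G, IsLoc S L → CZ S ≤ L →
    (∀ b, centralizer ((⨆ c : {c : κ // c ≠ b}, l c : Subgroup G) : Set G) ≤ L) → False

variable {G : Type u} [Group G] [Finite G] {S : Sylow 2 G} {κ : Type u} {N E D l : κ → Subgroup G} {q : κ → ℕ}

theorem wd_le_wp (h : NBs (S : Subgroup G) N E D l q) (hs : Src (S : Subgroup G) N l q) :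
    Wd (S : Subgroup G) ≤ WP (S : Subgroup G) := by
  rw [← h.dec.sup]
  exact sup_le (iSup_le fun b => UInst.N_le_WP hs b) bot_le

/-- **`AllB` for natural blocks** -/
theorem allB_nbs [Finite κ] (hM : ML.Final.MLK.{u, u}) (hR : RedP.{u, u}) (hE : ML.Ex.Two.Ext.{u, u}) (hB : RB S)
    (h : NBs (S : Subgroup G) N E D l q) (hs : Src (S : Subgroup G) N l q) (hb : SBad (S : Subgroup G) N (Osh N))
    (hn : NLP (S : Subgroup G) N (Osh N)) (two : ∀ a : κ, ∃ b, ∀ s ∈ (S : Subgroup G), MulAut.conj s • N a ≠ N b) :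
    WideTree.AllB (S : Subgroup G) N := by
  refine allB hM hR hE hB h.dec (FullSup.nbs_orbs h) (FullSup.nbs_hdif h) (fun g hg b => ?_) (wd_le_wp h hs) hb hn two
  obtain ⟨c, h1, -⟩ := h.permN g hg b
  exact ⟨c, h1⟩

/-- a vector of `Z` of full support in `J` lies in `⨆_{b ∈ J} l b` -/
theorem mem_lJ [Finite κ] (h : NBs (S : Subgroup G) N E D l q) {J : Set κ} {z : G} (hz : z ∈ ⨆ b : J, N b)
    (hzZ : z ∈ zc (S : Subgroup G)) : z ∈ ⨆ b : J, l b := by
  have hl : ∀ b, l b ≤ N b := h.bls.lN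
  have h1 : z ∈ ⨆ b, l b := UInst.Z_le h hzZ
  have h2 : z ∈ (⨆ b : J, l b) ⊔ (⨆ b : {b // b ∉ J}, l b) := by
    refine (iSup_le fun b => ?_ : (⨆ b, l b) ≤ _) h1
    by_cases hb : b ∈ J
    · exact (le_iSup (fun b : J => l b) ⟨b, hb⟩).trans le_sup_left
    · exact (le_iSup (fun b : {b // b ∉ J} => l b) ⟨b, hb⟩).trans le_sup_right
  have hA : (⨆ b : J, l b) ≤ Wd (S : Subgroup G) := iSup_le fun b => (hl b).trans (h.dec.NU b)
  have hA' : (⨆ b : {b // b ∉ J}, l b) ≤ Wd (S : Subgroup G) := iSup_le fun b => (hl b).trans (h.dec.NU b)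
  obtain ⟨x, hx, y, hy, rfl⟩ := mem_sup_of
    ((hA.trans h.dec.ab).trans ((centralizer_le hA').trans (centralizer_le_normalizer _))) h2
  have hx' : x ∈ ⨆ b : J, N b := (iSup_mono fun b : J => hl b : (⨆ b : J, l b) ≤ _) hx
  have hy' : y ∈ ⨆ b : {b // b ∉ J}, N b := (iSup_mono fun b : {b // b ∉ J} => hl b : (⨆ b : {b // b ∉ J}, l b) ≤ _) hy
  have hy1 : y ∈ (⨆ b : J, N b) ⊓ (⨆ b : {b // b ∉ J}, N b) := by
    refine mem_inf.2 ⟨?_, hy'⟩
    have e : y = x⁻¹ * (x * y) := by group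
    rw [e]
    exact mul_mem (inv_mem hx') hz
  rw [disj_J h.dec, mem_bot] at hy1
  rw [hy1, mul_one]
  exact hx

/-- **`NLY ⟹ NLP`** -/
theorem nlp_of_nly [Finite κ] (h : NBs (S : Subgroup G) N E D l q) (hy : NLY l) : NLP (S : Subgroup G) N (Osh N) := by
  intro J hJ hne hne' z₀ hz hzZ z₁ hw hwZ U hU h0 h1
  refine hy U hU fun b => ?_
  by_cases hb : b ∈ J
  · refine le_trans (centralizer_le (Set.singleton_subset_iff.2 ?_)) h1
    have h2 := mem_lJ h (J := Jᶜ) hw.1 hwZ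
    exact (iSup_le fun c : (Jᶜ : Set κ) => le_iSup (fun c : {c // c ≠ b} => l c) ⟨c.1, fun e => c.2 (e ▸ hb)⟩ :
      (⨆ b : (Jᶜ : Set κ), l b) ≤ _) h2
  · refine le_trans (centralizer_le (Set.singleton_subset_iff.2 ?_)) h0
    have h2 := mem_lJ h (J := J) hz.1 hzZ
    exact (iSup_le fun c : J => le_iSup (fun c : {c // c ≠ b} => l c) ⟨c.1, fun e => hb (e ▸ c.2)⟩ :
      (⨆ b : J, l b) ≤ _) h2

/-- **`NLYL ⟹ NLP`** -/
theorem nlp_of_nlyl [Finite κ] (h : NBs (S : Subgroup G) N E D l q) (hy : NLYL (S : Subgroup G) l) :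
    NLP (S : Subgroup G) N (Osh N) := by
  intro J hJ hne hne' z₀ hz hzZ z₁ hw hwZ U hU h0 h1
  by_contra hU1
  have hCz : ∀ z ∈ zc (S : Subgroup G), CZ (S : Subgroup G) ≤ centralizer ({z} : Set G) := fun z hz =>
    centralizer_le (Set.singleton_subset_iff.2 hz)
  have hC : CZ (S : Subgroup G) ≤ normalizer (U : Set G) := (hCz z₀ hzZ).trans h0
  refine hy (normalizer (U : Set G)) (isLoc_of_le_normalizer S ((le_CZ S).trans hC) hU hU1 le_rfl) hC fun b => ?_
  by_cases hb : b ∈ J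
  · refine le_trans (centralizer_le (Set.singleton_subset_iff.2 ?_)) h1
    have h2 := mem_lJ h (J := Jᶜ) hw.1 hwZ
    exact (iSup_le fun c : (Jᶜ : Set κ) => le_iSup (fun c : {c // c ≠ b} => l c) ⟨c.1, fun e => c.2 (e ▸ hb)⟩ :
      (⨆ b : (Jᶜ : Set κ), l b) ≤ _) h2
  · refine le_trans (centralizer_le (Set.singleton_subset_iff.2 ?_)) h0
    have h2 := mem_lJ h (J := J) hz.1 hzZ
    exact (iSup_le fun c : J => le_iSup (fun c : {c // c ≠ b} => l c) ⟨c.1, fun e => hb (e ▸ c.2)⟩ :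
      (⨆ b : J, l b) ≤ _) h2

end Cfsg.Agent.Omega.NOThreeL.RRed.OneNon

end

-- merged: Cfsg.Agent.Mrg.Omega.NOThreeL.RRed.OneAllNeg
section

/-!
# NO-3L, box R, one class, at least two `S`-orbits of blocks: the halves of `AllOrb`

* **`allNeg`** : `OneManyOf.AllNeg B` (`J(S)` moves `V*`; 461's `nlY`);
* `TopL B` : no local `L ≥ C_G(Z), C_G(z)` (some `z ∈ Z#`), all `C_G(l c : c ≠ b)`, `E b`, `D b`, if `J(S)` centralises `V*`;
  **`allTop_of`** : `TopL B → AllTop B`;  `allOrb_of_top`.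
-/

set_option autoImplicit false
set_option linter.unusedSectionVars false
set_option linter.unusedVariables false

namespace Cfsg.Agent.Omega.NOThreeL.RRed.OneNon

open Subgroup Cfsg Cfsg.Agent.ZN Cfsg.Agent.Omega.MinPar Cfsg.Agent.Omega.Frame Cfsg.Agent.Omega.FrameNOFF
open Cfsg.Agent.Omega.Node.NO3L Cfsg.Agent.Omega.NOThreeL.Basic
open Cfsg.Agent.Omega.NOThreeL.Merge (MZ le_MZ S_le_MZ)
open Cfsg.Agent.Omega.NOThreeL.RTree (RB)
open Cfsg.Agent.Omega.NOThreeL.RRed.GlueSig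
open Cfsg.Agent.Omega.NOThreeL.RRed.Blk
open Cfsg.Agent.Omega.NOThreeL.RRed.WideTree
open Cfsg.Agent.Omega.NOThreeL.RRed.OneManyOf (AllNeg AllTop AllOrb)
open Cfsg.Agent.Omega.NO3b.EndX (RedP)
open scoped Pointwise

universe u v w

/-- **the half of `AllOrb` with `J(S)` moving `V*`** -/
theorem allNeg (hM : ML.Final.MLK.{u, u}) (hR : RedP.{u, u}) (hE : ML.Ex.Two.Ext.{u, u}) (B : Fr.{u}) : AllNeg B := by
  intro G _ _ S hB hW hm hC ι _ N E D l q hq hN hs h3 two hj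
  refine allB_nbs hM hR hE hW.toRB hN hs (HBadNat.sBad_nat hW.toRB hN hs) (nlp_of_nly hN fun U hU hY => ?_) two
  exact QFr.NonY.nlY hW.toRB hN hs hq hC (by omega) (Or.inl hj) hU hY

/-- **the local case, `J(S)` centralises `V*`** -/
def TopL (B : Fr.{u}) : Prop :=
  ∀ (G : Type u) [Group G] [Finite G] (S : Sylow 2 G), B G S → Wide S → MvAct (S : Subgroup G) →
    CM (S : Subgroup G) (fun _ : PUnit.{u + 1} => Wd (S : Subgroup G)) →
      ∀ (ι : Type u) [Finite ι] (N E D l : ι → Subgroup G) (q : ℕ), 4 ≤ q →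
        NBs (S : Subgroup G) N E D l (fun _ => q) → Src (S : Subgroup G) N l (fun _ => q) →
            jj (S : Subgroup G) ≤ centralizer (Wd (S : Subgroup G) : Set G) →
              ∀ L : Subgroup G, IsLoc (S : Subgroup G) L → CZ (S : Subgroup G) ≤ L →
                (∀ b, centralizer ((⨆ c : {c // c ≠ b}, l c.1 : Subgroup G) : Set G) ≤ L) → (∀ b, E b ≤ L) →
                  (∀ b, D b ≤ L) → (∃ z ∈ zc (S : Subgroup G), z ≠ 1 ∧ centralizer ({z} : Set G) ≤ L) → False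

/-- **the half of `AllOrb` with `J(S)` centralising `V*`** -/
theorem allTop_of (hM : ML.Final.MLK.{u, u}) (hR : RedP.{u, u}) (hE : ML.Ex.Two.Ext.{u, u}) {B : Fr.{u}}
    (hT : TopL B) : AllTop B := by
  intro G _ _ S hB hW hm hC ι _ N E D l q hq hN hs h3 two hj
  refine allB_nbs hM hR hE hW.toRB hN hs (HBadNat.sBad_nat hW.toRB hN hs) ?_ two
  intro J hJ hne hne' z₀ hz hzZ z₁ hw hwZ U hU h0 h1
  by_contra hU1
  have hC0 : CZ (S : Subgroup G) ≤ normalizer (U : Set G) :=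
    (centralizer_le (Set.singleton_subset_iff.2 hzZ)).trans h0
  have hY : ∀ b, centralizer ((⨆ c : {c // c ≠ b}, l c.1 : Subgroup G) : Set G) ≤ normalizer (U : Set G) := by
    intro b
    by_cases hb : b ∈ J
    · refine le_trans (centralizer_le (Set.singleton_subset_iff.2 ?_)) h1
      have h2 := mem_lJ hN (J := Jᶜ) hw.1 hwZ
      exact (iSup_le fun c : (Jᶜ : Set ι) => le_iSup (fun c : {c // c ≠ b} => l c.1) ⟨c.1, fun e => c.2 (e ▸ hb)⟩ :
        (⨆ b : (Jᶜ : Set ι), l b) ≤ _) h2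
    · refine le_trans (centralizer_le (Set.singleton_subset_iff.2 ?_)) h0
      have h2 := mem_lJ hN (J := J) hz.1 hzZ
      exact (iSup_le fun c : J => le_iSup (fun c : {c // c ≠ b} => l c.1) ⟨c.1, fun e => hb (e ▸ c.2)⟩ :
        (⨆ b : J, l b) ≤ _) h2
  have hEY : ∀ b, E b ≤ centralizer ((⨆ c : {c // c ≠ b}, l c.1 : Subgroup G) : Set G) := fun b => by
    rw [le_centralizer_iff]
    refine iSup_le fun c => ?_
    rw [le_centralizer_iff]
    exact (hN.dec.EC b c.1 (Ne.symm c.2)).trans (centralizer_le (hN.bls.lN c.1))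
  exact hT G S hB hW hm hC ι N E D l q hq hN hs hj (normalizer (U : Set G))
    (isLoc_of_le_normalizer S ((le_CZ S).trans hC0) hU hU1 le_rfl) hC0 hY (fun b => (hEY b).trans (hY b))
    (fun b => (hN.DE b).trans ((hEY b).trans (hY b))) ⟨z₀, hzZ, fsup_ne_one hN.dec (FullSup.nbs_orbs hN) hz hne, h0⟩

/-- **`AllOrb`** -/
theorem allOrb_of_top (hM : ML.Final.MLK.{u, u}) (hR : RedP.{u, u}) (hE : ML.Ex.Two.Ext.{u, u}) {B : Fr.{u}}
    (hT : TopL B) : AllOrb B := OneManyOf.allOrb_of (allNeg hM hR hE B) (allTop_of hM hR hE hT)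

end Cfsg.Agent.Omega.NOThreeL.RRed.OneNon

end

-- merged: Cfsg.Agent.Mrg.Omega.OM.SwapV.Q.K0Le
section

/-!
# Uniqueness of the blocks over `B` for `q ≥ 8` over the frame `LnQ`: `K0 ≤ ⟨C_G(Z_J), L i : i⟩`

* `bk_of` : one block of the frame;
* `cj_W` : `x ∈ N_G(B)`, `Z_i^x = Z_i`, `x` centralises `Z_J ∩ C i` : `x` normalises `W i` (`q > 2`);
* `V_eq` : an FF-block over `B` with `Z' = Z i` has `V' = W i` (`q > 2`);
* `uniTwo8` : every FF-block `L'` over `B` lies in `L i ⊔ C_G(W i ⊔ Z_J)` (`q ≥ 8`);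
* `LnQ.K0_le8` : `K0 ≤ ⟨C_G(Z_J), L i : i⟩`;
-/

set_option autoImplicit false
set_option linter.unusedSectionVars false

namespace Cfsg.Agent.Omega.OM.SwapV.Q

open Subgroup Cfsg Cfsg.Agent.ZN.ChoiceBase Cfsg.Agent.ZN.ChoiceSit
open Cfsg.Agent.ZN (jj zj bau zc zl o2)
open Cfsg.Agent.MinSimple.MinParabolic (IsMinPar)
open Cfsg.Agent.Omega.NO3S.Level (lev Lev lev_isLev)
open Cfsg.Agent.Omega.OM.FourF (Act)
open Cfsg.Agent.Omega.OM.LevD (LB K0 Fam)
open Cfsg.Agent.Omega.OM.LevB (FBlk)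
open Cfsg.Agent.Omega.OM.Lev.Uni (FrL)
open Cfsg.Agent.Omega.OM.SwapL (ZL BL lb wc norm_lev)
open Cfsg.Agent.Omega.OM.Uni (FB)
open Cfsg.Agent.Omega.OM.UniPlus (NB)
open Cfsg.Agent.Omega.NO3S.EMany.AltQ (Rt sup_eq exists_ne)
open Cfsg.Agent.Omega.NO3S.EMany.FourDQ (trN)
open Cfsg.Agent.Omega.SQ1.Bau (mem_sup_comm)

universe u

variable {G : Type u} [Group G] [Finite G] {ι : Type} {S : Sylow 2 G} {V Q : Subgroup G} {n : ℕ}
  {L W Z C A : ι → Subgroup G} {q : ℕ}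

section one

variable {F : Type} [Field F] {e : G → F × F}

/-- `y ∈ N_G(B)`, a 2-element which centralises `Z_J`, is in `B` -/
theorem mem_BL {y : G} (hy : y ∈ normalizer (BL (S : Subgroup G) n : Set G))
    (hz : ∀ z ∈ ZL (S : Subgroup G) n, y * z = z * y) (h2 : IsPGroup 2 (zpowers y)) : y ∈ BL (S : Subgroup G) n := by
  have h1 : IsPGroup 2 ↥(BL (S : Subgroup G) n ⊔ zpowers y) :=
    (lb S n).Bp.to_sup_of_normal_left' h2 (zpowers_le.2 hy)
  have h3 : BL (S : Subgroup G) n ⊔ zpowers y ≤ centralizer (ZL (S : Subgroup G) n : Set G) := by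
    refine sup_le ?_ (zpowers_le.2 (mem_centralizer_iff.2 fun z hz' => (hz z hz').symm))
    conv_lhs => rw [(lb S n).eqB]
    exact inf_le_right
  have h4 := (lb S n).syl.2.2 _ h3 h1 le_sup_left
  rw [← h4]
  exact mem_sup_right (mem_zpowers y)

/-- **One block of the frame.** -/
theorem bk_of [Finite ι] (h : LnQ S V Q n L W Z C A q) (i : ι)
    (hc : Cor F (S : Subgroup G) (BL (S : Subgroup G) n) L W Z i e) :
    Bk (BL (S : Subgroup G) n) (ZL (S : Subgroup G) n) (L i) (W i) (Z i) (ZL (S : Subgroup G) n ⊓ C i) e where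
  B2 := (lb S n).Bp
  BL := (h.fr.blk i).BL
  syl := (h.fr.blk i).syl
  comm := fun v hv w hw => h.fr.Vc (h.fr.WV i hv) (h.fr.WV i hw)
  WC := fun w hw c hc => h.fr.Vc (h.fr.WV i hw) (h.fr.CV i hc.2)
  CC := fun c hc d hd => h.fr.Vc (h.fr.CV i hc.2) (h.fr.CV i hd.2)
  sqJ := (lb S n).sq
  dir := by
    rw [eq_bot_iff, ← h.fr.dir i]
    exact inf_le_inf_left _ inf_le_right
  ZW := (h.fr.blk i).ZV
  ZJeq := by
    apply le_antisymm
    · intro z hz
      obtain ⟨w, hw, c, hc, hcJ, rfl⟩ := h.fr.split_ZJ i hz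
      exact mul_mem (mem_sup_left hw) (mem_sup_right ⟨hcJ, hc⟩)
    · exact sup_le (h.fr.Z_le i) inf_le_left
  nW := (h.fr.blk i).nV
  LC := fun l hl c hc => h.fr.LC i l hl c hc.1 hc.2
  mem_B := fun y hy hz h2 => mem_BL hy hz h2
  mul := hc.mul
  inj := hc.inj
  surj := hc.surj
  memZ := hc.memZ
  bact := fun b hb => by
    have hbZ : ∀ z ∈ Z i, b * z * b⁻¹ = z := fun z hz => by rw [(h.fr.blk i).cZ b hb z hz]; group
    have h1 : cj b (Z i) = Z i := by
      refine Subgroup.eq_of_le_of_card_ge ?_ (by rw [card_cj])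
      rintro _ ⟨z, hz, rfl⟩
      show b * z * b⁻¹ ∈ Z i
      rw [hbZ z hz]; exact hz
    obtain ⟨s, l, hs⟩ := hc.act b ((lb S n).BS hb) h1
    refine ⟨l, fun w hw => ?_⟩
    have hs1 : ∀ a : F, s a = a := by
      intro a
      obtain ⟨v, hv, e1⟩ := hc.surj (a, 0)
      have hvZ : v ∈ Z i := (hc.memZ v).2 ⟨hv, by rw [e1]⟩
      have h2 := hs v hv
      rw [hbZ v hvZ, e1] at h2
      have h3 := congrArg Prod.fst h2
      simp only [map_zero, mul_zero, add_zero] at h3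
      exact h3.symm
    rw [hs w hw]
    simp only [hs1]
  full := hc.full
  dg := fun l hl => by
    obtain ⟨g, hg, -, ha, -⟩ := hc.sl l 0 0 l⁻¹ (by rw [mul_inv_cancel₀ hl]; ring)
    refine ⟨g, hg, fun w hw => ?_⟩
    rw [ha w hw]
    ext <;> simp

end one

theorem Z_injL (h : FrL (BL (S : Subgroup G) n) Q V (zc (lev (S : Subgroup G) n)) (ZL (S : Subgroup G) n) L W Z C A q)
    {i j : ι} (e : Z i = Z j) : i = j := by
  by_contra hne
  have h1 : Z i ≤ W i ⊓ C i := le_inf (h.blk i).ZV (by rw [e]; exact (h.blk j).ZV.trans (h.WjC i j hne))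
  rw [h.dir i] at h1
  have h2 := Subgroup.card_le_of_le h1
  rw [Subgroup.card_bot, h.cardZ i] at h2
  have := (h.blk i).one
  omega

/-- **`x ∈ N_G(B)` which fixes `Z i` and centralises `Z_J ∩ C i` normalises `W i`** (`q > 2`). -/
theorem cj_W [Finite ι] (h : LnQ S V Q n L W Z C A q) (hq : 2 < q) {i : ι} {x : G}
    (hx : x ∈ normalizer (BL (S : Subgroup G) n : Set G)) (hZ : cj x (Z i) = Z i)
    (hC : ∀ z ∈ ZL (S : Subgroup G) n, z ∈ C i → x * z = z * x) : ∀ w ∈ W i, x * w * x⁻¹ ∈ W i := by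
  obtain ⟨F, _, _, _, hF, e, hc⟩ := h.co i
  have hb := bk_of h i hc
  have hle : W i ⊔ ZL (S : Subgroup G) n ≤ W i ⊔ (ZL (S : Subgroup G) n ⊓ C i) := by
    refine sup_le le_sup_left ?_
    conv_lhs => rw [hb.ZJeq]
    exact sup_le_sup_right hb.ZW _
  have key : ∀ g ∈ normalizer (BL (S : Subgroup G) n : Set G), cj g (Z i) = Z i →
      cj g (W i) ≤ W i ⊔ (ZL (S : Subgroup G) n ⊓ C i) := by
    intro g hg hgZ
    obtain ⟨j, hj, h2⟩ := (h.fr.norm_of hg (NO3S.Level.normalizer_le_zc _ (norm_lev S (by omega) hg))).2 i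
    rw [hgZ] at hj
    have := Z_injL h.fr hj
    subst this
    exact h2.trans hle
  refine hb.cjW ?_ hx hZ (fun c hc => hC c hc.1 hc.2) (fun w hw => key x hx hZ ⟨w, hw, rfl⟩) (fun w hw => ?_)
  · by_contra hcon
    push Not at hcon
    have := Fintype.ofFinite F
    have h1 : (Set.univ : Set F) ⊆ {0, 1} := fun l _ => by
      by_cases hl : l = 0
      · exact Or.inl hl
      · exact Or.inr (hcon l hl)
    have h2 := Set.ncard_le_ncard h1 (Set.toFinite _)
    rw [Set.ncard_univ, hF] at h2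
    have h3 := Set.ncard_insert_le (0 : F) {1}
    rw [Set.ncard_singleton] at h3
    omega
  · have h1 : cj x⁻¹ (Z i) = Z i := by
      conv_lhs => rw [← hZ]
      exact cj_inv_cj _ _
    have h2 := key x⁻¹ (inv_mem hx) h1 ⟨w, hw, rfl⟩
    have e1 : (MulAut.conj x⁻¹).toMonoidHom w = x⁻¹ * w * x := by simp
    rwa [e1] at h2

/-- `[v, B] = Z i` for `v ∈ V' - Z i`, `V' ≤ W i Z_J`. -/
theorem rtV [Finite ι] (h : LnQ S V Q n L W Z C A q) {i : ι} {L' V' : Subgroup G}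
    (hN : NB (BL (S : Subgroup G) n) L' V' (Z i) q) (hV : V' ≤ W i ⊔ ZL (S : Subgroup G) n) :
    Rt (BL (S : Subgroup G) n) V' (Z i) := by
  intro v hv hvZ z hz
  obtain ⟨w, hw, c, hc, rfl⟩ := mem_sup_comm (fun a ha b hb => h.fr.Vc (h.fr.WV i ha) (h.fr.ZJV hb)) (hV hv)
  have hcB := ((h.fr.mem_ZJ c).1 hc).2
  have hwZ : w ∉ Z i := by
    intro hwZ
    refine hvZ (hN.toMd.mem_Z_iff.2 ⟨hv, fun b hb => ?_⟩)
    have c1 : Commute b w := (h.fr.blk i).cZ b hb w hwZ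
    have c2 : Commute b c := hcB b hb
    exact (c1.mul_right c2).eq
  obtain ⟨b, hb, e⟩ := SWQ.ModQ.root h.fr hw hwZ hz
  refine ⟨b, h.fr.AB i hb, ?_⟩
  have e2 : b * c * b⁻¹ = c := by rw [hcB b (h.fr.AB i hb)]; group
  calc b * (w * c) * b⁻¹ * (w * c)⁻¹ = b * w * b⁻¹ * (b * c * b⁻¹) * c⁻¹ * w⁻¹ := by group
    _ = b * w * b⁻¹ * w⁻¹ := by rw [e2]; group
    _ = z := e

/-- **`V_{L'} = W i`** (`q > 2`). -/
theorem V_eq [Finite ι] (h : LnQ S V Q n L W Z C A q) (hq : 2 < q) {i : ι} {L' V' : Subgroup G}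
    (hN : NB (BL (S : Subgroup G) n) L' V' (Z i) q) (hV : V' ≤ W i ⊔ ZL (S : Subgroup G) n)
    (hcen : ∀ z ∈ ZL (S : Subgroup G) n, z ∈ C i → ∀ l ∈ L', l * z = z * l) : V' = W i := by
  refine Subgroup.eq_of_le_of_card_ge ?_ (by rw [hN.card, (h.fr.blk i).card])
  -- `[V', N_{L'}(B)] ≤ W i`
  have key : ∀ x ∈ L', x ∈ normalizer (BL (S : Subgroup G) n : Set G) → ∀ v ∈ V', x * v * x⁻¹ * v⁻¹ ∈ W i := by
    intro x hx hxB v hv
    obtain ⟨w, hw, c, hc, rfl⟩ := mem_sup_comm (fun a ha b hb => h.fr.Vc (h.fr.WV i ha) (h.fr.ZJV hb)) (hV hv)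
    obtain ⟨z, hz, d, hd, hdJ, rfl⟩ := h.fr.split_ZJ i hc
    have hxZ : cj x (Z i) = Z i := by
      refine Subgroup.eq_of_le_of_card_ge ?_ (by rw [card_cj])
      rintro _ ⟨z, hz, rfl⟩
      exact hN.nZ hx hxB hz
    have hwz : w * z ∈ W i := mul_mem hw ((h.fr.blk i).ZV hz)
    have h1 : x * (w * z) * x⁻¹ ∈ W i := cj_W h hq hxB hxZ (fun z hz hzC => hcen z hz hzC x hx) _ hwz
    have h2 : x * d * x⁻¹ = d := by rw [hcen d hdJ hd x hx]; group
    have e : x * (w * (z * d)) * x⁻¹ * (w * (z * d))⁻¹ = x * (w * z) * x⁻¹ * (x * d * x⁻¹) * d⁻¹ * (w * z)⁻¹ := by group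
    rw [e, h2, mul_inv_cancel_right]
    exact mul_mem h1 (inv_mem hwz)
  obtain ⟨k, hk, hne⟩ := exists_ne hN
  rw [← sup_eq hN hk hne]
  refine sup_le (h.fr.blk i).ZV fun y₀ hy₀ => ?_
  by_cases hy01 : y₀ = 1
  · rw [hy01]; exact one_mem _
  -- `y₁ ≠ 1, y₀`
  have hcard : Nat.card (cj k (Z i)) = q := by rw [card_cj, h.fr.cardZ]
  obtain ⟨y₁, hy₁, h1, h2⟩ : ∃ y ∈ cj k (Z i), y ≠ 1 ∧ y ≠ y₀⁻¹ := by
    by_contra hcon
    push Not at hcon
    have h1 : (cj k (Z i) : Set G) ⊆ {1, y₀⁻¹} := by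
      intro x hx
      by_cases hx1 : x = 1
      · exact Or.inl hx1
      · exact Or.inr (hcon x hx hx1)
    have h2 := Set.ncard_le_ncard h1 (Set.toFinite _)
    have h3 : (cj k (Z i) : Set G).ncard = Nat.card (cj k (Z i)) := rfl
    rw [h3, hcard] at h2
    have h4 := Set.ncard_insert_le (1 : G) {y₀⁻¹}
    rw [Set.ncard_singleton] at h4
    omega
  have hy₂ : y₀ * y₁ ∈ cj k (Z i) := mul_mem hy₀ hy₁
  have hy₂1 : y₀ * y₁ ≠ 1 := fun e => h2 (eq_inv_of_mul_eq_one_right e)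
  obtain ⟨x, hx, hxB, hxy⟩ := trN hN (lb S n).Bp (rtV h hN hV) hk hne hy₁ h1 hy₂ hy₂1
  have h3 := key x hx hxB y₁ (hN.cjV hk hy₁)
  have h4 : y₀ = (x * y₁ * x⁻¹ * (y₀ * y₁)⁻¹)⁻¹ * (x * y₁ * x⁻¹ * y₁⁻¹) := by
    have hc : y₁ * y₀ = y₀ * y₁ := hN.comm (hN.cjV hk hy₁) (hN.cjV hk hy₀)
    group
  rw [h4]
  exact mul_mem (inv_mem ((h.fr.blk i).ZV hxy)) h3

/-- **Every FF-block over `B` lies in some `L i ⊔ C_G(W i ⊔ Z_J)`** (`q ≥ 8`). -/
theorem uniTwo8 [Finite ι] (h : LnQ S V Q n L W Z C A q) (hq : 8 ≤ q) {L' V' : Subgroup G}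
    (hb : FBlk (BL (S : Subgroup G) n) L' V') :
    ∃ i, V' = W i ∧ L' ≤ L i ⊔ centralizer ((W i ⊔ ZL (S : Subgroup G) n : Subgroup G) : Set G) := by
  obtain ⟨⟨Z', q', hF⟩, hb⟩ := hb
  have eqB : BL (S : Subgroup G) n =
    (S : Subgroup G) ⊓ centralizer (zc (lev (S : Subgroup G) (n + 1)) : Set G) := rfl
  have hX := Lev.LowBlk.V_le S eqB h.fr hF hb.irr
  have hp : ∀ g ∈ normalizer (BL (S : Subgroup G) n : Set G), ∀ j, ∃ k, cj g (Z j) = Z k :=
    fun g hg j => (h.gr.norm g hg).2 j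
  obtain ⟨-, i, -, hN, hV, h1, -⟩ := Lev.UniPlus.uniPlusX h.fr (lb S n).Bp (wc S n) hp hF hX
  have hVW := V_eq h (by omega) hN hV fun z hz hzC l hl => (h1 z hz).1 hzC l hl
  subst hVW
  refine ⟨i, rfl, ?_⟩
  obtain ⟨F, _, _, _, hFc, e, hc⟩ := h.co i
  obtain ⟨k, hk, hkW, hka, -⟩ := hc.sl 0 (-1) 1 0 (by ring)
  have h2 := Var.Spread.uniTwo8 (wc S n) (lb S n).Bp (Lev.UniPlus.nb h.fr i) hN
    (⟨hc.mul, hc.inj, hc.surj, hc.memZ⟩ : Var.Spread.Crd (W i) (Z i) e) (by omega) hc.full (k₁ := k) hk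
    (fun u => ?_) (fun R hR hR2 hBR => ?_) (fun z hz => ?_)
  · rwa [h.fr.zcB] at h2
  · constructor
    · intro hu
      rw [mem_cj] at hu
      have h3 := (hc.memZ _).1 hu
      have h4 : u = k * (k⁻¹ * u * k) * k⁻¹ := by group
      have h5 := hka _ h3.1
      rw [← h4] at h5
      refine ⟨?_, ?_⟩
      · rw [h4]
        exact (h.fr.blk i).nV k hk _ h3.1
      · rw [h5]
        simp only
        rw [h3.2]
        ring
    · rintro ⟨hu, hu0⟩
      rw [mem_cj]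
      have h3 : k⁻¹ * u * k ∈ W i := by
        have h4 := (h.fr.blk i).nV k⁻¹ (inv_mem hk) u hu
        rwa [inv_inv] at h4
      refine (hc.memZ _).2 ⟨h3, ?_⟩
      have h4 : u = k * (k⁻¹ * u * k) * k⁻¹ := by group
      have h5 := hka _ h3
      rw [← h4] at h5
      rw [h5] at hu0
      simpa using hu0
  · rw [h.fr.zcB] at hR
    exact (lb S n).syl.2.2 R hR hR2 hBR
  · rw [h.fr.zcB] at hz
    obtain ⟨w, hw, c, hc', hcJ, e1⟩ := h.fr.split_ZJ i hz
    exact ⟨w, hw, c, fun l hl => h.fr.LC i l hl c hcJ hc', fun l hl => (h1 c hcJ).1 hc' l hl, e1⟩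

/-- **`K0 ≤ ⟨C_G(Z_J), L i : i⟩`** (`q ≥ 8`). -/
theorem LnQ.K0_le8 [Finite ι] (h : LnQ S V Q n L W Z C A q) (hq : 8 ≤ q) :
    K0 (ZL (S : Subgroup G) n) (FBlk (BL (S : Subgroup G) n)) ≤
      centralizer (ZL (S : Subgroup G) n : Set G) ⊔ ⨆ i, L i := by
  refine sup_le le_sup_left (iSup_le ?_)
  rintro ⟨⟨L', V'⟩, hb⟩
  obtain ⟨i, -, hle⟩ := uniTwo8 h hq hb
  refine hle.trans (sup_le ((le_iSup L i).trans le_sup_right) ((centralizer_le ?_).trans le_sup_left))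
  exact_mod_cast (le_sup_right : ZL (S : Subgroup G) n ≤ W i ⊔ ZL (S : Subgroup G) n)

end Cfsg.Agent.Omega.OM.SwapV.Q

end

-- merged: Cfsg.Agent.Mrg.Omega.NOThreeL.RRed.BFr.NlQ8
section

/-!
# NO-3L, box R: `C_G(Z_J)` and the `L i` are together nonlocal, `q ≥ 8`, stage `n ≥ 0`

* `nlQ8` : no 2-group `≠ 1` is normalised by `C_G(Z_J)` and all `L i` (`q ≥ 8`).
-/

set_option autoImplicit false
set_option linter.unusedSectionVars false

namespace Cfsg.Agent.Omega.NOThreeL.RRed.BFr.NlLev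

open Subgroup Cfsg
open Cfsg.Agent.Omega.OM.SwapL (ZL)
open Cfsg.Agent.Omega.OM.SwapV.Q
open Cfsg.Agent.Omega.NOThreeL.RTree (RB)

universe u

variable {G : Type u} [Group G] [Finite G] {ι : Type} [Finite ι] {S : Sylow 2 G} {V Q : Subgroup G} {n : ℕ}
  {L W Z C A : ι → Subgroup G} {q : ℕ}

/-- **No 2-group `≠ 1` is normalised by `C_G(Z_J)` and all `L i`** (`q ≥ 8`). -/
theorem nlQ8 [Nonempty ι] (B : RB S) (hq : 8 ≤ q) (h : LnQ S V Q n L W Z C A q) {R : Subgroup G}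
    (hR : IsPGroup 2 R) (hD : centralizer (ZL (S : Subgroup G) n : Set G) ≤ normalizer (R : Set G))
    (hL : ∀ i, L i ≤ normalizer (R : Set G)) : R = ⊥ :=
  nlK B (by omega) h hR ((h.K0_le8 hq).trans (sup_le hD (iSup_le hL)))

end Cfsg.Agent.Omega.NOThreeL.RRed.BFr.NlLev

end

-- merged: Cfsg.Agent.Mrg.Omega.NOThreeL.RRed.BFr.NlNeg8
section

/-!
# NO-3L, box R: `C_G(Z_J)` and the `L i` are together nonlocal, stage `-1`

* `nlNegK` : no 2-group `≠ 1` is normalised by `⟨C_G(Z_J), all FF-blocks over B⟩` (`q ≥ 4`);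
* `nlNeg8` : no 2-group `≠ 1` is normalised by `C_G(Z_J)` and all `L i` (`q ≥ 8`, at least two blocks).
-/

set_option autoImplicit false
set_option linter.unusedSectionVars false

namespace Cfsg.Agent.Omega.NOThreeL.RRed.BFr.NlNeg8

open Subgroup Cfsg Cfsg.Agent.Omega.MinPar Cfsg.Agent.Omega.Frame Cfsg.Agent.ZN.ChoiceBase Cfsg.Agent.ZN.ChoiceSit
open Cfsg.Agent.ZN (jj zj bau zc zl o2)
open Cfsg.Agent.Omega.OM.SwapV.Q
open Cfsg.Agent.Omega.NOThreeL.RTree (RB)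

universe u

variable {G : Type u} [Group G] [Finite G] {ι : Type} [Finite ι] {S : Sylow 2 G} {V Q : Subgroup G}
  {L W Z C A : ι → Subgroup G} {q : ℕ}

/-- **No 2-group `≠ 1` is normalised by `⟨C_G(Z_J), all FF-blocks over B⟩`**, stage `-1`. -/
theorem nlNegK [Nonempty ι] (B : RB S) (hq : 4 ≤ q) (h : NegQ S V Q L W Z C A q) {R : Subgroup G}
    (hR : IsPGroup 2 R)
    (hY : OM.Dich.K0 (S : Subgroup G) (OM.BlkGen.FBlk (S : Subgroup G)) ≤ normalizer (R : Set G)) : R = ⊥ := by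
  by_contra hR1
  obtain ⟨O, hO2, hO1, -, -, -, -, hH⟩ := h.nonLocK hq hR hR1 hY
  have hG := B.ctx.char2
  refine hO1 (FrameNOFF.eq_bot_of_norm B.ctx S B.full hO2 (fun P hP => ?_) ?_)
  · exact hH P ((bau_le _).trans hP.le) (hP.isLoc.char2 S hG)
  · have h1 := isLoc_centralizer_zc S (B.ctx.sylow_ne_bot S)
    exact hH _ ((bau_le _).trans h1.le) (h1.char2 S hG)

/-- **No 2-group `≠ 1` is normalised by `C_G(Z_J)` and all `L i`**, stage `-1` (`q ≥ 8`). -/
theorem nlNeg8 [Nonempty ι] (B : RB S) (hq : 8 ≤ q) (h : NegQ S V Q L W Z C A q) (h2 : ∀ i : ι, ∃ j, j ≠ i)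
    {R : Subgroup G} (hR : IsPGroup 2 R)
    (hD : centralizer (zj (S : Subgroup G) : Set G) ≤ normalizer (R : Set G))
    (hL : ∀ i, L i ≤ normalizer (R : Set G)) : R = ⊥ :=
  nlNegK B (by omega) h hR ((h.K0_le8 hq h2).trans (sup_le hD (iSup_le hL)))

end Cfsg.Agent.Omega.NOThreeL.RRed.BFr.NlNeg8

end

-- merged: Cfsg.Agent.Mrg.Omega.NOThreeL.RRed.OneStd
section

/-!
# Box R, one `S`-orbit of natural blocks, `q ≥ 8`: the standard levels (helper49; text: 483 #26191, #26256, T4)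

`S` is transitive on the blocks `N b`; an active `P` has `V_P = V*`, `C_Z(P) = 1`; `⟨P, C_G(Z)⟩` is local (NO-2L), so
its `O₂` is normalised by `C_G(Z_J)` and all `L i ≤ P`: against `nlQ8`.

* `lev_false` : some `lev S n ≤ C(V*)`, `lev S (n + 1) ≰ C(V*)` ⟹ `False`;
* `neg_false` : `J(S)` moves `V*` ⟹ `False` (`nlNeg8`);
* `exists_lev` : some `lev S n` moves `V*` ⟹ `J(S)` does or there is such an `n`;
* **`false_std`**, `stdD` (= `OneTwoOf.StdD`), `orbD_of_top`, `wOneTwo_of_top` : only the top level is left.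
-/

set_option autoImplicit false
set_option linter.unusedSectionVars false

namespace Cfsg.Agent.Omega.NOThreeL.RRed.OneStd

open Subgroup Cfsg Cfsg.Agent.ZN
open Cfsg.Agent.ZN.ChoiceBase (cj mem_cj)
open Cfsg.Agent.Omega.MinPar Cfsg.Agent.Omega.Frame Cfsg.Agent.Omega.FrameNOFF
open Cfsg.Agent.Omega.FFThm (NatKM)
open Cfsg.Agent.Omega.FrameFF (cv)
open Cfsg.Agent.Omega.NO3S.ThmB (Nb)
open Cfsg.Agent.Omega.NO3S.KeyRad (blk)
open Cfsg.Agent.Omega.NO3S.Level (lev)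
open Cfsg.Agent.Omega.NOThreeL.Merge (MZ)
open Cfsg.Agent.Omega.NOThreeL.RTree (RB)
open Cfsg.Agent.Omega.NOThreeL.RRed.GlueSig
open Cfsg.Agent.Omega.NOThreeL.RRed.WideTree
open Cfsg.Agent.Omega.NOThreeL.RWide
open Cfsg.Agent.Omega.OM.SwapL (ZL)
open Cfsg.Agent.Omega.OM.SwapV.Q
open scoped Pointwise

universe u

variable {G : Type u} [Group G] [Finite G] {S : Sylow 2 G} {ι : Type u} {N E D l : ι → Subgroup G} {q : ι → ℕ}

/-- the data of an active `P` if `S` is transitive on the blocks -/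
theorem exists_data [Nonempty ι] (h : NBs (S : Subgroup G) N E D l q) (hs : Src (S : Subgroup G) N l q)
    (tr : ∀ a b, ∃ s ∈ (S : Subgroup G), MulAut.conj s • N a = N b) :
    ∃ P, Act (S : Subgroup G) P ∧ zl (S : Subgroup G) P = Wd (S : Subgroup G) ∧ cv (S : Subgroup G) P = ⊥ ∧
      zc (S : Subgroup G) ⊓ centralizer (P : Set G) = ⊥ ∧
      ∃ (F : Type) (_ : Field F) (_ : Finite F) (_ : CharP F 2) (k : ℕ) (_ : 0 < k)
        (_ : NatKM F (S : Subgroup G) P (zl (S : Subgroup G) P) (cv (S : Subgroup G) P) k),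
        (∀ b, q b = Nat.card F) ∧ Nat.card ι ≤ k := by
  obtain ⟨P, hP, F, i1, i2, i3, k, hk, M, h', spl, -, h2⟩ := OneOrb.exists_P h hs tr
  choose J hJN hJl hJq using h2
  have hPM : P ≤ MZ (S : Subgroup G) := le_sSup hP.1
  have hle : Wd (S : Subgroup G) ≤ ⨆ j, blk M j := by
    rw [← OneOrb.sup_eq h]
    exact iSup_le fun b => by
      rw [hJN b]; exact le_iSup (blk M) (J b)
  have hV : zl (S : Subgroup G) P = Wd (S : Subgroup G) :=
    le_antisymm (MinSimple.VModule.zl_le (MinSimple.VModule.zc_le_zl _ _)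
      (hPM.trans (MinSimple.VModule.le_normalizer_zl _ _))) (hle.trans (PNat.sup_le_V h'))
  have hcv : cv (S : Subgroup G) P = ⊥ := by
    rw [eq_bot_iff]
    intro x hx
    exact mem_bot.2 (PNat.eq_one h' spl (hle (hV ▸ hx.1)) hx)
  refine ⟨P, hP, hV, hcv, ?_, F, i1, i2, i3, k, hk, M, hJq, ?_⟩
  · rw [eq_bot_iff, ← hcv]
    exact le_inf (inf_le_left.trans (MinSimple.VModule.zc_le_zl _ _))
      (inf_le_right.trans (centralizer_le (by exact_mod_cast MinSimple.VModule.oddGen_le P)))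
  · have hJ : Function.Injective J := fun b c hbc => OneOrb.N_inj h (by rw [hJN b, hJN c, hbc])
    have h1 := Nat.card_le_card_of_injective J hJ
    rwa [Nat.card_fin] at h1

/-- `A ≤ S`: `A ≤ O₂(P) ↔ A ≤ C(V*)` -/
theorem le_o2_iff (B : RB S) {P A : Subgroup G} (hP : IsParS (S : Subgroup G) P)
    (hV : zl (S : Subgroup G) P = Wd (S : Subgroup G)) (hA : A ≤ (S : Subgroup G)) :
    A ≤ o2 P ↔ A ≤ centralizer (Wd (S : Subgroup G) : Set G) := by
  rw [← hP.inf_centralizer S B.ctx.char2, hV, le_inf_iff]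
  exact ⟨fun h => h.2, fun h => ⟨hA, h⟩⟩

/-- `Z ≤ Z_J`, so `C_G(Z_J) ≤ C_G(Z)` -/
theorem cent_ZL_le (n : ℕ) : centralizer (ZL (S : Subgroup G) n : Set G) ≤ CZ (S : Subgroup G) :=
  centralizer_le (by exact_mod_cast (NO3S.Level.lev_isLev (S : Subgroup G) (n + 1)).zc_le)

/-- **A standard level moves `V*`.** -/
theorem lev_false (B : RB S) (h : NBs (S : Subgroup G) N E D l q) (hs : Src (S : Subgroup G) N l q)
    (tr : ∀ a b, ∃ s ∈ (S : Subgroup G), MulAut.conj s • N a = N b) (hne : Nonempty ι) (hq : ∀ b, 8 ≤ q b) {n : ℕ}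
    (hn : lev (S : Subgroup G) n ≤ centralizer (Wd (S : Subgroup G) : Set G))
    (hn1 : ¬ lev (S : Subgroup G) (n + 1) ≤ centralizer (Wd (S : Subgroup G) : Set G)) : False := by
  obtain ⟨P, hP, hV, -, hcen, F, _, _, _, k, hk, M, hqF, -⟩ := exists_data h hs tr
  have hlS := fun m => NO3S.Level.lev_le (S : Subgroup G) m
  obtain ⟨L, W, Z, C, A, hL, hLP, -⟩ := OfNat.lnQ_of B.ctx.char2 B.data.toLow hP.1 hcen
    ((le_o2_iff B hP.1 hV (hlS n)).2 hn) (fun h1 => hn1 ((le_o2_iff B hP.1 hV (hlS (n + 1))).1 h1)) hk M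
  have hne' : Nonempty (Fin k) := ⟨⟨0, hk⟩⟩
  obtain ⟨b⟩ := hne
  have h1 := B.data.loc P hP.1
  refine h1.loc.o2_ne (BFr.NlLev.nlQ8 B (hqF b ▸ hq b) hL (MinSimple.VModule.o2_isPGroup _) ?_ fun i => ?_)
  · exact (cent_ZL_le n).trans (le_sup_right.trans (MinSimple.VModule.le_normalizer_o2 _))
  · exact (hLP i).trans (le_sup_left.trans (MinSimple.VModule.le_normalizer_o2 _))

/-- **`J(S)` moves `V*`.** -/
theorem neg_false (B : RB S) (h : NBs (S : Subgroup G) N E D l q) (hs : Src (S : Subgroup G) N l q)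
    (tr : ∀ a b, ∃ s ∈ (S : Subgroup G), MulAut.conj s • N a = N b) (hi : 2 ≤ Nat.card ι) (hq : ∀ b, 8 ≤ q b)
    (hJ : ¬ jj (S : Subgroup G) ≤ centralizer (Wd (S : Subgroup G) : Set G)) : False := by
  have hne : Nonempty ι := by
    by_contra hemp
    rw [not_nonempty_iff] at hemp
    rw [Nat.card_of_isEmpty] at hi
    omega
  obtain ⟨P, hP, hV, hcv, -, F, _, _, _, k, hk, M, hqF, hk2⟩ := exists_data h hs tr
  have hjS : jj (S : Subgroup G) ≤ (S : Subgroup G) := NO3S.Level.lev_le (S : Subgroup G) 0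
  obtain ⟨L, W, Z, C, A, hL, hLP, -⟩ := OfNat.negQ_of B.ctx.char2 B.data.toLow hP.1 hcv
    (fun h1 => hJ ((le_o2_iff B hP.1 hV hjS).1 h1)) hk M
  have hne' : Nonempty (Fin k) := ⟨⟨0, hk⟩⟩
  have h2 : ∀ i : Fin k, ∃ j, j ≠ i := fun i => by
    have : Nontrivial (Fin k) := Fin.nontrivial_iff_two_le.2 (hi.trans hk2)
    exact exists_ne i
  obtain ⟨b⟩ := hne
  have h1 := B.data.loc P hP.1
  refine h1.loc.o2_ne (BFr.NlNeg8.nlNeg8 B (hqF b ▸ hq b) hL h2 (MinSimple.VModule.o2_isPGroup _) ?_ fun i => ?_)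
  · exact (centralizer_le (by exact_mod_cast ZN.ChoiceBase.zc_le_zj (S : Subgroup G))).trans
      (le_sup_right.trans (MinSimple.VModule.le_normalizer_o2 _))
  · exact (hLP i).trans (le_sup_left.trans (MinSimple.VModule.le_normalizer_o2 _))

/-- if some `lev S n` moves `V*` then `J(S)` does or there is a first one -/
theorem exists_lev {X : Subgroup G} {n : ℕ} (hn : ¬ lev (S : Subgroup G) n ≤ X) :
    ¬ jj (S : Subgroup G) ≤ X ∨ ∃ m, lev (S : Subgroup G) m ≤ X ∧ ¬ lev (S : Subgroup G) (m + 1) ≤ X := by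
  induction n with
  | zero => exact Or.inl hn
  | succ n ih =>
    by_cases h1 : lev (S : Subgroup G) n ≤ X
    · exact Or.inr ⟨n, h1, hn⟩
    · exact ih h1

/-- **A standard level moves `V*`: impossible.** -/
theorem false_std (B : RB S) (h : NBs (S : Subgroup G) N E D l q) (hs : Src (S : Subgroup G) N l q)
    (tr : ∀ a b, ∃ s ∈ (S : Subgroup G), MulAut.conj s • N a = N b) (hi : 2 ≤ Nat.card ι) (hq : ∀ b, 8 ≤ q b)
    (hlv : ¬ jj (S : Subgroup G) ≤ centralizer (Wd (S : Subgroup G) : Set G) ∨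
      ∃ n, lev (S : Subgroup G) n ≤ centralizer (Wd (S : Subgroup G) : Set G) ∧
        ¬ lev (S : Subgroup G) (n + 1) ≤ centralizer (Wd (S : Subgroup G) : Set G)) : False := by
  rcases hlv with hJ | ⟨n, h1, h2⟩
  · exact neg_false B h hs tr hi hq hJ
  · refine lev_false B h hs tr ?_ hq h1 h2
    by_contra hemp
    rw [not_nonempty_iff] at hemp
    rw [Nat.card_of_isEmpty] at hi
    omega

/-- **The standard levels** (helper776's `StdD`). -/
theorem stdD (B : Fr.{u}) : OneTwoOf.StdD B := fun _ _ _ _ _ W _ _ _ _ _ _ _ _ h hlv =>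
  false_std W.toRB h.nb h.src h.tr h.two (fun _ => h.q8) hlv

/-- so only the top level is left -/
theorem orbD_of_top {B : Fr.{u}} (top : OneTwoOf.TopD B) : OneTwoOf.OrbD B := OneTwoOf.orbD_of (stdD B) top

theorem wOneTwo_of_top {K : Cls.{u}} {B : Fr.{u}} (top : OneTwoOf.TopD B) : WOneTwo K B :=
  OneTwoOf.wOneTwo_of_orbD (orbD_of_top top)

end Cfsg.Agent.Omega.NOThreeL.RRed.OneStd

end

-- merged: Cfsg.Agent.Mrg.Omega.NOThreeL.RRed.TopQEnd
section

/-!
# NO-3L, box R, one class of natural blocks, the top level `(Q, V*)`: the sockets `TopD B` and `AllOrb B`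

* `topH_of` : `TopH S`;
* **`topD_of`** : `TopD B`; **`topL_of`** : `OneNon.TopL B`; **`orbD_of`**, **`allOrb_of`**.
-/

set_option autoImplicit false
set_option linter.unusedSectionVars false
set_option linter.unusedVariables false

namespace Cfsg.Agent.Omega.NOThreeL.RRed.TopQEnd

open Subgroup Cfsg Cfsg.Agent.ZN Cfsg.Agent.Omega.MinPar Cfsg.Agent.Omega.Frame Cfsg.Agent.Omega.FrameNOFF
open Cfsg.Agent.Omega.Node.NO3L Cfsg.Agent.Omega.NOThreeL.Basic
open Cfsg.Agent.Omega.NOThreeL.Merge (MZ le_MZ S_le_MZ)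
open Cfsg.Agent.Omega.NOThreeL.RTree (RB)
open Cfsg.Agent.Omega.NOThreeL.RTreeF (RBF)
open Cfsg.Agent.Omega.NOThreeL.RLev (VX)
open Cfsg.Agent.Omega.NOThreeL.RRed.GlueSig
open Cfsg.Agent.Omega.NOThreeL.RRed.Blk
open Cfsg.Agent.Omega.NOThreeL.RRed.WideTree
open Cfsg.Agent.Omega.NOThreeL.RRed.QFr.Top (TopH)
open Cfsg.Agent.Omega.NOThreeL.RRed.OneTwoOf (OD TopD NlTop OrbD)
open Cfsg.Agent.Omega.NOThreeL.RRed.OneManyOf (AllOrb)
open Cfsg.Agent.Omega.NOThreeL.RRed.OneNon (TopL)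
open Cfsg.Agent.Omega.NO3b.EndX (RedP AbsP)

universe u

/-- `B` has the fields of box R -/
def IsR (B : Fr.{u}) : Prop := ∀ (G : Type u) [Group G] [Finite G] (S : Sylow 2 G), B G S → RBF S

variable {G : Type u} [Group G] [Finite G] {S : Sylow 2 G}

theorem topH_of_top (t : RLev.Top S) : TopH S := ⟨t.wc, t.zcQ⟩

/-- `TopH S` for one class of natural blocks, `q ≥ 4` -/
theorem topH_of (ml : ML.Final.MLK.{u, u}) (ha : AbsP.{u, u}) (h : RBF S)
    (hj : jj (S : Subgroup G) ≤ centralizer (Wd (S : Subgroup G) : Set G)) {ι : Type u} [Finite ι]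
    {N E D l : ι → Subgroup G} {q : ℕ} (hN : NBs (S : Subgroup G) N E D l (fun _ => q))
    (hs : Src (S : Subgroup G) N l (fun _ => q)) (hq : 4 ≤ q)
    (hc : CM (S : Subgroup G) (fun _ : PUnit.{u + 1} => Wd (S : Subgroup G))) : TopH S :=
  topH_of_top (RLev.LowZc.top_of_vx ml ha h hj (RLev.VXStep.vx h.toRB hN hs hq hc))

/-- **`TopD B`** -/
theorem topD_of {B : Fr.{u}} (hB : IsR B) (ml : ML.Final.MLK.{u, u}) (ha : AbsP.{u, u}) : TopD B :=
  OneTwoOf.topD_of_nl fun G _ _ S hS W mv ι _ N E D l q h hj hl U hU hC hD => by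
    by_contra hU1
    have h4 : 4 ≤ q := le_trans (by norm_num) h.q8
    exact QWR.TopQOf.topQ_false ml ha W h.cm h.nb h.src h4 hj
      (topH_of ml ha (hB G S hS) hj h.nb h.src h4 h.cm) (X := normalizer (U : Set G))
      (isLoc_of_le_normalizer S ((le_CZ S).trans hC) hU hU1 le_rfl) hC (Or.inr ⟨h.q8, hD⟩)

/-- **`TopL B`** -/
theorem topL_of {B : Fr.{u}} (hB : IsR B) (ml : ML.Final.MLK.{u, u}) (ha : AbsP.{u, u}) : TopL B := by
  intro G _ _ S hS W mv hC ι _ N E D l q h4 hN hs hj L hL hCL hY hE hD hz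
  exact QWR.TopQOf.topQ_false ml ha W hC hN hs h4 hj
    (topH_of ml ha (hB G S hS) hj hN hs h4 hC) hL hCL (Or.inl hY)

/-- **`OrbD B`** -/
theorem orbD_of {B : Fr.{u}} (hB : IsR B) (ml : ML.Final.MLK.{u, u}) (ha : AbsP.{u, u}) : OrbD B :=
  OneStd.orbD_of_top (topD_of hB ml ha)

/-- **`AllOrb B`** -/
theorem allOrb_of {B : Fr.{u}} (hB : IsR B) (ml : ML.Final.MLK.{u, u}) (hR : RedP.{u, u}) (hE : ML.Ex.Two.Ext.{u, u})
    (ha : AbsP.{u, u}) : AllOrb B := OneNon.allOrb_of_top ml hR hE (topL_of hB ml ha)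

end Cfsg.Agent.Omega.NOThreeL.RRed.TopQEnd

end
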